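import Cfsg.Agent.Lib.Pairs.Sylow
import Cfsg.Prelude.Def_BlockFusion
import Cfsg.Agent.Lib.Fusion.Basic
import Cfsg.Agent.Lib.Fusion.GroupFusion

/-!
# The fusion system of a block: fully centralized, fully normalized and centric subgroups
-/

namespace CfsgLib.Pairs

open Cfsg CfsgLib.Blocks

variable {G : Type*} [Group G] [Fintype G] {M : Ideal AlgInt} [M.IsPrime] {p : ℕ} [Fact p.Prime]
  {B : Set (IrrCharacter G)} {P : Subgroup G}
  {e : Set (IrrCharacter (Subgroup.centralizer (P : Set G)))}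

/-- Conjugation by `g` carries the pair on `Q` below `(P, e)` to a pair below `(P, e)`. -/
def Mor (p : ℕ) (M : Ideal AlgInt) (P : Subgroup G)
    (e : Set (IrrCharacter (Subgroup.centralizer (P : Set G)))) (Q : Subgroup G) (g : G) : Prop :=
  ∃ f : Set (IrrCharacter (Subgroup.centralizer (Q : Set G))),
    Relation.ReflTransGen (NormalSubpairRel p M) ⟨Q, f⟩ ⟨P, e⟩ ∧
      Relation.ReflTransGen (NormalSubpairRel p M) (conjPair g ⟨Q, f⟩) ⟨P, e⟩

omit [Fintype G] [M.IsPrime] [Fact p.Prime] in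
theorem Mor.le {Q : Subgroup G} {g : G} (h : Mor p M P e Q g) :
    Q ≤ P ∧ Q.map (MulAut.conj g).toMonoidHom ≤ P :=
  let ⟨_, h1, h2⟩ := h
  ⟨le_of_subpairLE h1, le_of_subpairLE h2⟩

omit [Fintype G] in
theorem range_eq_map {Q : Subgroup G} {φ : Q →* G} {g : G} (hg : ∀ u : Q, φ u = g * (u : G) * g⁻¹) :
    φ.range = Q.map (MulAut.conj g).toMonoidHom := by
  ext y
  constructor
  · rintro ⟨u, rfl⟩
    exact ⟨u, u.2, (hg u).symm⟩
  · rintro ⟨u, hu, rfl⟩
    exact ⟨⟨u, hu⟩, hg ⟨u, hu⟩⟩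

section Abstract

variable {F : FusionSystem P} (hF : IsBlockFusionSystemOn p M B P e F)
include hF

omit [Fintype G] [M.IsPrime] [Fact p.Prime] in
theorem mem_hom_iff {Q : Subgroup G} {φ : Q →* G} :
    φ ∈ F.Hom Q ↔ ∃ g : G, (∀ u : Q, φ u = g * (u : G) * g⁻¹) ∧ Mor p M P e Q g := by
  rw [hF.2]
  constructor
  · rintro ⟨-, g, hg, -, f, h1, h2⟩
    exact ⟨g, hg, f, h1, h2⟩
  · rintro ⟨g, hg, h⟩
    obtain ⟨f, h1, h2⟩ := h
    exact ⟨le_of_subpairLE h1, g, hg, le_of_subpairLE h2, f, h1, h2⟩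

omit [Fintype G] [M.IsPrime] [Fact p.Prime] in
theorem isConj_iff_mor {Q R : Subgroup G} :
    F.IsConj Q R ↔ ∃ g : G, Mor p M P e Q g ∧ Q.map (MulAut.conj g).toMonoidHom = R := by
  constructor
  · rintro ⟨φ, hφ, rfl⟩
    obtain ⟨g, hg, hm⟩ := (mem_hom_iff hF).1 hφ
    exact ⟨g, hm, (range_eq_map hg).symm⟩
  · rintro ⟨g, hm, rfl⟩
    exact ⟨conjHom Q g, (mem_hom_iff hF).2 ⟨g, fun _ => rfl, hm⟩, range_eq_map fun _ => rfl⟩

variable (hM : IsPModular p M) {Q : Subgroup G}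
  {f : Set (IrrCharacter (Subgroup.centralizer (Q : Set G)))} (hle : SubpairLE p M Q f P e)
include hM hle

theorem isFullyCentralized_iff :
    F.IsFullyCentralized Q ↔
      IsDefectGroup p M f ((P ⊓ Subgroup.centralizer (Q : Set G)).subgroupOf
        (Subgroup.centralizer (Q : Set G))) := by
  have hmax := hF.1
  have hPe := hmax.1.1
  have hQf : IsBrauerPairOf p M B Q f :=
    (subpairLE_pairOf_iff hM (a := ⟨Q, f⟩) (b := ⟨P, e⟩) hle B).1 hmax.1
  have hf := hQf.1.2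
  have hco : ∀ k : Subgroup.centralizer (Q : Set G), blockCoeff f k =
      subgroupBlockCoeff (Subgroup.centralizer (Q : Set G)) f (k : G) := fun k => by
    unfold subgroupBlockCoeff
    rw [dif_pos k.2]
  rw [isDefectGroup_iff_brv hM hf le_rfl hf hco inf_le_right (hPe.1.to_le inf_le_left)]
  constructor
  · intro h
    refine ⟨brv_centralizerIn hM hPe hle, fun Y hY hYp hYb => ?_⟩
    obtain ⟨x, hx, hmx⟩ := exists_centralizer_max hM hmax hQf
    exact (hmx Y hY hYp hYb).trans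
      (h.2 _ ((isConj_iff_mor hF).2 ⟨x, ⟨f, hle, hx⟩, rfl⟩))
  · rintro ⟨-, hm⟩
    refine ⟨le_of_subpairLE hle, fun R hR => ?_⟩
    obtain ⟨g, ⟨f', h1, h2⟩, rfl⟩ := (isConj_iff_mor hF).1 hR
    obtain rfl : f' = f := by
      have := eq_of_subpairLE hM hPe h1 (b := ⟨Q, f⟩) hle rfl
      simpa using this
    rw [← card_map_conj g⁻¹]
    refine hm _ (map_inv_le_centralizer g inf_le_right) ((hPe.1.to_le inf_le_left).map _) ?_
    exact brv_conj_back hf g (brv_centralizerIn hM hPe h2)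

theorem isFullyNormalized_iff :
    F.IsFullyNormalized Q ↔
      Brv (P ⊓ Subgroup.normalizer (Q : Set G)) (subIdem M (Subgroup.centralizer (Q : Set G)) f) ∧
      ∀ Y : Subgroup G, Y ≤ pairStab Q f → IsPGroup p Y →
        Brv Y (subIdem M (Subgroup.centralizer (Q : Set G)) f) →
        Nat.card Y ≤ Nat.card (P ⊓ Subgroup.normalizer (Q : Set G) : Subgroup G) := by
  have hmax := hF.1
  have hPe := hmax.1.1
  have hQf : IsBrauerPairOf p M B Q f :=
    (subpairLE_pairOf_iff hM (a := ⟨Q, f⟩) (b := ⟨P, e⟩) hle B).1 hmax.1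
  have hf := hQf.1.2
  constructor
  · intro h
    refine ⟨brv_normalizerIn hM hPe hle, fun Y hY hYp hYb => ?_⟩
    obtain ⟨x, hx, hmx⟩ := exists_normalizer_max hM hmax hQf
    exact (hmx Y hY hYp hYb).trans
      (h.2 _ ((isConj_iff_mor hF).2 ⟨x, ⟨f, hle, hx⟩, rfl⟩))
  · rintro ⟨-, hm⟩
    refine ⟨le_of_subpairLE hle, fun R hR => ?_⟩
    obtain ⟨g, ⟨f', h1, h2⟩, rfl⟩ := (isConj_iff_mor hF).1 hR
    obtain rfl : f' = f := by
      have := eq_of_subpairLE hM hPe h1 (b := ⟨Q, f⟩) hle rfl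
      simpa using this
    rw [← card_map_conj g⁻¹]
    refine hm _ (map_inv_le_pairStab g (normalizerIn_le_pairStab hM hPe h2))
      ((hPe.1.to_le inf_le_left).map _) ?_
    exact brv_conj_back hf g (brv_normalizerIn hM hPe h2)

theorem isCentric_iff :
    F.IsCentric Q ↔
      IsDefectGroup p M f ((Q ⊓ Subgroup.centralizer (Q : Set G)).subgroupOf
        (Subgroup.centralizer (Q : Set G))) := by
  have hmax := hF.1
  have hPe := hmax.1.1
  have hQP : Q ≤ P := le_of_subpairLE hle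
  have hQf : IsBrauerPairOf p M B Q f :=
    (subpairLE_pairOf_iff hM (a := ⟨Q, f⟩) (b := ⟨P, e⟩) hle B).1 hmax.1
  have hf := hQf.1.2
  have hco : ∀ k : Subgroup.centralizer (Q : Set G), blockCoeff f k =
      subgroupBlockCoeff (Subgroup.centralizer (Q : Set G)) f (k : G) := fun k => by
    unfold subgroupBlockCoeff
    rw [dif_pos k.2]
  have hcard : ∀ x : G, Nat.card ((Q.map (MulAut.conj x).toMonoidHom) ⊓ Subgroup.centralizer
      ((Q.map (MulAut.conj x).toMonoidHom : Subgroup G) : Set G) : Subgroup G) =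
      Nat.card (Q ⊓ Subgroup.centralizer (Q : Set G) : Subgroup G) := fun x => by
    rw [← card_map_conj x (Q ⊓ Subgroup.centralizer (Q : Set G))]
    refine congrArg (fun S : Subgroup G => Nat.card S) ?_
    ext v
    simp only [Subgroup.mem_inf, map_conj_eq]
    refine and_congr_right fun _ => ?_
    have := mem_centralizer_map_conj_iff Q x (x⁻¹ * v * x)
    rw [show x * (x⁻¹ * v * x) * x⁻¹ = v by group] at this
    exact this.symm
  rw [isDefectGroup_iff_brv hM hf le_rfl hf hco inf_le_right (hQf.1.1.to_le inf_le_left)]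
  constructor
  · intro h
    refine ⟨(brv_centralizerIn hM hPe hle).mono (inf_le_inf_right _ hQP), fun Y hY hYp hYb => ?_⟩
    obtain ⟨x, hx, hmx⟩ := exists_centralizer_max hM hmax hQf
    have h1 := h.2 _ ((isConj_iff_mor hF).2 ⟨x, ⟨f, hle, hx⟩, rfl⟩)
    rw [← hcard x]
    exact (hmx Y hY hYp hYb).trans (Subgroup.card_le_of_le (le_inf h1 inf_le_right))
  · rintro ⟨-, hm⟩
    refine ⟨hQP, fun R hR => ?_⟩
    obtain ⟨g, ⟨f', h1, h2⟩, rfl⟩ := (isConj_iff_mor hF).1 hR
    obtain rfl : f' = f := by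
      have := eq_of_subpairLE hM hPe h1 (b := ⟨Q, f⟩) hle rfl
      simpa using this
    have h3 : Nat.card (P ⊓ Subgroup.centralizer
        ((Q.map (MulAut.conj g).toMonoidHom : Subgroup G) : Set G) : Subgroup G) ≤
        Nat.card (Q ⊓ Subgroup.centralizer (Q : Set G) : Subgroup G) := by
      rw [← card_map_conj g⁻¹]
      exact hm _ (map_inv_le_centralizer g inf_le_right) ((hPe.1.to_le inf_le_left).map _)
        (brv_conj_back hf g (brv_centralizerIn hM hPe h2))
    have h4 : Q.map (MulAut.conj g).toMonoidHom ⊓ Subgroup.centralizer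
        ((Q.map (MulAut.conj g).toMonoidHom : Subgroup G) : Set G) =
        P ⊓ Subgroup.centralizer ((Q.map (MulAut.conj g).toMonoidHom : Subgroup G) : Set G) :=
      Subgroup.eq_of_le_of_card_ge (inf_le_inf_right _ (le_of_subpairLE h2)) (h3.trans (hcard g).ge)
    exact fun v hv => ((Subgroup.mem_inf.1 (h4.symm ▸ hv :
      v ∈ Q.map (MulAut.conj g).toMonoidHom ⊓ Subgroup.centralizer
        ((Q.map (MulAut.conj g).toMonoidHom : Subgroup G) : Set G))).1)

end Abstract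

variable (hM : IsPModular p M) (hmax : IsMaximalBrauerPair p M B P e)
include hM hmax

/-- The fusion system of a block on a maximal pair. -/
noncomputable def blockFusion : FusionSystem P where
  Hom Q := {φ | ∃ g : G, (∀ u : Q, φ u = g * (u : G) * g⁻¹) ∧ Mor p M P e Q g}
  le_of_mem := by
    rintro Q φ ⟨g, hg, hm⟩
    refine ⟨hm.le.1, fun u => ?_⟩
    rw [hg]
    exact hm.le.2 ⟨u, u.2, rfl⟩
  injective_of_mem := by
    rintro Q φ ⟨g, hg, -⟩ a b hab
    rw [hg, hg] at hab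
    exact Subtype.ext (mul_left_cancel (mul_right_cancel hab))
  conj_mem := by
    intro Q g hQ hg
    obtain ⟨f, -, hf⟩ := exists_below hM (Nat.card P) (Nat.sub_le _ _) hmax.1.1 hQ
    refine ⟨g, fun _ => rfl, f, hf, ?_⟩
    have := subpairLE_conjPair g (a := ⟨Q, f⟩) (b := ⟨P, e⟩) hf
    rwa [conjPair_of_mem hg] at this
  comp_mem := by
    rintro Q R φ ψ ⟨g, hg, f, h1, h2⟩ ⟨k, hk, f', h3, h4⟩ h
    refine ⟨k * g, fun u => ?_, f, h1, ?_⟩
    · show ψ ⟨φ u, h u⟩ = _
      rw [hk]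
      show k * φ u * k⁻¹ = _
      rw [hg]
      group
    · have hle : Q.map (MulAut.conj g).toMonoidHom ≤ R := by
        rintro _ ⟨u, hu, rfl⟩
        have := h ⟨u, hu⟩
        rwa [hg] at this
      have h5 := subpairLE_of_le hM hmax.1.1 h2 (b := ⟨R, f'⟩) h3 hle
      rw [conjPair_mul]
      exact (subpairLE_conjPair k h5).trans h4
  inv_mem := by
    rintro Q φ ⟨g, hg, f, h1, h2⟩
    have hr := range_eq_map (φ := φ) hg
    obtain ⟨f', -, hf'⟩ := exists_below hM (Nat.card P) (Nat.sub_le _ _) hmax.1.1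
      (Q := φ.range) (hr ▸ le_of_subpairLE h2)
    refine ⟨conjHom φ.range g⁻¹, ⟨g⁻¹, fun _ => rfl, f', hf', ?_⟩, fun u => ?_⟩
    · rw [eq_of_subpairLE hM hmax.1.1 hf' h2 hr, ← conjPair_mul, inv_mul_cancel, conjPair_one]
      exact h1
    · show g⁻¹ * φ u * g⁻¹⁻¹ = u
      rw [hg]
      group

theorem isBlockFusionSystemOn_blockFusion :
    IsBlockFusionSystemOn p M B P e (blockFusion hM hmax) := by
  refine ⟨hmax, fun Q φ => ?_⟩
  constructor
  · rintro ⟨g, hg, f, h1, h2⟩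
    exact ⟨le_of_subpairLE h1, g, hg, le_of_subpairLE h2, f, h1, h2⟩
  · rintro ⟨-, g, hg, -, f, h1, h2⟩
    exact ⟨g, hg, f, h1, h2⟩

end CfsgLib.Pairs
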