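import Cfsg.Agent.Lib.Pairs.Restrict

/-!
# Brauer pairs: the block of a pair, normal inclusion
-/

namespace CfsgLib.Pairs

open Cfsg CfsgLib.Blocks MonoidAlgebra

variable {G : Type*} [Group G]

theorem conj_centralizer_iff {Q : Subgroup G} {x : G}
    (hx : x ∈ Subgroup.normalizer (Q : Set G)) (g : G) :
    g ∈ Subgroup.centralizer (Q : Set G) ↔ x * g * x⁻¹ ∈ Subgroup.centralizer (Q : Set G) := by
  simp only [Subgroup.mem_centralizer_iff, SetLike.mem_coe]
  constructor
  · intro h q hq
    have h2 := h _ ((Subgroup.mem_normalizer_iff''.1 hx q).1 hq)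
    calc q * (x * g * x⁻¹) = x * (x⁻¹ * q * x * g) * x⁻¹ := by group
      _ = x * (g * (x⁻¹ * q * x)) * x⁻¹ := by rw [h2]
      _ = x * g * x⁻¹ * q := by group
  · intro h q hq
    have h2 := h _ ((Subgroup.mem_normalizer_iff.1 hx q).1 hq)
    calc q * g = x⁻¹ * (x * q * x⁻¹ * (x * g * x⁻¹)) * x := by group
      _ = x⁻¹ * (x * g * x⁻¹ * (x * q * x⁻¹)) * x := by rw [h2]
      _ = g * q := by group

theorem normalizer_le_normalizer_centralizer (Q : Subgroup G) :
    Subgroup.normalizer (Q : Set G) ≤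
      Subgroup.normalizer (Subgroup.centralizer (Q : Set G) : Set G) := fun _ hx =>
  Subgroup.mem_normalizer_iff.2 (conj_centralizer_iff hx)

theorem conjSelf_eq {K : Subgroup G} {x y : G} (h : x = y)
    (hx : x ∈ Subgroup.normalizer (K : Set G)) (hy : y ∈ Subgroup.normalizer (K : Set G))
    (e : Set (IrrCharacter K)) : conjSelf hx e = conjSelf hy e := by subst h; rfl

theorem conjSelf_one {K : Subgroup G} (h1 : (1 : G) ∈ Subgroup.normalizer (K : Set G))
    (e : Set (IrrCharacter K)) : conjSelf h1 e = e := by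
  rw [conjSelf, mapBlock]
  refine (Set.image_congr fun χ _ => ?_).trans (Set.image_id e)
  refine Char.irr_ext fun k => ?_
  rw [mapIrr_apply]
  exact congrArg _ (Subtype.ext ((conjEquiv_symm_apply K K 1 _ k).trans (by simp)))

theorem conjSelf_mul {K : Subgroup G} {x y : G} (hx : x ∈ Subgroup.normalizer (K : Set G))
    (hy : y ∈ Subgroup.normalizer (K : Set G)) (e : Set (IrrCharacter K)) :
    conjSelf (mul_mem hx hy) e = conjSelf hx (conjSelf hy e) := by
  simp only [conjSelf, mapBlock, Set.image_image]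
  refine Set.image_congr fun χ _ => Char.irr_ext fun k => ?_
  simp only [mapIrr_apply]
  exact congrArg _ (Subtype.ext (by simp [mul_assoc]))

variable [Fintype G] {M : Ideal AlgInt} [M.IsPrime]

theorem inclElt_smul {R : Type*} [Semiring R] (H : Subgroup G) (c : R) (a : MonoidAlgebra R H) :
    inclElt H (c • a) = c • inclElt H a := by
  refine MonoidAlgebra.ext (Finsupp.ext fun g => ?_)
  by_cases h : g ∈ H
  · simp [coeff_inclElt H _ ⟨g, h⟩, coeff_smul]
  · simp [coeff_inclElt_of_notMem H _ h, coeff_smul]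

theorem InvUnder.sub {R : Type*} [Ring R] {P : Subgroup G} {a b : MonoidAlgebra R G}
    (ha : InvUnder P a) (hb : InvUnder P b) : InvUnder P (a - b) := fun u hu x => by
  simp [coeff_sub, ha u hu x, hb u hu x]

theorem InvUnder.smul {R : Type*} [Semiring R] {P : Subgroup G} (c : R) {a : MonoidAlgebra R G}
    (ha : InvUnder P a) : InvUnder P (c • a) := fun u hu x => by
  simp [coeff_smul, ha u hu x]

theorem InvUnder.sum {R : Type*} [Semiring R] {ι : Type*} {P : Subgroup G} (s : Finset ι)
    (a : ι → MonoidAlgebra R G) (ha : ∀ i ∈ s, InvUnder P (a i)) : InvUnder P (∑ i ∈ s, a i) :=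
  fun u hu x => by
  simp only [coeff_sum, Finsupp.coe_finsetSum, Finset.sum_apply]
  exact Finset.sum_congr rfl fun i hi => ha i hi u hu x

/-- Commuting idempotents with the same reduced central characters are equal. -/
theorem idem_eq_of_omegaBar_eq {K : Type*} [Group K] [Fintype K] {a b : MonoidAlgebra (Res M) K}
    (ha : IsCentralElt a) (hb : IsCentralElt b) (ha2 : a * a = a) (hb2 : b * b = b)
    (h : ∀ χ : IrrCharacter K, omegaBar χ a = omegaBar χ b) : a = b := by
  obtain ⟨n, hn⟩ := isNilpotent_of_omegaBar_eq_zero (ha.sub hb) fun χ => by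
    rw [omegaBar_sub, h χ, sub_self]
  have hab : a * b = b * a := (ha.commute b).eq
  have h3 : (a - b) ^ 3 = a - b := by
    have haba : a * b * a = a * b := by rw [mul_assoc, ← hab, ← mul_assoc, ha2]
    have habb : a * b * b = a * b := by rw [mul_assoc, hb2]
    have e1 : (a - b) * (a - b) = a + b - a * b - a * b := by
      rw [sub_mul, mul_sub, mul_sub, ha2, hb2, ← hab]
      abel
    rw [pow_succ, pow_two, e1]
    simp only [sub_mul, add_mul, mul_sub, ha2, hb2, haba, habb, ← hab]
    abel
  have h4 : ∀ k, a - b = (a - b) ^ (2 * k + 1) := by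
    intro k
    induction k with
    | zero => simp
    | succ k ih =>
      rw [show 2 * (k + 1) + 1 = (2 * k + 1) + 2 by ring, pow_add, ← ih, ← pow_succ', h3]
  refine sub_eq_zero.1 ((h4 n).trans ?_)
  rw [pow_succ, show 2 * n = n + n by ring, pow_add, hn, zero_mul, zero_mul]

theorem exists_omegaBar_eq_one {K : Type*} [Group K] [Fintype K] {a : MonoidAlgebra (Res M) K}
    (ha : IsCentralElt a) (ha2 : a * a = a) (hne : a ≠ 0) :
    ∃ χ : IrrCharacter K, omegaBar χ a = 1 := by
  by_contra hcon
  push Not at hcon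
  refine hne (IsIdempotentElem.eq_zero_of_isNilpotent ha2
    (isNilpotent_of_omegaBar_eq_zero ha fun χ => ?_))
  have h := omegaBar_mul χ ha ha
  rw [ha2] at h
  exact (mul_right_eq_self₀.1 h.symm).resolve_left (hcon χ)

theorem blockIdemBar_mul_of_ne {K : Type*} [Group K] [Fintype K] {B B' : Set (IrrCharacter K)}
    (hB : IsPBlock M B) (hB' : IsPBlock M B') (h : B ≠ B') :
    blockIdemBar M B * blockIdemBar M B' = 0 := by
  have h0 : blockIdemO M B * blockIdemO M B' = 0 := inc_injective (by
    rw [map_mul, inc_blockIdemO hB, inc_blockIdemO hB', blockIdem_mul, map_zero,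
      show B ∩ B' = ∅ from Set.eq_empty_iff_forall_notMem.2 fun χ hχ =>
        h (IsPBlock.eq_of_mem hB hB' hχ.1 hχ.2), blockIdem_empty])
  rw [blockIdemBar, blockIdemBar, ← map_mul, h0, map_zero]

theorem subIdem_mul_self {H : Subgroup G} {e : Set (IrrCharacter H)} (he : IsPBlock M e) :
    subIdem M H e * subIdem M H e = subIdem M H e := by
  rw [subIdem, ← map_mul, blockIdemBar_mul_self he]

theorem subIdem_mul_of_ne {H : Subgroup G} {e e' : Set (IrrCharacter H)} (he : IsPBlock M e)
    (he' : IsPBlock M e') (h : e ≠ e') : subIdem M H e * subIdem M H e' = 0 := by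
  rw [subIdem, subIdem, ← map_mul, blockIdemBar_mul_of_ne he he' h, map_zero]

theorem invUnder_incl_resC {Q R : Subgroup G} {a : MonoidAlgebra (Res M) G}
    (hRN : R ≤ Subgroup.normalizer (Subgroup.centralizer (Q : Set G) : Set G))
    (ha : InvUnder R a) : InvUnder R (inclElt _ (resC Q a)) :=
  InvUnder.inclElt hRN fun u hu k k' hk => by rw [coeff_resC, coeff_resC, hk, ha u hu]

variable {p : ℕ} [Fact p.Prime] (hM : IsPModular p M)
include hM

/-- Compatibility: below a pair the value of a truncation is computed at either pair. -/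
theorem pairVal_eq_of_pair {Q P : Subgroup G} (hP : IsPGroup p P) (hQP : Q ≤ P)
    (hPN : P ≤ Subgroup.normalizer (Q : Set G))
    {f : Set (IrrCharacter (Subgroup.centralizer (Q : Set G)))} (hf : IsPBlock M f)
    (hst : ∀ u ∈ P, StabilizesBlock (Subgroup.centralizer (Q : Set G)) f u)
    {ξ : IrrCharacter (Subgroup.centralizer (P : Set G))}
    (hξ : pairVal P (subIdem M (Subgroup.centralizer (Q : Set G)) f) ξ = 1)
    {η : IrrCharacter (Subgroup.centralizer (Q : Set G))} (hη : η ∈ f)
    {a : MonoidAlgebra (Res M) G} (ha : InvUnder P a)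
    (ha' : InvUnder (Subgroup.centralizer (Q : Set G)) a) :
    pairVal P a ξ = pairVal Q a η := by
  classical
  have hCC : Subgroup.centralizer (P : Set G) ≤ Subgroup.centralizer (Q : Set G) :=
    Subgroup.centralizer_le (SetLike.coe_subset_coe.2 hQP)
  have hQc : IsCentralElt (resC Q a) := isCentralElt_resC ha'
  set c := pairVal Q a η with hc
  set aQ : MonoidAlgebra (Res M) G := inclElt _ (resC Q a) with haQ
  have h1 : pairVal P aQ ξ = pairVal P a ξ := by
    refine congrArg (omegaBar ξ) (MonoidAlgebra.ext (Finsupp.ext fun x => ?_))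
    rw [coeff_resC, coeff_resC]
    exact (coeff_inclElt _ _ ⟨(x : G), hCC x.2⟩).trans (coeff_resC Q a ⟨(x : G), hCC x.2⟩)
  have hRN : P ≤ Subgroup.normalizer (Subgroup.centralizer (Q : Set G) : Set G) :=
    hPN.trans (normalizer_le_normalizer_centralizer Q)
  have hi1 : ∀ R : Subgroup G, (R ≤ Subgroup.normalizer (Subgroup.centralizer (Q : Set G) : Set G)) →
      InvUnder R a → InvUnder R (aQ - c • 1) := fun R hR hRa =>
    (invUnder_incl_resC hR hRa).sub ((InvUnder.of_isCentralElt R IsCentralElt.one).smul c)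
  have hi1' := hi1 _ (hCC.trans Subgroup.le_normalizer) (ha'.mono hCC)
  have hi2 : InvUnder (Subgroup.centralizer (P : Set G))
      (subIdem M (Subgroup.centralizer (Q : Set G)) f) :=
    invUnder_subIdem hf fun u hu => stabilizesBlock_of_mem (hCC hu)
  have hnil : IsNilpotent ((resC Q a - c • 1) * blockIdemBar M f) := by
    refine isNilpotent_of_omegaBar_eq_zero
      ((hQc.sub (IsCentralElt.one.smul c)).mul (isCentralElt_blockIdemBar hf)) fun χ => ?_
    rw [omegaBar_mul χ (hQc.sub (IsCentralElt.one.smul c)) (isCentralElt_blockIdemBar hf),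
      omegaBar_blockIdemBar hf]
    split_ifs with hχ
    · rw [omegaBar_sub, omegaBar_smul, omegaBar_one, mul_one, mul_one, hc, pairVal,
        omegaBar_congr (IsPBlock.sameBlock hf hχ hη), sub_self]
    · rw [mul_zero]
  have hnil' := hnil.map (inclElt (Subgroup.centralizer (Q : Set G)))
  rw [map_mul, map_sub, inclElt_smul, map_one] at hnil'
  have h2 := pairVal_eq_zero_of_isNilpotent hM hP ξ
    ((hi1 P hRN ha).mul (invUnder_subIdem hf hst)) (hi1'.mul hi2) hnil'
  rw [pairVal_mul hM hP ξ (hi1 P hRN ha) (invUnder_subIdem hf hst) hi1' hi2, hξ,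
    mul_one, pairVal_sub, pairVal_smul, pairVal_one, mul_one, h1, sub_eq_zero] at h2
  exact h2

theorem pairVal_idem {P : Subgroup G} (hP : IsPGroup p P)
    (ξ : IrrCharacter (Subgroup.centralizer (P : Set G))) {a : MonoidAlgebra (Res M) G}
    (ha : InvUnder P a) (ha' : InvUnder (Subgroup.centralizer (P : Set G)) a) (ha2 : a * a = a) :
    pairVal P a ξ = 0 ∨ pairVal P a ξ = 1 := by
  have h := pairVal_mul hM hP ξ ha ha ha' ha'
  rw [ha2] at h
  exact (mul_right_eq_self₀.1 h.symm).symm

/-- Below a pair there is exactly one stable block on a normal subgroup. -/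
theorem existsUnique_stable {Q P : Subgroup G} (hP : IsPGroup p P) (hQP : Q ≤ P)
    (hPN : P ≤ Subgroup.normalizer (Q : Set G))
    (ξ : IrrCharacter (Subgroup.centralizer (P : Set G))) :
    ∃! f : Set (IrrCharacter (Subgroup.centralizer (Q : Set G))), IsPBlock M f ∧
      (∀ u ∈ P, StabilizesBlock (Subgroup.centralizer (Q : Set G)) f u) ∧
      pairVal P (subIdem M (Subgroup.centralizer (Q : Set G)) f) ξ = 1 := by
  classical
  have := charP_residueField hM
  have hN : P ≤ Subgroup.normalizer (Subgroup.centralizer (Q : Set G) : Set G) :=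
    hPN.trans (normalizer_le_normalizer_centralizer Q)
  have hCC : Subgroup.centralizer (P : Set G) ≤ Subgroup.centralizer (Q : Set G) :=
    Subgroup.centralizer_le (SetLike.coe_subset_coe.2 hQP)
  let X := {f : Set (IrrCharacter (Subgroup.centralizer (Q : Set G))) // IsPBlock M f}
  let act : MulAction P X :=
    { smul := fun u f => ⟨conjSelf (hN u.2) f.1, isPBlock_conjSelf _ f.2⟩
      one_smul := fun f => Subtype.ext (conjSelf_one (hN (1 : P).2) f.1)
      mul_smul := fun u v f => Subtype.ext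
        ((conjSelf_eq (Subgroup.coe_mul P u v) (hN (u * v).2) (mul_mem (hN u.2) (hN v.2)) f.1).trans
          (conjSelf_mul (hN u.2) (hN v.2) f.1)) }
  have := Fintype.ofFinite X
  let v : X → MonoidAlgebra (Res M) G := fun f => subIdem M (Subgroup.centralizer (Q : Set G)) f.1
  have hfix : ∀ f : X, f ∈ MulAction.fixedPoints P X ↔
      ∀ u ∈ P, StabilizesBlock (Subgroup.centralizer (Q : Set G)) f.1 u := fun f => by
    rw [MulAction.mem_fixedPoints]
    constructor
    · exact fun h u hu => stabilizesBlock_iff.2 ⟨hN hu, congrArg Subtype.val (h ⟨u, hu⟩)⟩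
    · intro h u
      obtain ⟨hx, hx'⟩ := stabilizesBlock_iff.1 (h u u.2)
      exact Subtype.ext hx'
  have hC : ∀ f : X, InvUnder (Subgroup.centralizer (P : Set G)) (v f) := fun f =>
    invUnder_subIdem f.2 fun u hu => stabilizesBlock_of_mem (hCC hu)
  have hsum : ∑ f ∈ Finset.univ.filter (· ∈ MulAction.fixedPoints P X), pairVal P (v f) ξ = 1 := by
    rw [← pairVal_one (M := M) P ξ, ← pairVal_sum]
    refine congrArg (omegaBar ξ) (MonoidAlgebra.ext (Finsupp.ext fun c => ?_))
    rw [coeff_resC, coeff_resC, ← map_one (inclElt (Subgroup.centralizer (Q : Set G))),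
      ← sum_blockIdemBar (M := M) (G := Subgroup.centralizer (Q : Set G)), map_sum]
    simp only [coeff_sum, Finsupp.coe_finsetSum, Finset.sum_apply]
    have hcQ := hCC c.2
    refine (sum_eq_sum_fixedPoints hP (fun f : X => (v f).coeff (c : G)) fun u f => ?_).symm
    show (subIdem M _ (conjSelf (hN u.2) f.1)).coeff (c : G) = _
    rw [subIdem, coeff_inclElt _ _ ⟨(c : G), hcQ⟩]
    refine Eq.trans ?_ (coeff_inclElt _ _ ⟨(c : G), hcQ⟩).symm
    have h := blockCoeff_conjSelf (hN u.2) f.1 ⟨(c : G), hcQ⟩ ⟨(c : G), hcQ⟩ (by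
      show (c : G) = u * c * (u : G)⁻¹
      rw [Subgroup.mem_centralizer_iff.1 c.2 u u.2, mul_inv_cancel_right])
    simp only [blockIdemBar, coeff_red, blockIdemO, coeff_ofFun,
      dif_pos (blockCoeff_mem (isPBlock_conjSelf (hN u.2) f.2) _), dif_pos (blockCoeff_mem f.2 _), h]
  have hv : ∀ f : X, f ∈ MulAction.fixedPoints P X → pairVal P (v f) ξ = 0 ∨ pairVal P (v f) ξ = 1 :=
    fun f hf => pairVal_idem hM hP ξ (invUnder_subIdem f.2 ((hfix f).1 hf)) (hC f)
      (subIdem_mul_self f.2)
  obtain ⟨f, hf, hne⟩ := Finset.exists_ne_zero_of_sum_ne_zero (hsum ▸ one_ne_zero)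
  have hf' := (Finset.mem_filter.1 hf).2
  have h1 := (hv f hf').resolve_left hne
  refine ⟨f.1, ⟨f.2, (hfix f).1 hf', h1⟩, fun g ⟨hg, hgst, hg1⟩ => ?_⟩
  by_contra hgf
  have h2 := pairVal_mul hM hP ξ (invUnder_subIdem f.2 ((hfix f).1 hf')) (invUnder_subIdem hg hgst)
    (hC f) (hC ⟨g, hg⟩)
  rw [subIdem_mul_of_ne f.2 hg (Ne.symm hgf), pairVal_zero, h1, hg1, one_mul] at h2
  exact zero_ne_one h2

end CfsgLib.Pairs
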