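import Cfsg.Agent.Lib.Pairs.Relative
import Cfsg.Agent.Lib.Fusion.Alperin

/-!
# The Brauer correspondence over a subgroup containing the normalizer of the defect group
-/

namespace CfsgLib.Pairs

open Cfsg CfsgLib.Blocks MonoidAlgebra

variable {G : Type*} [Group G] [Fintype G] {M : Ideal AlgInt} [M.IsPrime] {p : ℕ} [Fact p.Prime]
  (hM : IsPModular p M)
include hM

/-- A pair is maximal exactly when nothing lies properly above it normally. -/
theorem isMaximal_iff_no_normal {B : Set (IrrCharacter G)} {P : Subgroup G}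
    {e : Set (IrrCharacter (Subgroup.centralizer (P : Set G)))} (h : IsBrauerPairOf p M B P e) :
    IsMaximalBrauerPair p M B P e ↔
      ∀ (R : Subgroup G) (g : Set (IrrCharacter (Subgroup.centralizer (R : Set G)))),
        IsNormalSubpair p M P e R g → R = P := by
  refine ⟨fun hm R g hR => hm.2 R g ((normalSubpair_pairOf_iff hM hR B).2 h)
    (Relation.ReflTransGen.single hR), fun hno => ⟨h, fun R g hR hle => ?_⟩⟩
  by_contra hne
  have hlt : P < R := lt_of_le_of_ne (le_of_subpairLE hle) (Ne.symm hne)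
  obtain ⟨x, hx, hxP⟩ := CfsgLib.Fusion.exists_mem_normalizerIn_not_mem hR.1.1 hlt
  obtain ⟨d, hd, -⟩ := normalSubpair_of_le (R := R ⊓ Subgroup.normalizer (P : Set G)) hM hR.1 hle
    (le_inf hlt.le Subgroup.le_normalizer) inf_le_left inf_le_right
  exact hxP ((hno _ d hd).le hx)

theorem exists_pairOf_of_isDefectGroup {B : Set (IrrCharacter G)} (hB : IsPBlock M B)
    {P : Subgroup G} (hD : IsDefectGroup p M B P) :
    ∃ e : Set (IrrCharacter (Subgroup.centralizer (P : Set G))), IsBrauerPairOf p M B P e := by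
  have := charP_residueField hM
  have hPp := IsDefectGroup.isPGroup hD
  obtain ⟨k, hk, hkP⟩ := (exists_coeff_ne_zero_centralizer_iff hM hB hD hPp).2 (SubConj.of_le le_rfl)
  have hc := isCentralElt_blockIdemBar hB
  obtain ⟨ξ, hξ⟩ := exists_omegaBar_eq_one
    (a := resC P (blockIdemBar M B)) (isCentralElt_resC (InvUnder.of_isCentralElt _ hc))
    (by rw [← resC_mul hPp (InvUnder.of_isCentralElt _ hc) (InvUnder.of_isCentralElt _ hc),
      blockIdemBar_mul_self hB])
    (fun h0 => hk (by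
      have := congrArg (fun z : MonoidAlgebra (Res M) (Subgroup.centralizer (P : Set G)) =>
        z.coeff ⟨k, hkP⟩) h0
      simpa using this))
  exact ⟨_, isBrauerPairOf_iff.2 ⟨⟨hPp, isPBlock_blockOf ξ⟩, hB, fun η hη =>
    (pairVal_congr _ (mem_blockOf.1 hη)).symm.trans hξ⟩⟩

theorem isMaximal_of_isDefectGroup {B : Set (IrrCharacter G)} {P : Subgroup G}
    {e : Set (IrrCharacter (Subgroup.centralizer (P : Set G)))} (h : IsBrauerPairOf p M B P e)
    (hD : IsDefectGroup p M B P) : IsMaximalBrauerPair p M B P e := by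
  refine ⟨h, fun R g hR hle => ?_⟩
  obtain ⟨hRg, hB, hval⟩ := isBrauerPairOf_iff.1 hR
  obtain ⟨ξ, hξ⟩ := IsPBlock.nonempty hRg.2
  obtain ⟨c, hc, hne⟩ := brv_of_pairVal (ξ := ξ) (by rw [hval ξ hξ]; exact one_ne_zero)
  have h1 := ((exists_coeff_ne_zero_centralizer_iff hM hB hD hRg.1).1 ⟨c, hne, hc⟩).card_dvd
  exact (Subgroup.eq_of_le_of_card_ge (le_of_subpairLE hle)
    (Nat.le_of_dvd Nat.card_pos h1)).symm

omit hM in
theorem eq_of_resC_idem_eq (hM : IsPModular p M) {B B' : Set (IrrCharacter G)} {P : Subgroup G}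
    {e : Set (IrrCharacter (Subgroup.centralizer (P : Set G)))} (h : IsBrauerPairOf p M B P e)
    (hB' : IsPBlock M B') (heq : resC P (blockIdemBar M B') = resC P (blockIdemBar M B)) :
    B' = B := by
  refine (existsUnique_block hM h.1).unique (isBrauerPairOf_iff.2 ⟨h.1, hB', fun ξ hξ => ?_⟩) h
  rw [pairVal, heq]
  exact (isBrauerPairOf_iff.1 h).2.2 ξ hξ

section Over

variable {P H : Subgroup G}

omit [Fact p.Prime] hM in
theorem resC_eq_iff (B : Set (IrrCharacter G)) (hB : IsPBlock M B) {c : Set (IrrCharacter H)}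
    (hc : IsPBlock M c) :
    (∀ x : G, x ∈ Subgroup.centralizer (P : Set G) →
      MemLocalIdeal M (blockCoeff B x - subgroupBlockCoeff H c x)) ↔
    resC P (blockIdemBar M B) = resC P (subIdem M H c) := by
  have key : ∀ x : G, MemLocalIdeal M (blockCoeff B x - subgroupBlockCoeff H c x) ↔
      (blockIdemBar M B).coeff x = (subIdem M H c).coeff x := fun x => by
    rw [subgroupBlockCoeff_eq hc, ← coeff_blockIdem, ← inc_blockIdemO hB, coeff_inc,
      ← residue_eq_iff, blockIdemBar, coeff_red, subIdem, blockIdemBar, ← red_inclElt, coeff_red]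
  constructor
  · intro h
    refine MonoidAlgebra.ext (Finsupp.ext fun k => ?_)
    rw [coeff_resC, coeff_resC]
    exact (key k).1 (h k k.2)
  · intro h x hx
    refine (key x).2 ?_
    have := congrArg (fun z : MonoidAlgebra (Res M) (Subgroup.centralizer (P : Set G)) =>
      z.coeff ⟨x, hx⟩) h
    simpa using this

variable (hP : IsPGroup p P) (hH : Subgroup.normalizer (P : Set G) ≤ H)
include hP hH

omit [Fact p.Prime] hM hP in
theorem pairOf_same_iff {a : BrauerPairIdx H}
    {e : Set (IrrCharacter (Subgroup.centralizer (P : Set G)))} (ha : SamePair a ⟨P, e⟩)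
    {c : Set (IrrCharacter H)} (hc : IsPBlock M c) (he : IsBrauerPair p M P e) :
    IsBrauerPairOf p M c a.1 a.2 ↔ ∀ ξ ∈ e, pairVal P (subIdem M H c) ξ = 1 := by
  have hC : Subgroup.centralizer (P : Set G) ≤ H := (centralizer_le_normalizer' P).trans hH
  have hco : ∀ k : H, blockCoeff c k = subgroupBlockCoeff H c (k : G) := fun k => by
    unfold subgroupBlockCoeff
    rw [dif_pos k.2]
  have hval : ∀ ξ : IrrCharacter (Subgroup.centralizer (P : Set G)),
      MemLocalIdeal M (brauerOmega P (subgroupBlockCoeff H c)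
        (ξ : Subgroup.centralizer (P : Set G) → ℂ) - 1) ↔ pairVal P (subIdem M H c) ξ = 1 := fun ξ => by
    rw [brauerOmega_sub_one_iff P _ (inclElt _ (blockIdemO M c)) (subgroupBlockCoeff_eq hc)
      (invUnder_blockIdemO_incl hc fun u hu => stabilizesBlock_of_mem (hC hu)) ξ, red_inclElt]
    rfl
  constructor
  · rintro ⟨-, -, h⟩ ξ hξ
    exact (hval ξ).1 ((ha.memLocalIdeal_iff hco).1 h ξ hξ)
  · intro h
    exact ⟨ha.brauerPair_iff.2 he, hc, (ha.memLocalIdeal_iff hco).2 fun ξ hξ => (hval ξ).2 (h ξ hξ)⟩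

omit [M.IsPrime] [Fact p.Prime] hM hP hH in
theorem normal_same_down {a a' : BrauerPairIdx H} {b b' : BrauerPairIdx G} (h : SamePair a b)
    (h' : SamePair a' b') (hC : Subgroup.centralizer (b.1 : Set G) ≤ H)
    (hr : NormalSubpairRel p M b b') : NormalSubpairRel p M a a' := by
  obtain ⟨hb, hb', hle, hN, hst, hval⟩ := hr
  have hmem : ∀ {z : H}, z ∈ a'.1 → (z : G) ∈ b'.1 := fun hz =>
    h'.1 ▸ Subgroup.mem_map_of_mem H.subtype hz
  refine ⟨h.brauerPair_iff.2 hb, h'.brauerPair_iff.2 hb', ?_, ?_, fun z hz => ?_,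
    (h'.memLocalIdeal_iff (blockCoeff_of_samePair h)).2 hval⟩
  · rw [← Subgroup.map_le_map_iff_of_injective H.subtype_injective, h.1, h'.1]
    exact hle
  · intro z hz
    have h1 := Subgroup.mem_normalizer_iff_map_conj_eq.1 (hN (hmem hz))
    rw [Subgroup.mem_normalizer_iff_map_conj_eq]
    refine Subgroup.map_injective H.subtype_injective ?_
    rw [Subgroup.map_map, show H.subtype.comp (MulAut.conj z : H →* H) =
      (MulAut.conj (z : G) : G →* G).comp H.subtype from rfl, ← Subgroup.map_map, h.1]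
    exact h1
  · obtain ⟨hn, hs⟩ := hst (z : G) (hmem hz)
    obtain ⟨-, φ, hφ, hm⟩ := h
    have hcen : ∀ k : H, k ∈ Subgroup.centralizer (a.1 : Set H) ↔
        (k : G) ∈ Subgroup.centralizer (b.1 : Set G) := fun k => by
      refine ⟨fun hk => ?_, fun hk => ?_⟩
      · have := (φ ⟨k, hk⟩).2
        rwa [hφ] at this
      · have e1 := hφ (φ.symm ⟨(k : G), hk⟩)
        rw [MulEquiv.apply_symm_apply] at e1
        rw [show k = (φ.symm ⟨(k : G), hk⟩ : H) from Subtype.ext e1]
        exact (φ.symm ⟨(k : G), hk⟩).2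
    refine ⟨Subgroup.mem_normalizer_iff.2 fun k => ?_, fun χ hχ => ?_⟩
    · rw [hcen, hcen]
      exact Subgroup.mem_normalizer_iff.1 hn (k : G)
    · rw [← hm] at hχ
      obtain ⟨ψ, hψ, rfl⟩ := hχ
      obtain ⟨ψ', hψ', hc⟩ := hs ψ hψ
      refine ⟨mapIrr φ ψ', ?_, fun k k' hk => ?_⟩
      · rw [← hm]
        exact ⟨ψ', hψ', rfl⟩
      rw [mapIrr_apply, mapIrr_apply]
      exact hc (φ k) (φ k') (by rw [hφ, hφ]; exact congrArg Subtype.val hk)

omit hP in
theorem maximal_same_iff {a : BrauerPairIdx H}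
    {e : Set (IrrCharacter (Subgroup.centralizer (P : Set G)))} (ha : SamePair a ⟨P, e⟩)
    {B : Set (IrrCharacter G)} (hB : IsBrauerPairOf p M B P e)
    {c : Set (IrrCharacter H)} (hc : IsBrauerPairOf p M c a.1 a.2) :
    IsMaximalBrauerPair p M B P e ↔ IsMaximalBrauerPair p M c a.1 a.2 := by
  have hPH : P ≤ H := Subgroup.le_normalizer.trans hH
  have hC : Subgroup.centralizer (P : Set G) ≤ H := (centralizer_le_normalizer' P).trans hH
  rw [isMaximal_iff_no_normal hM hB, isMaximal_iff_no_normal hM hc]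
  constructor
  · intro h R r hR
    obtain ⟨b', hb'⟩ := exists_samePair_up (a := (⟨R, r⟩ : BrauerPairIdx H))
      ((centralizer_le_of_le (ha.1.ge.trans (Subgroup.map_mono hR.2.2.1))).trans hC)
    have := h b'.1 b'.2 (ha.normal hb' hC hR)
    exact Subgroup.map_injective H.subtype_injective ((hb'.1.trans this).trans ha.1.symm)
  · intro h R g hR
    obtain ⟨a', ha'⟩ := exists_samePair_down (b := (⟨R, g⟩ : BrauerPairIdx G)) (K := H)
      (hR.2.2.2.1.trans hH) ((centralizer_le_of_le hR.2.2.1).trans hC)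
    have := h a'.1 a'.2 (normal_same_down ha ha' hC hR)
    have h1 := congrArg (Subgroup.map H.subtype) this
    rwa [ha'.1, ha.1] at h1

/-- A block of `G` and a block of `H` with a common maximal pair on `P` have the same truncation. -/
theorem resC_eq_of_common {a : BrauerPairIdx H}
    {e : Set (IrrCharacter (Subgroup.centralizer (P : Set G)))} (ha : SamePair a ⟨P, e⟩)
    {B : Set (IrrCharacter G)} (hB : IsMaximalBrauerPair p M B P e)
    {c : Set (IrrCharacter H)} (hc : IsMaximalBrauerPair p M c a.1 a.2) :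
    resC P (blockIdemBar M B) = resC P (subIdem M H c) := by
  classical
  have := charP_residueField hM
  have hPH : P ≤ H := Subgroup.le_normalizer.trans hH
  have hC : Subgroup.centralizer (P : Set G) ≤ H := (centralizer_le_normalizer' P).trans hH
  obtain ⟨hPe, hBb, hval⟩ := isBrauerPairOf_iff.1 hB.1
  have hcb := hc.1.2.1
  have i1 : InvUnder P (blockIdemBar M B) := InvUnder.of_isCentralElt _ (isCentralElt_blockIdemBar hBb)
  have i2 : InvUnder (Subgroup.centralizer (P : Set G)) (blockIdemBar M B) :=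
    InvUnder.of_isCentralElt _ (isCentralElt_blockIdemBar hBb)
  have j1 : InvUnder P (subIdem M H c) :=
    invUnder_subIdem hcb fun u hu => stabilizesBlock_of_mem (hPH hu)
  have j2 : InvUnder (Subgroup.centralizer (P : Set G)) (subIdem M H c) :=
    invUnder_subIdem hcb fun u hu => stabilizesBlock_of_mem (hC hu)
  refine idem_eq_of_omegaBar_eq (isCentralElt_resC i2) (isCentralElt_resC j2)
    (by rw [← resC_mul hP i1 i1, blockIdemBar_mul_self hBb])
    (by rw [← resC_mul hP j1 j1, subIdem_mul_self hcb]) fun ξ => ?_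
  show pairVal P (blockIdemBar M B) ξ = pairVal P (subIdem M H c) ξ
  set e' := blockOf M (ξ : Subgroup.centralizer (P : Set G) → ℂ) with he'
  have hPe' : IsBrauerPair p M P e' := ⟨hP, isPBlock_blockOf ξ⟩
  obtain ⟨a', ha'⟩ := exists_samePair_down (b := (⟨P, e'⟩ : BrauerPairIdx G)) hPH hC
  have hkey : pairVal P (blockIdemBar M B) ξ = 1 ↔ pairVal P (subIdem M H c) ξ = 1 := by
    constructor
    · intro h1
      have h2 : IsBrauerPairOf p M B P e' := isBrauerPairOf_iff.2 ⟨hPe', hBb, fun η hη =>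
        (pairVal_congr _ (mem_blockOf.1 hη)).symm.trans h1⟩
      obtain ⟨x, hx⟩ := exists_conj_le hM hB h2
      have hxN : x ∈ Subgroup.normalizer (P : Set G) :=
        Subgroup.mem_normalizer_iff_map_conj_eq.2
          (Subgroup.eq_of_le_of_card_ge (le_of_subpairLE hx) (card_map_conj x P).ge)
      have h3 := eq_of_subpairLE hM hPe hx (b := ⟨P, e⟩) Relation.ReflTransGen.refl
        (Subgroup.mem_normalizer_iff_map_conj_eq.1 hxN)
      have hxi : x⁻¹ ∈ H := inv_mem (hH hxN)
      have h4 := ha.conj ⟨x⁻¹, hxi⟩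
      rw [show conjPair ((⟨x⁻¹, hxi⟩ : H) : G) ⟨P, e⟩ = ⟨P, e'⟩ by
        rw [← h3, ← conjPair_mul, inv_mul_cancel, conjPair_one]] at h4
      exact (pairOf_same_iff hH h4 hcb hPe').1 (isBrauerPairOf_conjPair _ hc.1) ξ
        (mem_blockOf_self ξ)
    · intro h1
      have h2 : IsBrauerPairOf p M c a'.1 a'.2 := (pairOf_same_iff hH ha' hcb hPe').2 fun η hη =>
        (pairVal_congr _ (mem_blockOf.1 hη)).symm.trans h1
      obtain ⟨k, hk⟩ := exists_conj_le hM hc h2
      have hkC : Subgroup.centralizer ((conjPair (k : G) (⟨P, e'⟩ : BrauerPairIdx G)).1 : Set G) ≤ H := by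
        intro g hg
        have h5 : (k : G)⁻¹ * g * k ∈ Subgroup.centralizer (P : Set G) :=
          (mem_centralizer_map_conj_iff P (k : G) _).2
            (by rw [show (k : G) * ((k : G)⁻¹ * g * k) * (k : G)⁻¹ = g by group]; exact hg)
        have := mul_mem (mul_mem k.2 (hC h5)) (inv_mem k.2)
        simpa [mul_assoc] using this
      obtain ⟨b, hb, hle⟩ := SamePair.chain hk (ha'.conj k) hkC
      rw [hb.unique ha] at hle
      have h6 : IsBrauerPairOf p M B (conjPair (k : G) ⟨P, e'⟩).1 (conjPair (k : G) ⟨P, e'⟩).2 :=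
        (subpairLE_pairOf_iff hM hle B).1 hB.1
      have h7 := isBrauerPairOf_conjPair (k : G)⁻¹ h6
      rw [← conjPair_mul, inv_mul_cancel, conjPair_one] at h7
      exact (isBrauerPairOf_iff.1 h7).2.2 ξ (mem_blockOf_self ξ)
  rcases pairVal_idem hM hP ξ i1 i2 (blockIdemBar_mul_self hBb) with h | h <;>
    rcases pairVal_idem hM hP ξ j1 j2 (subIdem_mul_self hcb) with h' | h'
  · rw [h, h']
  · rw [hkey.2 h'] at h; exact absurd h one_ne_zero
  · rw [hkey.1 h] at h'; exact absurd h' one_ne_zero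
  · rw [h, h']

theorem brauer_correspondence :
    (∀ B : Set (IrrCharacter G), IsPBlock M B → IsDefectGroup p M B P →
      ∃! c : Set (IrrCharacter H), IsPBlock M c ∧ IsDefectGroup p M c (P.subgroupOf H) ∧
        ∀ x : G, x ∈ Subgroup.centralizer (P : Set G) →
          MemLocalIdeal M (blockCoeff B x - subgroupBlockCoeff H c x)) ∧
    (∀ c : Set (IrrCharacter H), IsPBlock M c → IsDefectGroup p M c (P.subgroupOf H) →
      ∃! B : Set (IrrCharacter G), IsPBlock M B ∧ IsDefectGroup p M B P ∧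
        ∀ x : G, x ∈ Subgroup.centralizer (P : Set G) →
          MemLocalIdeal M (blockCoeff B x - subgroupBlockCoeff H c x)) := by
  have hPH : P ≤ H := Subgroup.le_normalizer.trans hH
  have hC : Subgroup.centralizer (P : Set G) ≤ H := (centralizer_le_normalizer' P).trans hH
  constructor
  · intro B hB hD
    obtain ⟨e, he⟩ := exists_pairOf_of_isDefectGroup hM hB hD
    have hmax := isMaximal_of_isDefectGroup hM he hD
    obtain ⟨a, ha⟩ := exists_samePair_down (b := (⟨P, e⟩ : BrauerPairIdx G)) hPH hC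
    obtain ⟨c, hc, -⟩ := existsUnique_block hM (ha.brauerPair_iff.2 he.1)
    have hcmax := (maximal_same_iff hM hH ha he hc).1 hmax
    have hres := resC_eq_of_common hM hP hH ha hmax hcmax
    have haP : a.1 = P.subgroupOf H := Subgroup.map_injective H.subtype_injective
      (ha.1.trans (Subgroup.map_subgroupOf_eq_of_le hPH).symm)
    refine ⟨c, ⟨hc.2.1, haP ▸ isDefectGroup_of_maximal hM hcmax, (resC_eq_iff B hB hc.2.1).2 hres⟩,
      fun c' ⟨hc', _, heq⟩ => ?_⟩
    refine (existsUnique_block hM (ha.brauerPair_iff.2 he.1)).unique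
      ((pairOf_same_iff hH ha hc' he.1).2 fun ξ hξ => ?_) hc
    rw [pairVal, ← (resC_eq_iff B hB hc').1 heq]
    exact (isBrauerPairOf_iff.1 he).2.2 ξ hξ
  · intro c hc hD
    obtain ⟨e₀, he₀⟩ := exists_pairOf_of_isDefectGroup hM hc hD
    obtain ⟨⟨R, e⟩, hb⟩ := exists_samePair_up (a := (⟨P.subgroupOf H, e₀⟩ : BrauerPairIdx H))
      (by rw [Subgroup.map_subgroupOf_eq_of_le hPH]; exact hC)
    obtain rfl : R = P := hb.1.symm.trans (Subgroup.map_subgroupOf_eq_of_le hPH)
    obtain ⟨B, hB, -⟩ := existsUnique_block hM (hb.brauerPair_iff.1 he₀.1)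
    have hcmax := isMaximal_of_isDefectGroup hM he₀ hD
    have hmax := (maximal_same_iff hM hH hb hB he₀).2 hcmax
    have hres := resC_eq_of_common hM hP hH hb hmax hcmax
    refine ⟨B, ⟨hB.2.1, isDefectGroup_of_maximal hM hmax, (resC_eq_iff B hB.2.1 hc).2 hres⟩,
      fun B' ⟨hB', _, heq⟩ => ?_⟩
    exact eq_of_resC_idem_eq hM hB hB' (((resC_eq_iff B' hB' hc).1 heq).trans hres.symm)

end Over

end CfsgLib.Pairs
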