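import Cfsg.Agent.Lib.Pairs.Maximal
import Cfsg.Agent.Lib.Blocks.Kernel
import Cfsg.Agent.Lib.Transfer.Fusion
import Cfsg.Prelude.Def_BlockFusion

/-!
# Brauer pairs of the principal block
-/

namespace CfsgLib.Pairs

open Cfsg CfsgLib.Blocks MonoidAlgebra

variable {G : Type*} [Group G]

theorem principal_conjPair {M : Ideal AlgInt} (x : G) (Q : Subgroup G) :
    conjPair x ⟨Q, principalBlock M (Subgroup.centralizer (Q : Set G))⟩ =
      ⟨Q.map (MulAut.conj x).toMonoidHom,
        principalBlock M (Subgroup.centralizer ((Q.map (MulAut.conj x).toMonoidHom : Subgroup G) : Set G))⟩ := by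
  show (⟨_, _⟩ : BrauerPairIdx G) = _
  rw [conjBlock_eq, mapBlock_principalBlock]

theorem stabilizesBlock_principal [Finite G] {M : Ideal AlgInt} {K : Subgroup G} {x : G}
    (hx : x ∈ Subgroup.normalizer (K : Set G)) : StabilizesBlock K (principalBlock M K) x :=
  stabilizesBlock_iff.2 ⟨hx, mapBlock_principalBlock _⟩

variable [Fintype G] {M : Ideal AlgInt} [M.IsPrime]

theorem omegaBar_trivChar {a : MonoidAlgebra (Res M) G} (ha : IsCentralElt a) :
    omegaBar (Char.trivChar G) a = ∑ g, a.coeff g := by
  obtain ⟨b, hb, rfl⟩ := exists_central_lift ha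
  rw [omegaBar_red _ hb]
  simp only [coeff_red]
  rw [← map_sum]
  congr 1
  refine Subtype.ext ?_
  show omega ((Char.trivChar G : IrrCharacter G) : G → ℂ) (inc M b) = _
  rw [omega_apply, AddSubmonoidClass.coe_finsetSum]
  simp [Char.trivChar_apply]

variable {p : ℕ} [Fact p.Prime] (hM : IsPModular p M)
include hM

theorem pairVal_trivChar {P : Subgroup G} (hP : IsPGroup p P) {a : MonoidAlgebra (Res M) G}
    (ha : InvUnder P a) (ha' : InvUnder (Subgroup.centralizer (P : Set G)) a) :
    pairVal P a (Char.trivChar (Subgroup.centralizer (P : Set G))) = ∑ g, a.coeff g := by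
  classical
  have := charP_residueField hM
  rw [pairVal, omegaBar_trivChar (isCentralElt_resC ha')]
  let act : MulAction P G := MulAction.compHom G (MulAut.conj.comp P.subtype)
  refine Eq.trans ?_ (sum_eq_sum_fixedPoints hP (fun g => a.coeff g) fun u g => ha u u.2 g).symm
  refine (Finset.sum_subtype (Finset.univ.filter (· ∈ MulAction.fixedPoints P G))
    (p := (· ∈ Subgroup.centralizer (P : Set G))) (fun g => ?_) fun g => a.coeff g).symm
  rw [Finset.mem_filter, MulAction.mem_fixedPoints, Subgroup.mem_centralizer_iff]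
  refine ⟨fun h u hu => ?_, fun h => ⟨Finset.mem_univ _, fun u => ?_⟩⟩
  · have h1 : u * g * u⁻¹ = g := h.2 ⟨u, hu⟩
    exact mul_inv_eq_iff_eq_mul.1 h1
  · exact mul_inv_eq_iff_eq_mul.2 (h u u.2)

theorem isBrauerPairOf_principal {Q : Subgroup G} (hQ : IsPGroup p Q) :
    IsBrauerPairOf p M (principalBlock M G) Q
      (principalBlock M (Subgroup.centralizer (Q : Set G))) := by
  classical
  have hc := isCentralElt_blockIdemBar (isPBlock_principalBlock (M := M) (G := G))
  refine isBrauerPairOf_iff.2 ⟨⟨hQ, isPBlock_principalBlock⟩, isPBlock_principalBlock, fun ξ hξ => ?_⟩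
  rw [pairVal_congr _ (IsPBlock.sameBlock isPBlock_principalBlock hξ trivChar_mem_principalBlock),
    pairVal_trivChar hM hQ (InvUnder.of_isCentralElt _ hc) (InvUnder.of_isCentralElt _ hc),
    ← omegaBar_trivChar hc, omegaBar_blockIdemBar isPBlock_principalBlock,
    if_pos trivChar_mem_principalBlock]

theorem isNormalSubpair_principal {Q P : Subgroup G} (hP : IsPGroup p P) (hQP : Q ≤ P)
    (hPN : P ≤ Subgroup.normalizer (Q : Set G)) :
    IsNormalSubpair p M Q (principalBlock M (Subgroup.centralizer (Q : Set G))) P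
      (principalBlock M (Subgroup.centralizer (P : Set G))) := by
  classical
  have hst : ∀ u ∈ P, StabilizesBlock (Subgroup.centralizer (Q : Set G))
      (principalBlock M (Subgroup.centralizer (Q : Set G))) u := fun u hu =>
    stabilizesBlock_principal (normalizer_le_normalizer_centralizer Q (hPN hu))
  refine normalSubpair_of_rep ⟨hP.to_le hQP, isPBlock_principalBlock⟩
    ⟨hP, isPBlock_principalBlock⟩ hQP hPN hst trivChar_mem_principalBlock ?_
  rw [pairVal_trivChar hM hP (invUnder_subIdem isPBlock_principalBlock hst)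
    (invUnder_subIdem isPBlock_principalBlock fun u hu =>
      stabilizesBlock_of_mem (centralizer_le_of_le hQP hu)), subIdem,
    ← Finset.sum_filter_of_ne (p := (· ∈ Subgroup.centralizer (Q : Set G))) fun g _ hne => by
      by_contra hg
      exact hne (coeff_inclElt_of_notMem _ _ hg),
    Finset.sum_subtype _ (p := (· ∈ Subgroup.centralizer (Q : Set G))) (fun g => by simp)]
  simp only [coeff_inclElt]
  rw [← omegaBar_trivChar (isCentralElt_blockIdemBar isPBlock_principalBlock),
    omegaBar_blockIdemBar isPBlock_principalBlock, if_pos trivChar_mem_principalBlock]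

theorem subpairLE_principal (n : ℕ) : ∀ {Q P : Subgroup G}, Nat.card P - Nat.card Q ≤ n →
    IsPGroup p P → Q ≤ P →
    SubpairLE p M Q (principalBlock M (Subgroup.centralizer (Q : Set G))) P
      (principalBlock M (Subgroup.centralizer (P : Set G))) := by
  induction n with
  | zero =>
    intro Q P hn _ hQP
    obtain rfl := Subgroup.eq_of_le_of_card_ge hQP (by omega)
    exact Relation.ReflTransGen.refl
  | succ n ih =>
    intro Q P hn hP hQP
    rcases eq_or_lt_of_le hQP with rfl | hlt
    · exact Relation.ReflTransGen.refl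
    obtain ⟨R, hQR, hRP, hPR⟩ := exists_normal_maximal hP hlt
    have hlt' : Nat.card R < Nat.card P := lt_of_le_of_ne
      (Nat.le_of_dvd Nat.card_pos (Subgroup.card_dvd_of_le hRP.le))
      fun e' => hRP.ne (Subgroup.eq_of_le_of_card_ge hRP.le e'.ge)
    exact (ih (by omega) (hP.to_le hRP.le) hQR).tail (isNormalSubpair_principal hM hP hRP.le hPR)

theorem subpairLE_principal' {Q P : Subgroup G} (hP : IsPGroup p P) (hQP : Q ≤ P) :
    SubpairLE p M Q (principalBlock M (Subgroup.centralizer (Q : Set G))) P
      (principalBlock M (Subgroup.centralizer (P : Set G))) :=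
  subpairLE_principal hM _ le_rfl hP hQP

theorem isMaximalBrauerPair_principal (S : Sylow p G) :
    IsMaximalBrauerPair p M (principalBlock M G) (S : Subgroup G)
      (principalBlock M (Subgroup.centralizer ((S : Subgroup G) : Set G))) :=
  ⟨isBrauerPairOf_principal hM S.2, fun _ _ hR hle => S.3 hR.1.1 (le_of_subpairLE hle)⟩

theorem isDefectGroup_principal_iff (D : Subgroup G) :
    IsDefectGroup p M (principalBlock M G) D ↔ ∃ S : Sylow p G, (S : Subgroup G) = D := by
  obtain ⟨S⟩ : Nonempty (Sylow p G) := inferInstance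
  have hS := isDefectGroup_of_maximal hM (isMaximalBrauerPair_principal hM S)
  constructor
  · intro hD
    obtain ⟨x, hx⟩ := IsDefectGroup.exists_conj hM isPBlock_principalBlock hS hD
    exact ⟨MulAut.conj x • S, hx⟩
  · rintro ⟨T, rfl⟩
    exact isDefectGroup_of_maximal hM (isMaximalBrauerPair_principal hM T)

/-- **Brauer's third main theorem** for pairs. -/
theorem isBrauerPairOf_principal_iff {Q : Subgroup G} (hQ : IsPGroup p Q)
    {e : Set (IrrCharacter (Subgroup.centralizer (Q : Set G)))} :
    IsBrauerPairOf p M (principalBlock M G) Q e ↔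
      e = principalBlock M (Subgroup.centralizer (Q : Set G)) := by
  refine ⟨fun h => ?_, fun h => h ▸ isBrauerPairOf_principal hM hQ⟩
  obtain ⟨S⟩ : Nonempty (Sylow p G) := inferInstance
  obtain ⟨x, hx⟩ := exists_conj_le hM (isMaximalBrauerPair_principal hM S) h
  have hxS : Q.map (MulAut.conj x).toMonoidHom ≤ S := le_of_subpairLE hx
  have hp := isBrauerPairOf_principal hM S.2
  have h1 : conjBlock Q x e = principalBlock M (Subgroup.centralizer
      ((Q.map (MulAut.conj x).toMonoidHom : Subgroup G) : Set G)) :=
    (unique_below hM (Nat.card S) (Nat.sub_le _ _) hp.1).2 _ _ hx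
      (subpairLE_principal' hM S.2 hxS)
  rw [conjBlock_eq] at h1
  have h2 := congrArg (mapBlock (centEquiv Q x)) h1
  rw [mapBlock_principalBlock] at h2
  rw [← h2]
  exact (mapBlock_symm (centEquiv Q x).symm e).symm

/-- The fusion system of the principal block is that of the group. -/
theorem blockFusion_principal (S : Sylow p G) {F : FusionSystem (S : Subgroup G)}
    (hF : IsBlockFusionSystemOn p M (principalBlock M G) (S : Subgroup G)
      (principalBlock M (Subgroup.centralizer ((S : Subgroup G) : Set G))) F) (Q : Subgroup G) :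
    F.Hom Q = (groupFusionSystem (S : Subgroup G)).Hom Q := by
  ext φ
  rw [hF.2 Q φ]
  constructor
  · rintro ⟨hQ, g, hg, hle, -⟩
    exact ⟨hQ, fun u => hle ⟨(u : G), u.2, (hg u).symm⟩, g, hg⟩
  · rintro ⟨hQ, hS, g, hg⟩
    have hle : Q.map (MulAut.conj g).toMonoidHom ≤ S := by
      rintro _ ⟨u, hu, rfl⟩
      have := hS ⟨u, hu⟩
      rwa [hg] at this
    refine ⟨hQ, g, hg, hle, _, subpairLE_principal' hM S.2 hQ, ?_⟩
    rw [conjBlock_eq, mapBlock_principalBlock]
    exact subpairLE_principal' hM S.2 hle

/-- The principal block is nilpotent iff the group is `p`-nilpotent. -/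
theorem isNilpotentBlock_principal_iff :
    IsNilpotentBlock p M (principalBlock M G) ↔ HasNormalPComplement p G := by
  have hp := (Fact.out : p.Prime)
  constructor
  · rintro ⟨-, h⟩
    obtain ⟨S⟩ : Nonempty (Sylow p G) := inferInstance
    refine CfsgLib.Transfer.hasNormalPComplement_of_centralizes S fun Q hQ g hg hc => ?_
    exact h Q _ (isBrauerPairOf_principal hM (S.2.to_le hQ)) g hg
      (stabilizesBlock_principal (normalizer_le_normalizer_centralizer Q hg))
      (hp.coprime_iff_not_dvd.1 hc.symm)
  · intro h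
    exact ⟨isPBlock_principalBlock, fun Q e he x hx _ hreg =>
      CfsgLib.Transfer.mem_centralizer_of_hasNormalPComplement h he.1.1 hx
        (hp.coprime_iff_not_dvd.2 hreg).symm⟩

end CfsgLib.Pairs
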