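import Cfsg.Agent.Lib.Pairs.Basic

/-!
# Conjugation of Brauer pairs
-/

namespace CfsgLib.Pairs

open Cfsg CfsgLib.Blocks MonoidAlgebra

variable {G : Type*} [Group G]

/-- The conjugate by `x` of an element of the group algebra. -/
noncomputable def conjAlg [Finite G] {R : Type*} [Semiring R] (x : G) (a : MonoidAlgebra R G) :
    MonoidAlgebra R G := ofFun fun g => a.coeff (x⁻¹ * g * x)

@[simp]
theorem coeff_conjAlg [Finite G] {R : Type*} [Semiring R] (x : G) (a : MonoidAlgebra R G) (g : G) :
    (conjAlg x a).coeff g = a.coeff (x⁻¹ * g * x) := rfl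

theorem conjAlg_of_isCentralElt [Finite G] {R : Type*} [Semiring R] (x : G)
    {a : MonoidAlgebra R G} (ha : IsCentralElt a) : conjAlg x a = a :=
  MonoidAlgebra.ext (Finsupp.ext fun g => by
    rw [coeff_conjAlg]; simpa using ha g x⁻¹)

theorem map_conj_eq (Q : Subgroup G) (x : G) (g : G) :
    g ∈ Q.map (MulAut.conj x).toMonoidHom ↔ x⁻¹ * g * x ∈ Q := by
  constructor
  · rintro ⟨q, hq, rfl⟩
    simpa [mul_assoc] using hq
  · exact fun h => ⟨_, h, by simp [mul_assoc]⟩

theorem mem_centralizer_map_conj_iff (Q : Subgroup G) (x : G) (g : G) :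
    g ∈ Subgroup.centralizer (Q : Set G) ↔
      x * g * x⁻¹ ∈ Subgroup.centralizer ((Q.map (MulAut.conj x).toMonoidHom : Subgroup G) : Set G) := by
  simp only [Subgroup.mem_centralizer_iff, SetLike.mem_coe, map_conj_eq]
  constructor
  · intro h u hu
    calc u * (x * g * x⁻¹) = x * (x⁻¹ * u * x * g) * x⁻¹ := by group
      _ = x * (g * (x⁻¹ * u * x)) * x⁻¹ := by rw [h _ hu]
      _ = x * g * x⁻¹ * u := by group
  · intro h q hq
    have h2 := h (x * q * x⁻¹) (by simpa [mul_assoc] using hq)
    calc q * g = x⁻¹ * (x * q * x⁻¹ * (x * g * x⁻¹)) * x := by group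
      _ = x⁻¹ * (x * g * x⁻¹ * (x * q * x⁻¹)) * x := by rw [h2]
      _ = g * q := by group

/-- The isomorphism between the centralizers of a subgroup and of its conjugate. -/
def centEquiv (Q : Subgroup G) (x : G) :
    Subgroup.centralizer (Q : Set G) ≃*
      Subgroup.centralizer ((Q.map (MulAut.conj x).toMonoidHom : Subgroup G) : Set G) :=
  conjEquiv _ _ x (mem_centralizer_map_conj_iff Q x)

theorem conjBlock_eq (Q : Subgroup G) (x : G)
    (f : Set (IrrCharacter (Subgroup.centralizer (Q : Set G)))) :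
    conjBlock Q x f = mapBlock (centEquiv Q x).symm f := by
  ext ψ
  constructor
  · rintro ⟨ξ, hξ, h⟩
    refine mem_mapBlock.2 ?_
    have : mapIrr (centEquiv Q x).symm.symm ψ = ξ := Char.irr_ext fun c => by
      rw [mapIrr_apply]
      exact h c _ rfl
    rwa [this]
  · intro h
    refine ⟨_, mem_mapBlock.1 h, fun c c' hc => ?_⟩
    rw [mapIrr_apply]
    exact congrArg _ (Subtype.ext hc)

variable [Fintype G] {M : Ideal AlgInt} [M.IsPrime]

theorem omega_comp {H K : Type*} [Group H] [Group K] [Fintype H] [Fintype K] (φ : K ≃* H)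
    (χ : IrrCharacter H) (a : MonoidAlgebra ℂ K) (b : MonoidAlgebra ℂ H)
    (hab : ∀ k, b.coeff (φ k) = a.coeff k) :
    omega (mapIrr φ χ : K → ℂ) a = omega (χ : H → ℂ) b := by
  rw [omega_apply, omega_apply]
  congr 1
  · exact Fintype.sum_equiv φ.toEquiv _ _ fun k => by simp [hab k]
  · simp

theorem omegaBar_comp {H K : Type*} [Group H] [Group K] [Fintype H] [Fintype K] (φ : K ≃* H)
    (χ : IrrCharacter H) {a : MonoidAlgebra (Res M) K} (ha : IsCentralElt a)
    (b : MonoidAlgebra (Res M) H) (hab : ∀ k, b.coeff (φ k) = a.coeff k) :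
    omegaBar (mapIrr φ χ) a = omegaBar χ b := by
  obtain ⟨a', ha', rfl⟩ := exists_central_lift ha
  let b' : MonoidAlgebra (localRing M) H := ofFun fun h => a'.coeff (φ.symm h)
  have hb' : IsCentralElt b' := fun g h => by
    simp only [b', coeff_ofFun, map_mul, map_inv]
    exact ha' _ _
  have hb : red M b' = b := MonoidAlgebra.ext (Finsupp.ext fun h => by
    have := hab (φ.symm h)
    rw [MulEquiv.apply_symm_apply, coeff_red] at this
    simp [b', this])
  rw [← hb, omegaBar_red _ ha', omegaBar_red χ hb']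
  congr 1
  refine Subtype.ext ?_
  exact omega_comp φ χ (inc M a') (inc M b') fun k => by simp [b']

theorem pairVal_comp {P P' : Subgroup G} (x : G)
    (h : ∀ g, g ∈ Subgroup.centralizer (P : Set G) ↔
      x * g * x⁻¹ ∈ Subgroup.centralizer (P' : Set G))
    {a : MonoidAlgebra (Res M) G} (ha : InvUnder (Subgroup.centralizer (P : Set G)) a)
    (ξ' : IrrCharacter (Subgroup.centralizer (P' : Set G))) :
    pairVal P a (mapIrr (conjEquiv _ _ x h) ξ') = pairVal P' (conjAlg x a) ξ' :=
  omegaBar_comp _ ξ' (isCentralElt_resC ha) _ fun k => by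
    rw [coeff_resC, coeff_resC, coeff_conjAlg, conjEquiv_apply]
    congr 1
    group

theorem blockIdemBar_congr {H K : Type*} [Group H] [Group K] [Fintype H] [Fintype K] (φ : K ≃* H)
    {e : Set (IrrCharacter H)} (he : IsPBlock M e) (k : K) :
    (blockIdemBar M (mapBlock φ e)).coeff k = (blockIdemBar M e).coeff (φ k) := by
  simp only [blockIdemBar, coeff_red, blockIdemO, coeff_ofFun,
    dif_pos (blockCoeff_mem (isPBlock_mapBlock φ he) k), dif_pos (blockCoeff_mem he (φ k)),
    blockCoeff_mapBlock]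

theorem subIdem_mapBlock {H K : Subgroup G} (x : G) (h : ∀ g, g ∈ H ↔ x * g * x⁻¹ ∈ K)
    {e : Set (IrrCharacter H)} (he : IsPBlock M e) :
    subIdem M K (mapBlock (conjEquiv H K x h).symm e) = conjAlg x (subIdem M H e) := by
  refine MonoidAlgebra.ext (Finsupp.ext fun g => ?_)
  rw [coeff_conjAlg]
  by_cases hg : g ∈ K
  · have hg' : x⁻¹ * g * x ∈ H := (h _).2 (by simpa [mul_assoc] using hg)
    rw [subIdem, subIdem, coeff_inclElt K _ ⟨g, hg⟩, coeff_inclElt H _ ⟨_, hg'⟩,
      blockIdemBar_congr _ he]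
    rfl
  · rw [subIdem, subIdem, coeff_inclElt_of_notMem K _ hg, coeff_inclElt_of_notMem H _ fun hm => hg
      (by simpa [mul_assoc] using (h _).1 hm)]

theorem subIdem_conjSelf {K : Subgroup G} {x : G} (hx : x ∈ Subgroup.normalizer (K : Set G))
    {e : Set (IrrCharacter K)} (he : IsPBlock M e) :
    subIdem M K (conjSelf hx e) = conjAlg x (subIdem M K e) :=
  subIdem_mapBlock x (mem_normalizer_conj hx) he

theorem subIdem_conjBlock (Q : Subgroup G) (x : G)
    {f : Set (IrrCharacter (Subgroup.centralizer (Q : Set G)))} (hf : IsPBlock M f) :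
    subIdem M (Subgroup.centralizer ((Q.map (MulAut.conj x).toMonoidHom : Subgroup G) : Set G))
      (conjBlock Q x f) = conjAlg x (subIdem M (Subgroup.centralizer (Q : Set G)) f) := by
  rw [conjBlock_eq]
  exact subIdem_mapBlock x (mem_centralizer_map_conj_iff Q x) hf

end CfsgLib.Pairs
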