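import Cfsg.Agent.Lib.Pairs.Saturated
import Cfsg.Agent.Lib.Fusion.Abelian
import Cfsg.Agent.Lib.Fusion.Alperin

/-!
# Nilpotent blocks and their fusion systems; blocks with abelian defect group
-/

namespace CfsgLib.Pairs

open Cfsg CfsgLib.Blocks Cfsg.FusionSystem

variable {G : Type*} [Group G] [Fintype G] {M : Ideal AlgInt} [M.IsPrime] {p : ℕ} [Fact p.Prime]
  {B : Set (IrrCharacter G)} {P : Subgroup G}
  {e : Set (IrrCharacter (Subgroup.centralizer (P : Set G)))} {F : FusionSystem P}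
  (hF : IsBlockFusionSystemOn p M B P e F) (hM : IsPModular p M)
include hF hM

/-- The automorphism groups of the fusion system of a nilpotent block are `p`-groups. -/
theorem isPGroup_autGroup_of_nilpotent (hnil : IsNilpotentBlock p M B) {Q : Subgroup G}
    (hQP : Q ≤ P) : IsPGroup p (F.autGroup Q) := by
  obtain ⟨f, -, hle⟩ := exists_below hM (Nat.card P) (Nat.sub_le _ _) hF.1.1.1 hQP
  have hQf : IsBrauerPairOf p M B Q f :=
    (subpairLE_pairOf_iff hM (a := ⟨Q, f⟩) (b := ⟨P, e⟩) hle B).1 hF.1.1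
  rintro ⟨α, hα⟩
  obtain ⟨g, hg, hgα⟩ := CfsgLib.Fusion.mem_autInducedBy_iff.1
    ((mem_autGroup_iff_pairStab hF hM hle).1 hα)
  refine ⟨(orderOf g).factorization p, Subtype.ext ?_⟩
  set r := p ^ (orderOf g).factorization p with hr
  have hreg : IsPRegular p (g ^ r) := by
    have h1 : orderOf (g ^ r) = orderOf g / r :=
      orderOf_pow_of_dvd (pow_ne_zero _ (Fact.out : p.Prime).pos.ne') (Nat.ordProj_dvd _ _)
    unfold IsPRegular
    rw [h1]
    exact Nat.not_dvd_ordCompl (Fact.out : p.Prime) (orderOf_pos g).ne'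
  have hT : g ^ r ∈ pairStab Q f := pow_mem hg r
  have hcen := hnil.2 Q f hQf (g ^ r) hT.1 hT.2 hreg
  rw [SubgroupClass.coe_pow]
  refine MulEquiv.ext fun x => Subtype.ext ?_
  have hpow : ∀ n : ℕ, (((α ^ n) x : Q) : G) = g ^ n * x * (g ^ n)⁻¹ := fun n => by
    induction n with
    | zero => simp
    | succ n ih => rw [pow_succ', MulAut.mul_apply, hgα, ih, pow_succ' g n]; group
  rw [hpow, ← Subgroup.mem_centralizer_iff.1 hcen x x.2, mul_inv_cancel_right]
  rfl

/-- The fusion system of a nilpotent block is inner. -/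
theorem eq_inner_of_nilpotent (hnil : IsNilpotentBlock p M B) : F = innerFusionSystem P := by
  classical
  have hPp : IsPGroup p P := hF.1.1.1.1
  have hsat := isSaturated_of_isBlockFusionSystemOn hF hM
  refine CfsgLib.Fusion.fusionSystem_antisymm ?_ (CfsgLib.Fusion.innerFusionSystem_le F)
  refine CfsgLib.Fusion.alperin hPp hsat _ fun Q hQ α hα => ?_
  have hfn : F.IsFullyNormalized Q := by
    rcases hQ with rfl | hQ
    · refine ⟨le_rfl, fun R hR => ?_⟩
      obtain rfl : R = Q := Subgroup.eq_of_le_of_card_ge (CfsgLib.Fusion.isConj_le_right hR)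
        (CfsgLib.Fusion.isConj_card hR).le
      rfl
    · exact hQ.2.1
  obtain ⟨f, -, hle⟩ := exists_below hM (Nat.card P) (Nat.sub_le _ _) hF.1.1.1 hfn.1
  obtain ⟨-, R, hR⟩ := isFullyAutomized_of_fullyNormalized hF hM hle hfn
  have htop : (autInducedBy P Q).subgroupOf (F.autGroup Q) = ⊤ :=
    hR ▸ R.is_maximal'
      (IsPGroup.of_injective (isPGroup_autGroup_of_nilpotent hF hM hnil hfn.1)
        (⊤ : Subgroup (F.autGroup Q)).subtype Subtype.val_injective) le_top |>.symm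
  exact CfsgLib.Fusion.autInducedBy_le_autGroup hfn.1 (Subgroup.subgroupOf_eq_top.1 htop hα)

/-- A block with inner fusion system is nilpotent. -/
theorem nilpotent_of_eq_inner (h : ∀ Q : Subgroup G, F.Hom Q = (innerFusionSystem P).Hom Q) :
    IsNilpotentBlock p M B := by
  refine ⟨hF.1.1.2.1, fun R r hRr x hxN hxst hxreg => ?_⟩
  obtain ⟨y, hy⟩ := exists_conj_le hM hF.1 hRr
  set Q := R.map (MulAut.conj y).toMonoidHom with hQ
  have hle : SubpairLE p M Q (conjBlock R y r) P e := hy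
  have hx' : y * x * y⁻¹ ∈ pairStab Q (conjBlock R y r) :=
    map_conj_pairStab_le y r (Subgroup.mem_map_of_mem (MulAut.conj y).toMonoidHom
      (show x ∈ pairStab R r from ⟨hxN, hxst⟩))
  have hQP : Q ≤ P := le_of_subpairLE hle
  set z := y * x * y⁻¹ with hz
  let α : MulAut Q := Q.normalizerMonoidHom ⟨z, hx'.1⟩
  have hval : ∀ u : Q, ((α u : Q) : G) = z * u * z⁻¹ := fun _ => rfl
  have hmem : α ∈ F.autGroup Q :=
    (mem_autGroup_iff_pairStab hF hM hle).2 (CfsgLib.Fusion.mem_autInducedBy_iff.2 ⟨z, hx', hval⟩)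
  rw [CfsgLib.Fusion.mem_autGroup_iff hQP, h Q] at hmem
  obtain ⟨-, u, hu, huv⟩ := hmem
  obtain ⟨k, hk⟩ := hF.1.1.1.1 ⟨u, hu⟩
  have hk' : u ^ p ^ k = 1 := congrArg Subtype.val hk
  have hpow : ∀ (w : G), (∀ v : Q, ((α v : Q) : G) = w * v * w⁻¹) → ∀ n : ℕ, w ^ n = 1 →
      α ^ n = 1 := fun w hw n hn => by
    have hind : ∀ m : ℕ, ∀ v : Q, (((α ^ m) v : Q) : G) = w ^ m * v * (w ^ m)⁻¹ := fun m => by
      induction m with
      | zero => simp
      | succ m ih => intro v; rw [pow_succ', MulAut.mul_apply, hw, ih, pow_succ' w m]; group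
    refine MulEquiv.ext fun v => Subtype.ext ?_
    rw [hind, hn]
    simp
  have hord : orderOf z = orderOf x := by
    rw [hz, ← MulAut.conj_apply]
    exact MulEquiv.orderOf_eq _ x
  have h1 : orderOf α ∣ orderOf x :=
    orderOf_dvd_of_pow_eq_one (hord ▸ hpow z hval _ (pow_orderOf_eq_one z))
  have h2 : orderOf α ∣ p ^ k := orderOf_dvd_of_pow_eq_one (hpow u huv _ hk')
  have hcop : (orderOf x).Coprime (p ^ k) := Nat.Coprime.pow_right _
    (((Fact.out : p.Prime).coprime_iff_not_dvd.2 hxreg).symm)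
  have hα1 : α = 1 := orderOf_eq_one_iff.1
    (Nat.eq_one_of_dvd_one (hcop.gcd_eq_one ▸ Nat.dvd_gcd h1 h2))
  have hzC : z ∈ Subgroup.centralizer (Q : Set G) := Subgroup.mem_centralizer_iff.2 fun v hv => by
    have h3 := hval ⟨v, hv⟩
    rw [hα1] at h3
    simp only [MulAut.one_apply] at h3
    conv_lhs => rw [h3]
    group
  exact (mem_centralizer_map_conj_iff R y x).2 hzC

theorem nilpotent_iff_inner :
    IsNilpotentBlock p M B ↔ ∀ Q : Subgroup G, F.Hom Q = (innerFusionSystem P).Hom Q :=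
  ⟨fun h Q => by rw [eq_inner_of_nilpotent hF hM h], nilpotent_of_eq_inner hF hM⟩

/-- In an inner system every subgroup of `P` is fully centralized. -/
theorem isFullyCentralized_of_nilpotent (hnil : IsNilpotentBlock p M B) {Q : Subgroup G}
    (hQP : Q ≤ P) : F.IsFullyCentralized Q := by
  refine ⟨hQP, fun R hR => ?_⟩
  obtain ⟨φ, hφ, rfl⟩ := hR
  rw [eq_inner_of_nilpotent hF hM hnil] at hφ
  obtain ⟨-, u, hu, huv⟩ := hφ
  rw [← card_map_conj u (centralizerIn P Q)]
  refine Subgroup.card_le_of_le fun v hv => ?_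
  obtain ⟨hvP, hvC⟩ := hv
  rw [range_eq_map huv] at hvC
  refine (map_conj_eq _ u v).2 ⟨P.mul_mem (P.mul_mem (P.inv_mem hu) hvP) hu, ?_⟩
  exact (mem_centralizer_map_conj_iff Q u _).2
    (by rw [show u * (u⁻¹ * v * u) * u⁻¹ = v by group]; exact hvC)

section Abelian

variable (hab : ∀ x ∈ P, ∀ y ∈ P, x * y = y * x)
include hab

/-- For abelian `P` the stabilizer of a pair below factors through the stabilizer of the top pair. -/
theorem exists_factor_of_abelian {Q : Subgroup G}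
    {f : Set (IrrCharacter (Subgroup.centralizer (Q : Set G)))} (hle : SubpairLE p M Q f P e)
    {x : G} (hx : x ∈ pairStab Q f) :
    ∃ y ∈ pairStab P e ⊓ Subgroup.normalizer (Q : Set G),
      ∃ c ∈ Subgroup.centralizer (Q : Set G), x = y * c := by
  have hQP : Q ≤ P := le_of_subpairLE hle
  let α : MulAut Q := Q.normalizerMonoidHom ⟨x, hx.1⟩
  have hmem : α ∈ F.autGroup Q := (mem_autGroup_iff_pairStab hF hM hle).2
    (CfsgLib.Fusion.mem_autInducedBy_iff.2 ⟨x, hx, fun _ => rfl⟩)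
  rw [CfsgLib.Fusion.mem_autGroup_iff hQP] at hmem
  obtain ⟨β, hβ, hv⟩ := CfsgLib.Fusion.exists_autS hF.1.1.1.1
    (isSaturated_of_isBlockFusionSystemOn hF hM) hab hmem
  obtain ⟨y, hy, hyv⟩ := CfsgLib.Fusion.mem_autInducedBy_iff.1
    ((mem_autGroup_iff_pairStab hF hM (Q := P) (f := e) Relation.ReflTransGen.refl).1 hβ)
  have hag : ∀ v : Q, y * (v : G) * y⁻¹ = x * v * x⁻¹ := fun v =>
    ((hyv ⟨v, hQP v.2⟩).symm.trans (hv v).symm)
  refine ⟨y, ⟨hy, ?_⟩, y⁻¹ * x, Subgroup.mem_centralizer_iff.2 fun v hv' => ?_,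
    (mul_inv_cancel_left y x).symm⟩
  · exact CfsgLib.Fusion.mem_normalizer_of_conj_eq α fun v => (hag v).symm
  · calc v * (y⁻¹ * x) = y⁻¹ * (y * v * y⁻¹) * x := by group
      _ = y⁻¹ * (x * v * x⁻¹) * x := by rw [hag ⟨v, hv'⟩]
      _ = y⁻¹ * x * v := by group

omit hab in
theorem inf_normalizer_le_pairStab {Q : Subgroup G}
    {f : Set (IrrCharacter (Subgroup.centralizer (Q : Set G)))} (hle : SubpairLE p M Q f P e) :
    pairStab P e ⊓ Subgroup.normalizer (Q : Set G) ≤ pairStab Q f := by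
  rintro y ⟨⟨hyP, hye⟩, hyQ⟩
  obtain ⟨hyC, hye'⟩ := stabilizesBlock_iff.1 hye
  have hn := normalizer_le_normalizer_centralizer Q hyQ
  have h := subpairLE_conjPair y (a := ⟨Q, f⟩) (b := ⟨P, e⟩) hle
  rw [conjPair_self hyP hyC, hye', conjPair_self hyQ hn] at h
  refine ⟨hyQ, stabilizesBlock_iff.2 ⟨hn, ?_⟩⟩
  have := eq_of_subpairLE hM hF.1.1.1 h (b := ⟨Q, f⟩) hle rfl
  simpa using this

/-- For abelian `P` the block is nilpotent exactly when its inertial quotient is trivial. -/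
theorem nilpotent_iff_inertial_trivial :
    IsNilpotentBlock p M B ↔ ∀ x : G, x ∈ pairStab P e → x ∈ Subgroup.centralizer (P : Set G) := by
  have hPp : IsPGroup p P := hF.1.1.1.1
  have hsat := isSaturated_of_isBlockFusionSystemOn hF hM
  have hrefl : SubpairLE p M P e P e := Relation.ReflTransGen.refl
  constructor
  · intro hnil x hx
    let α : MulAut P := P.normalizerMonoidHom ⟨x, hx.1⟩
    have hmem : α ∈ F.autGroup P := (mem_autGroup_iff_pairStab hF hM hrefl).2
      (CfsgLib.Fusion.mem_autInducedBy_iff.2 ⟨x, hx, fun _ => rfl⟩)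
    rw [eq_inner_of_nilpotent hF hM hnil, CfsgLib.Fusion.mem_autGroup_iff le_rfl] at hmem
    obtain ⟨-, u, hu, huv⟩ := hmem
    refine Subgroup.mem_centralizer_iff.2 fun v hv => ?_
    have h1 : x * v * x⁻¹ = u * v * u⁻¹ := huv ⟨v, hv⟩
    rw [hab u hu v hv, mul_inv_cancel_right] at h1
    conv_lhs => rw [← h1]
    group
  · intro h
    refine nilpotent_of_eq_inner hF hM fun Q => ?_
    rw [CfsgLib.Fusion.eq_inner_of_autGroup_eq_bot hPp hsat hab ?_]
    refine (Subgroup.eq_bot_iff_forall _).2 fun α hα => ?_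
    obtain ⟨x, hx, hxv⟩ := CfsgLib.Fusion.mem_autInducedBy_iff.1
      ((mem_autGroup_iff_pairStab hF hM hrefl).1 hα)
    refine MulEquiv.ext fun v => Subtype.ext ?_
    rw [hxv, ← Subgroup.mem_centralizer_iff.1 (h x hx) v v.2, mul_inv_cancel_right]
    rfl

end Abelian

end CfsgLib.Pairs
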