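import Cfsg.Agent.Lib.Pairs.Correspondence
import Cfsg.Agent.Lib.Pairs.Nilpotent

/-!
# Abelian defect: local blocks and the action of the inertial quotient
-/

namespace CfsgLib.Pairs

open Cfsg CfsgLib.Blocks MonoidAlgebra

variable {G : Type*} [Group G] [Fintype G] {M : Ideal AlgInt} [M.IsPrime] {p : ℕ} [Fact p.Prime]
  (hM : IsPModular p M)
include hM

/-- For an abelian `p`-subgroup, inducing from the centralizer is being a pair. -/
theorem inducedFromCent_iff {P : Subgroup G} (hP : IsPGroup p P)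
    (hPC : P ≤ Subgroup.centralizer (P : Set G))
    {e : Set (IrrCharacter (Subgroup.centralizer (P : Set G)))} (he : IsPBlock M e)
    (B : Set (IrrCharacter G)) :
    IsInducedBlock M (Subgroup.centralizer (P : Set G)) e B ↔ IsBrauerPairOf p M B P e := by
  classical
  have fwd : ∀ B' : Set (IrrCharacter G),
      IsInducedBlock M (Subgroup.centralizer (P : Set G)) e B' → IsBrauerPairOf p M B' P e := by
    intro B' h
    obtain ⟨-, hB, hall⟩ := isInducedBlock_iff.1 h
    refine isBrauerPairOf_iff.2 ⟨⟨hP, he⟩, hB, fun ξ hξ => ?_⟩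
    obtain ⟨χ, hχ⟩ := IsPBlock.nonempty hB
    have hc := isCentralElt_blockIdemBar (M := M) hB
    have h1 := hall ξ hξ χ hχ _ hc
    rw [omegaBar_resElt_eq_brauerMap hM hP hPC (centralizer_le_normalizer' P) ξ hc,
      omegaBar_blockIdemBar hB, if_pos hχ] at h1
    rw [pairVal, ← h1]
    refine congrArg (omegaBar ξ) (MonoidAlgebra.ext (Finsupp.ext fun k => ?_))
    rw [coeff_resC, coeff_brauerMap, if_pos k.2]
  refine ⟨fwd B, fun h => ?_⟩
  obtain ⟨B', hB'⟩ := exists_isInducedBlock hM hP hPC le_rfl (centralizer_le_normalizer' P) he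
  rwa [(existsUnique_block hM (P := P) (e := e) ⟨hP, he⟩).unique h (fwd B' hB')]

omit hM [Fact p.Prime] in
/-- Induction inside an intermediate subgroup is induction in that group. -/
theorem inducedIn_iff {H P : Subgroup G}
    {c : Set (IrrCharacter (Subgroup.centralizer (P : Set G)))} {a : BrauerPairIdx H}
    (ha : SamePair a ⟨P, c⟩) (f : Set (IrrCharacter H)) :
    IsInducedBlockIn M H (Subgroup.centralizer (P : Set G)) c f ↔
      IsInducedBlock M (Subgroup.centralizer (a.1 : Set H)) a.2 f := by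
  obtain ⟨-, φ, hφ, hm⟩ := ha
  have hind : ∀ (ξ : IrrCharacter (Subgroup.centralizer (P : Set G))) (h : H),
      inducedCentralCharIn H (Subgroup.centralizer (P : Set G))
          (ξ : Subgroup.centralizer (P : Set G) → ℂ) (h : G) =
        inducedCentralChar (Subgroup.centralizer (a.1 : Set H))
          (mapIrr φ ξ : Subgroup.centralizer (a.1 : Set H) → ℂ) h := by
    intro ξ h
    unfold inducedCentralCharIn inducedCentralChar
    symm
    refine finsum_mem_eq_of_bijOn φ ⟨fun k hk => ?_, φ.injective.injOn, fun k hk => ?_⟩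
      fun k _ => ?_
    · obtain ⟨y, hy⟩ := isConj_iff.1 (show IsConj h (k : H) from hk)
      refine ⟨y⁻¹, ?_⟩
      rw [hφ, ← hy]
      simp [mul_assoc]
    · obtain ⟨y, hy⟩ := hk
      refine ⟨φ.symm k, show IsConj h ((φ.symm k : Subgroup.centralizer (a.1 : Set H)) : H) from
        isConj_iff.2 ⟨y⁻¹, Subtype.ext ?_⟩, φ.apply_symm_apply k⟩
      simp only [Subgroup.coe_mul, Subgroup.coe_inv, inv_inv, ← hy]
      rw [← hφ (φ.symm k), φ.apply_symm_apply]
      group
    · rw [mapIrr_apply, mapIrr_apply, map_one]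
  constructor
  · rintro ⟨hc, hf, hall⟩
    refine ⟨hm ▸ isPBlock_mapBlock φ hc, hf, ?_⟩
    intro ξ' hξ' χ hχ h
    rw [← hm] at hξ'
    obtain ⟨ξ, hξ, rfl⟩ := hξ'
    rw [← hind]
    exact hall ξ hξ χ hχ h
  · rintro ⟨hc, hf, hall⟩
    refine ⟨?_, hf, fun ξ hξ χ hχ h => ?_⟩
    · rw [← mapBlock_symm φ c, hm]
      exact isPBlock_mapBlock _ hc
    · rw [hind]
      exact hall _ (hm ▸ ⟨ξ, hξ, rfl⟩) χ hχ h

omit hM [Fact p.Prime] [M.IsPrime] [Fintype G] in
theorem SamePair.unique_down {K : Subgroup G} {a a' : BrauerPairIdx K} {b : BrauerPairIdx G}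
    (h : SamePair a b) (h' : SamePair a' b) : a = a' := by
  obtain ⟨R, g⟩ := a
  obtain ⟨R', g'⟩ := a'
  obtain ⟨h1, φ, hφ, hm⟩ := h
  obtain ⟨h1', φ', hφ', hm'⟩ := h'
  obtain rfl : R = R' := Subgroup.map_injective K.subtype_injective (h1.trans h1'.symm)
  obtain rfl : φ = φ' := MulEquiv.ext fun c => Subtype.ext ((hφ c).trans (hφ' c).symm)
  exact congrArg (Sigma.mk _) (hm.symm.trans hm')

omit hM [Fact p.Prime] [M.IsPrime] in
theorem mem_pairStab_iff_conjPair {Q : Subgroup G}
    {f : Set (IrrCharacter (Subgroup.centralizer (Q : Set G)))} {x : G} :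
    x ∈ pairStab Q f ↔ conjPair x ⟨Q, f⟩ = ⟨Q, f⟩ := by
  constructor
  · rintro ⟨hn, hst⟩
    obtain ⟨hnC, hst'⟩ := stabilizesBlock_iff.1 hst
    rw [conjPair_self hn hnC, hst']
  · intro h
    have hn : x ∈ Subgroup.normalizer (Q : Set G) :=
      Subgroup.mem_normalizer_iff_map_conj_eq.2 (congrArg Sigma.fst h)
    have hnC := normalizer_le_normalizer_centralizer Q hn
    rw [conjPair_self hn hnC] at h
    refine ⟨hn, stabilizesBlock_iff.2 ⟨hnC, ?_⟩⟩
    simpa using h

variable {B : Set (IrrCharacter G)} {P : Subgroup G}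
  {c : Set (IrrCharacter (Subgroup.centralizer (P : Set G)))}
  (hmax : IsMaximalBrauerPair p M B P c) (hab : ∀ x ∈ P, ∀ y ∈ P, x * y = y * x)
include hmax hab

omit hM in
theorem le_centralizer_of_abelian {Q : Subgroup G} (hQP : Q ≤ P) :
    P ≤ Subgroup.centralizer (Q : Set G) := fun x hx =>
  Subgroup.mem_centralizer_iff.2 fun y hy => hab y (hQP hy) x hx

/-- The block induced inside `C(Q)` is nilpotent exactly when the stabilizer meets `C(Q)` in
`C(P)`. -/
theorem local_nilpotent_iff {Q : Subgroup G} (hQP : Q ≤ P) :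
    (∀ f : Set (IrrCharacter (Subgroup.centralizer (Q : Set G))),
      IsInducedBlockIn M (Subgroup.centralizer (Q : Set G)) (Subgroup.centralizer (P : Set G)) c f →
        IsNilpotentBlock p M f) ↔
    ∀ x ∈ pairStab P c, x ∈ Subgroup.centralizer (Q : Set G) →
      x ∈ Subgroup.centralizer (P : Set G) := by
  classical
  have hPC := le_centralizer_of_abelian hmax hab hQP
  have hCC : Subgroup.centralizer (P : Set G) ≤ Subgroup.centralizer (Q : Set G) :=
    centralizer_le_of_le hQP
  obtain ⟨f₀, hf₀, hle⟩ := exists_below hM (Nat.card P) (Nat.sub_le _ _) hmax.1.1 hQP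
  have hn : IsNormalSubpair p M Q f₀ P c :=
    (unique_below hM (Nat.card P) (Nat.sub_le _ _) hmax.1.1).1 f₀ hle
      (hPC.trans (centralizer_le_normalizer' Q))
  obtain ⟨a, ha⟩ := exists_samePair_down (b := (⟨P, c⟩ : BrauerPairIdx G)) hPC hCC
  have hco : ∀ k : Subgroup.centralizer (Q : Set G), blockCoeff f₀ k =
      subgroupBlockCoeff (Subgroup.centralizer (Q : Set G)) f₀ (k : G) := fun k => by
    unfold subgroupBlockCoeff
    rw [dif_pos k.2]
  have hpair : IsBrauerPairOf p M f₀ a.1 a.2 :=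
    ⟨ha.brauerPair_iff.2 hn.2.1, hn.1.2, (ha.memLocalIdeal_iff hco).2 hn.2.2.2.2.2⟩
  have haP : a.1 = P.subgroupOf (Subgroup.centralizer (Q : Set G)) :=
    Subgroup.map_injective (Subgroup.centralizer (Q : Set G)).subtype_injective
      (ha.1.trans (Subgroup.map_subgroupOf_eq_of_le hPC).symm)
  have haab : ∀ x ∈ a.1, ∀ y ∈ a.1, x * y = y * x := by
    rw [haP]
    exact fun x hx y hy => Subtype.ext (hab _ hx _ hy)
  have haC : a.1 ≤ Subgroup.centralizer (a.1 : Set (Subgroup.centralizer (Q : Set G))) :=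
    fun x hx => Subgroup.mem_centralizer_iff.2 fun y hy => haab y hy x hx
  have hdef : IsDefectGroup p M f₀ a.1 := by
    have hfc : (blockFusion hM hmax).IsFullyCentralized Q := by
      refine ⟨hQP, fun R hR => ?_⟩
      have hRP : R ≤ P := CfsgLib.Fusion.isConj_le_right hR
      rw [CfsgLib.Fusion.centralizerIn_eq_self hab hQP, CfsgLib.Fusion.centralizerIn_eq_self hab hRP]
    have h := (isFullyCentralized_iff (isBlockFusionSystemOn_blockFusion hM hmax) hM hle).1 hfc
    rwa [inf_eq_left.2 hPC, ← haP] at h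
  have hamax := isMaximal_of_isDefectGroup hM hpair hdef
  have huniq : ∀ f, IsInducedBlockIn M (Subgroup.centralizer (Q : Set G))
      (Subgroup.centralizer (P : Set G)) c f ↔ f = f₀ := fun f => by
    rw [inducedIn_iff ha, inducedFromCent_iff hM hpair.1.1 haC hpair.1.2]
    exact ⟨fun h => (existsUnique_block hM hpair.1).unique h hpair, fun h => h ▸ hpair⟩
  simp only [huniq, forall_eq]
  rw [nilpotent_iff_inertial_trivial (isBlockFusionSystemOn_blockFusion hM hamax) hM haab]
  have hcen : ∀ z : Subgroup.centralizer (Q : Set G),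
      z ∈ Subgroup.centralizer (a.1 : Set (Subgroup.centralizer (Q : Set G))) ↔
        (z : G) ∈ Subgroup.centralizer (P : Set G) := by
    intro z
    rw [haP]
    constructor
    · intro h
      exact Subgroup.mem_centralizer_iff.2 fun y hy =>
        congrArg Subtype.val (Subgroup.mem_centralizer_iff.1 h ⟨y, hPC hy⟩ hy)
    · intro h
      exact Subgroup.mem_centralizer_iff.2 fun y hy =>
        Subtype.ext (Subgroup.mem_centralizer_iff.1 h (y : G) hy)
  have hstab : ∀ z : Subgroup.centralizer (Q : Set G),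
      z ∈ pairStab a.1 a.2 ↔ (z : G) ∈ pairStab P c := by
    intro z
    rw [mem_pairStab_iff_conjPair, mem_pairStab_iff_conjPair]
    constructor
    · intro h
      have h1 := ha.conj z
      rw [h] at h1
      exact h1.unique ha
    · intro h
      have h1 := ha.conj z
      rw [h] at h1
      exact h1.unique_down ha
  exact ⟨fun h x hx hxQ => (hcen ⟨x, hxQ⟩).1 (h _ ((hstab ⟨x, hxQ⟩).2 hx)),
    fun h z hz => (hcen z).2 (h z ((hstab z).1 hz) z.2)⟩

/-- The block of `C(Q)` below the top pair is induced from it inside `C(Q)`. -/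
theorem inducedIn_of_subpair {Q : Subgroup G}
    {f : Set (IrrCharacter (Subgroup.centralizer (Q : Set G)))} (hle : SubpairLE p M Q f P c) :
    IsInducedBlockIn M (Subgroup.centralizer (Q : Set G)) (Subgroup.centralizer (P : Set G)) c f := by
  classical
  have hQP : Q ≤ P := le_of_subpairLE hle
  have hPC := le_centralizer_of_abelian hmax hab hQP
  have hn : IsNormalSubpair p M Q f P c :=
    (unique_below hM (Nat.card P) (Nat.sub_le _ _) hmax.1.1).1 f hle
      (hPC.trans (centralizer_le_normalizer' Q))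
  obtain ⟨a, ha⟩ := exists_samePair_down (b := (⟨P, c⟩ : BrauerPairIdx G)) hPC
    (centralizer_le_of_le hQP)
  have hco : ∀ k : Subgroup.centralizer (Q : Set G), blockCoeff f k =
      subgroupBlockCoeff (Subgroup.centralizer (Q : Set G)) f (k : G) := fun k => by
    unfold subgroupBlockCoeff
    rw [dif_pos k.2]
  have hpair : IsBrauerPairOf p M f a.1 a.2 :=
    ⟨ha.brauerPair_iff.2 hn.2.1, hn.1.2, (ha.memLocalIdeal_iff hco).2 hn.2.2.2.2.2⟩
  have haP : a.1 = P.subgroupOf (Subgroup.centralizer (Q : Set G)) :=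
    Subgroup.map_injective (Subgroup.centralizer (Q : Set G)).subtype_injective
      (ha.1.trans (Subgroup.map_subgroupOf_eq_of_le hPC).symm)
  have haC : a.1 ≤ Subgroup.centralizer (a.1 : Set (Subgroup.centralizer (Q : Set G))) := by
    rw [haP]
    exact fun x hx => Subgroup.mem_centralizer_iff.2 fun y hy => Subtype.ext (hab _ hy _ hx)
  exact (inducedIn_iff ha f).2 ((inducedFromCent_iff hM hpair.1.1 haC hpair.1.2 f).2 hpair)

theorem free_iff_local_nilpotent :
    (∀ g ∈ pairStab P c, ∀ x ∈ P, x ≠ 1 → g * x * g⁻¹ = x →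
      g ∈ Subgroup.centralizer (P : Set G)) ↔
    ∀ Q : Subgroup G, Q ≤ P → Q ≠ ⊥ →
      ∀ f : Set (IrrCharacter (Subgroup.centralizer (Q : Set G))),
        IsInducedBlockIn M (Subgroup.centralizer (Q : Set G)) (Subgroup.centralizer (P : Set G)) c f →
          IsNilpotentBlock p M f := by
  constructor
  · intro h Q hQP hQ
    refine (local_nilpotent_iff hM hmax hab hQP).2 fun g hg hgQ => ?_
    obtain ⟨x, hxQ, hx1⟩ := Q.bot_or_exists_ne_one.resolve_left hQ
    refine h g hg x (hQP hxQ) hx1 ?_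
    rw [← Subgroup.mem_centralizer_iff.1 hgQ x hxQ, mul_inv_cancel_right]
  · intro h g hg x hx hx1 hgx
    refine (local_nilpotent_iff hM hmax hab (Subgroup.zpowers_le.2 hx)).1
      (h _ (Subgroup.zpowers_le.2 hx) (Subgroup.zpowers_ne_bot.2 hx1)) g hg ?_
    refine Subgroup.mem_centralizer_iff.2 fun y hy => ?_
    obtain ⟨n, rfl⟩ := Subgroup.mem_zpowers_iff.1 hy
    exact ((show Commute g x from mul_inv_eq_iff_eq_mul.1 hgx).zpow_right n).eq.symm

end CfsgLib.Pairs
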