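import Cfsg.Agent.Lib.Pairs.Maximal
import Cfsg.Agent.Lib.Blocks.RegCut
import Cfsg.Agent.Lib.Blocks.QuotientBlocks

/-!
# Brauer's criterion for a maximal Brauer pair
-/

namespace CfsgLib.Pairs

open Cfsg CfsgLib.Blocks MonoidAlgebra

variable {G : Type*} [Group G]

/-- Elements centralizing `H` stabilize every set of its characters. -/
theorem stabilizesBlock_of_commute {H : Subgroup G} {e : Set (IrrCharacter H)} {x : G}
    (h : ∀ k ∈ H, x * k = k * x) : StabilizesBlock H e x := by
  refine ⟨Subgroup.mem_normalizer_iff.2 fun k => ⟨fun hk => ?_, fun hk => ?_⟩,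
    fun χ hχ => ⟨χ, hχ, fun k k' hk => ?_⟩⟩
  · rwa [h k hk, mul_inv_cancel_right]
  · have e' := h _ hk
    have e2 : k = x * k * x⁻¹ :=
      calc k = x⁻¹ * (x * k * x⁻¹ * x) := by group
        _ = x⁻¹ * (x * (x * k * x⁻¹)) := by rw [e']
        _ = x * k * x⁻¹ := by group
    rwa [e2]
  · rw [show k' = k from Subtype.ext (by rw [hk, h k k.2, mul_inv_cancel_right])]

variable [Fintype G] {p : ℕ} [Fact p.Prime] {M : Ideal AlgInt} [M.IsPrime]
  (hM : IsPModular p M) {Q : Subgroup G}
  {e : Set (IrrCharacter (Subgroup.centralizer (Q : Set G)))} (hQe : IsBrauerPair p M Q e)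

/-- The elements of `N(Q)` stabilizing `e`. -/
def critStab (Q : Subgroup G) (e : Set (IrrCharacter (Subgroup.centralizer (Q : Set G)))) :
    Subgroup G where
  carrier := {x | x ∈ Subgroup.normalizer (Q : Set G) ∧
    StabilizesBlock (Subgroup.centralizer (Q : Set G)) e x}
  one_mem' := ⟨one_mem _, stabilizesBlock_of_commute fun k _ => by simp⟩
  mul_mem' := by
    rintro a b ⟨ha, han, hea⟩ ⟨hb, hbn, heb⟩
    refine ⟨mul_mem ha hb, mul_mem han hbn, fun χ hχ => ?_⟩
    obtain ⟨χ₁, hχ₁, h₁⟩ := heb χ hχ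
    obtain ⟨χ₂, hχ₂, h₂⟩ := hea χ₁ hχ₁
    refine ⟨χ₂, hχ₂, fun k k' hk => ?_⟩
    rw [h₂ ⟨b * k * b⁻¹, (mem_normalizer_conj hbn k).1 k.2⟩ k'
      (by rw [hk]; group), h₁ k _ rfl]
  inv_mem' := by
    rintro a ⟨ha, han, hea⟩
    refine ⟨inv_mem ha, inv_mem han, fun χ hχ => ?_⟩
    obtain ⟨hx, hx'⟩ := stabilizesBlock_iff.1 (show StabilizesBlock _ e a from ⟨han, hea⟩)
    obtain ⟨ψ, hψ, rfl⟩ : χ ∈ mapBlock (conjEquiv _ _ a (mem_normalizer_conj hx)).symm e := by
      have : χ ∈ conjSelf hx e := by rw [hx']; exact hχ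
      exact this
    refine ⟨ψ, hψ, fun k k' hk => ?_⟩
    rw [mapIrr_apply]
    exact congrArg _ (Subtype.ext (by rw [conjEquiv_symm_apply, hk, inv_inv]))

omit [Fact p.Prime] [M.IsPrime] in
theorem mem_critStab {x : G} : x ∈ critStab Q e ↔ x ∈ Subgroup.normalizer (Q : Set G) ∧
    StabilizesBlock (Subgroup.centralizer (Q : Set G)) e x := Iff.rfl

omit [Fact p.Prime] [M.IsPrime] in
theorem le_critStab : Q ≤ critStab Q e := fun _ hx =>
  ⟨Subgroup.le_normalizer hx, stabilizesBlock_of_commute fun _ hk =>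
    Subgroup.mem_centralizer_iff.1 hk _ hx⟩

omit [Fact p.Prime] [M.IsPrime] in
theorem centralizer_le_critStab : Subgroup.centralizer (Q : Set G) ≤ critStab Q e := fun _ hx =>
  ⟨centralizer_le_normalizer' Q hx, stabilizesBlock_of_mem hx⟩

include hM hQe

/-- A larger `p`-subgroup of the stabilizer centralizing a point of the support contradicts
maximality. -/
theorem eq_of_centralizes_support {B : Set (IrrCharacter G)}
    (hmax : IsMaximalBrauerPair p M B Q e) {R : Subgroup G} (hR : IsPGroup p R) (hQR : Q ≤ R)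
    (hRst : R ≤ critStab Q e) {c : Subgroup.centralizer (Q : Set G)}
    (hc : (c : G) ∈ Subgroup.centralizer (R : Set G)) (hne : (blockIdemBar M e).coeff c ≠ 0) :
    R = Q := by
  classical
  have := charP_residueField hM
  set a := subIdem M (Subgroup.centralizer (Q : Set G)) e with ha
  have hiR : InvUnder R a := invUnder_subIdem hQe.2 fun u hu => (hRst hu).2
  have hiC : InvUnder (Subgroup.centralizer (R : Set G)) a :=
    invUnder_subIdem hQe.2 fun u hu => stabilizesBlock_of_mem (centralizer_le_of_le hQR hu)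
  have haa : a * a = a := by rw [ha, subIdem, ← map_mul, blockIdemBar_mul_self hQe.2]
  obtain ⟨ξ, hξ⟩ := exists_omegaBar_eq_one (isCentralElt_resC hiC)
    (by rw [← resC_mul hR hiR hiR, haa]) (fun h0 => hne (by
      rw [← coeff_inclElt (Subgroup.centralizer (Q : Set G)) _ c]
      exact (coeff_resC R _ ⟨(c : G), hc⟩).symm.trans (congrArg (fun z => z.coeff ⟨(c : G), hc⟩) h0)))
  have hrel : IsNormalSubpair p M Q e R (blockOf M (ξ : Subgroup.centralizer (R : Set G) → ℂ)) :=
    normalSubpair_of_rep hQe ⟨hR, isPBlock_blockOf ξ⟩ hQR (fun u hu => (hRst hu).1)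
      (fun u hu => (hRst hu).2) (mem_blockOf_self ξ) hξ
  exact hmax.2 R _ ((normalSubpair_pairOf_iff hM hrel B).2 hmax.1) (Relation.ReflTransGen.single hrel)

/-- The center of `Q` inside `C(Q)`. -/
theorem subgroupOf_le_center :
    Q.subgroupOf (Subgroup.centralizer (Q : Set G)) ≤
      Subgroup.center (Subgroup.centralizer (Q : Set G)) := fun z hz =>
  Subgroup.mem_center_iff.2 fun g => Subtype.ext
    (Subgroup.mem_centralizer_iff.1 g.2 _ (Subgroup.mem_subgroupOf.1 hz)).symm

/-- For a maximal pair, `Z(Q)` is the defect group of `e`. -/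
theorem isDefectGroup_center_of_maximal {B : Set (IrrCharacter G)}
    (hmax : IsMaximalBrauerPair p M B Q e) :
    IsDefectGroup p M e (Q.subgroupOf (Subgroup.centralizer (Q : Set G))) := by
  classical
  have := Fintype.ofFinite (Subgroup.centralizer (Q : Set G))
  obtain ⟨D, hD⟩ := exists_isDefectGroup (p := p) hQe.2
  obtain ⟨c, hc, hle, hs⟩ := isDefectGroup_iff.1 hD
  have : (Q.subgroupOf (Subgroup.centralizer (Q : Set G))).Normal := ⟨fun n hn g => by
    rw [Subgroup.mem_center_iff.1 (subgroupOf_le_center hM hQe hn) g, mul_inv_cancel_right]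
    exact hn⟩
  have hWp : IsPGroup p (Q.subgroupOf (Subgroup.centralizer (Q : Set G))) :=
    hQe.1.comap_of_injective _ (Subgroup.subtype_injective _)
  have hWD := IsDefectGroup.normal_le hM hQe.2 hD (P := Q.subgroupOf (Subgroup.centralizer (Q : Set G))) hWp
  suffices hsub : D ≤ Q.subgroupOf (Subgroup.centralizer (Q : Set G)) by rwa [le_antisymm hsub hWD] at hD
  set D' : Subgroup G := D.map (Subgroup.centralizer (Q : Set G)).subtype
  have hDn : D' ≤ Subgroup.normalizer (Q : Set G) :=
    (Subgroup.map_subtype_le D).trans (centralizer_le_normalizer' Q)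
  have hp : IsPGroup p (Q ⊔ D' : Subgroup G) :=
    IsPGroup.to_sup_of_normal_left' hQe.1 ((IsDefectGroup.isPGroup hD).map _) hDn
  have hR := eq_of_centralizes_support hM hQe hmax hp le_sup_left
    (sup_le le_critStab ((Subgroup.map_subtype_le D).trans centralizer_le_critStab)) (c := c) ?_
    (IsDefectClass.coeff_ne_zero hQe.2 hc)
  · intro d hd
    exact Subgroup.mem_subgroupOf.2
      (hR.le ((le_sup_right : D' ≤ Q ⊔ D') (Subgroup.mem_map_of_mem (Subgroup.centralizer (Q : Set G)).subtype hd)))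
  · rw [mem_centralizer_iff_le]
    refine sup_le (fun q hq => ?_) ?_
    · rw [mem_centralizer_singleton]
      exact Subgroup.mem_centralizer_iff.1 c.2 q hq
    · rintro _ ⟨d, hd, rfl⟩
      rw [mem_centralizer_singleton]
      exact (mem_centralizer_singleton.1 (hle hd)).map (Subgroup.centralizer (Q : Set G)).subtype

/-- For a maximal pair the stabilizer of `e` has `p'`-index over `Q C(Q)`. -/
theorem mem_sup_of_maximal {B : Set (IrrCharacter G)} (hmax : IsMaximalBrauerPair p M B Q e)
    {g : G} (hg : g ∈ Subgroup.normalizer (Q : Set G))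
    (hst : StabilizesBlock (Subgroup.centralizer (Q : Set G)) e g)
    (hord : ∃ k : ℕ, orderOf g = p ^ k) : g ∈ Q ⊔ Subgroup.centralizer (Q : Set G) := by
  classical
  have := Fintype.ofFinite (Subgroup.centralizer (Q : Set G))
  have := Fintype.ofFinite (ConjClasses (Subgroup.centralizer (Q : Set G)))
  have := charP_residueField hM
  obtain ⟨k, hk⟩ := hord
  obtain ⟨χ, hχ⟩ := IsPBlock.nonempty hQe.2
  set U : Subgroup G := Subgroup.zpowers g
  have hU : IsPGroup p U := IsPGroup.of_card (n := k) (by rw [Nat.card_zpowers, hk])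
  have hUst : U ≤ critStab Q e := Subgroup.zpowers_le.2 ⟨hg, hst⟩
  have hUn : ∀ u : U, ∀ h : (Subgroup.centralizer (Q : Set G)), (u : G) * h * (u : G)⁻¹ ∈ (Subgroup.centralizer (Q : Set G)) := fun u h =>
    (mem_normalizer_conj (hUst u.2).2.1 h).1 h.2
  let φ : U → ((Subgroup.centralizer (Q : Set G)) →* (Subgroup.centralizer (Q : Set G))) := fun u =>
    ((MulAut.conj (u : G)).toMonoidHom.comp (Subgroup.centralizer (Q : Set G)).subtype).codRestrict (Subgroup.centralizer (Q : Set G)) (hUn u)
  let act : MulAction U (ConjClasses (Subgroup.centralizer (Q : Set G))) :=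
    { smul := fun u C => C.map (φ u)
      one_smul := fun C => by
        obtain ⟨c, rfl⟩ := ConjClasses.exists_rep C
        exact congrArg ConjClasses.mk (Subtype.ext (by simp [φ]))
      mul_smul := fun a b C => by
        obtain ⟨c, rfl⟩ := ConjClasses.exists_rep C
        exact congrArg ConjClasses.mk (Subtype.ext (by simp [φ, mul_assoc])) }
  let f : ConjClasses (Subgroup.centralizer (Q : Set G)) → Res M := fun K =>
    (blockIdemBar M e).coeff (Quotient.out K) * centralCharBar M χ (Quotient.out K)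
  have hsum : ∑ K, f K = 1 := by
    refine Eq.trans ?_ (((omegaBar_blockIdemBar hQe.2 χ).trans (if_pos hχ)))
    exact Finset.sum_congr (by ext; simp) fun _ _ => rfl
  have hinv : ∀ (u : U) (K : ConjClasses (Subgroup.centralizer (Q : Set G))), f (u • K) = f K := by
    intro u K
    obtain ⟨h, rfl⟩ := ConjClasses.exists_rep K
    have hcls : ∀ h₀ : (Subgroup.centralizer (Q : Set G)), IsConj (Quotient.out (ConjClasses.mk h₀)) h₀ := fun h₀ =>
      ConjClasses.mk_eq_mk_iff_isConj.1 (Quotient.out_eq _)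
    have hc₀ : ∀ h₀ : (Subgroup.centralizer (Q : Set G)), f (ConjClasses.mk h₀) =
        (blockIdemBar M e).coeff h₀ * centralCharBar M χ h₀ := fun h₀ => by
      obtain ⟨d, hd⟩ := isConj_iff.1 (hcls h₀).symm
      simp only [f]
      rw [← omegaBar_classSum χ (Quotient.out (ConjClasses.mk h₀)), omegaBar_classSum]
      congr 1
      · rw [← hd]
        exact isCentralElt_blockIdemBar hQe.2 h₀ d
      · rw [centralCharBar, centralCharBar]
        congr 1
        exact Subtype.ext (centralChar_eq_of_isConj (Char.IsIrr.isClassFunction χ.2) (hcls h₀))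
    show f (ConjClasses.mk (φ u h)) = f (ConjClasses.mk h)
    rw [hc₀, hc₀]
    congr 1
    · have := invUnder_subIdem hQe.2 (P := U) (fun x hx => (hUst hx).2) u u.2 h
      rw [subIdem, coeff_inclElt (Subgroup.centralizer (Q : Set G)) _ h] at this
      exact (coeff_inclElt (Subgroup.centralizer (Q : Set G)) _ (φ u h)).symm.trans this
    · obtain ⟨hx, hx'⟩ := stabilizesBlock_iff.1 (hUst (inv_mem u.2)).2
      have hψ : mapIrr (conjEquiv _ _ (u : G)⁻¹ (mem_normalizer_conj hx)).symm χ ∈ e := by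
        have h2 : mapIrr (conjEquiv _ _ (u : G)⁻¹ (mem_normalizer_conj hx)).symm χ ∈ conjSelf hx e :=
          ⟨χ, hχ, rfl⟩
        rwa [hx'] at h2
      rw [← omegaBar_classSum χ h, ← omegaBar_congr (IsPBlock.sameBlock hQe.2 hψ hχ),
        omegaBar_classSum, centralCharBar, centralCharBar]
      congr 1
      refine Subtype.ext ?_
      show centralChar _ (φ u h) = centralChar _ h
      rw [centralChar_mapIrr]
      exact congrArg _ (Subtype.ext (by simp [φ]))
  rw [sum_eq_sum_fixedPoints hU f hinv] at hsum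
  obtain ⟨K, hK, hKne⟩ := Finset.exists_ne_zero_of_sum_ne_zero (hsum.trans_ne one_ne_zero)
  have hfix := (Finset.mem_filter.1 hK).2 ⟨g, Subgroup.mem_zpowers g⟩
  set c := Quotient.out K with hc
  have hKc : ConjClasses.mk c = K := Quotient.out_eq K
  rw [← hKc] at hfix
  obtain ⟨d, hd⟩ := isConj_iff.1 (ConjClasses.mk_eq_mk_iff_isConj.1
    (show ConjClasses.mk (φ ⟨g, Subgroup.mem_zpowers g⟩ c) = ConjClasses.mk c from hfix))
  set g' : G := (d : G) * g
  have hg'c : g' * c * g'⁻¹ = (c : G) := by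
    have := congrArg Subtype.val hd
    simp only [φ, Subgroup.coe_mul, Subgroup.coe_inv, MonoidHom.codRestrict_apply, MonoidHom.coe_comp,
      Function.comp_apply, MulEquiv.coe_toMonoidHom, MulAut.conj_apply, Subgroup.coe_subtype] at this
    calc g' * c * g'⁻¹ = (d : G) * (g * c * g⁻¹) * (d : G)⁻¹ := by simp only [g']; group
      _ = _ := this
  have hg'st : g' ∈ critStab Q e := mul_mem (centralizer_le_critStab d.2) ⟨hg, hst⟩
  obtain ⟨m, hm, hmp⟩ := exists_factorization (p := p) (orderOf_pos g').ne'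
  have hord' : orderOf (g' ^ m) = p ^ (orderOf g').factorization p := by
    rw [orderOf_pow_of_dvd (by rintro rfl; exact hmp (dvd_zero p)) ⟨_, hm.trans (mul_comm _ _)⟩,
      Nat.div_eq_iff_eq_mul_left (Nat.pos_of_ne_zero (by rintro rfl; exact hmp (dvd_zero p)))
        ⟨_, hm.trans (mul_comm _ _)⟩]
    exact hm
  have hle : Subgroup.zpowers (g' ^ m) ≤ critStab Q e :=
    Subgroup.zpowers_le.2 (pow_mem hg'st m)
  have hR := eq_of_centralizes_support hM hQe hmax (R := Q ⊔ Subgroup.zpowers (g' ^ m))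
    (IsPGroup.to_sup_of_normal_left' hQe.1
      (IsPGroup.of_card (by rw [Nat.card_zpowers, hord']))
      (fun x hx => (hle hx).1))
    le_sup_left (sup_le le_critStab hle) (c := c) ?_ (left_ne_zero_of_mul hKne)
  · have hdiff : ∀ j : ℕ, g' ^ j * (g ^ j)⁻¹ ∈ (Subgroup.centralizer (Q : Set G)) := by
      intro j
      induction j with
      | zero => simp
      | succ j ih =>
        rw [pow_succ', pow_succ',
          show g' * g' ^ j * (g * g ^ j)⁻¹ = (d : G) * (g * (g' ^ j * (g ^ j)⁻¹) * g⁻¹) by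
            simp only [g']; group]
        exact mul_mem d.2 ((mem_normalizer_conj hst.1 _).1 ih)
    have hgm : g ^ m ∈ Q ⊔ (Subgroup.centralizer (Q : Set G)) := by
      rw [show g ^ m = (g' ^ m * (g ^ m)⁻¹)⁻¹ * g' ^ m by group]
      exact mul_mem (inv_mem ((le_sup_right : (Subgroup.centralizer (Q : Set G)) ≤ Q ⊔ (Subgroup.centralizer (Q : Set G))) (hdiff m)))
        ((le_sup_left : Q ≤ Q ⊔ (Subgroup.centralizer (Q : Set G)))
          (hR.le ((le_sup_right : Subgroup.zpowers (g' ^ m) ≤ _) (Subgroup.mem_zpowers _))))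
    obtain ⟨l, hl⟩ := exists_pow_eq_self_of_coprime (x := g) (n := m) (by
      rw [hk]
      exact Nat.Coprime.pow_right k ((Nat.Prime.coprime_iff_not_dvd hM.1).2 hmp).symm)
    rw [← hl]
    exact pow_mem hgm l
  · rw [mem_centralizer_iff_le]
    refine sup_le (fun q hq => ?_) (Subgroup.zpowers_le.2 (pow_mem ?_ m))
    · rw [mem_centralizer_singleton]
      exact Subgroup.mem_centralizer_iff.1 c.2 q hq
    · exact mem_centralizer_singleton.2 (mul_inv_eq_iff_eq_mul.1 hg'c)

end CfsgLib.Pairs
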