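import Cfsg.Agent.Lib.Pairs.Nilpotent

/-!
# The local blocks of a nilpotent block
-/

namespace CfsgLib.Pairs

open Cfsg CfsgLib.Blocks

variable {G : Type*} [Group G] [Fintype G] {M : Ideal AlgInt} [M.IsPrime] {p : ℕ} [Fact p.Prime]
  {B : Set (IrrCharacter G)} (hM : IsPModular p M) (hnil : IsNilpotentBlock p M B)
  {Q : Subgroup G} {f : Set (IrrCharacter (Subgroup.centralizer (Q : Set G)))}
include hM hnil

theorem isNilpotentBlock_local (hQf : IsBrauerPairOf p M B Q f) : IsNilpotentBlock p M f := by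
  refine ⟨hQf.1.2, fun R h hRh x hxN hxst hxreg => ?_⟩
  set Y : Subgroup G := R.map (Subgroup.centralizer (Q : Set G)).subtype ⊔ Q with hYdef
  have hRY : ∀ r ∈ R, ((r : Subgroup.centralizer (Q : Set G)) : G) ∈ Y := fun r hr =>
    Subgroup.mem_sup_left (Subgroup.mem_map_of_mem _ hr)
  have hYC : Subgroup.centralizer (Y : Set G) ≤ Subgroup.centralizer (Q : Set G) :=
    centralizer_le_of_le le_sup_right
  let φ : Subgroup.centralizer (R : Set (Subgroup.centralizer (Q : Set G))) ≃*
      Subgroup.centralizer (Y : Set G) :=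
    { toFun := fun c => ⟨((c : Subgroup.centralizer (Q : Set G)) : G), by
        rw [mem_centralizer_iff_le, hYdef, sup_le_iff, ← mem_centralizer_iff_le,
          ← mem_centralizer_iff_le]
        refine ⟨Subgroup.mem_centralizer_iff.2 ?_, (c : Subgroup.centralizer (Q : Set G)).2⟩
        rintro _ ⟨r, hr, rfl⟩
        exact congrArg Subtype.val (Subgroup.mem_centralizer_iff.1 c.2 r hr)⟩
      invFun := fun c => ⟨⟨(c : G), hYC c.2⟩, Subgroup.mem_centralizer_iff.2 fun r hr =>
        Subtype.ext (Subgroup.mem_centralizer_iff.1 c.2 _ (hRY r hr))⟩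
      left_inv := fun c => rfl
      right_inv := fun c => rfl
      map_mul' := fun a b => rfl }
  have hYN : Y ≤ Subgroup.normalizer (Q : Set G) :=
    sup_le ((Subgroup.map_subtype_le R).trans (centralizer_le_normalizer' Q)) Subgroup.le_normalizer
  have hYp : IsPGroup p Y := IsPGroup.to_sup_of_normal_right' (hRh.1.1.map _) hQf.1.1
    ((Subgroup.map_subtype_le R).trans (centralizer_le_normalizer' Q))
  have hYst : Y ≤ pairStab Q f :=
    sup_le ((Subgroup.map_subtype_le R).trans (centralizer_le_pairStab Q f)) (le_pairStab Q f)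
  have hnorm : IsNormalSubpair p M Q f Y (mapBlock φ.symm h) := by
    refine ⟨hQf.1, ⟨hYp, isPBlock_mapBlock _ hRh.1.2⟩, le_sup_right, hYN,
      fun u hu => (hYst hu).2, fun ξ hξ => ?_⟩
    obtain ⟨η, hη, rfl⟩ := hξ
    have h1 := brauerOmega_same (K := Subgroup.centralizer (Q : Set G)) (a := ⟨R, h⟩)
      (b := ⟨Y, mapBlock φ.symm h⟩) φ (fun _ => rfl) (blockCoeff f)
      (subgroupBlockCoeff (Subgroup.centralizer (Q : Set G)) f) (fun k => by
        unfold subgroupBlockCoeff
        rw [dif_pos k.2]) (mapIrr φ.symm η)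
    rw [mapIrr_symm] at h1
    rw [← h1]
    exact hRh.2.2 η hη
  have hYf := (normalSubpair_pairOf_iff hM hnorm B).2 hQf
  have hxY : (x : G) ∈ Subgroup.normalizer (Y : Set G) := by
    rw [Subgroup.mem_normalizer_iff_map_conj_eq, hYdef, Subgroup.map_sup, Subgroup.map_map]
    congr 1
    · rw [show (MulAut.conj (x : G) : G →* G).comp (Subgroup.centralizer (Q : Set G)).subtype =
        (Subgroup.centralizer (Q : Set G)).subtype.comp (MulAut.conj x : _ →* _) from rfl,
        ← Subgroup.map_map, Subgroup.mem_normalizer_iff_map_conj_eq.1 hxN]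
    · exact Subgroup.mem_normalizer_iff_map_conj_eq.1 (centralizer_le_normalizer' Q x.2)
  have hxst' : StabilizesBlock (Subgroup.centralizer (Y : Set G)) (mapBlock φ.symm h) (x : G) := by
    refine ⟨normalizer_le_normalizer_centralizer Y hxY, ?_⟩
    rintro _ ⟨η, hη, rfl⟩
    obtain ⟨η', hη', hc⟩ := hxst.2 η hη
    refine ⟨_, ⟨η', hη', rfl⟩, fun k k' hk => ?_⟩
    rw [mapIrr_apply, mapIrr_apply]
    exact hc (φ.symm k) (φ.symm k') (Subtype.ext hk)
  have hreg : IsPRegular p (x : G) := by
    unfold IsPRegular at hxreg ⊢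
    rwa [Subgroup.orderOf_coe]
  have hxC := hnil.2 Y _ hYf (x : G) hxY hxst' hreg
  exact Subgroup.mem_centralizer_iff.2 fun r hr =>
    Subtype.ext (Subgroup.mem_centralizer_iff.1 hxC _ (hRY r hr))

theorem isDefectGroup_local {P : Subgroup G}
    {e : Set (IrrCharacter (Subgroup.centralizer (P : Set G)))}
    (hmax : IsMaximalBrauerPair p M B P e) (hle : SubpairLE p M Q f P e) :
    IsDefectGroup p M f ((P ⊓ Subgroup.centralizer (Q : Set G)).subgroupOf
      (Subgroup.centralizer (Q : Set G))) :=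
  (isFullyCentralized_iff (isBlockFusionSystemOn_blockFusion hM hmax) hM hle).1
    (isFullyCentralized_of_nilpotent (isBlockFusionSystemOn_blockFusion hM hmax) hM hnil
      (le_of_subpairLE hle))

end CfsgLib.Pairs
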