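import Cfsg.Agent.Lib.Pairs.Idx
import Cfsg.Agent.Lib.Blocks.FirstMain

/-!
# Maximal Brauer pairs: the subgroup is a defect group, and all are conjugate
-/

namespace CfsgLib.Pairs

open Cfsg CfsgLib.Blocks MonoidAlgebra

variable {G : Type*} [Group G]

theorem normalizer_conj_centralizer {P : Subgroup G} (n : Subgroup.normalizer (P : Set G)) :
    (n : G) ∈ Subgroup.normalizer (Subgroup.centralizer (P : Set G) : Set G) :=
  normalizer_le_normalizer_centralizer P n.2

/-- The group algebra of `C(P)` inside the group algebra of `N(P)`. -/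
noncomputable def toN {R : Type*} [Semiring R] (P : Subgroup G) :
    MonoidAlgebra R (Subgroup.centralizer (P : Set G)) →+*
      MonoidAlgebra R (Subgroup.normalizer (P : Set G)) :=
  mapDomainRingHom R (Subgroup.inclusion (centralizer_le_normalizer' P))

theorem coeff_toN {R : Type*} [Semiring R] (P : Subgroup G)
    (a : MonoidAlgebra R (Subgroup.centralizer (P : Set G))) (c : Subgroup.centralizer (P : Set G)) :
    (toN P a).coeff ⟨(c : G), centralizer_le_normalizer' P c.2⟩ = a.coeff c :=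
  Finsupp.mapDomain_apply (Subgroup.inclusion_injective (centralizer_le_normalizer' P)) a.coeff c

theorem coeff_toN_of_notMem {R : Type*} [Semiring R] (P : Subgroup G)
    (a : MonoidAlgebra R (Subgroup.centralizer (P : Set G))) {n : Subgroup.normalizer (P : Set G)}
    (hn : (n : G) ∉ Subgroup.centralizer (P : Set G)) : (toN P a).coeff n = 0 :=
  Finsupp.mapDomain_of_notMem_range a.coeff n (by rintro ⟨c, rfl⟩; exact hn c.2)

theorem inclElt_toN {R : Type*} [Semiring R] (P : Subgroup G)
    (a : MonoidAlgebra R (Subgroup.centralizer (P : Set G))) :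
    inclElt (Subgroup.normalizer (P : Set G)) (toN P a) =
      inclElt (Subgroup.centralizer (P : Set G)) a := by
  refine MonoidAlgebra.ext (Finsupp.ext fun g => ?_)
  by_cases hg : g ∈ Subgroup.normalizer (P : Set G)
  · rw [coeff_inclElt _ _ ⟨g, hg⟩]
    by_cases hc : g ∈ Subgroup.centralizer (P : Set G)
    · rw [coeff_inclElt _ _ ⟨g, hc⟩]
      exact coeff_toN P a ⟨g, hc⟩
    · rw [coeff_toN_of_notMem P a hc, coeff_inclElt_of_notMem _ _ hc]
  · rw [coeff_inclElt_of_notMem _ _ hg,
      coeff_inclElt_of_notMem _ _ fun h => hg (centralizer_le_normalizer' P h)]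

theorem toN_injective {R : Type*} [Semiring R] (P : Subgroup G) :
    Function.Injective (toN (R := R) P) := fun a b h =>
  MonoidAlgebra.ext (Finsupp.ext fun c => by rw [← coeff_toN P a c, h, coeff_toN])

theorem isCentralElt_toN [Finite G] {R : Type*} [Semiring R] (P : Subgroup G)
    {a : MonoidAlgebra R (Subgroup.centralizer (P : Set G))}
    (ha : ∀ (n : Subgroup.normalizer (P : Set G)) (c c' : Subgroup.centralizer (P : Set G)),
      (c' : G) = n * c * (n : G)⁻¹ → a.coeff c' = a.coeff c) :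
    IsCentralElt (toN P a) := by
  intro k n
  by_cases hk : (k : G) ∈ Subgroup.centralizer (P : Set G)
  · have hk' : ((n * k * n⁻¹ : Subgroup.normalizer (P : Set G)) : G) ∈
        Subgroup.centralizer (P : Set G) := (conj_centralizer_iff n.2 (k : G)).1 hk
    refine (coeff_toN P a ⟨_, hk'⟩).trans ?_
    rw [ha n ⟨(k : G), hk⟩ ⟨_, hk'⟩ rfl]
    exact (coeff_toN P a ⟨(k : G), hk⟩).symm
  · rw [coeff_toN_of_notMem P a hk,
      coeff_toN_of_notMem P a fun h => hk ((conj_centralizer_iff n.2 (k : G)).2 h)]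

open scoped Classical in
/-- The conjugates of a block of `C(P)` under `N(P)`. -/
noncomputable def orbit [Finite G] (P : Subgroup G)
    (e : Set (IrrCharacter (Subgroup.centralizer (P : Set G)))) :
    Finset (Set (IrrCharacter (Subgroup.centralizer (P : Set G)))) :=
  (Finset.univ : Finset (Subgroup.normalizer (P : Set G))).image fun n =>
    conjSelf (normalizer_conj_centralizer n) e

theorem mem_orbit [Finite G] {P : Subgroup G}
    {e h : Set (IrrCharacter (Subgroup.centralizer (P : Set G)))} :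
    h ∈ orbit P e ↔
      ∃ n : Subgroup.normalizer (P : Set G), conjSelf (normalizer_conj_centralizer n) e = h := by
  classical
  simp [orbit]

theorem self_mem_orbit [Finite G] (P : Subgroup G)
    (e : Set (IrrCharacter (Subgroup.centralizer (P : Set G)))) : e ∈ orbit P e :=
  mem_orbit.2 ⟨1, conjSelf_one _ e⟩

theorem conjSelf_mem_orbit [Finite G] {P : Subgroup G}
    {e h : Set (IrrCharacter (Subgroup.centralizer (P : Set G)))}
    (n : Subgroup.normalizer (P : Set G)) (hh : h ∈ orbit P e) :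
    conjSelf (normalizer_conj_centralizer n) h ∈ orbit P e := by
  obtain ⟨m, rfl⟩ := mem_orbit.1 hh
  exact mem_orbit.2 ⟨n * m,
    conjSelf_mul (normalizer_conj_centralizer n) (normalizer_conj_centralizer m) e⟩

variable [Fintype G] {M : Ideal AlgInt} [M.IsPrime]

omit [M.IsPrime] in
theorem isPBlock_of_mem_orbit {P : Subgroup G}
    {e h : Set (IrrCharacter (Subgroup.centralizer (P : Set G)))} (he : IsPBlock M e)
    (hh : h ∈ orbit P e) : IsPBlock M h := by
  obtain ⟨n, rfl⟩ := mem_orbit.1 hh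
  exact isPBlock_conjSelf _ he

/-- The sum of the idempotents of the conjugates of a block of `C(P)`. -/
noncomputable def orbitIdem (M : Ideal AlgInt) [M.IsPrime] (P : Subgroup G)
    (e : Set (IrrCharacter (Subgroup.centralizer (P : Set G)))) :
    MonoidAlgebra (Res M) (Subgroup.centralizer (P : Set G)) :=
  ∑ h ∈ orbit P e, blockIdemBar M h

variable {P : Subgroup G} {e : Set (IrrCharacter (Subgroup.centralizer (P : Set G)))}

theorem isCentralElt_orbitIdem (he : IsPBlock M e) : IsCentralElt (orbitIdem M P e) :=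
  IsCentralElt.sum _ fun _ hh => isCentralElt_blockIdemBar (isPBlock_of_mem_orbit he hh)

theorem orbitIdem_mul_self (he : IsPBlock M e) :
    orbitIdem M P e * orbitIdem M P e = orbitIdem M P e := by
  classical
  rw [orbitIdem, Finset.sum_mul_sum]
  refine Finset.sum_congr rfl fun h hh => ?_
  rw [Finset.sum_eq_single h]
  · exact blockIdemBar_mul_self (isPBlock_of_mem_orbit he hh)
  · exact fun h' hh' hne => blockIdemBar_mul_of_ne (isPBlock_of_mem_orbit he hh)
      (isPBlock_of_mem_orbit he hh') (Ne.symm hne)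
  · exact fun h0 => absurd hh h0

open scoped Classical in
theorem omegaBar_orbitIdem (he : IsPBlock M e)
    (χ : IrrCharacter (Subgroup.centralizer (P : Set G))) :
    omegaBar χ (orbitIdem M P e) =
      if blockOf M (χ : Subgroup.centralizer (P : Set G) → ℂ) ∈ orbit P e then 1 else 0 := by
  rw [orbitIdem, omegaBar_sum]
  have h1 : ∀ h ∈ orbit P e, omegaBar χ (blockIdemBar M h) =
      if h = blockOf M (χ : Subgroup.centralizer (P : Set G) → ℂ) then 1 else 0 := by
    intro h hh
    have hb := isPBlock_of_mem_orbit he hh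
    rw [omegaBar_blockIdemBar hb]
    refine if_congr ⟨fun hχ => IsPBlock.eq_blockOf hb hχ, fun e' => ?_⟩ rfl rfl
    rw [e']
    exact mem_blockOf_self χ
  rw [Finset.sum_congr rfl h1, Finset.sum_ite_eq']

theorem coeff_orbitIdem_conj (he : IsPBlock M e) (n : Subgroup.normalizer (P : Set G))
    (c c' : Subgroup.centralizer (P : Set G)) (hc : (c' : G) = n * c * (n : G)⁻¹) :
    (orbitIdem M P e).coeff c' = (orbitIdem M P e).coeff c := by
  classical
  simp only [orbitIdem, coeff_sum, Finsupp.coe_finsetSum, Finset.sum_apply]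
  refine (Finset.sum_bij' (fun h _ => conjSelf (normalizer_conj_centralizer n) h)
    (fun h _ => conjSelf (normalizer_conj_centralizer n⁻¹) h)
    (fun h hh => conjSelf_mem_orbit n hh) (fun h hh => conjSelf_mem_orbit n⁻¹ hh) ?_ ?_ ?_).symm
  · intro h _
    rw [← conjSelf_mul, conjSelf_eq (show ((n⁻¹ : Subgroup.normalizer (P : Set G)) : G) * n = 1 by
      simp) _ (one_mem _), conjSelf_one]
  · intro h _
    rw [← conjSelf_mul, conjSelf_eq (show (n : G) * ((n⁻¹ : Subgroup.normalizer (P : Set G)) : G) = 1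
      by simp) _ (one_mem _), conjSelf_one]
  · intro h hh
    have hb := isPBlock_of_mem_orbit he hh
    have h1 := blockCoeff_conjSelf (normalizer_conj_centralizer n) h c c' hc
    simp only [blockIdemBar, coeff_red, blockIdemO, coeff_ofFun,
      dif_pos (blockCoeff_mem (isPBlock_conjSelf (normalizer_conj_centralizer n) hb) _),
      dif_pos (blockCoeff_mem hb _), h1]

theorem isCentralElt_toN_orbitIdem (he : IsPBlock M e) :
    IsCentralElt (toN P (orbitIdem M P e)) :=
  isCentralElt_toN P (coeff_orbitIdem_conj he)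

variable {p : ℕ} [Fact p.Prime] (hM : IsPModular p M)
include hM

omit [Fact p.Prime] hM in
theorem brauerMap_eq_toN (P : Subgroup G) (a : MonoidAlgebra (Res M) G) :
    brauerMap P (Subgroup.normalizer (P : Set G)) a = toN P (resC P a) := by
  classical
  refine MonoidAlgebra.ext (Finsupp.ext fun k => ?_)
  rw [coeff_brauerMap]
  split_ifs with hk
  · exact ((coeff_toN P _ ⟨(k : G), hk⟩).trans (coeff_resC P a _)).symm
  · rw [coeff_toN_of_notMem P _ hk]

theorem resC_mul_orbitIdem {B : Set (IrrCharacter G)} (h : IsBrauerPairOf p M B P e) :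
    resC P (blockIdemBar M B) * orbitIdem M P e = orbitIdem M P e := by
  classical
  obtain ⟨hPe, hB, hval⟩ := isBrauerPairOf_iff.1 h
  have := charP_residueField hM
  have hc := isCentralElt_blockIdemBar hB
  have h1 : IsCentralElt (resC P (blockIdemBar M B)) :=
    isCentralElt_resC (InvUnder.of_isCentralElt _ hc)
  have h2 : resC P (blockIdemBar M B) * resC P (blockIdemBar M B) = resC P (blockIdemBar M B) := by
    rw [← resC_mul hPe.1 (InvUnder.of_isCentralElt _ hc) (InvUnder.of_isCentralElt _ hc),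
      blockIdemBar_mul_self hB]
  have h3 := isCentralElt_orbitIdem hPe.2
  have hcomm : orbitIdem M P e * resC P (blockIdemBar M B) =
      resC P (blockIdemBar M B) * orbitIdem M P e := (h3.commute _).eq
  refine idem_eq_of_omegaBar_eq (h1.mul h3) h3 ?_ (orbitIdem_mul_self hPe.2) fun χ => ?_
  · rw [mul_assoc, ← mul_assoc (orbitIdem M P e), hcomm, mul_assoc, orbitIdem_mul_self hPe.2,
      ← mul_assoc, h2]
  · rw [omegaBar_mul χ h1 h3, omegaBar_orbitIdem hPe.2]
    split_ifs with hχ
    · obtain ⟨n, hn⟩ := mem_orbit.1 hχ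
      have hmem : χ ∈ conjSelf (normalizer_conj_centralizer n) e := hn ▸ mem_blockOf_self χ
      have hχ' := mem_mapBlock.1 hmem
      rw [MulEquiv.symm_symm] at hχ'
      have h4 := pairVal_comp (n : G) (conj_centralizer_iff n.2)
        (InvUnder.of_isCentralElt (Subgroup.centralizer (P : Set G)) hc) χ
      rw [conjAlg_of_isCentralElt _ hc] at h4
      rw [mul_one]
      exact h4.symm.trans (hval _ hχ')
    · rw [mul_zero]

/-- The block of `N(P)` over the conjugates of `e`. -/
theorem exists_cover {B : Set (IrrCharacter G)} (h : IsBrauerPairOf p M B P e) :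
    ∃ E : Set (IrrCharacter (Subgroup.normalizer (P : Set G))),
      IsInducedBlock M (Subgroup.normalizer (P : Set G)) E B ∧
      ∀ ψ ∈ E, omegaBar ψ (toN P (orbitIdem M P e)) = 1 := by
  classical
  obtain ⟨hPe, hB, hval⟩ := isBrauerPairOf_iff.1 h
  have := charP_residueField hM
  have hc := isCentralElt_toN_orbitIdem (M := M) hPe.2
  have hne : toN P (orbitIdem M P e) ≠ 0 := by
    intro h0
    obtain ⟨η, hη⟩ := IsPBlock.nonempty hPe.2
    have h1 := omegaBar_orbitIdem hPe.2 η
    rw [show orbitIdem M P e = 0 from toN_injective P (by rw [h0, map_zero]), omegaBar_zero,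
      if_pos (by rw [← IsPBlock.eq_blockOf hPe.2 hη]; exact self_mem_orbit P e)] at h1
    exact zero_ne_one h1
  obtain ⟨ψ, hψ⟩ := exists_omegaBar_eq_one hc (by rw [← map_mul, orbitIdem_mul_self hPe.2]) hne
  obtain ⟨B', hind⟩ := exists_isInducedBlock hM hPe.1 Subgroup.le_normalizer
    (centralizer_le_normalizer' P) le_rfl (isPBlock_blockOf (M := M) ψ)
  refine ⟨blockOf M (ψ : Subgroup.normalizer (P : Set G) → ℂ), ?_,
    fun χ hχ => (omegaBar_congr (mem_blockOf.1 hχ) _).symm.trans hψ⟩
  obtain ⟨-, hB', hall⟩ := isInducedBlock_iff.1 hind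
  obtain ⟨χ, hχ⟩ := IsPBlock.nonempty hB'
  have hcB := isCentralElt_blockIdemBar hB
  have h1 := hall ψ (mem_blockOf_self ψ) χ hχ _ hcB
  have h2 : IsCentralElt (brauerMap P (Subgroup.normalizer (P : Set G)) (blockIdemBar M B)) :=
    isCentralElt_brauerMap le_rfl hcB
  have h3 := omegaBar_mul ψ h2 hc
  rw [brauerMap_eq_toN, ← map_mul, resC_mul_orbitIdem hM h, hψ, mul_one, ← brauerMap_eq_toN] at h3
  rw [omegaBar_resElt_eq_brauerMap hM hPe.1 Subgroup.le_normalizer le_rfl ψ hcB, ← h3,
    omegaBar_blockIdemBar hB] at h1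
  have hmem : χ ∈ B := by
    by_contra hn
    rw [if_neg hn] at h1
    exact one_ne_zero h1
  rwa [IsPBlock.eq_of_mem hB hB' hmem hχ]

/-- A covering block of a maximal pair has defect group `P`. -/
theorem defectGroup_cover {B : Set (IrrCharacter G)} (hmax : IsMaximalBrauerPair p M B P e)
    {E : Set (IrrCharacter (Subgroup.normalizer (P : Set G)))}
    (hE : IsInducedBlock M (Subgroup.normalizer (P : Set G)) E B)
    (hEs : ∀ ψ ∈ E, omegaBar ψ (toN P (orbitIdem M P e)) = 1) :
    IsDefectGroup p M E (P.subgroupOf (Subgroup.normalizer (P : Set G))) := by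
  classical
  obtain ⟨hPe, hB, hval⟩ := isBrauerPairOf_iff.1 hmax.1
  have := charP_residueField hM
  have := normal_subgroupOf_normalizer P
  obtain ⟨D, hD⟩ := exists_isDefectGroup (p := p) hE.1
  have hPD := IsDefectGroup.normal_le hM hE.1 hD (P := P.subgroupOf (Subgroup.normalizer (P : Set G)))
    (hPe.1.comap_of_injective _ (Subgroup.subtype_injective _))
  suffices hR : D.map (Subgroup.normalizer (P : Set G)).subtype = P by
    have h1 : D = P.subgroupOf (Subgroup.normalizer (P : Set G)) := by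
      refine (Subgroup.comap_map_eq_self_of_injective
        (Subgroup.subtype_injective _) D).symm.trans ?_
      rw [hR]
      rfl
    rwa [← h1]
  obtain ⟨R, hRdef⟩ : ∃ R, R = D.map (Subgroup.normalizer (P : Set G)).subtype := ⟨_, rfl⟩
  rw [← hRdef]
  have hRp : IsPGroup p R := hRdef ▸ (IsDefectGroup.isPGroup hD).map _
  have hRN : R ≤ Subgroup.normalizer (P : Set G) := hRdef ▸ Subgroup.map_subtype_le D
  have hPR : P ≤ R := fun u hu => hRdef ▸
    ⟨⟨u, Subgroup.le_normalizer hu⟩, hPD (Subgroup.mem_subgroupOf.2 hu), rfl⟩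
  obtain ⟨l, hl, hle, -⟩ := isDefectGroup_iff.1 hD
  have hlR : (l : G) ∈ Subgroup.centralizer (R : Set G) := by
    rw [hRdef]
    refine Subgroup.mem_centralizer_iff.2 ?_
    rintro _ ⟨u, hu, rfl⟩
    exact congrArg Subtype.val (mem_centralizer_singleton.1 (hle hu))
  have hCN : Subgroup.centralizer (R : Set G) ≤ Subgroup.normalizer (P : Set G) :=
    (centralizer_le_of_le hPR).trans (centralizer_le_normalizer' P)
  have hcE := isCentralElt_blockIdemBar hE.1
  have hinvE : ∀ {X : Subgroup G}, X ≤ Subgroup.normalizer (P : Set G) →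
      InvUnder X (inclElt (Subgroup.normalizer (P : Set G)) (blockIdemBar M E)) := fun {X} hX =>
    InvUnder.inclElt (hX.trans Subgroup.le_normalizer) fun u hu k k' hk => by
      rw [show k' = ⟨u, hX hu⟩ * k * ⟨u, hX hu⟩⁻¹ from Subtype.ext hk]
      exact hcE k ⟨u, hX hu⟩
  have haC : IsCentralElt (resC R (inclElt (Subgroup.normalizer (P : Set G)) (blockIdemBar M E))) :=
    isCentralElt_resC (hinvE hCN)
  obtain ⟨ξ, hξ⟩ := exists_omegaBar_eq_one haC
    (by rw [← resC_mul hRp (hinvE hRN) (hinvE hRN), ← map_mul, blockIdemBar_mul_self hE.1])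
    (fun h0 => IsDefectClass.coeff_ne_zero hE.1 hl (by
      rw [← coeff_inclElt (Subgroup.normalizer (P : Set G)) _ l]
      exact (coeff_resC R _ ⟨(l : G), hlR⟩).symm.trans (by rw [h0]; rfl)))
  have hg : IsBrauerPair p M R (blockOf M (ξ : Subgroup.centralizer (R : Set G) → ℂ)) :=
    ⟨hRp, isPBlock_blockOf ξ⟩
  obtain ⟨f, hf, -⟩ := existsUnique_normalSubpair hM hg hPR hRN
  obtain ⟨hPf, -, -, -, hst, hv⟩ := isNormalSubpair_iff.1 hf
  obtain ⟨η, hη⟩ := IsPBlock.nonempty hPf.2
  have hcs := isCentralElt_toN_orbitIdem (M := M) hPe.2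
  have hsN : ∀ {X : Subgroup G}, X ≤ Subgroup.normalizer (P : Set G) →
      InvUnder X (inclElt (Subgroup.normalizer (P : Set G)) (toN P (orbitIdem M P e))) :=
    fun {X} hX => InvUnder.inclElt (hX.trans Subgroup.le_normalizer) fun u hu k k' hk => by
      rw [show k' = ⟨u, hX hu⟩ * k * ⟨u, hX hu⟩⁻¹ from Subtype.ext hk]
      exact hcs k ⟨u, hX hu⟩
  have hprod : toN P (orbitIdem M P e) * blockIdemBar M E = blockIdemBar M E := by
    have hss : toN P (orbitIdem M P e) * toN P (orbitIdem M P e) = toN P (orbitIdem M P e) := by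
      rw [← map_mul, orbitIdem_mul_self hPe.2]
    have hcomm : blockIdemBar M E * toN P (orbitIdem M P e) =
        toN P (orbitIdem M P e) * blockIdemBar M E := (hcE.commute _).eq
    refine idem_eq_of_omegaBar_eq (hcs.mul hcE) hcE ?_ (blockIdemBar_mul_self hE.1) fun χ => ?_
    · rw [mul_assoc, ← mul_assoc (blockIdemBar M E), hcomm, mul_assoc, blockIdemBar_mul_self hE.1,
        ← mul_assoc, hss]
    · rw [omegaBar_mul χ hcs hcE, omegaBar_blockIdemBar hE.1]
      split_ifs with hχ
      · rw [hEs χ hχ, mul_one]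
      · rw [mul_zero]
  have h1 := pairVal_mul hM hRp ξ (hsN hRN) (hinvE hRN) (hsN hCN) (hinvE hCN)
  rw [← map_mul, hprod] at h1
  have hξ' : pairVal R (inclElt (Subgroup.normalizer (P : Set G)) (blockIdemBar M E)) ξ = 1 := hξ
  rw [hξ', mul_one] at h1
  have h2 := pairVal_eq_of_pair hM hRp hPR hRN hPf.2 hst (hv ξ (mem_blockOf_self ξ)) hη
    (hsN hRN) (hsN (centralizer_le_normalizer' P))
  rw [← h1, inclElt_toN, pairVal, resC, resElt_inclElt, omegaBar_orbitIdem hPe.2] at h2
  have hmem : f ∈ orbit P e := by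
    rw [IsPBlock.eq_blockOf hPf.2 hη]
    by_contra hn
    rw [if_neg hn] at h2
    exact one_ne_zero h2
  obtain ⟨n, hn⟩ := mem_orbit.1 hmem
  have hrel : NormalSubpairRel p M ⟨P, f⟩
      ⟨R, blockOf M (ξ : Subgroup.centralizer (R : Set G) → ℂ)⟩ := hf
  have heq : (⟨P, f⟩ : BrauerPairIdx G) = conjPair (n : G) ⟨P, e⟩ := by
    rw [conjPair_self n.2 (normalizer_conj_centralizer n), hn]
  have hrel' := normalSubpairRel_conjPair (n : G)⁻¹ hrel
  rw [heq, ← conjPair_mul, inv_mul_cancel, conjPair_one] at hrel'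
  have h5 := hmax.2 _ _ ((normalSubpair_pairOf_iff hM hrel' B).2 hmax.1)
    (Relation.ReflTransGen.single hrel')
  have hRP : Nat.card (R.map (MulAut.conj (n : G)⁻¹).toMonoidHom : Subgroup G) = Nat.card P :=
    congrArg (fun X : Subgroup G => Nat.card X) h5
  rw [card_map_conj] at hRP
  exact (Subgroup.eq_of_le_of_card_ge hPR hRP.le).symm

theorem isDefectGroup_of_maximal {B : Set (IrrCharacter G)}
    (hmax : IsMaximalBrauerPair p M B P e) : IsDefectGroup p M B P := by
  obtain ⟨E, hE, hEs⟩ := exists_cover hM hmax.1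
  exact isDefectGroup_of_induced_normalizer hM hmax.1.1.1 hE (defectGroup_cover hM hmax hE hEs)

/-- Two maximal pairs of a block on the same subgroup are conjugate in its normalizer. -/
theorem mem_orbit_of_maximal {B : Set (IrrCharacter G)} (hmax : IsMaximalBrauerPair p M B P e)
    {e₂ : Set (IrrCharacter (Subgroup.centralizer (P : Set G)))}
    (hmax₂ : IsMaximalBrauerPair p M B P e₂) : e₂ ∈ orbit P e := by
  classical
  obtain ⟨E, hE, hEs⟩ := exists_cover hM hmax.1
  obtain ⟨E₂, hE₂, hEs₂⟩ := exists_cover hM hmax₂.1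
  obtain rfl := eq_of_isInducedBlock_normalizer hM hmax.1.1.1 hE hE₂
    (defectGroup_cover hM hmax hE hEs) (defectGroup_cover hM hmax₂ hE₂ hEs₂)
  obtain ⟨ψ, hψ⟩ := IsPBlock.nonempty hE.1
  have he := hmax.1.1.2
  have he₂ := hmax₂.1.1.2
  have h := omegaBar_mul ψ (isCentralElt_toN_orbitIdem (M := M) he)
    (isCentralElt_toN_orbitIdem (M := M) he₂)
  rw [hEs ψ hψ, hEs₂ ψ hψ, ← map_mul] at h
  by_contra hcon
  have hdis : orbitIdem M P e * orbitIdem M P e₂ = 0 := by
    rw [orbitIdem, orbitIdem, Finset.sum_mul_sum]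
    refine Finset.sum_eq_zero fun a ha => Finset.sum_eq_zero fun b hb =>
      blockIdemBar_mul_of_ne (isPBlock_of_mem_orbit he ha) (isPBlock_of_mem_orbit he₂ hb) ?_
    rintro rfl
    obtain ⟨n, hn⟩ := mem_orbit.1 hb
    refine hcon ?_
    have := conjSelf_mem_orbit n⁻¹ ha
    rwa [← hn, ← conjSelf_mul, conjSelf_eq (show ((n⁻¹ : Subgroup.normalizer (P : Set G)) : G) * n = 1
      by simp) _ (one_mem _), conjSelf_one] at this
  rw [hdis, map_zero, omegaBar_zero, mul_one] at h
  exact zero_ne_one h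

omit [Fact p.Prime] [M.IsPrime] hM in
/-- Every pair of a block lies below a maximal one. -/
theorem exists_maximal_above {B : Set (IrrCharacter G)} {Q : Subgroup G}
    {f : Set (IrrCharacter (Subgroup.centralizer (Q : Set G)))} (h : IsBrauerPairOf p M B Q f) :
    ∃ (R : Subgroup G) (g : Set (IrrCharacter (Subgroup.centralizer (R : Set G)))),
      IsMaximalBrauerPair p M B R g ∧ SubpairLE p M Q f R g := by
  classical
  have hfin : Set.Finite {a : BrauerPairIdx G |
      IsBrauerPairOf p M B a.1 a.2 ∧ SubpairLE p M Q f a.1 a.2} := Set.toFinite _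
  obtain ⟨a, ⟨ha, hale⟩, hmax⟩ := hfin.exists_maximalFor (fun a : BrauerPairIdx G => Nat.card a.1) _
    ⟨⟨Q, f⟩, h, Relation.ReflTransGen.refl⟩
  refine ⟨a.1, a.2, ⟨ha, fun R g hR hle => ?_⟩, hale⟩
  have hle' : a.1 ≤ R := le_of_subpairLE hle
  refine (Subgroup.eq_of_le_of_card_ge hle' ?_).symm
  exact hmax (j := ⟨R, g⟩) ⟨hR, Relation.ReflTransGen.trans hale hle⟩
    (Nat.le_of_dvd Nat.card_pos (Subgroup.card_dvd_of_le hle'))

theorem exists_conj_le {B : Set (IrrCharacter G)} (hmax : IsMaximalBrauerPair p M B P e)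
    {Q : Subgroup G} {f : Set (IrrCharacter (Subgroup.centralizer (Q : Set G)))}
    (hQf : IsBrauerPairOf p M B Q f) :
    ∃ x : G, Relation.ReflTransGen (NormalSubpairRel p M) (conjPair x ⟨Q, f⟩) ⟨P, e⟩ := by
  obtain ⟨R, g, hR, hle⟩ := exists_maximal_above hQf
  obtain ⟨y, hy⟩ := IsDefectGroup.exists_conj hM hmax.1.2.1 (isDefectGroup_of_maximal hM hR)
    (isDefectGroup_of_maximal hM hmax)
  have h2 := isMaximalBrauerPair_conjPair y (a := ⟨R, g⟩) hR
  have hkey : ∀ a : BrauerPairIdx G, a.1 = P → IsMaximalBrauerPair p M B a.1 a.2 →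
      ∃ e₂, a = ⟨P, e₂⟩ ∧ IsMaximalBrauerPair p M B P e₂ := by
    rintro ⟨Q', f'⟩ (rfl : Q' = P) h
    exact ⟨f', rfl, h⟩
  obtain ⟨e₂, heq, he₂⟩ := hkey _ hy h2
  obtain ⟨n, hn⟩ := mem_orbit.1 (mem_orbit_of_maximal hM hmax he₂)
  have h3 := subpairLE_conjPair ((n : G)⁻¹ * y) hle
  have h4 : conjPair ((n : G)⁻¹ * y) ⟨R, g⟩ = ⟨P, e⟩ := by
    rw [conjPair_mul, heq, ← hn, ← conjPair_self n.2, ← conjPair_mul, inv_mul_cancel, conjPair_one]
  rw [h4] at h3
  exact ⟨_, h3⟩

end CfsgLib.Pairs
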