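import Cfsg.Agent.Lib.Pairs.Maximal
import Cfsg.Agent.Lib.CharAction.DefectCount
import Mathlib.GroupTheory.Nilpotent

/-!
# Block idempotents and normal `p`-subgroups
-/

namespace CfsgLib.Pairs

open Cfsg CfsgLib.Blocks MonoidAlgebra

variable {G : Type*} [Group G]

/-- Thompson's `A × B` lemma. -/
theorem commute_of_centralizes [Finite G] {p : ℕ} [Fact p.Prime] {X Y : Subgroup G} {n : G}
    (hX : IsPGroup p X) (hn : ¬ p ∣ orderOf n) (hnX : n ∈ Subgroup.normalizer (X : Set G))
    (hY : Y ≤ X) (hYn : ∀ y ∈ Y, Commute n y)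
    (hC : ∀ c ∈ X, (∀ y ∈ Y, Commute c y) → Commute n c) : ∀ x ∈ X, Commute n x := by
  set Z := X ⊓ Subgroup.centralizer ({n} : Set G) with hZ
  have hmem : ∀ x, x ∈ Z ↔ x ∈ X ∧ Commute n x := fun x => by
    rw [hZ, Subgroup.mem_inf, mem_centralizer_singleton]
    exact and_congr_right fun _ => ⟨fun h => Commute.symm h, fun h => Commute.symm h⟩
  suffices h : X ≤ Z from fun x hx => ((hmem x).1 (h hx)).2
  by_contra hcon
  have : Group.IsNilpotent X := hX.isNilpotent
  have hlt : Z.subgroupOf X < ⊤ := lt_top_iff_ne_top.2 fun e => hcon (Subgroup.subgroupOf_eq_top.1 e)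
  obtain ⟨t, ht, htZ⟩ := SetLike.exists_of_lt
    (Group.normalizerCondition_of_isNilpotent (Z.subgroupOf X) hlt)
  refine htZ (Subgroup.mem_subgroupOf.2 ((hmem _).2 ⟨t.2, ?_⟩))
  have hnt : n * (t : G) * n⁻¹ ∈ X := (Subgroup.mem_normalizer_iff.1 hnX _).1 t.2
  set c := (t : G)⁻¹ * (n * (t : G) * n⁻¹) with hc
  have hcX : c ∈ X := mul_mem (inv_mem t.2) hnt
  have hcn : Commute n c := hC c hcX fun y hy => by
    have hyn := hYn y hy
    have hty : (t : G) * y * (t : G)⁻¹ ∈ Z := (Subgroup.mem_subgroupOf.1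
      ((Subgroup.mem_normalizer_iff.1 ht ⟨y, hY hy⟩).1
        (Subgroup.mem_subgroupOf.2 ((hmem y).2 ⟨hY hy, hyn⟩))))
    have h1 := ((hmem _).1 hty).2
    have h2 : n * ((t : G) * y * (t : G)⁻¹) * n⁻¹ = (t : G) * y * (t : G)⁻¹ := by
      rw [h1.eq, mul_inv_cancel_right]
    have h3 : n⁻¹ * y * n = y := by rw [mul_assoc, ← hyn.eq, inv_mul_cancel_left]
    show c * y = y * c
    calc c * y = (t : G)⁻¹ * n * t * (n⁻¹ * y * n) * (t : G)⁻¹ * n⁻¹ * t * c := by rw [hc]; group
      _ = (t : G)⁻¹ * (n * ((t : G) * y * (t : G)⁻¹) * n⁻¹) * t * c := by rw [h3]; group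
      _ = y * c := by rw [h2]; group
  have hpow : ∀ k : ℕ, n ^ k * (t : G) * (n ^ k)⁻¹ = (t : G) * c ^ k := by
    intro k
    induction k with
    | zero => simp
    | succ k ih =>
      calc n ^ (k + 1) * (t : G) * (n ^ (k + 1))⁻¹ = n * (n ^ k * (t : G) * (n ^ k)⁻¹) * n⁻¹ := by
            rw [pow_succ']; group
        _ = n * ((t : G) * c ^ k) * n⁻¹ := by rw [ih]
        _ = n * (t : G) * n⁻¹ * (n * c ^ k * n⁻¹) := by group
        _ = (t : G) * c * c ^ k := by
            rw [(hcn.pow_right k).eq, mul_inv_cancel_right]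
            congr 1
            rw [hc]
            group
        _ = (t : G) * c ^ (k + 1) := by rw [pow_succ', mul_assoc]
  have h4 : c ^ orderOf n = 1 := by
    have := hpow (orderOf n)
    rw [pow_orderOf_eq_one, inv_one, one_mul, mul_one] at this
    exact mul_eq_left.1 this.symm
  obtain ⟨j, hj⟩ := (IsPGroup.iff_orderOf.1 hX) ⟨c, hcX⟩
  rw [Subgroup.orderOf_mk] at hj
  have h5 : orderOf c = 1 := by
    refine Nat.eq_one_of_dvd_coprimes ?_ (dvd_refl _) (orderOf_dvd_of_pow_eq_one h4)
    rw [hj]
    exact Nat.Coprime.pow_left j ((Fact.out : p.Prime).coprime_iff_not_dvd.2 hn)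
  have h6 : n * (t : G) * n⁻¹ = t := by
    have hc1 := orderOf_eq_one_iff.1 h5
    rw [hc, inv_mul_eq_one] at hc1
    exact hc1.symm
  exact mul_inv_eq_iff_eq_mul.1 h6

/-- The inclusion between the group algebras of two subgroups. -/
noncomputable def inclBetween {R : Type*} [Semiring R] {H T : Subgroup G} (h : H ≤ T) :
    MonoidAlgebra R H →+* MonoidAlgebra R T :=
  mapDomainRingHom R (Subgroup.inclusion h)

theorem coeff_inclBetween {R : Type*} [Semiring R] {H T : Subgroup G} (h : H ≤ T)
    (a : MonoidAlgebra R H) (t : T) :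
    (inclBetween h a).coeff t = (inclElt H a).coeff (t : G) := by
  by_cases ht : (t : G) ∈ H
  · rw [coeff_inclElt H a ⟨(t : G), ht⟩]
    exact Finsupp.mapDomain_apply (Subgroup.inclusion_injective h) a.coeff ⟨(t : G), ht⟩
  · rw [coeff_inclElt_of_notMem H a ht]
    exact Finsupp.mapDomain_of_notMem_range a.coeff t (by rintro ⟨c, rfl⟩; exact ht c.2)

theorem subgroupBlockCoeff_conjSelf {K : Subgroup G} {x : G}
    (hx : x ∈ Subgroup.normalizer (K : Set G)) (e : Set (IrrCharacter K)) (g : G) :
    subgroupBlockCoeff K (conjSelf hx e) (x * g * x⁻¹) = subgroupBlockCoeff K e g := by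
  classical
  have hiff := Subgroup.mem_normalizer_iff.1 hx g
  unfold subgroupBlockCoeff
  by_cases hg : g ∈ K
  · rw [dif_pos (hiff.1 hg), dif_pos hg]
    exact blockCoeff_conjSelf hx e ⟨g, hg⟩ _ rfl
  · rw [dif_neg fun h => hg (hiff.2 h), dif_neg hg]

variable [Fintype G] {M : Ideal AlgInt} [M.IsPrime]

/-- Central idempotents over the local ring with the same reduction are equal. -/
theorem eq_of_red_eq {a b : MonoidAlgebra (localRing M) G} (ha : IsCentralElt a)
    (hb : IsCentralElt b) (ha2 : a * a = a) (hb2 : b * b = b) (h : red M a = red M b) : a = b := by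
  refine inc_injective (eq_of_omega_eq (isCentralElt_inc ha) (isCentralElt_inc hb) fun χ => ?_)
  have key : ∀ c : MonoidAlgebra (localRing M) G, IsCentralElt c → c * c = c →
      omega (χ : G → ℂ) (inc M c) = 0 ∨ omega (χ : G → ℂ) (inc M c) = 1 := fun c hc hc2 => by
    have h1 := omega_mul χ (isCentralElt_inc hc) (inc M c)
    rw [← map_mul, hc2] at h1
    exact (mul_right_eq_self₀.1 h1.symm).symm
  have hval := congrArg (omegaBar χ) h
  rw [omegaBar_red χ ha, omegaBar_red χ hb] at hval
  rcases key a ha ha2 with h0 | h0 <;> rcases key b hb hb2 with h1 | h1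
  · rw [h0, h1]
  · rw [show (⟨_, omega_inc_mem χ ha⟩ : localRing M) = 0 from Subtype.ext h0,
      show (⟨_, omega_inc_mem χ hb⟩ : localRing M) = 1 from Subtype.ext h1, map_zero, map_one] at hval
    exact absurd hval zero_ne_one
  · rw [show (⟨_, omega_inc_mem χ ha⟩ : localRing M) = 1 from Subtype.ext h0,
      show (⟨_, omega_inc_mem χ hb⟩ : localRing M) = 0 from Subtype.ext h1, map_zero, map_one] at hval
    exact absurd hval one_ne_zero
  · rw [h0, h1]

theorem coe_coeff_inclElt_blockIdemO {H : Subgroup G} {e : Set (IrrCharacter H)}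
    (he : IsPBlock M e) (g : G) :
    ((inclElt H (blockIdemO M e)).coeff g : ℂ) = subgroupBlockCoeff H e g :=
  (subgroupBlockCoeff_eq he g).symm

variable {p : ℕ} [Fact p.Prime] (hM : IsPModular p M)
include hM

/-- For a normal `p`-subgroup a central idempotent is determined by its truncation. -/
theorem eq_of_resC_eq {P : Subgroup G} [P.Normal] (hP : IsPGroup p P)
    {a b : MonoidAlgebra (Res M) G} (ha : IsCentralElt a) (hb : IsCentralElt b) (ha2 : a * a = a)
    (hb2 : b * b = b) (h : resC P a = resC P b) : a = b := by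
  have := charP_residueField hM
  obtain ⟨n, hn⟩ := isNilpotent_of_vanish_centralizer (F := Res M) hP (ha.sub hb) fun c hc => by
    have h1 := congrArg (fun z : MonoidAlgebra (Res M) (Subgroup.centralizer (P : Set G)) =>
      z.coeff ⟨c, hc⟩) h
    simp only [coeff_resC] at h1
    simp [coeff_sub, h1]
  refine idem_eq_of_omegaBar_eq ha hb ha2 hb2 fun χ => ?_
  have h0 := congrArg (omegaBar χ) hn
  rw [omegaBar_pow χ (ha.sub hb), omegaBar_zero, omegaBar_sub] at h0
  exact sub_eq_zero.1 ((pow_eq_zero_iff (fun e => by simp [e] at h0)).1 h0)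

/-- A block has a pair on each normal `p`-subgroup. -/
theorem exists_pair_normal {P : Subgroup G} [P.Normal] (hP : IsPGroup p P)
    {B : Set (IrrCharacter G)} (hB : IsPBlock M B) :
    ∃ e : Set (IrrCharacter (Subgroup.centralizer (P : Set G))), IsBrauerPairOf p M B P e := by
  classical
  have := charP_residueField hM
  have hc := isCentralElt_blockIdemBar (M := M) hB
  have hne : resC P (blockIdemBar M B) ≠ 0 := fun h0 => by
    obtain ⟨χ, hχ⟩ := IsPBlock.nonempty hB
    have h1 := eq_of_resC_eq hM hP hc IsCentralElt.zero (blockIdemBar_mul_self hB) (zero_mul _)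
      (by rw [h0, resC_zero])
    have h2 := omegaBar_blockIdemBar (M := M) hB χ
    rw [h1, omegaBar_zero, if_pos hχ] at h2
    exact zero_ne_one h2
  obtain ⟨ξ, hξ⟩ := exists_omegaBar_eq_one (isCentralElt_resC (InvUnder.of_isCentralElt _ hc))
    (by rw [← resC_mul hP (InvUnder.of_isCentralElt _ hc) (InvUnder.of_isCentralElt _ hc),
      blockIdemBar_mul_self hB]) hne
  exact ⟨blockOf M (ξ : Subgroup.centralizer (P : Set G) → ℂ), isBrauerPairOf_iff.2
    ⟨⟨hP, isPBlock_blockOf ξ⟩, hB, fun η hη =>
      (omegaBar_congr (mem_blockOf.1 hη) _).symm.trans hξ⟩⟩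

/-- The idempotent of a block is the orbit sum of the idempotent of a pair. -/
theorem blockCoeff_eq_orbit_sum {P : Subgroup G} [P.Normal] (hP : IsPGroup p P)
    {B : Set (IrrCharacter G)} {e : Set (IrrCharacter (Subgroup.centralizer (P : Set G)))}
    (h : IsBrauerPairOf p M B P e) (g : G) :
    blockCoeff B g =
      ∑ f ∈ orbit P e, subgroupBlockCoeff (Subgroup.centralizer (P : Set G)) f g := by
  classical
  have := charP_residueField hM
  obtain ⟨hPe, hB, -⟩ := isBrauerPairOf_iff.1 h
  set a' := inclElt (Subgroup.centralizer (P : Set G)) (∑ f ∈ orbit P e, blockIdemO M f) with ha'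
  have hcoe : ∀ x, (a'.coeff x : ℂ) =
      ∑ f ∈ orbit P e, subgroupBlockCoeff (Subgroup.centralizer (P : Set G)) f x := fun x => by
    rw [ha', map_sum]
    simp only [coeff_sum, Finsupp.coe_finsetSum, Finset.sum_apply, AddSubmonoidClass.coe_finsetSum]
    exact Finset.sum_congr rfl fun f hf =>
      coe_coeff_inclElt_blockIdemO (isPBlock_of_mem_orbit hPe.2 hf) x
  have hnorm : ∀ y : G, y ∈ Subgroup.normalizer (P : Set G) := fun y => by
    rw [Subgroup.normalizer_eq_top]
    exact Subgroup.mem_top y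
  have hc : IsCentralElt a' := fun x y => Subtype.ext (by
    rw [hcoe, hcoe]
    refine (Finset.sum_bij' (fun f _ => conjSelf (normalizer_conj_centralizer ⟨y, hnorm y⟩) f)
      (fun f _ => conjSelf (normalizer_conj_centralizer ⟨y⁻¹, hnorm y⁻¹⟩) f)
      (fun f hf => conjSelf_mem_orbit _ hf) (fun f hf => conjSelf_mem_orbit _ hf) ?_ ?_ ?_).symm
    · intro f _
      rw [← conjSelf_mul, conjSelf_eq (inv_mul_cancel y) _ (one_mem _), conjSelf_one]
    · intro f _
      rw [← conjSelf_mul, conjSelf_eq (mul_inv_cancel y) _ (one_mem _), conjSelf_one]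
    · intro f _
      exact (subgroupBlockCoeff_conjSelf _ f x).symm)
  have hidem : a' * a' = a' := by
    rw [ha', ← map_mul, Finset.sum_mul_sum]
    congr 1
    refine Finset.sum_congr rfl fun f hf => ?_
    rw [Finset.sum_eq_single f]
    · exact blockIdemO_mul_self (isPBlock_of_mem_orbit hPe.2 hf)
    · intro f' hf' hne
      refine inc_injective ?_
      rw [map_mul, inc_blockIdemO (isPBlock_of_mem_orbit hPe.2 hf),
        inc_blockIdemO (isPBlock_of_mem_orbit hPe.2 hf'), blockIdem_mul, map_zero,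
        show f ∩ f' = ∅ from Set.eq_empty_iff_forall_notMem.2 fun χ hχ => hne
          (IsPBlock.eq_of_mem (isPBlock_of_mem_orbit hPe.2 hf') (isPBlock_of_mem_orbit hPe.2 hf)
            hχ.2 hχ.1), blockIdem_empty]
    · exact fun h0 => absurd hf h0
  have hred : red M a' = inclElt (Subgroup.centralizer (P : Set G)) (orbitIdem M P e) := by
    rw [ha', red_inclElt, map_sum (red M)]
    rfl
  have hca : IsCentralElt (red M a') := isCentralElt_red hc
  have hca2 : red M a' * red M a' = red M a' := by rw [← map_mul, hidem]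
  have hcB := isCentralElt_blockIdemBar (M := M) hB
  have hresa : resC P (red M a') = orbitIdem M P e := by rw [hred, resC, resElt_inclElt]
  have haB : blockIdemBar M B * red M a' = red M a' := by
    have h2 : blockIdemBar M B * red M a' * (blockIdemBar M B * red M a') =
        blockIdemBar M B * red M a' := by
      rw [mul_assoc, ← mul_assoc (red M a'), (hca.commute (blockIdemBar M B)).eq, mul_assoc, hca2,
        ← mul_assoc, blockIdemBar_mul_self hB]
    refine eq_of_resC_eq hM hP (hcB.mul hca) hca h2 hca2 ?_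
    rw [resC_mul hP (InvUnder.of_isCentralElt _ hcB) (InvUnder.of_isCentralElt _ hca), hresa,
      resC_mul_orbitIdem hM h]
  have hne : red M a' ≠ 0 := fun h0 => by
    obtain ⟨η, hη⟩ := IsPBlock.nonempty hPe.2
    have h1 := omegaBar_orbitIdem (M := M) hPe.2 η
    rw [← hresa, h0, resC_zero, omegaBar_zero,
      if_pos (by rw [← IsPBlock.eq_blockOf hPe.2 hη]; exact self_mem_orbit P e)] at h1
    exact zero_ne_one h1
  obtain ⟨χ, hχ⟩ := exists_omegaBar_eq_one hca hca2 hne
  have hmul : ∀ ψ : IrrCharacter G,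
      omegaBar ψ (blockIdemBar M B) * omegaBar ψ (red M a') = omegaBar ψ (red M a') := fun ψ => by
    rw [← omegaBar_mul ψ hcB hca, haB]
  have hχB : χ ∈ B := by
    by_contra hn
    have h3 := hmul χ
    rw [omegaBar_blockIdemBar hB, if_neg hn, zero_mul, hχ] at h3
    exact zero_ne_one h3
  have heq : blockIdemBar M B = red M a' := by
    refine idem_eq_of_omegaBar_eq hcB hca (blockIdemBar_mul_self hB) hca2 fun ψ => ?_
    rw [omegaBar_blockIdemBar hB]
    split_ifs with hψ
    · rw [omegaBar_congr (IsPBlock.sameBlock hB hψ hχB), hχ]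
    · have h3 := hmul ψ
      rw [omegaBar_blockIdemBar hB, if_neg hψ, zero_mul] at h3
      exact h3
  have hO := eq_of_red_eq (isCentralElt_blockIdemO hB) hc (blockIdemO_mul_self hB) hidem heq
  rw [← hcoe, ← hO, ← coeff_inc, inc_blockIdemO hB, coeff_blockIdem]

/-- A block idempotent is supported on the centralizer of a normal `p`-subgroup. -/
theorem blockCoeff_eq_zero_of_notMem {P : Subgroup G} [P.Normal] (hP : IsPGroup p P)
    {B : Set (IrrCharacter G)} (hB : IsPBlock M B) {g : G}
    (hg : g ∉ Subgroup.centralizer (P : Set G)) : blockCoeff B g = 0 := by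
  obtain ⟨e, he⟩ := exists_pair_normal hM hP hB
  rw [blockCoeff_eq_orbit_sum hM hP he]
  refine Finset.sum_eq_zero fun f _ => ?_
  unfold subgroupBlockCoeff
  rw [dif_neg hg]

/-- The idempotent of a block of `C(Q)` is a block idempotent of any group in its stabilizer. -/
theorem exists_block_over {Q T : Subgroup G} (hQ : IsPGroup p Q) (hQT : Q ≤ T)
    (hCT : Subgroup.centralizer (Q : Set G) ≤ T) (hTN : T ≤ Subgroup.normalizer (Q : Set G))
    {f : Set (IrrCharacter (Subgroup.centralizer (Q : Set G)))} (hf : IsPBlock M f)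
    (hst : ∀ x ∈ T, StabilizesBlock (Subgroup.centralizer (Q : Set G)) f x) :
    ∃ E : Set (IrrCharacter T), IsPBlock M E ∧
      ∀ t : T, blockCoeff E t = subgroupBlockCoeff (Subgroup.centralizer (Q : Set G)) f (t : G) := by
  classical
  have := charP_residueField hM
  have hQn : (Q.subgroupOf T).Normal := (Subgroup.normal_subgroupOf_iff_le_normalizer hQT).2 hTN
  have hR : IsPGroup p (Q.subgroupOf T) := hQ.comap_of_injective _ T.subtype_injective
  set a' : MonoidAlgebra (localRing M) T := inclBetween hCT (blockIdemO M f) with ha'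
  have hinv : InvUnder T (inclElt (Subgroup.centralizer (Q : Set G)) (blockIdemO M f)) :=
    invUnder_blockIdemO_incl hf hst
  have hc : IsCentralElt a' := fun x y => by
    rw [ha', coeff_inclBetween, coeff_inclBetween]
    exact hinv (y : G) y.2 (x : G)
  have hidem : a' * a' = a' := by rw [ha', ← map_mul, blockIdemO_mul_self hf]
  let φ : Subgroup.centralizer ((Q.subgroupOf T : Subgroup T) : Set T) ≃*
      Subgroup.centralizer (Q : Set G) :=
    { toFun := fun k => ⟨((k : T) : G), Subgroup.mem_centralizer_iff.2 fun u hu =>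
        congrArg Subtype.val (Subgroup.mem_centralizer_iff.1 k.2 ⟨u, hQT hu⟩ hu)⟩
      invFun := fun c => ⟨⟨(c : G), hCT c.2⟩, Subgroup.mem_centralizer_iff.2 fun u hu =>
        Subtype.ext (Subgroup.mem_centralizer_iff.1 c.2 (u : G) hu)⟩
      left_inv := fun k => rfl
      right_inv := fun c => rfl
      map_mul' := fun k l => rfl }
  have he' : IsPBlock M (mapBlock φ f) := isPBlock_mapBlock φ hf
  have hres : resC (Q.subgroupOf T) (red M a') = blockIdemBar M (mapBlock φ f) := by
    refine MonoidAlgebra.ext (Finsupp.ext fun k => ?_)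
    rw [coeff_resC, coeff_red, ha', coeff_inclBetween, blockIdemBar_congr φ hf, blockIdemBar,
      coeff_red]
    exact congrArg (resHom M) (coeff_inclElt _ _ (φ k))
  have hca : IsCentralElt (red M a') := isCentralElt_red hc
  have hca2 : red M a' * red M a' = red M a' := by rw [← map_mul, hidem]
  have hne : red M a' ≠ 0 := fun h0 => by
    obtain ⟨η, hη⟩ := IsPBlock.nonempty he'
    have h1 := omegaBar_blockIdemBar (M := M) he' η
    rw [← hres, h0, resC_zero, omegaBar_zero, if_pos hη] at h1
    exact zero_ne_one h1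
  obtain ⟨χ, hχ⟩ := exists_omegaBar_eq_one hca hca2 hne
  have hE := isPBlock_blockOf (M := M) χ
  refine ⟨blockOf M (χ : T → ℂ), hE, fun t => ?_⟩
  have hcE := isCentralElt_blockIdemBar (M := M) hE
  have hEa : blockIdemBar M (blockOf M (χ : T → ℂ)) * red M a' =
      blockIdemBar M (blockOf M (χ : T → ℂ)) := by
    have h2 : blockIdemBar M (blockOf M (χ : T → ℂ)) * red M a' *
        (blockIdemBar M (blockOf M (χ : T → ℂ)) * red M a') =
        blockIdemBar M (blockOf M (χ : T → ℂ)) * red M a' := by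
      rw [mul_assoc, ← mul_assoc (red M a'), (hca.commute (blockIdemBar M _)).eq, mul_assoc, hca2,
        ← mul_assoc, blockIdemBar_mul_self hE]
    refine idem_eq_of_omegaBar_eq (hcE.mul hca) hcE h2 (blockIdemBar_mul_self hE) fun ψ => ?_
    rw [omegaBar_mul ψ hcE hca, omegaBar_blockIdemBar hE]
    split_ifs with hψ
    · rw [← omegaBar_congr (mem_blockOf.1 hψ), hχ, one_mul]
    · rw [zero_mul]
  have hcs : IsCentralElt (resC (Q.subgroupOf T) (blockIdemBar M (blockOf M (χ : T → ℂ)))) :=
    isCentralElt_resC (InvUnder.of_isCentralElt _ hcE)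
  have hidems : resC (Q.subgroupOf T) (blockIdemBar M (blockOf M (χ : T → ℂ))) *
      resC (Q.subgroupOf T) (blockIdemBar M (blockOf M (χ : T → ℂ))) =
      resC (Q.subgroupOf T) (blockIdemBar M (blockOf M (χ : T → ℂ))) := by
    rw [← resC_mul hR (InvUnder.of_isCentralElt _ hcE) (InvUnder.of_isCentralElt _ hcE),
      blockIdemBar_mul_self hE]
  have hsne : resC (Q.subgroupOf T) (blockIdemBar M (blockOf M (χ : T → ℂ))) ≠ 0 := fun h0 => by
    have h1 := eq_of_resC_eq hM hR hcE IsCentralElt.zero (blockIdemBar_mul_self hE) (zero_mul _)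
      (by rw [h0, resC_zero])
    have h2 := omegaBar_blockIdemBar (M := M) hE χ
    rw [h1, omegaBar_zero, if_pos (mem_blockOf_self χ)] at h2
    exact zero_ne_one h2
  have hsprod := resC_mul (p := p) hR (InvUnder.of_isCentralElt (Q.subgroupOf T) hcE)
    (InvUnder.of_isCentralElt (Q.subgroupOf T) hca)
  rw [hEa, hres] at hsprod
  obtain ⟨η, hη⟩ := exists_omegaBar_eq_one hcs hidems hsne
  have hmul : ∀ ζ : IrrCharacter (Subgroup.centralizer ((Q.subgroupOf T : Subgroup T) : Set T)),
      omegaBar ζ (resC (Q.subgroupOf T) (blockIdemBar M (blockOf M (χ : T → ℂ)))) *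
        omegaBar ζ (blockIdemBar M (mapBlock φ f)) =
      omegaBar ζ (resC (Q.subgroupOf T) (blockIdemBar M (blockOf M (χ : T → ℂ)))) := fun ζ => by
    rw [← omegaBar_mul ζ hcs (isCentralElt_blockIdemBar he'), ← hsprod]
  have hηf : η ∈ mapBlock φ f := by
    by_contra hn
    have h3 := hmul η
    rw [omegaBar_blockIdemBar he', if_neg hn, mul_zero, hη] at h3
    exact zero_ne_one h3
  have heq : blockIdemBar M (blockOf M (χ : T → ℂ)) = red M a' := by
    refine eq_of_resC_eq hM hR hcE hca (blockIdemBar_mul_self hE) hca2 ?_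
    rw [hres]
    refine idem_eq_of_omegaBar_eq hcs (isCentralElt_blockIdemBar he') hidems
      (blockIdemBar_mul_self he') fun ζ => ?_
    rw [omegaBar_blockIdemBar he']
    split_ifs with hζ
    · rw [omegaBar_congr (IsPBlock.sameBlock he' hζ hηf), hη]
    · have h3 := hmul ζ
      rw [omegaBar_blockIdemBar he', if_neg hζ, mul_zero] at h3
      exact h3.symm
  have hO := eq_of_red_eq (isCentralElt_blockIdemO hE) hc (blockIdemO_mul_self hE) hidem heq
  rw [← coe_coeff_inclElt_blockIdemO hf, ← coeff_inclBetween hCT, ← ha', ← hO, ← coeff_inc,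
    inc_blockIdemO hE, coeff_blockIdem]

end CfsgLib.Pairs
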