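import Cfsg.Agent.Lib.Pairs.Idx
import Cfsg.Agent.Lib.Pairs.Maximal
import Cfsg.Agent.Lib.Pairs.Support

/-!
# The Sylow theorem for Brauer pairs above a given pair
-/

namespace CfsgLib.Pairs

open Cfsg CfsgLib.Blocks MonoidAlgebra

variable {G : Type*} [Group G]

/-- Some element of the support of `a` centralizes `R`. -/
def Brv {R : Type*} [Semiring R] (X : Subgroup G) (a : MonoidAlgebra R G) : Prop :=
  ∃ c ∈ Subgroup.centralizer (X : Set G), a.coeff c ≠ 0

theorem Brv.mono {R : Type*} [Semiring R] {X Y : Subgroup G} {a : MonoidAlgebra R G}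
    (h : Brv Y a) (hXY : X ≤ Y) : Brv X a :=
  let ⟨c, hc, hne⟩ := h
  ⟨c, centralizer_le_of_le hXY hc, hne⟩

theorem Brv.conj [Finite G] {R : Type*} [Semiring R] {X : Subgroup G} {a : MonoidAlgebra R G}
    (h : Brv X a) (x : G) : Brv (X.map (MulAut.conj x).toMonoidHom) (conjAlg x a) := by
  obtain ⟨c, hc, hne⟩ := h
  refine ⟨x * c * x⁻¹, (mem_centralizer_map_conj_iff X x c).1 hc, ?_⟩
  rw [coeff_conjAlg]
  simpa [mul_assoc] using hne

theorem map_conj_conj (X : Subgroup G) (x : G) :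
    (X.map (MulAut.conj x).toMonoidHom).map (MulAut.conj x⁻¹).toMonoidHom = X := by
  ext v
  simp only [map_conj_eq]
  exact iff_of_eq (congrArg (· ∈ X) (by group))

variable [Fintype G]

/-- The stabilizer of a pair. -/
noncomputable def pairStab (Q : Subgroup G)
    (f : Set (IrrCharacter (Subgroup.centralizer (Q : Set G)))) : Subgroup G where
  carrier := {y | y ∈ Subgroup.normalizer (Q : Set G) ∧
    StabilizesBlock (Subgroup.centralizer (Q : Set G)) f y}
  one_mem' := ⟨one_mem _, stabilizesBlock_iff.2 ⟨one_mem _, conjSelf_one _ f⟩⟩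
  mul_mem' := by
    rintro a b ⟨ha, ha'⟩ ⟨hb, hb'⟩
    obtain ⟨ha1, ha2⟩ := stabilizesBlock_iff.1 ha'
    obtain ⟨hb1, hb2⟩ := stabilizesBlock_iff.1 hb'
    exact ⟨mul_mem ha hb,
      stabilizesBlock_iff.2 ⟨mul_mem ha1 hb1, by rw [conjSelf_mul ha1 hb1, hb2, ha2]⟩⟩
  inv_mem' := by
    rintro a ⟨ha, ha'⟩
    obtain ⟨ha1, ha2⟩ := stabilizesBlock_iff.1 ha'
    refine ⟨inv_mem ha, stabilizesBlock_iff.2 ⟨inv_mem ha1, ?_⟩⟩
    conv_lhs => rw [← ha2]
    rw [← conjSelf_mul (inv_mem ha1) ha1, conjSelf_eq (inv_mul_cancel a) _ (one_mem _), conjSelf_one]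

theorem mem_pairStab {Q : Subgroup G} {f : Set (IrrCharacter (Subgroup.centralizer (Q : Set G)))}
    {y : G} : y ∈ pairStab Q f ↔ y ∈ Subgroup.normalizer (Q : Set G) ∧
      StabilizesBlock (Subgroup.centralizer (Q : Set G)) f y := Iff.rfl

theorem eq_pairStab {Q T : Subgroup G} {f : Set (IrrCharacter (Subgroup.centralizer (Q : Set G)))}
    (hT : ∀ y : G, y ∈ T ↔ y ∈ Subgroup.normalizer (Q : Set G) ∧
      StabilizesBlock (Subgroup.centralizer (Q : Set G)) f y) : T = pairStab Q f :=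
  Subgroup.ext hT

theorem centralizer_le_pairStab (Q : Subgroup G)
    (f : Set (IrrCharacter (Subgroup.centralizer (Q : Set G)))) :
    Subgroup.centralizer (Q : Set G) ≤ pairStab Q f := fun _ hy =>
  ⟨centralizer_le_normalizer' Q hy, stabilizesBlock_of_mem hy⟩

theorem pairStab_le_normalizer (Q : Subgroup G)
    (f : Set (IrrCharacter (Subgroup.centralizer (Q : Set G)))) :
    pairStab Q f ≤ Subgroup.normalizer (Q : Set G) := fun _ hy => hy.1

theorem le_pairStab (Q : Subgroup G)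
    (f : Set (IrrCharacter (Subgroup.centralizer (Q : Set G)))) : Q ≤ pairStab Q f := fun x hx => by
  refine ⟨Subgroup.le_normalizer hx, stabilizesBlock_iff.2
    ⟨normalizer_le_normalizer_centralizer Q (Subgroup.le_normalizer hx), ?_⟩⟩
  refine (Set.image_congr fun χ _ => ?_).trans (Set.image_id f)
  refine Char.irr_ext fun k => ?_
  rw [mapIrr_apply]
  refine congrArg _ (Subtype.ext ?_)
  rw [conjEquiv_symm_apply, mul_assoc, ← Subgroup.mem_centralizer_iff.1 k.2 x hx,
    inv_mul_cancel_left]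

theorem map_conj_pairStab_le {Q : Subgroup G} (x : G)
    (f : Set (IrrCharacter (Subgroup.centralizer (Q : Set G)))) :
    (pairStab Q f).map (MulAut.conj x).toMonoidHom ≤
      pairStab (Q.map (MulAut.conj x).toMonoidHom) (conjBlock Q x f) := by
  rintro _ ⟨y, hy, rfl⟩
  exact ⟨Subgroup.le_normalizer_map _ (Subgroup.mem_map_of_mem _ hy.1),
    stabilizesBlock_conjBlock hy.2⟩

variable {M : Ideal AlgInt} [M.IsPrime]

theorem subIdem_coeff_of_block {H K : Subgroup G} {f : Set (IrrCharacter H)} (hf : IsPBlock M f)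
    {F : Set (IrrCharacter K)} (hF : IsPBlock M F)
    (hco : ∀ k : K, blockCoeff F k = subgroupBlockCoeff H f (k : G)) (k : K) :
    (blockIdemBar M F).coeff k = (subIdem M H f).coeff (k : G) := by
  have h1 : ((blockIdemO M F).coeff k : ℂ) = ((inclElt H (blockIdemO M f)).coeff (k : G) : ℂ) := by
    rw [coe_coeff_inclElt_blockIdemO hf, ← hco, ← coeff_inc, inc_blockIdemO hF, coeff_blockIdem]
  rw [blockIdemBar, coeff_red, Subtype.ext h1, ← coeff_red, red_inclElt]
  rfl

theorem brv_of_pairVal {X : Subgroup G} {a : MonoidAlgebra (Res M) G}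
    {ξ : IrrCharacter (Subgroup.centralizer (X : Set G))} (h : pairVal X a ξ ≠ 0) : Brv X a := by
  obtain ⟨c, hc, -⟩ := exists_coeff_ne_zero_of_omegaBar_ne_zero h
  exact ⟨c, c.2, by rwa [coeff_resC] at hc⟩

variable {p : ℕ} [Fact p.Prime] (hM : IsPModular p M)
include hM

section DefectGroup

variable {Q K : Subgroup G} {f : Set (IrrCharacter (Subgroup.centralizer (Q : Set G)))}
  (hf : IsPBlock M f) (hCK : Subgroup.centralizer (Q : Set G) ≤ K)
  {F : Set (IrrCharacter K)} (hF : IsPBlock M F)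
  (hco : ∀ k : K, blockCoeff F k = subgroupBlockCoeff (Subgroup.centralizer (Q : Set G)) f (k : G))
include hf hCK hF hco

omit [Fact p.Prime] hM in
theorem brv_iff {X : Subgroup G} (hX : X ≤ K) :
    (∃ k, (blockIdemBar M F).coeff k ≠ 0 ∧
      k ∈ Subgroup.centralizer ((X.subgroupOf K : Subgroup K) : Set K)) ↔
    Brv X (subIdem M (Subgroup.centralizer (Q : Set G)) f) := by
  constructor
  · rintro ⟨k, hk, hkX⟩
    refine ⟨(k : G), Subgroup.mem_centralizer_iff.2 fun u hu => ?_, ?_⟩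
    · exact congrArg Subtype.val (Subgroup.mem_centralizer_iff.1 hkX ⟨u, hX hu⟩ hu)
    · rwa [← subIdem_coeff_of_block hf hF hco]
  · rintro ⟨c, hc, hne⟩
    have hcQ : c ∈ Subgroup.centralizer (Q : Set G) := by
      by_contra h
      exact hne (coeff_inclElt_of_notMem _ _ h)
    refine ⟨⟨c, hCK hcQ⟩, by rwa [subIdem_coeff_of_block hf hF hco], ?_⟩
    exact Subgroup.mem_centralizer_iff.2 fun u hu =>
      Subtype.ext (Subgroup.mem_centralizer_iff.1 hc (u : G) hu)

theorem brv_subConj_iff {D : Subgroup K} (hD : IsDefectGroup p M F D) {X : Subgroup G} (hX : X ≤ K)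
    (hXp : IsPGroup p X) :
    Brv X (subIdem M (Subgroup.centralizer (Q : Set G)) f) ↔ SubConj (X.subgroupOf K) D := by
  rw [← brv_iff hf hCK hF hco hX]
  exact exists_coeff_ne_zero_centralizer_iff hM hF hD (hXp.comap_of_injective _ K.subtype_injective)

theorem isDefectGroup_iff_brv {X : Subgroup G} (hX : X ≤ K) (hXp : IsPGroup p X) :
    IsDefectGroup p M F (X.subgroupOf K) ↔
      Brv X (subIdem M (Subgroup.centralizer (Q : Set G)) f) ∧
      ∀ Y : Subgroup G, Y ≤ K → IsPGroup p Y →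
        Brv Y (subIdem M (Subgroup.centralizer (Q : Set G)) f) → Nat.card Y ≤ Nat.card X := by
  constructor
  · intro h
    refine ⟨(brv_subConj_iff hM hf hCK hF hco h hX hXp).2 (SubConj.of_le le_rfl),
      fun Y hY hYp hbr => ?_⟩
    have := ((brv_subConj_iff hM hf hCK hF hco h hY hYp).1 hbr).card_dvd
    rw [CfsgLib.Fusion.card_subgroupOf_eq hY, CfsgLib.Fusion.card_subgroupOf_eq hX] at this
    exact Nat.le_of_dvd Nat.card_pos this
  · rintro ⟨hbr, hmax⟩
    obtain ⟨D, hD⟩ := exists_isDefectGroup (p := p) hF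
    have h1 := (brv_subConj_iff hM hf hCK hF hco hD hX hXp).1 hbr
    have hDG : D.map K.subtype ≤ K := Subgroup.map_subtype_le D
    have hDeq : (D.map K.subtype).subgroupOf K = D :=
      Subgroup.comap_map_eq_self_of_injective K.subtype_injective D
    have hbrD : Brv (D.map K.subtype) (subIdem M (Subgroup.centralizer (Q : Set G)) f) :=
      (brv_subConj_iff hM hf hCK hF hco hD hDG ((IsDefectGroup.isPGroup hD).map _)).2
        (hDeq.symm ▸ SubConj.of_le le_rfl)
    have h2 := hmax _ hDG ((IsDefectGroup.isPGroup hD).map _) hbrD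
    rw [← CfsgLib.Fusion.card_subgroupOf_eq hX, ← CfsgLib.Fusion.card_subgroupOf_eq hDG, hDeq] at h2
    obtain ⟨x, hx⟩ := SubConj.iff_map_le.1 h1
    have heq : (X.subgroupOf K).map (MulAut.conj x).toMonoidHom = D :=
      Subgroup.eq_of_le_of_card_ge hx (h2.trans (card_map_conj x _).symm.le)
    have h3 := IsDefectGroup.map_conj hD x⁻¹
    rwa [← heq, map_conj_conj] at h3

theorem exists_brv_card_max :
    ∃ X : Subgroup G, X ≤ K ∧ IsPGroup p X ∧ IsDefectGroup p M F (X.subgroupOf K) := by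
  obtain ⟨D, hD⟩ := exists_isDefectGroup (p := p) hF
  refine ⟨D.map K.subtype, Subgroup.map_subtype_le D, (IsDefectGroup.isPGroup hD).map _, ?_⟩
  rwa [show (D.map K.subtype).subgroupOf K = D from
    Subgroup.comap_map_eq_self_of_injective K.subtype_injective D]

theorem exists_defectGroup_ge {X : Subgroup G} (hX : X ≤ K) (hXp : IsPGroup p X)
    (hbr : Brv X (subIdem M (Subgroup.centralizer (Q : Set G)) f)) :
    ∃ D : Subgroup K, IsDefectGroup p M F D ∧ X.subgroupOf K ≤ D := by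
  obtain ⟨D, hD⟩ := exists_isDefectGroup (p := p) hF
  obtain ⟨x, hx⟩ := SubConj.iff_map_le.1 ((brv_subConj_iff hM hf hCK hF hco hD hX hXp).1 hbr)
  refine ⟨D.map (MulAut.conj x⁻¹).toMonoidHom, IsDefectGroup.map_conj hD x⁻¹, ?_⟩
  have := Subgroup.map_mono (f := (MulAut.conj x⁻¹).toMonoidHom) hx
  rwa [map_conj_conj] at this

end DefectGroup

section Maximal

variable {B : Set (IrrCharacter G)} {P : Subgroup G}
  {e : Set (IrrCharacter (Subgroup.centralizer (P : Set G)))}

omit [Fact p.Prime] [M.IsPrime] hM in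
theorem conjPair_of_mem {x : G} (hx : x ∈ P) :
    conjPair x ⟨P, e⟩ = ⟨P, e⟩ := by
  have h := (stabilizesBlock_iff.1 ((le_pairStab P e) hx).2)
  obtain ⟨hxC, hx'⟩ := h
  rw [conjPair_self (Subgroup.le_normalizer hx) hxC, hx']

/-- Below a pair the pair on each subgroup is unique. -/
theorem eq_of_subpairLE {a b : BrauerPairIdx G} {P : Subgroup G}
    {e : Set (IrrCharacter (Subgroup.centralizer (P : Set G)))} (hPe : IsBrauerPair p M P e)
    (ha : Relation.ReflTransGen (NormalSubpairRel p M) a ⟨P, e⟩)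
    (hb : Relation.ReflTransGen (NormalSubpairRel p M) b ⟨P, e⟩) (h : a.1 = b.1) : a = b := by
  obtain ⟨Q, f⟩ := a
  obtain ⟨R, g⟩ := b
  simp only at h
  subst h
  exact congrArg _ ((unique_below hM (Nat.card P) (Nat.sub_le _ _) hPe).2 f g ha hb)

/-- Two comparable subgroups below a pair carry comparable pairs. -/
theorem subpairLE_of_le {a b : BrauerPairIdx G} {P : Subgroup G}
    {e : Set (IrrCharacter (Subgroup.centralizer (P : Set G)))} (hPe : IsBrauerPair p M P e)
    (ha : Relation.ReflTransGen (NormalSubpairRel p M) a ⟨P, e⟩)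
    (hb : Relation.ReflTransGen (NormalSubpairRel p M) b ⟨P, e⟩) (h : a.1 ≤ b.1) :
    Relation.ReflTransGen (NormalSubpairRel p M) a b := by
  have hbp := isBrauerPair_of_subpairLE hb hPe
  obtain ⟨f, -, hf⟩ := exists_below hM (Nat.card b.1) (Nat.sub_le _ _) hbp h
  rw [eq_of_subpairLE hM hPe ha (b := ⟨a.1, f⟩) (Relation.ReflTransGen.trans hf hb) rfl]
  exact hf

/-- Below a pair an inclusion of subgroups, normal, is a normal inclusion of pairs. -/
theorem normalSubpair_of_le {Q R : Subgroup G}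
    {f : Set (IrrCharacter (Subgroup.centralizer (Q : Set G)))} (hPe : IsBrauerPair p M P e)
    (hle : SubpairLE p M Q f P e) (hQR : Q ≤ R) (hRP : R ≤ P)
    (hRN : R ≤ Subgroup.normalizer (Q : Set G)) :
    ∃ g : Set (IrrCharacter (Subgroup.centralizer (R : Set G))),
      IsNormalSubpair p M Q f R g ∧ SubpairLE p M R g P e := by
  obtain ⟨g, hg, hgle⟩ := exists_below hM (Nat.card P) (Nat.sub_le _ _) hPe hRP
  exact ⟨g, (unique_below hM (Nat.card R) (Nat.sub_le _ _) ⟨hPe.1.to_le hRP, hg⟩).1 f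
    (subpairLE_of_le hM hPe (a := ⟨Q, f⟩) (b := ⟨R, g⟩) hle hgle hQR) hRN, hgle⟩

theorem normalizerIn_le_pairStab {Q : Subgroup G}
    {f : Set (IrrCharacter (Subgroup.centralizer (Q : Set G)))} (hPe : IsBrauerPair p M P e)
    (hle : SubpairLE p M Q f P e) : P ⊓ Subgroup.normalizer (Q : Set G) ≤ pairStab Q f := by
  obtain ⟨g, hg, -⟩ := normalSubpair_of_le hM hPe hle
    (le_inf (le_of_subpairLE hle) Subgroup.le_normalizer) inf_le_left inf_le_right
  obtain ⟨-, -, -, hN, hst, -⟩ := isNormalSubpair_iff.1 hg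
  exact fun u hu => ⟨hN hu, hst u hu⟩

theorem brv_normalizerIn {Q : Subgroup G}
    {f : Set (IrrCharacter (Subgroup.centralizer (Q : Set G)))} (hPe : IsBrauerPair p M P e)
    (hle : SubpairLE p M Q f P e) :
    Brv (P ⊓ Subgroup.normalizer (Q : Set G)) (subIdem M (Subgroup.centralizer (Q : Set G)) f) := by
  obtain ⟨g, hg, -⟩ := normalSubpair_of_le hM hPe hle
    (le_inf (le_of_subpairLE hle) Subgroup.le_normalizer) inf_le_left inf_le_right
  obtain ⟨-, hg', -, -, -, hval⟩ := isNormalSubpair_iff.1 hg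
  obtain ⟨ξ, hξ⟩ := IsPBlock.nonempty hg'.2
  exact brv_of_pairVal (ξ := ξ) (by rw [hval ξ hξ]; exact one_ne_zero)

theorem brv_centralizerIn {Q : Subgroup G}
    {f : Set (IrrCharacter (Subgroup.centralizer (Q : Set G)))} (hPe : IsBrauerPair p M P e)
    (hle : SubpairLE p M Q f P e) :
    Brv (P ⊓ Subgroup.centralizer (Q : Set G)) (subIdem M (Subgroup.centralizer (Q : Set G)) f) :=
  (brv_normalizerIn hM hPe hle).mono (inf_le_inf_left _ (centralizer_le_normalizer' Q))

/-- A subgroup seen by the idempotent of `f` is moved into `P`, carrying the pair below `(P, e)`. -/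
theorem exists_conj_of_brv (hmax : IsMaximalBrauerPair p M B P e) {Q R : Subgroup G}
    {f : Set (IrrCharacter (Subgroup.centralizer (Q : Set G)))}
    (hQf : IsBrauerPairOf p M B Q f) (hQR : Q ≤ R) (hR : IsPGroup p R) (hRT : R ≤ pairStab Q f)
    (hbr : Brv R (subIdem M (Subgroup.centralizer (Q : Set G)) f)) :
    ∃ x : G, Relation.ReflTransGen (NormalSubpairRel p M) (conjPair x ⟨Q, f⟩) ⟨P, e⟩ ∧
      R.map (MulAut.conj x).toMonoidHom ≤ P := by
  have := charP_residueField hM
  have hst : ∀ u ∈ R, StabilizesBlock (Subgroup.centralizer (Q : Set G)) f u := fun u hu => (hRT hu).2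
  have hC : InvUnder (Subgroup.centralizer (R : Set G))
      (subIdem M (Subgroup.centralizer (Q : Set G)) f) :=
    invUnder_subIdem hQf.1.2 fun u hu => stabilizesBlock_of_mem (centralizer_le_of_le hQR hu)
  have hne : resC R (subIdem M (Subgroup.centralizer (Q : Set G)) f) ≠ 0 := fun h0 => by
    obtain ⟨c, hc, hne⟩ := hbr
    refine hne ?_
    have := congrArg (fun z : MonoidAlgebra (Res M) (Subgroup.centralizer (R : Set G)) =>
      z.coeff ⟨c, hc⟩) h0
    simpa using this
  obtain ⟨ξ, hξ⟩ := exists_omegaBar_eq_one (isCentralElt_resC hC)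
    (by rw [← resC_mul hR (invUnder_subIdem hQf.1.2 hst) (invUnder_subIdem hQf.1.2 hst),
      subIdem_mul_self hQf.1.2]) hne
  have hnorm : IsNormalSubpair p M Q f R (blockOf M (ξ : Subgroup.centralizer (R : Set G) → ℂ)) :=
    normalSubpair_of_rep hQf.1 ⟨hR, isPBlock_blockOf ξ⟩ hQR
      (hRT.trans (pairStab_le_normalizer Q f)) hst (mem_blockOf_self ξ) hξ
  obtain ⟨x, hx⟩ := exists_conj_le hM hmax ((normalSubpair_pairOf_iff hM hnorm B).2 hQf)
  exact ⟨x, Relation.ReflTransGen.head (normalSubpairRel_conjPair x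
    (show NormalSubpairRel p M ⟨Q, f⟩ ⟨R, _⟩ from hnorm)) hx, le_of_subpairLE hx⟩

/-- Some conjugate of a pair has the centralizer in `P` as defect group of its block. -/
theorem exists_centralizer_max (hmax : IsMaximalBrauerPair p M B P e) {Q : Subgroup G}
    {f : Set (IrrCharacter (Subgroup.centralizer (Q : Set G)))} (hQf : IsBrauerPairOf p M B Q f) :
    ∃ x : G, Relation.ReflTransGen (NormalSubpairRel p M) (conjPair x ⟨Q, f⟩) ⟨P, e⟩ ∧
      ∀ Y : Subgroup G, Y ≤ Subgroup.centralizer (Q : Set G) → IsPGroup p Y →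
        Brv Y (subIdem M (Subgroup.centralizer (Q : Set G)) f) →
        Nat.card Y ≤ Nat.card (P ⊓ Subgroup.centralizer
          ((Q.map (MulAut.conj x).toMonoidHom : Subgroup G) : Set G) : Subgroup G) := by
  have hco : ∀ k : Subgroup.centralizer (Q : Set G), blockCoeff f k =
      subgroupBlockCoeff (Subgroup.centralizer (Q : Set G)) f (k : G) := fun k => by
    unfold subgroupBlockCoeff
    rw [dif_pos k.2]
  obtain ⟨D, hDC, hDp, hD⟩ := exists_brv_card_max hM hQf.1.2 le_rfl hQf.1.2 hco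
  obtain ⟨hbr, hDmax⟩ := (isDefectGroup_iff_brv hM hQf.1.2 le_rfl hQf.1.2 hco hDC hDp).1 hD
  have hsup : IsPGroup p (D ⊔ Q : Subgroup G) :=
    IsPGroup.to_sup_of_normal_right' hDp hQf.1.1 (hDC.trans (centralizer_le_normalizer' Q))
  have hbr' : Brv (D ⊔ Q) (subIdem M (Subgroup.centralizer (Q : Set G)) f) := by
    obtain ⟨c, hc, hne⟩ := hbr
    have hcQ : c ∈ Subgroup.centralizer (Q : Set G) := by
      by_contra h
      exact hne (coeff_inclElt_of_notMem _ _ h)
    refine ⟨c, ?_, hne⟩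
    rw [mem_centralizer_iff_le] at hc hcQ ⊢
    exact sup_le hc hcQ
  obtain ⟨x, hx, hxR⟩ := exists_conj_of_brv hM hmax hQf le_sup_right hsup
    (sup_le (hDC.trans (centralizer_le_pairStab Q f)) (le_pairStab Q f)) hbr'
  refine ⟨x, hx, fun Y hY hYp hYb => ((hDmax Y hY hYp hYb).trans (card_map_conj x D).symm.le).trans
    (Subgroup.card_le_of_le (le_inf ((Subgroup.map_mono le_sup_left).trans hxR) ?_))⟩
  rintro _ ⟨d, hd, rfl⟩
  exact (mem_centralizer_map_conj_iff Q x d).1 (hDC hd)

/-- Some conjugate of a pair has the normalizer in `P` as defect group over the stabilizer. -/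
theorem exists_normalizer_max (hmax : IsMaximalBrauerPair p M B P e) {Q : Subgroup G}
    {f : Set (IrrCharacter (Subgroup.centralizer (Q : Set G)))} (hQf : IsBrauerPairOf p M B Q f) :
    ∃ x : G, Relation.ReflTransGen (NormalSubpairRel p M) (conjPair x ⟨Q, f⟩) ⟨P, e⟩ ∧
      ∀ Y : Subgroup G, Y ≤ pairStab Q f → IsPGroup p Y →
        Brv Y (subIdem M (Subgroup.centralizer (Q : Set G)) f) →
        Nat.card Y ≤ Nat.card (P ⊓ Subgroup.normalizer
          ((Q.map (MulAut.conj x).toMonoidHom : Subgroup G) : Set G) : Subgroup G) := by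
  obtain ⟨F, hF, hco⟩ := exists_block_over hM hQf.1.1 (le_pairStab Q f)
    (centralizer_le_pairStab Q f) (pairStab_le_normalizer Q f) hQf.1.2 fun x hx => hx.2
  obtain ⟨D, hDT, hDp, hD⟩ := exists_brv_card_max hM hQf.1.2 (centralizer_le_pairStab Q f) hF hco
  obtain ⟨hbr, hDmax⟩ :=
    (isDefectGroup_iff_brv hM hQf.1.2 (centralizer_le_pairStab Q f) hF hco hDT hDp).1 hD
  have hn : (Q.subgroupOf (pairStab Q f)).Normal :=
    (Subgroup.normal_subgroupOf_iff_le_normalizer (le_pairStab Q f)).2 (pairStab_le_normalizer Q f)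
  have hQD : Q ≤ D := by
    have h1 := IsDefectGroup.normal_le hM hF hD (P := Q.subgroupOf (pairStab Q f))
      (hQf.1.1.comap_of_injective _ (pairStab Q f).subtype_injective)
    exact fun q hq => h1 (show (⟨q, le_pairStab Q f hq⟩ : pairStab Q f) ∈
      Q.subgroupOf (pairStab Q f) from hq)
  obtain ⟨x, hx, hxR⟩ := exists_conj_of_brv hM hmax hQf hQD hDp hDT hbr
  exact ⟨x, hx, fun Y hY hYp hYb => ((hDmax Y hY hYp hYb).trans (card_map_conj x D).symm.le).trans
    (Subgroup.card_le_of_le (le_inf hxR ((Subgroup.map_mono (hDT.trans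
      (pairStab_le_normalizer Q f))).trans (Subgroup.le_normalizer_map _))))⟩

omit [Fact p.Prime] hM in
/-- Transport of the maximality back along a conjugation. -/
theorem brv_conj_back {Q Y : Subgroup G}
    {f : Set (IrrCharacter (Subgroup.centralizer (Q : Set G)))} (hf : IsPBlock M f) (x : G)
    (h : Brv Y (subIdem M (Subgroup.centralizer
      ((Q.map (MulAut.conj x).toMonoidHom : Subgroup G) : Set G)) (conjBlock Q x f))) :
    Brv (Y.map (MulAut.conj x⁻¹).toMonoidHom) (subIdem M (Subgroup.centralizer (Q : Set G)) f) := by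
  rw [subIdem_conjBlock Q x hf] at h
  obtain ⟨c, hc, hne⟩ := h.conj x⁻¹
  refine ⟨c, hc, ?_⟩
  rw [coeff_conjAlg, coeff_conjAlg] at hne
  rwa [show x⁻¹ * (x⁻¹⁻¹ * c * x⁻¹) * x = c by group] at hne

omit [Fintype G] [Fact p.Prime] [M.IsPrime] hM in
theorem map_inv_le_centralizer {Q Y : Subgroup G} (x : G) (h : Y ≤ Subgroup.centralizer
    ((Q.map (MulAut.conj x).toMonoidHom : Subgroup G) : Set G)) :
    Y.map (MulAut.conj x⁻¹).toMonoidHom ≤ Subgroup.centralizer (Q : Set G) := by
  rintro _ ⟨y, hy, rfl⟩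
  refine (mem_centralizer_map_conj_iff Q x _).2 ?_
  have : x * (MulAut.conj x⁻¹).toMonoidHom y * x⁻¹ = y := by simp [mul_assoc]
  rw [this]
  exact h hy

omit [Fact p.Prime] [M.IsPrime] hM in
theorem map_inv_le_pairStab {Q Y : Subgroup G}
    {f : Set (IrrCharacter (Subgroup.centralizer (Q : Set G)))} (x : G)
    (h : Y ≤ pairStab (Q.map (MulAut.conj x).toMonoidHom) (conjBlock Q x f)) :
    Y.map (MulAut.conj x⁻¹).toMonoidHom ≤ pairStab Q f := by
  have h1 : conjPair x⁻¹ (conjPair x ⟨Q, f⟩) = ⟨Q, f⟩ := by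
    rw [← conjPair_mul, inv_mul_cancel, conjPair_one]
  have h2 : pairStab (conjPair x⁻¹ (conjPair x ⟨Q, f⟩)).1 (conjPair x⁻¹ (conjPair x ⟨Q, f⟩)).2 =
      pairStab Q f := congrArg (fun a : BrauerPairIdx G => pairStab a.1 a.2) h1
  rw [← h2]
  exact (Subgroup.map_mono h).trans (map_conj_pairStab_le x⁻¹ _)

end Maximal

end CfsgLib.Pairs
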