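import Cfsg.Agent.Lib.Pairs.Transport
import Cfsg.Agent.Lib.Blocks.Induced
import Cfsg.Prelude.Def_BrauerPairs
import Mathlib.Algebra.MonoidAlgebra.MapDomain
import Mathlib.GroupTheory.GroupAction.ConjAct

/-!
# The Brauer homomorphism on elements invariant under a `p`-group

`resC P a` truncates to `C(P)`; it is multiplicative on `P`-invariant elements.
`pairVal P a ξ` is the reduced central character of `ξ` at that truncation.
-/

namespace CfsgLib.Pairs

open Cfsg CfsgLib.Blocks MonoidAlgebra

variable {G : Type*} [Group G]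

/-- A fixed choice of `Fintype` on subgroups. -/
noncomputable scoped instance (priority := high) subgroupFintype [Finite G] (H : Subgroup G) :
    Fintype H := Fintype.ofFinite H

/-- The coefficients are constant under conjugation by the elements of `P`. -/
def InvUnder {R : Type*} [Semiring R] (P : Subgroup G) (a : MonoidAlgebra R G) : Prop :=
  ∀ u ∈ P, ∀ x, a.coeff (u * x * u⁻¹) = a.coeff x

theorem InvUnder.of_isCentralElt {R : Type*} [Semiring R] (P : Subgroup G) {a : MonoidAlgebra R G}
    (ha : IsCentralElt a) : InvUnder P a := fun u _ x => ha x u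

theorem InvUnder.mono {R : Type*} [Semiring R] {P Q : Subgroup G} {a : MonoidAlgebra R G}
    (ha : InvUnder P a) (h : Q ≤ P) : InvUnder Q a := fun u hu x => ha u (h hu) x

/-- The inclusion of the group algebra of a subgroup. -/
noncomputable def inclElt {R : Type*} [Semiring R] (H : Subgroup G) :
    MonoidAlgebra R H →+* MonoidAlgebra R G :=
  mapDomainRingHom R H.subtype

theorem coeff_inclElt {R : Type*} [Semiring R] (H : Subgroup G) (a : MonoidAlgebra R H) (h : H) :
    (inclElt H a).coeff (h : G) = a.coeff h :=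
  Finsupp.mapDomain_apply H.subtype_injective a.coeff h

theorem coeff_inclElt_of_notMem {R : Type*} [Semiring R] (H : Subgroup G) (a : MonoidAlgebra R H)
    {g : G} (hg : g ∉ H) : (inclElt H a).coeff g = 0 :=
  Finsupp.mapDomain_of_notMem_range a.coeff g (by rintro ⟨h, rfl⟩; exact hg h.2)

theorem InvUnder.inclElt {R : Type*} [Semiring R] {P H : Subgroup G}
    (hPH : P ≤ Subgroup.normalizer (H : Set G)) {a : MonoidAlgebra R H}
    (ha : ∀ u ∈ P, ∀ k k' : H, (k' : G) = u * k * u⁻¹ → a.coeff k' = a.coeff k) :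
    InvUnder P (inclElt H a) := by
  intro u hu x
  by_cases hx : x ∈ H
  · have hx' := (Subgroup.mem_normalizer_iff.1 (hPH hu) x).1 hx
    exact (coeff_inclElt H a ⟨_, hx'⟩).trans
      ((ha u hu ⟨x, hx⟩ ⟨_, hx'⟩ rfl).trans (coeff_inclElt H a ⟨x, hx⟩).symm)
  · rw [coeff_inclElt_of_notMem H a hx,
      coeff_inclElt_of_notMem H a fun h => hx ((Subgroup.mem_normalizer_iff.1 (hPH hu) x).2 h)]

variable [Fintype G]

theorem InvUnder.mul {R : Type*} [Semiring R] {P : Subgroup G} {a b : MonoidAlgebra R G}
    (ha : InvUnder P a) (hb : InvUnder P b) : InvUnder P (a * b) := by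
  intro u hu x
  rw [coeff_mul_eq_sum, coeff_mul_eq_sum]
  refine Fintype.sum_equiv (MulAut.conj u⁻¹).toEquiv _ _ fun y => ?_
  simp only [MulEquiv.toEquiv_eq_coe, EquivLike.coe_coe, MulAut.conj_apply, inv_inv]
  rw [← ha u hu (u⁻¹ * y * u), ← hb u hu ((u⁻¹ * y * u)⁻¹ * x)]
  congr 2 <;> group

/-- The truncation to the centralizer of `P`. -/
noncomputable def resC {R : Type*} [Semiring R] (P : Subgroup G) (a : MonoidAlgebra R G) :
    MonoidAlgebra R (Subgroup.centralizer (P : Set G)) :=
  resElt (Subgroup.centralizer (P : Set G)) a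

@[simp]
theorem coeff_resC {R : Type*} [Semiring R] (P : Subgroup G) (a : MonoidAlgebra R G)
    (c : Subgroup.centralizer (P : Set G)) : (resC P a).coeff c = a.coeff c := coeff_resElt _ a c

theorem resElt_inclElt {R : Type*} [Semiring R] (H : Subgroup G) (a : MonoidAlgebra R H) :
    resElt H (inclElt H a) = a :=
  MonoidAlgebra.ext (Finsupp.ext fun h => by rw [coeff_resElt, coeff_inclElt])

theorem resC_add {R : Type*} [Semiring R] (P : Subgroup G) (a b : MonoidAlgebra R G) :
    resC P (a + b) = resC P a + resC P b :=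
  MonoidAlgebra.ext (Finsupp.ext fun c => by simp)

theorem resC_sub {R : Type*} [Ring R] (P : Subgroup G) (a b : MonoidAlgebra R G) :
    resC P (a - b) = resC P a - resC P b :=
  MonoidAlgebra.ext (Finsupp.ext fun c => by simp)

theorem resC_smul {R : Type*} [Semiring R] (P : Subgroup G) (r : R) (a : MonoidAlgebra R G) :
    resC P (r • a) = r • resC P a :=
  MonoidAlgebra.ext (Finsupp.ext fun c => by simp)

theorem resC_zero {R : Type*} [Semiring R] (P : Subgroup G) :
    resC P (0 : MonoidAlgebra R G) = 0 :=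
  MonoidAlgebra.ext (Finsupp.ext fun c => by simp)

theorem resC_sum {R : Type*} [Semiring R] {ι : Type*} (P : Subgroup G) (s : Finset ι)
    (a : ι → MonoidAlgebra R G) : resC P (∑ i ∈ s, a i) = ∑ i ∈ s, resC P (a i) := by
  classical
  induction s using Finset.induction with
  | empty => exact resC_zero P
  | insert i s hi ih => rw [Finset.sum_insert hi, Finset.sum_insert hi, resC_add, ih]

theorem resC_one {R : Type*} [Semiring R] (P : Subgroup G) :
    resC P (1 : MonoidAlgebra R G) = 1 := by
  classical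
  refine MonoidAlgebra.ext (Finsupp.ext fun c => ?_)
  rw [coeff_resC, one_def, one_def, coeff_single, coeff_single, Finsupp.single_apply,
    Finsupp.single_apply]
  exact if_congr (by simp [Subtype.ext_iff]) rfl rfl

theorem isCentralElt_resC {R : Type*} [Semiring R] {P : Subgroup G} {a : MonoidAlgebra R G}
    (ha : InvUnder (Subgroup.centralizer (P : Set G)) a) : IsCentralElt (resC P a) :=
  fun g h => by simpa using ha h h.2 g

section Hom

variable {p : ℕ} [Fact p.Prime] {F : Type*} [CommRing F] [CharP F p]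

theorem resC_mul {P : Subgroup G} (hP : IsPGroup p P) {a b : MonoidAlgebra F G}
    (ha : InvUnder P a) (hb : InvUnder P b) : resC P (a * b) = resC P a * resC P b := by
  classical
  refine MonoidAlgebra.ext (Finsupp.ext fun c => ?_)
  rw [coeff_resC, coeff_mul_eq_sum_centralizer hP ha hb c.2, coeff_mul_eq_sum]
  simp only [coeff_resC, Subgroup.coe_mul, Subgroup.coe_inv]
  exact Finset.sum_subtype (Finset.univ.filter (· ∈ Subgroup.centralizer (P : Set G)))
    (fun x => by simp) fun x => a.coeff x * b.coeff (x⁻¹ * c)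

theorem resC_pow {P : Subgroup G} (hP : IsPGroup p P) {a : MonoidAlgebra F G}
    (ha : InvUnder P a) (n : ℕ) : resC P (a ^ n) = resC P a ^ n := by
  induction n with
  | zero => simp [resC_one]
  | succ n ih =>
    have h : ∀ m : ℕ, InvUnder P (a ^ m) := fun m => by
      induction m with
      | zero =>
        rw [pow_zero]
        exact InvUnder.of_isCentralElt P IsCentralElt.one
      | succ m hm => rw [pow_succ]; exact hm.mul ha
    rw [pow_succ, pow_succ, resC_mul hP (h n) ha, ih]

end Hom

section PairVal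

variable {M : Ideal AlgInt} [M.IsPrime]

/-- The reduced central character of `ξ` at the truncation of `a` to `C(P)`. -/
noncomputable def pairVal (P : Subgroup G) (a : MonoidAlgebra (Res M) G)
    (ξ : IrrCharacter (Subgroup.centralizer (P : Set G))) : Res M :=
  omegaBar ξ (resC P a)

theorem pairVal_one (P : Subgroup G) (ξ : IrrCharacter (Subgroup.centralizer (P : Set G))) :
    pairVal P (1 : MonoidAlgebra (Res M) G) ξ = 1 := by rw [pairVal, resC_one, omegaBar_one]

theorem pairVal_zero (P : Subgroup G) (ξ : IrrCharacter (Subgroup.centralizer (P : Set G))) :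
    pairVal P (0 : MonoidAlgebra (Res M) G) ξ = 0 := by rw [pairVal, resC_zero, omegaBar_zero]

theorem pairVal_sub (P : Subgroup G) (a b : MonoidAlgebra (Res M) G)
    (ξ : IrrCharacter (Subgroup.centralizer (P : Set G))) :
    pairVal P (a - b) ξ = pairVal P a ξ - pairVal P b ξ := by
  simp only [pairVal, resC_sub, omegaBar_sub]

theorem pairVal_smul (P : Subgroup G) (r : Res M) (a : MonoidAlgebra (Res M) G)
    (ξ : IrrCharacter (Subgroup.centralizer (P : Set G))) :
    pairVal P (r • a) ξ = r * pairVal P a ξ := by simp only [pairVal, resC_smul, omegaBar_smul]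

theorem pairVal_sum {ι : Type*} (P : Subgroup G) (s : Finset ι)
    (a : ι → MonoidAlgebra (Res M) G) (ξ : IrrCharacter (Subgroup.centralizer (P : Set G))) :
    pairVal P (∑ i ∈ s, a i) ξ = ∑ i ∈ s, pairVal P (a i) ξ := by
  simp only [pairVal, resC_sum, omegaBar_sum]

theorem pairVal_congr {P : Subgroup G} (a : MonoidAlgebra (Res M) G)
    {ξ ξ' : IrrCharacter (Subgroup.centralizer (P : Set G))}
    (h : SameBlock M (ξ : Subgroup.centralizer (P : Set G) → ℂ)
      (ξ' : Subgroup.centralizer (P : Set G) → ℂ)) :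
    pairVal P a ξ = pairVal P a ξ' :=
  omegaBar_congr h _

variable {p : ℕ} [Fact p.Prime] (hM : IsPModular p M)
include hM

theorem pairVal_mul {P : Subgroup G} (hP : IsPGroup p P)
    (ξ : IrrCharacter (Subgroup.centralizer (P : Set G))) {a b : MonoidAlgebra (Res M) G}
    (ha : InvUnder P a) (hb : InvUnder P b)
    (ha' : InvUnder (Subgroup.centralizer (P : Set G)) a)
    (hb' : InvUnder (Subgroup.centralizer (P : Set G)) b) :
    pairVal P (a * b) ξ = pairVal P a ξ * pairVal P b ξ := by
  have := charP_residueField hM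
  rw [pairVal, resC_mul hP ha hb, omegaBar_mul ξ (isCentralElt_resC ha') (isCentralElt_resC hb')]
  rfl

theorem pairVal_eq_zero_of_isNilpotent {P : Subgroup G} (hP : IsPGroup p P)
    (ξ : IrrCharacter (Subgroup.centralizer (P : Set G))) {a : MonoidAlgebra (Res M) G}
    (ha : InvUnder P a) (ha' : InvUnder (Subgroup.centralizer (P : Set G)) a)
    (hnil : IsNilpotent a) : pairVal P a ξ = 0 := by
  have := charP_residueField hM
  obtain ⟨n, hn⟩ := hnil
  have h1 : omegaBar ξ (resC P a ^ n) = 0 := by rw [← resC_pow hP ha, hn, resC_zero, omegaBar_zero]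
  rw [omegaBar_pow ξ (isCentralElt_resC ha')] at h1
  refine (pow_eq_zero_iff (n := n) fun e => ?_).1 h1
  simp [e] at h1

end PairVal

/-! ### Translation of the definitions -/

section Bridge

variable {M : Ideal AlgInt} [M.IsPrime]

/-- The reduced idempotent of a set of characters of a subgroup, inside the algebra of `G`. -/
noncomputable def subIdem (M : Ideal AlgInt) [M.IsPrime] (H : Subgroup G)
    (e : Set (IrrCharacter H)) : MonoidAlgebra (Res M) G :=
  inclElt H (blockIdemBar M e)

theorem brauerOmega_sub_one_iff (P : Subgroup G) (β : G → ℂ) (a : MonoidAlgebra (localRing M) G)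
    (hβ : ∀ g, β g = (a.coeff g : ℂ)) (ha : InvUnder (Subgroup.centralizer (P : Set G)) a)
    (ξ : IrrCharacter (Subgroup.centralizer (P : Set G))) :
    MemLocalIdeal M (brauerOmega P β (ξ : Subgroup.centralizer (P : Set G) → ℂ) - 1) ↔
      pairVal P (red M a) ξ = 1 := by
  classical
  have hc := isCentralElt_resC ha
  have h1 : brauerOmega P β (ξ : Subgroup.centralizer (P : Set G) → ℂ) =
      omega (ξ : Subgroup.centralizer (P : Set G) → ℂ) (inc M (resC P a)) := by
    rw [brauerOmega, finsum_eq_sum_of_fintype, omega_apply, Finset.sum_div]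
    exact Finset.sum_congr rfl fun c _ => by rw [coeff_inc, coeff_resC, hβ]
  have h2 : resC P (red M a) = red M (resC P a) :=
    MonoidAlgebra.ext (Finsupp.ext fun c => by simp)
  rw [pairVal, h2, omegaBar_red ξ hc, h1, ← map_one (resHom M)]
  exact (residue_eq_iff (M := M) (z := ⟨_, omega_inc_mem ξ hc⟩) (w := 1)).symm

theorem memLocalIdeal_blockCoeff_pair_iff {B : Set (IrrCharacter G)} (hB : IsPBlock M B)
    (P : Subgroup G) (ξ : IrrCharacter (Subgroup.centralizer (P : Set G))) :
    MemLocalIdeal M (brauerOmega P (blockCoeff B) (ξ : Subgroup.centralizer (P : Set G) → ℂ) - 1) ↔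
      pairVal P (blockIdemBar M B) ξ = 1 :=
  brauerOmega_sub_one_iff P _ (blockIdemO M B)
    (fun g => by rw [← coeff_inc, inc_blockIdemO hB, coeff_blockIdem])
    (InvUnder.of_isCentralElt _ (isCentralElt_blockIdemO hB)) ξ

theorem invUnder_subIdem {H : Subgroup G} {e : Set (IrrCharacter H)} (he : IsPBlock M e)
    {P : Subgroup G} (hst : ∀ u ∈ P, StabilizesBlock H e u) : InvUnder P (subIdem M H e) := by
  refine InvUnder.inclElt (fun u hu => (hst u hu).1) fun u hu k k' hk => ?_
  obtain ⟨hx, hx'⟩ := stabilizesBlock_iff.1 (hst u hu)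
  have h := blockCoeff_conjSelf hx e k k' hk
  rw [hx'] at h
  simp only [blockIdemBar, coeff_red, blockIdemO, coeff_ofFun, dif_pos (blockCoeff_mem he _), h]

theorem invUnder_blockIdemO_incl {H : Subgroup G} {e : Set (IrrCharacter H)} (he : IsPBlock M e)
    {P : Subgroup G} (hst : ∀ u ∈ P, StabilizesBlock H e u) :
    InvUnder P (inclElt H (blockIdemO M e)) := by
  refine InvUnder.inclElt (fun u hu => (hst u hu).1) fun u hu k k' hk => ?_
  obtain ⟨hx, hx'⟩ := stabilizesBlock_iff.1 (hst u hu)
  have h := blockCoeff_conjSelf hx e k k' hk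
  rw [hx'] at h
  simp only [blockIdemO, coeff_ofFun, dif_pos (blockCoeff_mem he _), h]

theorem subgroupBlockCoeff_eq {H : Subgroup G} {e : Set (IrrCharacter H)} (he : IsPBlock M e)
    (g : G) : subgroupBlockCoeff H e g = ((inclElt H (blockIdemO M e)).coeff g : ℂ) := by
  unfold subgroupBlockCoeff
  split
  next h =>
    rw [coeff_inclElt H _ ⟨g, h⟩, ← coeff_inc, inc_blockIdemO he, coeff_blockIdem]
  next h => rw [coeff_inclElt_of_notMem H _ h]; rfl

theorem red_inclElt (H : Subgroup G) (a : MonoidAlgebra (localRing M) H) :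
    red M (inclElt H a) = inclElt H (red M a) := by
  refine MonoidAlgebra.ext (Finsupp.ext fun g => ?_)
  by_cases h : g ∈ H
  · rw [coeff_red, coeff_inclElt H a ⟨g, h⟩, coeff_inclElt H _ ⟨g, h⟩, coeff_red]
  · rw [coeff_red, coeff_inclElt_of_notMem H a h, coeff_inclElt_of_notMem H _ h, map_zero]

theorem stabilizesBlock_of_mem {H : Subgroup G} {e : Set (IrrCharacter H)} {x : G} (hx : x ∈ H) :
    StabilizesBlock H e x := by
  refine ⟨Subgroup.le_normalizer hx, fun χ hχ => ⟨χ, hχ, fun k k' hk => ?_⟩⟩
  have := Char.IsIrr.isClassFunction χ.2 k ⟨x, hx⟩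
  rwa [show (⟨x, hx⟩ : H) * k * (⟨x, hx⟩ : H)⁻¹ = k' from Subtype.ext hk.symm] at this

theorem memLocalIdeal_subCoeff_pair_iff {Q : Subgroup G}
    {f : Set (IrrCharacter (Subgroup.centralizer (Q : Set G)))} (hf : IsPBlock M f)
    {P : Subgroup G} (hQP : Q ≤ P) (ξ : IrrCharacter (Subgroup.centralizer (P : Set G))) :
    MemLocalIdeal M (brauerOmega P (subgroupBlockCoeff (Subgroup.centralizer (Q : Set G)) f)
        (ξ : Subgroup.centralizer (P : Set G) → ℂ) - 1) ↔
      pairVal P (subIdem M (Subgroup.centralizer (Q : Set G)) f) ξ = 1 := by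
  rw [brauerOmega_sub_one_iff P _ (inclElt _ (blockIdemO M f)) (subgroupBlockCoeff_eq hf)
    (invUnder_blockIdemO_incl hf fun u hu => stabilizesBlock_of_mem
      (Subgroup.centralizer_le (SetLike.coe_subset_coe.2 hQP) hu)) ξ, red_inclElt]
  rfl

end Bridge

end CfsgLib.Pairs
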