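import Cfsg.Agent.Lib.Pairs.Conj
import Mathlib.GroupTheory.Nilpotent
import Mathlib.GroupTheory.PGroup
import Cfsg.Agent.Lib.PGroups.Basic

/-!
# Brauer pairs below a given pair
-/

namespace CfsgLib.Pairs

open Cfsg CfsgLib.Blocks MonoidAlgebra

variable {G : Type*} [Group G]

theorem centralizer_le_of_le {Q P : Subgroup G} (h : Q ≤ P) :
    Subgroup.centralizer (P : Set G) ≤ Subgroup.centralizer (Q : Set G) :=
  Subgroup.centralizer_le (SetLike.coe_subset_coe.2 h)

theorem exists_normal_maximal [Finite G] {p : ℕ} [Fact p.Prime] {Q P : Subgroup G}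
    (hP : IsPGroup p P) (h : Q < P) :
    ∃ R : Subgroup G, Q ≤ R ∧ R < P ∧ P ≤ Subgroup.normalizer (R : Set G) := by
  have hne : Q.subgroupOf P ≠ ⊤ := fun e => h.not_ge (Subgroup.subgroupOf_eq_top.1 e)
  obtain ⟨K, hK, hle⟩ := (eq_top_or_exists_le_coatom (Q.subgroupOf P)).resolve_left hne
  have hn : K.Normal := CfsgLib.PGroups.normal_of_isCoatom' hP hK
  refine ⟨K.map P.subtype, ?_, ?_, ?_⟩
  · intro q hq
    exact ⟨⟨q, h.le hq⟩, hle hq, rfl⟩
  · refine lt_of_le_of_ne (Subgroup.map_subtype_le K) fun e => hK.1 (eq_top_iff.2 fun u _ => ?_)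
    have h2 : (u : G) ∈ K.map P.subtype := e.symm ▸ u.2
    obtain ⟨k, hk, hk'⟩ := h2
    rwa [← Subtype.ext (hk' : (k : G) = u)]
  · intro u hu
    refine Subgroup.mem_normalizer_iff.2 fun g => ?_
    constructor
    · rintro ⟨k, hk, rfl⟩
      exact ⟨_, hn.conj_mem k hk ⟨u, hu⟩, rfl⟩
    · rintro ⟨k, hk, hk'⟩
      refine ⟨_, hn.conj_mem k hk ⟨u⁻¹, inv_mem hu⟩, ?_⟩
      simp only [map_mul, map_inv, Subgroup.coe_subtype] at hk' ⊢
      rw [hk']
      group

variable [Fintype G] {p : ℕ} {M : Ideal AlgInt} [M.IsPrime]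

theorem isBrauerPairOf_iff {B : Set (IrrCharacter G)} {Q : Subgroup G}
    {e : Set (IrrCharacter (Subgroup.centralizer (Q : Set G)))} :
    IsBrauerPairOf p M B Q e ↔ IsBrauerPair p M Q e ∧ IsPBlock M B ∧
      ∀ ξ ∈ e, pairVal Q (blockIdemBar M B) ξ = 1 :=
  and_congr_right fun _ => and_congr_right fun hB =>
    forall₂_congr fun ξ _ => memLocalIdeal_blockCoeff_pair_iff hB Q ξ

theorem isNormalSubpair_iff {Q P : Subgroup G}
    {f : Set (IrrCharacter (Subgroup.centralizer (Q : Set G)))}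
    {e : Set (IrrCharacter (Subgroup.centralizer (P : Set G)))} :
    IsNormalSubpair p M Q f P e ↔ IsBrauerPair p M Q f ∧ IsBrauerPair p M P e ∧ Q ≤ P ∧
      P ≤ Subgroup.normalizer (Q : Set G) ∧
      (∀ x ∈ P, StabilizesBlock (Subgroup.centralizer (Q : Set G)) f x) ∧
      ∀ ξ ∈ e, pairVal P (subIdem M (Subgroup.centralizer (Q : Set G)) f) ξ = 1 :=
  and_congr_right fun hf => and_congr_right fun _ => and_congr_right fun hQP =>
    and_congr_right fun _ => and_congr_right fun _ =>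
      forall₂_congr fun ξ _ => memLocalIdeal_subCoeff_pair_iff hf.2 hQP ξ

theorem normalSubpair_of_rep {Q P : Subgroup G}
    {f : Set (IrrCharacter (Subgroup.centralizer (Q : Set G)))}
    {e : Set (IrrCharacter (Subgroup.centralizer (P : Set G)))}
    (hQ : IsBrauerPair p M Q f) (hP : IsBrauerPair p M P e) (hQP : Q ≤ P)
    (hPN : P ≤ Subgroup.normalizer (Q : Set G))
    (hst : ∀ x ∈ P, StabilizesBlock (Subgroup.centralizer (Q : Set G)) f x)
    {ξ : IrrCharacter (Subgroup.centralizer (P : Set G))} (hξ : ξ ∈ e)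
    (h : pairVal P (subIdem M (Subgroup.centralizer (Q : Set G)) f) ξ = 1) :
    IsNormalSubpair p M Q f P e :=
  isNormalSubpair_iff.2 ⟨hQ, hP, hQP, hPN, hst, fun η hη =>
    (pairVal_congr _ (IsPBlock.sameBlock hP.2 hη hξ)).trans h⟩

omit [Fintype G] [M.IsPrime] in
theorem le_of_subpairLE {a b : BrauerPairIdx G}
    (h : Relation.ReflTransGen (NormalSubpairRel p M) a b) : a.1 ≤ b.1 := by
  induction h with
  | refl => exact le_rfl
  | tail _ h2 ih => exact ih.trans h2.2.2.1

omit [Fintype G] [M.IsPrime] in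
theorem isBrauerPair_of_subpairLE {a b : BrauerPairIdx G}
    (h : Relation.ReflTransGen (NormalSubpairRel p M) a b) (hb : IsBrauerPair p M b.1 b.2) :
    IsBrauerPair p M a.1 a.2 := by
  induction h using Relation.ReflTransGen.head_induction_on with
  | refl => exact hb
  | head h1 _ _ => exact h1.1

variable [Fact p.Prime] (hM : IsPModular p M)
include hM

theorem existsUnique_normalSubpair {Q P : Subgroup G}
    {e : Set (IrrCharacter (Subgroup.centralizer (P : Set G)))} (hPe : IsBrauerPair p M P e)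
    (hQP : Q ≤ P) (hPN : P ≤ Subgroup.normalizer (Q : Set G)) :
    ∃! f : Set (IrrCharacter (Subgroup.centralizer (Q : Set G))),
      IsNormalSubpair p M Q f P e := by
  obtain ⟨ξ, hξ⟩ := IsPBlock.nonempty hPe.2
  obtain ⟨f, ⟨hf, hst, h1⟩, huni⟩ := existsUnique_stable hM hPe.1 hQP hPN ξ
  refine ⟨f, normalSubpair_of_rep ⟨hPe.1.to_le hQP, hf⟩ hPe hQP hPN hst hξ h1, fun g hg => ?_⟩
  obtain ⟨hg1, -, -, -, hgst, hg2⟩ := isNormalSubpair_iff.1 hg
  exact huni g ⟨hg1.2, hgst, hg2 ξ hξ⟩

/-- Transitivity of normal inclusion through a normal intermediate pair. -/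
theorem normalSubpair_trans {Q R P : Subgroup G}
    {f : Set (IrrCharacter (Subgroup.centralizer (Q : Set G)))}
    {g : Set (IrrCharacter (Subgroup.centralizer (R : Set G)))}
    {e : Set (IrrCharacter (Subgroup.centralizer (P : Set G)))}
    (h1 : IsNormalSubpair p M Q f R g) (h2 : IsNormalSubpair p M R g P e)
    (hPN : P ≤ Subgroup.normalizer (Q : Set G)) : IsNormalSubpair p M Q f P e := by
  obtain ⟨hQf, hRg, hQR, hRN, hstR, hval⟩ := isNormalSubpair_iff.1 h1
  obtain ⟨-, hPe, hRP, hPR, hstP, hval2⟩ := isNormalSubpair_iff.1 h2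
  have hCN := normalizer_le_normalizer_centralizer Q
  obtain ⟨η, hη⟩ := IsPBlock.nonempty hRg.2
  have hCC := centralizer_le_of_le hQR
  have hinv := invUnder_subIdem (M := M) hQf.2 (P := Subgroup.centralizer (R : Set G))
    fun u hu => stabilizesBlock_of_mem (hCC hu)
  have hst : ∀ x ∈ P, StabilizesBlock (Subgroup.centralizer (Q : Set G)) f x := by
    intro x hx
    refine stabilizesBlock_iff.2 ⟨hCN (hPN hx), ?_⟩
    obtain ⟨h₀, -, huni⟩ := existsUnique_stable hM hRg.1 hQR hRN η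
    refine (huni _ ⟨isPBlock_conjSelf _ hQf.2, fun u hu => ?_, ?_⟩).trans
      (huni f ⟨hQf.2, hstR, hval η hη⟩).symm
    · refine stabilizesBlock_iff.2 ⟨hCN (hRN hu), ?_⟩
      have hu' : x⁻¹ * u * x ∈ R := (Subgroup.mem_normalizer_iff''.1 (hPR hx) u).1 hu
      obtain ⟨hn, hn'⟩ := stabilizesBlock_iff.1 (hstR _ hu')
      rw [← conjSelf_mul (hCN (hRN hu)) (hCN (hPN hx)),
        conjSelf_eq (show u * x = x * (x⁻¹ * u * x) by group) _ (mul_mem (hCN (hPN hx)) hn),
        conjSelf_mul (hCN (hPN hx)) hn, hn']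
    · obtain ⟨hn, hn'⟩ := stabilizesBlock_iff.1 (hstP x hx)
      rw [subIdem_conjSelf (hCN (hPN hx)) hQf.2,
        ← pairVal_comp x (conj_centralizer_iff (hPR hx)) hinv]
      refine hval _ ?_
      rw [← hn'] at hη
      have h3 := mem_mapBlock.1 hη
      rwa [MulEquiv.symm_symm] at h3
  obtain ⟨ξ, hξ⟩ := IsPBlock.nonempty hPe.2
  refine normalSubpair_of_rep hQf hPe (hQR.trans hRP) hPN hst hξ ?_
  rw [pairVal_eq_of_pair hM hPe.1 hRP hPR hRg.2 hstP (hval2 ξ hξ) hη
    (invUnder_subIdem hQf.2 hst) hinv]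
  exact hval η hη

theorem exists_below (n : ℕ) : ∀ {Q P : Subgroup G}
    {e : Set (IrrCharacter (Subgroup.centralizer (P : Set G)))}, Nat.card P - Nat.card Q ≤ n →
    IsBrauerPair p M P e → Q ≤ P →
    ∃ f : Set (IrrCharacter (Subgroup.centralizer (Q : Set G))),
      IsPBlock M f ∧ SubpairLE p M Q f P e := by
  induction n with
  | zero =>
    intro Q P e hn hPe hQP
    obtain rfl := Subgroup.eq_of_le_of_card_ge hQP (by omega)
    exact ⟨e, hPe.2, Relation.ReflTransGen.refl⟩
  | succ n ih =>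
    intro Q P e hn hPe hQP
    rcases eq_or_lt_of_le hQP with rfl | hlt
    · exact ⟨e, hPe.2, Relation.ReflTransGen.refl⟩
    obtain ⟨R, hQR, hRP, hPR⟩ := exists_normal_maximal hPe.1 hlt
    obtain ⟨g, hg, -⟩ := existsUnique_normalSubpair hM hPe hRP.le hPR
    have hlt' : Nat.card R < Nat.card P := lt_of_le_of_ne
      (Nat.le_of_dvd Nat.card_pos (Subgroup.card_dvd_of_le hRP.le))
      fun e' => hRP.ne (Subgroup.eq_of_le_of_card_ge hRP.le e'.ge)
    obtain ⟨f, hf, hle⟩ := ih (by omega) hg.1 hQR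
    exact ⟨f, hf, hle.tail hg⟩

/-- The pair on each subgroup below a given pair is unique. -/
theorem unique_below (n : ℕ) : ∀ {Q P : Subgroup G}
    {e : Set (IrrCharacter (Subgroup.centralizer (P : Set G)))}, Nat.card P - Nat.card Q ≤ n →
    IsBrauerPair p M P e →
    (∀ f, SubpairLE p M Q f P e → P ≤ Subgroup.normalizer (Q : Set G) →
      IsNormalSubpair p M Q f P e) ∧
    ∀ f f', SubpairLE p M Q f P e → SubpairLE p M Q f' P e → f = f' := by
  induction n with
  | zero =>
    intro Q P e hn hPe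
    classical
    have key : ∀ f, SubpairLE p M Q f P e → IsNormalSubpair p M Q f P e ∧ P = Q := by
      intro f hf
      have hQP : Q ≤ P := le_of_subpairLE hf
      obtain rfl := Subgroup.eq_of_le_of_card_ge hQP (by omega)
      have hself : IsNormalSubpair p M Q e Q e := by
        obtain ⟨ξ, hξ⟩ := IsPBlock.nonempty hPe.2
        refine normalSubpair_of_rep hPe hPe le_rfl Subgroup.le_normalizer (fun x hx => ?_) hξ ?_
        · refine stabilizesBlock_iff.2 ⟨normalizer_le_normalizer_centralizer Q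
            (Subgroup.le_normalizer hx), ?_⟩
          refine (Set.image_congr fun χ _ => ?_).trans (Set.image_id e)
          refine Char.irr_ext fun k => ?_
          rw [mapIrr_apply]
          refine congrArg _ (Subtype.ext ?_)
          rw [conjEquiv_symm_apply, mul_assoc, ← Subgroup.mem_centralizer_iff.1 k.2 x hx,
            inv_mul_cancel_left]
        · rw [pairVal, subIdem, resC, resElt_inclElt, omegaBar_blockIdemBar hPe.2, if_pos hξ]
      suffices hfe : ∀ c : BrauerPairIdx G,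
          Relation.ReflTransGen (NormalSubpairRel p M) c ⟨Q, e⟩ → Q ≤ c.1 → c = ⟨Q, e⟩ by
        obtain ⟨-, hh⟩ := Sigma.mk.inj_iff.1 (hfe ⟨Q, f⟩ hf le_rfl)
        exact ⟨(eq_of_heq hh) ▸ hself, rfl⟩
      intro c hc
      induction hc using Relation.ReflTransGen.head_induction_on with
      | refl => exact fun _ => rfl
      | @head c d hcd hdP ih =>
        intro hQc
        have hd := ih (hQc.trans hcd.2.2.1)
        subst hd
        obtain ⟨c1, c2⟩ := c
        obtain rfl : c1 = Q := le_antisymm hcd.2.2.1 hQc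
        obtain ⟨f₀, -, huni⟩ := existsUnique_normalSubpair hM hPe le_rfl Subgroup.le_normalizer
        rw [show c2 = e from (huni c2 hcd).trans (huni e hself).symm]
    refine ⟨fun f hf _ => (key f hf).1, fun f f' hf hf' => ?_⟩
    obtain ⟨h1, rfl⟩ := key f hf
    obtain ⟨h2, -⟩ := key f' hf'
    exact (existsUnique_normalSubpair hM hPe le_rfl Subgroup.le_normalizer).unique h1 h2
  | succ n ih =>
    intro Q P e hn hPe
    by_cases hsmall : Nat.card P - Nat.card Q ≤ n
    · exact ih hsmall hPe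
    have step : ∀ f, SubpairLE p M Q f P e →
        ∃ R g, Q < R ∧ IsNormalSubpair p M Q f R g ∧ SubpairLE p M R g P e := by
      suffices h : ∀ c : BrauerPairIdx G, Relation.ReflTransGen (NormalSubpairRel p M) c ⟨P, e⟩ →
          c.1 = Q → ∃ R g, Q < R ∧ IsNormalSubpair p M c.1 c.2 R g ∧ SubpairLE p M R g P e by
        exact fun f hf => h ⟨Q, f⟩ hf rfl
      intro c hc
      induction hc using Relation.ReflTransGen.head_induction_on with
      | refl => intro h; simp only at h; subst h; omega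
      | @head c d hcd hdP ihd =>
        intro hcQ
        rcases eq_or_lt_of_le hcd.2.2.1 with he | hl
        · obtain ⟨R, g, hlt, hng, hle⟩ := ihd (he.symm.trans hcQ)
          obtain ⟨c1, c2⟩ := c
          obtain ⟨d1, d2⟩ := d
          simp only at he hcQ hng hlt ⊢
          subst he
          obtain ⟨hdb, -⟩ := isNormalSubpair_iff.1 hng
          have hcd' := (ih (Q := c1) (P := c1) (e := d2) (by omega) hdb).2
          have hc2 : c2 = d2 := hcd' c2 d2 (Relation.ReflTransGen.single hcd) Relation.ReflTransGen.refl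
          subst hc2
          exact ⟨R, g, hlt, hng, hle⟩
        · exact ⟨d.1, d.2, hcQ ▸ hl, hcd, hdP⟩
    have hcard : ∀ {A B : Subgroup G}, A < B → Nat.card A < Nat.card B := fun {A B} h =>
      lt_of_le_of_ne (Nat.le_of_dvd Nat.card_pos (Subgroup.card_dvd_of_le h.le))
        fun e' => h.ne (Subgroup.eq_of_le_of_card_ge h.le e'.ge)
    have hsmallPair : ∀ {R g}, Q < R → SubpairLE p M R g P e → Nat.card P - Nat.card R ≤ n ∧
        Nat.card R ≤ Nat.card P := fun {R g} hlt hle => by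
      have h1 := hcard hlt
      have hRP : R ≤ P := le_of_subpairLE hle
      have h2 := Nat.le_of_dvd Nat.card_pos (Subgroup.card_dvd_of_le hRP)
      omega
    have hnorm : ∀ f, SubpairLE p M Q f P e → P ≤ Subgroup.normalizer (Q : Set G) →
        IsNormalSubpair p M Q f P e := by
      intro f hf hPN
      obtain ⟨R, g, hlt, hng, hle⟩ := step f hf
      rcases eq_or_lt_of_le (le_of_subpairLE hle : R ≤ P) with rfl | hRP
      · rwa [(ih (hsmallPair hlt hle).1 hPe).2 g e hle Relation.ReflTransGen.refl] at hng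
      obtain ⟨R', hRR', hR'P, hPR'⟩ := exists_normal_maximal hPe.1 hRP
      obtain ⟨g', hg', -⟩ := existsUnique_normalSubpair hM hPe hR'P.le hPR'
      obtain ⟨g₁, -, hg₁⟩ := exists_below hM (Nat.card R') (by omega) hg'.1 hRR'
      have hgg : g = g₁ := (ih (hsmallPair hlt hle).1 hPe).2 g g₁ hle (hg₁.tail hg')
      subst hgg
      have hR' := hcard hR'P
      exact normalSubpair_trans hM ((ih (Q := Q) (P := R') (by omega) hg'.1).1 f
        ((Relation.ReflTransGen.single (show NormalSubpairRel p M ⟨Q, f⟩ ⟨R, g⟩ from hng)).trans hg₁)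
        (hR'P.le.trans hPN)) hg' hPN
    refine ⟨hnorm, fun f f' hf hf' => ?_⟩
    obtain ⟨R, g, hlt, hng, hle⟩ := step f hf
    obtain ⟨R', g', hlt', hng', hle'⟩ := step f' hf'
    obtain ⟨N, hN⟩ : ∃ N, N = P ⊓ Subgroup.normalizer (Q : Set G) := ⟨_, rfl⟩
    have hNle : N ≤ P := hN ▸ inf_le_left
    have hRN : R ≤ N := hN ▸ le_inf (le_of_subpairLE hle) hng.2.2.2.1
    have hR'N : R' ≤ N := hN ▸ le_inf (le_of_subpairLE hle') hng'.2.2.2.1
    rcases eq_or_lt_of_le hNle with hNP | hNP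
    · have hPN : P ≤ Subgroup.normalizer (Q : Set G) := (hN ▸ hNP).ge.trans inf_le_right
      exact (existsUnique_normalSubpair hM hPe (le_of_subpairLE hf) hPN).unique
        (hnorm f hf hPN) (hnorm f' hf' hPN)
    obtain ⟨h, hh, hhle⟩ := exists_below hM (Nat.card P) (Q := N) (by omega) hPe hNle
    have hhp : IsBrauerPair p M N h := ⟨hPe.1.to_le hNle, hh⟩
    obtain ⟨g₁, -, hg₁⟩ := exists_below hM (Nat.card N) (by omega) hhp hRN
    obtain ⟨g₂, -, hg₂⟩ := exists_below hM (Nat.card N) (by omega) hhp hR'N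
    obtain rfl : g = g₁ := (ih (hsmallPair hlt hle).1 hPe).2 g g₁ hle (hg₁.trans hhle)
    obtain rfl : g' = g₂ := (ih (hsmallPair hlt' hle').1 hPe).2 g' g₂ hle' (hg₂.trans hhle)
    have hNc := hcard hNP
    exact (ih (Q := Q) (P := N) (by omega) hhp).2 f f'
      ((Relation.ReflTransGen.single (show NormalSubpairRel p M ⟨Q, f⟩ ⟨R, g⟩ from hng)).trans hg₁)
      ((Relation.ReflTransGen.single (show NormalSubpairRel p M ⟨Q, f'⟩ ⟨R', g'⟩ from hng')).trans hg₂)

theorem existsUnique_below {Q P : Subgroup G}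
    {e : Set (IrrCharacter (Subgroup.centralizer (P : Set G)))} (hPe : IsBrauerPair p M P e)
    (hQP : Q ≤ P) :
    ∃! f : Set (IrrCharacter (Subgroup.centralizer (Q : Set G))),
      IsPBlock M f ∧ SubpairLE p M Q f P e := by
  obtain ⟨f, hf, hle⟩ := exists_below hM (Nat.card P) (by omega) hPe hQP
  exact ⟨f, ⟨hf, hle⟩, fun g hg =>
    (unique_below hM (Nat.card P) (by omega) hPe).2 g f hg.2 hle⟩

/-- Every pair is a pair of exactly one block. -/
theorem existsUnique_block {P : Subgroup G}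
    {e : Set (IrrCharacter (Subgroup.centralizer (P : Set G)))} (hPe : IsBrauerPair p M P e) :
    ∃! B : Set (IrrCharacter G), IsBrauerPairOf p M B P e := by
  classical
  obtain ⟨ξ, hξ⟩ := IsPBlock.nonempty hPe.2
  have := Fintype.ofFinite {B : Set (IrrCharacter G) // IsPBlock M B}
  have hinv : ∀ (R : Subgroup G) (B : Set (IrrCharacter G)), IsPBlock M B →
      InvUnder R (blockIdemBar M B) := fun R B hB =>
    InvUnder.of_isCentralElt R (isCentralElt_blockIdemBar hB)
  have h1 : ∑ B : {B : Set (IrrCharacter G) // IsPBlock M B},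
      pairVal P (blockIdemBar M B.1) ξ = 1 := by
    rw [← pairVal_sum, sum_blockIdemBar, pairVal_one]
  obtain ⟨B, -, hB⟩ := Finset.exists_ne_zero_of_sum_ne_zero (h1 ▸ one_ne_zero)
  have hB1 := (pairVal_idem hM hPe.1 ξ (hinv P B.1 B.2) (hinv _ B.1 B.2)
    (blockIdemBar_mul_self B.2)).resolve_left hB
  refine ⟨B.1, isBrauerPairOf_iff.2 ⟨hPe, B.2, fun η hη =>
    (pairVal_congr _ (IsPBlock.sameBlock hPe.2 hη hξ)).trans hB1⟩, fun C hC => ?_⟩
  obtain ⟨-, hCb, hC1⟩ := isBrauerPairOf_iff.1 hC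
  by_contra hne
  have h := pairVal_mul hM hPe.1 ξ (hinv P C hCb) (hinv P B.1 B.2) (hinv _ C hCb) (hinv _ B.1 B.2)
  rw [blockIdemBar_mul_of_ne hCb B.2 hne, pairVal_zero, hC1 ξ hξ, hB1, one_mul] at h
  exact zero_ne_one h

theorem normalSubpair_pairOf_iff {Q P : Subgroup G}
    {f : Set (IrrCharacter (Subgroup.centralizer (Q : Set G)))}
    {e : Set (IrrCharacter (Subgroup.centralizer (P : Set G)))}
    (h : IsNormalSubpair p M Q f P e) (B : Set (IrrCharacter G)) :
    IsBrauerPairOf p M B P e ↔ IsBrauerPairOf p M B Q f := by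
  obtain ⟨hf, he, hQP, hPN, hst, hval⟩ := isNormalSubpair_iff.1 h
  rw [isBrauerPairOf_iff, isBrauerPairOf_iff]
  constructor
  · rintro ⟨-, hB, h1⟩
    obtain ⟨ξ, hξ⟩ := IsPBlock.nonempty he.2
    exact ⟨hf, hB, fun η hη => (pairVal_eq_of_pair hM he.1 hQP hPN hf.2 hst (hval ξ hξ) hη
      (InvUnder.of_isCentralElt _ (isCentralElt_blockIdemBar hB))
      (InvUnder.of_isCentralElt _ (isCentralElt_blockIdemBar hB))).symm.trans (h1 ξ hξ)⟩
  · rintro ⟨-, hB, h1⟩
    obtain ⟨η, hη⟩ := IsPBlock.nonempty hf.2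
    exact ⟨he, hB, fun ξ hξ => (pairVal_eq_of_pair hM he.1 hQP hPN hf.2 hst (hval ξ hξ) hη
      (InvUnder.of_isCentralElt _ (isCentralElt_blockIdemBar hB))
      (InvUnder.of_isCentralElt _ (isCentralElt_blockIdemBar hB))).trans (h1 η hη)⟩

theorem subpairLE_pairOf_iff {a b : BrauerPairIdx G}
    (h : Relation.ReflTransGen (NormalSubpairRel p M) a b) (B : Set (IrrCharacter G)) :
    IsBrauerPairOf p M B b.1 b.2 ↔ IsBrauerPairOf p M B a.1 a.2 := by
  induction h with
  | refl => rfl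
  | tail _ h2 ih => exact (normalSubpair_pairOf_iff hM h2 B).trans ih

end CfsgLib.Pairs
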