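import Cfsg.Agent.Lib.Pairs.Chain

/-!
# Conjugation acting on Brauer pairs
-/

namespace CfsgLib.Pairs

open Cfsg CfsgLib.Blocks MonoidAlgebra

variable {G : Type*} [Group G]

open scoped Classical in
/-- A character of a subgroup as a function on the whole group. -/
noncomputable def extFun (H : Subgroup G) (χ : IrrCharacter H) : G → ℂ :=
  fun g => if h : g ∈ H then (χ : H → ℂ) ⟨g, h⟩ else 0

theorem extFun_injective (H : Subgroup G) : Function.Injective (extFun H) := fun χ ψ h =>
  Char.irr_ext fun k => by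
    have := congrFun h (k : G)
    simpa [extFun, k.2] using this

/-- The characters of a pair as functions on the whole group. -/
noncomputable def idxFun (a : BrauerPairIdx G) : Set (G → ℂ) :=
  extFun (Subgroup.centralizer (a.1 : Set G)) '' a.2

theorem idx_ext {a b : BrauerPairIdx G} (h1 : a.1 = b.1) (h2 : idxFun a = idxFun b) : a = b := by
  obtain ⟨Q, f⟩ := a
  obtain ⟨R, g⟩ := b
  simp only at h1
  subst h1
  exact congrArg _ ((Set.image_injective.2 (extFun_injective _)) h2)

/-- The conjugate of a pair. -/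
noncomputable def conjPair (x : G) (a : BrauerPairIdx G) : BrauerPairIdx G :=
  ⟨a.1.map (MulAut.conj x).toMonoidHom, conjBlock a.1 x a.2⟩

theorem idxFun_conjPair (x : G) (a : BrauerPairIdx G) :
    idxFun (conjPair x a) = (fun F g => F (x⁻¹ * g * x)) '' idxFun a := by
  classical
  have key : ∀ ξ : IrrCharacter (Subgroup.centralizer (a.1 : Set G)),
      extFun _ (mapIrr (centEquiv a.1 x).symm ξ) =
        fun g => extFun (Subgroup.centralizer (a.1 : Set G)) ξ (x⁻¹ * g * x) := by
    intro ξ
    funext g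
    have hiff := mem_centralizer_map_conj_iff a.1 x (x⁻¹ * g * x)
    rw [show x * (x⁻¹ * g * x) * x⁻¹ = g by group] at hiff
    unfold extFun
    by_cases hg : g ∈ Subgroup.centralizer
        ((a.1.map (MulAut.conj x).toMonoidHom : Subgroup G) : Set G)
    · rw [dif_pos hg, dif_pos (hiff.2 hg), mapIrr_apply]
      exact congrArg _ (Subtype.ext rfl)
    · rw [dif_neg hg, dif_neg fun h => hg (hiff.1 h)]
  show extFun _ '' conjBlock a.1 x a.2 = _
  rw [conjBlock_eq, mapBlock, idxFun, Set.image_image, Set.image_image]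
  exact Set.image_congr fun ξ _ => key ξ

theorem conjPair_mul (x y : G) (a : BrauerPairIdx G) :
    conjPair (x * y) a = conjPair x (conjPair y a) := by
  refine idx_ext ?_ ?_
  · show a.1.map (MulAut.conj (x * y)).toMonoidHom =
      (a.1.map (MulAut.conj y).toMonoidHom).map (MulAut.conj x).toMonoidHom
    ext g
    simp only [map_conj_eq]
    exact iff_of_eq (congrArg (· ∈ a.1) (by group))
  · rw [idxFun_conjPair, idxFun_conjPair, idxFun_conjPair, Set.image_image]
    refine Set.image_congr fun F _ => funext fun g => congrArg F ?_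
    group

theorem conjPair_one (a : BrauerPairIdx G) : conjPair 1 a = a := by
  refine idx_ext ?_ ?_
  · show a.1.map (MulAut.conj (1 : G)).toMonoidHom = a.1
    ext g
    simp
  · rw [idxFun_conjPair]
    simp

theorem conjPair_self {P : Subgroup G} {n : G} (hn : n ∈ Subgroup.normalizer (P : Set G))
    (hnC : n ∈ Subgroup.normalizer (Subgroup.centralizer (P : Set G) : Set G))
    (e : Set (IrrCharacter (Subgroup.centralizer (P : Set G)))) :
    conjPair n ⟨P, e⟩ = ⟨P, conjSelf hnC e⟩ := by
  refine idx_ext (Subgroup.mem_normalizer_iff_map_conj_eq.1 hn) ?_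
  rw [idxFun_conjPair]
  simp only [idxFun, conjSelf, mapBlock, Set.image_image]
  refine Set.image_congr fun χ _ => funext fun g => ?_
  classical
  have hiff := mem_normalizer_conj hnC (n⁻¹ * g * n)
  rw [show n * (n⁻¹ * g * n) * n⁻¹ = g by group] at hiff
  unfold extFun
  by_cases hg : g ∈ Subgroup.centralizer (P : Set G)
  · rw [dif_pos (hiff.2 hg), dif_pos hg, mapIrr_apply]
    exact congrArg _ (Subtype.ext rfl)
  · rw [dif_neg fun h => hg (hiff.1 h), dif_neg hg]

variable [Fintype G] {p : ℕ} {M : Ideal AlgInt} [M.IsPrime]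

omit [Fintype G] [M.IsPrime] in
theorem isBrauerPair_conjPair (x : G) {a : BrauerPairIdx G} (h : IsBrauerPair p M a.1 a.2) :
    IsBrauerPair p M (conjPair x a).1 (conjPair x a).2 := by
  refine ⟨h.1.map _, ?_⟩
  show IsPBlock M (conjBlock a.1 x a.2)
  rw [conjBlock_eq]
  exact isPBlock_mapBlock _ h.2

omit [Fintype G] in
theorem mapIrr_mem_of_mem_conjBlock {Q : Subgroup G} {x : G}
    {f : Set (IrrCharacter (Subgroup.centralizer (Q : Set G)))}
    {ξ' : IrrCharacter (Subgroup.centralizer ((Q.map (MulAut.conj x).toMonoidHom : Subgroup G) : Set G))}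
    (h : ξ' ∈ conjBlock Q x f) : mapIrr (centEquiv Q x) ξ' ∈ f := by
  rw [conjBlock_eq] at h
  have h3 := mem_mapBlock.1 h
  rwa [MulEquiv.symm_symm] at h3

theorem isBrauerPairOf_conjPair (x : G) {B : Set (IrrCharacter G)} {a : BrauerPairIdx G}
    (h : IsBrauerPairOf p M B a.1 a.2) :
    IsBrauerPairOf p M B (conjPair x a).1 (conjPair x a).2 := by
  obtain ⟨h1, hB, h2⟩ := isBrauerPairOf_iff.1 h
  refine isBrauerPairOf_iff.2 ⟨isBrauerPair_conjPair x h1, hB, fun ξ' hξ' => ?_⟩
  have hc := isCentralElt_blockIdemBar hB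
  have h3 := pairVal_comp x (mem_centralizer_map_conj_iff a.1 x) (InvUnder.of_isCentralElt _ hc) ξ'
  rw [conjAlg_of_isCentralElt x hc] at h3
  exact h3.symm.trans (h2 _ (mapIrr_mem_of_mem_conjBlock hξ'))

omit [Fintype G] in
theorem stabilizesBlock_conjBlock {Q : Subgroup G} {x u : G}
    {f : Set (IrrCharacter (Subgroup.centralizer (Q : Set G)))}
    (h : StabilizesBlock (Subgroup.centralizer (Q : Set G)) f u) :
    StabilizesBlock (Subgroup.centralizer ((Q.map (MulAut.conj x).toMonoidHom : Subgroup G) : Set G))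
      (conjBlock Q x f) (x * u * x⁻¹) := by
  obtain ⟨hu, hf⟩ := h
  refine ⟨Subgroup.mem_normalizer_iff.2 fun g => ?_, ?_⟩
  · have e1 := mem_centralizer_map_conj_iff Q x (x⁻¹ * g * x)
    have e2 := mem_centralizer_map_conj_iff Q x (u * (x⁻¹ * g * x) * u⁻¹)
    rw [show x * (x⁻¹ * g * x) * x⁻¹ = g by group] at e1
    rw [show x * (u * (x⁻¹ * g * x) * u⁻¹) * x⁻¹ = x * u * x⁻¹ * g * (x * u * x⁻¹)⁻¹ by group] at e2
    exact e1.symm.trans ((Subgroup.mem_normalizer_iff.1 hu _).trans e2)
  · intro χ hχ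
    obtain ⟨ξ, hξ, hξχ⟩ := hχ
    obtain ⟨ξ₂, hξ₂, h12⟩ := hf ξ hξ
    refine ⟨mapIrr (centEquiv Q x).symm ξ₂, ?_, fun k k' hk => ?_⟩
    · rw [conjBlock_eq]
      exact ⟨ξ₂, hξ₂, rfl⟩
    · rw [mapIrr_apply, hξχ ((centEquiv Q x).symm k) k
        (show (k : G) = x * (x⁻¹ * k * x) * x⁻¹ by group)]
      refine h12 _ _ ?_
      show x⁻¹ * k' * x = u * (x⁻¹ * k * x) * u⁻¹
      rw [hk]
      group

theorem normalSubpairRel_conjPair (x : G) {a b : BrauerPairIdx G}
    (h : NormalSubpairRel p M a b) : NormalSubpairRel p M (conjPair x a) (conjPair x b) := by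
  obtain ⟨hQ, hP, hQP, hPN, hst, hval⟩ := isNormalSubpair_iff.1 h
  refine isNormalSubpair_iff.2 ⟨isBrauerPair_conjPair x hQ, isBrauerPair_conjPair x hP,
    Subgroup.map_mono hQP, ?_, ?_, ?_⟩
  · exact (Subgroup.map_mono hPN).trans (Subgroup.le_normalizer_map _)
  · intro v hv
    have hu := (map_conj_eq b.1 x v).1 hv
    have := stabilizesBlock_conjBlock (x := x) (hst _ hu)
    rwa [show x * (x⁻¹ * v * x) * x⁻¹ = v by group] at this
  · intro ξ' hξ'
    have hinv : InvUnder (Subgroup.centralizer (b.1 : Set G))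
        (subIdem M (Subgroup.centralizer (a.1 : Set G)) a.2) :=
      invUnder_subIdem hQ.2 fun u hu => stabilizesBlock_of_mem (centralizer_le_of_le hQP hu)
    show pairVal (b.1.map _) (subIdem M _ (conjBlock a.1 x a.2)) ξ' = 1
    exact (congrArg (fun z => pairVal (b.1.map (MulAut.conj x).toMonoidHom) z ξ')
      (subIdem_conjBlock a.1 x hQ.2)).trans
      ((pairVal_comp x (mem_centralizer_map_conj_iff b.1 x) hinv ξ').symm.trans
        (hval _ (mapIrr_mem_of_mem_conjBlock hξ')))

theorem subpairLE_conjPair (x : G) {a b : BrauerPairIdx G}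
    (h : Relation.ReflTransGen (NormalSubpairRel p M) a b) :
    Relation.ReflTransGen (NormalSubpairRel p M) (conjPair x a) (conjPair x b) :=
  h.lift (conjPair x) fun _ _ => normalSubpairRel_conjPair x

/-- Being a maximal pair is invariant under conjugation. -/
theorem isMaximalBrauerPair_conjPair (x : G) {B : Set (IrrCharacter G)} {a : BrauerPairIdx G}
    (h : IsMaximalBrauerPair p M B a.1 a.2) :
    IsMaximalBrauerPair p M B (conjPair x a).1 (conjPair x a).2 := by
  refine ⟨isBrauerPairOf_conjPair x h.1, fun R g hR hle => ?_⟩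
  have hle' := subpairLE_conjPair x⁻¹ (show Relation.ReflTransGen (NormalSubpairRel p M)
    (conjPair x a) ⟨R, g⟩ from hle)
  rw [← conjPair_mul, inv_mul_cancel, conjPair_one] at hle'
  have h2 := h.2 _ _ (isBrauerPairOf_conjPair x⁻¹ (a := ⟨R, g⟩) hR) hle'
  have h3 : R = (R.map (MulAut.conj x⁻¹).toMonoidHom).map (MulAut.conj x).toMonoidHom := by
    ext v
    simp only [map_conj_eq]
    exact iff_of_eq (congrArg (· ∈ R) (by group))
  rw [h3]
  exact congrArg (Subgroup.map (MulAut.conj x).toMonoidHom) h2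

end CfsgLib.Pairs
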