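import Cfsg.Agent.Lib.Pairs.Sylow

/-!
# Pairs above a fixed pair, read inside a subgroup between centralizer and stabilizer
-/

namespace CfsgLib.Pairs

open Cfsg CfsgLib.Blocks MonoidAlgebra

variable {G : Type*} [Group G] [Fintype G] {K : Subgroup G}

/-- `b` is the pair of `G` with the same subgroup and the same block as the pair `a` of `K`. -/
def SamePair (a : BrauerPairIdx K) (b : BrauerPairIdx G) : Prop :=
  a.1.map K.subtype = b.1 ∧
    ∃ φ : Subgroup.centralizer (a.1 : Set K) ≃* Subgroup.centralizer (b.1 : Set G),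
      (∀ c, ((φ c : Subgroup.centralizer (b.1 : Set G)) : G) = ((c : K) : G)) ∧
        mapBlock φ b.2 = a.2

/-- The centralizers in `K` and in `G` of a subgroup of `K`, when the latter lies in `K`. -/
noncomputable def centUp (Z : Subgroup K) (Y : Subgroup G) (hZY : Z.map K.subtype = Y)
    (hC : Subgroup.centralizer (Y : Set G) ≤ K) :
    Subgroup.centralizer (Z : Set K) ≃* Subgroup.centralizer (Y : Set G) where
  toFun c := ⟨((c : K) : G), Subgroup.mem_centralizer_iff.2 fun u hu => by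
    subst hZY
    obtain ⟨z, hz, rfl⟩ := hu
    exact congrArg Subtype.val (Subgroup.mem_centralizer_iff.1 c.2 z hz)⟩
  invFun c := ⟨⟨(c : G), hC c.2⟩, Subgroup.mem_centralizer_iff.2 fun z hz => Subtype.ext
    (Subgroup.mem_centralizer_iff.1 c.2 (z : G) (hZY ▸ Subgroup.mem_map_of_mem K.subtype hz))⟩
  left_inv c := rfl
  right_inv c := rfl
  map_mul' a b := rfl

omit [Fintype G] in
theorem exists_samePair_down {b : BrauerPairIdx G} (hb : b.1 ≤ K)
    (hC : Subgroup.centralizer (b.1 : Set G) ≤ K) : ∃ a : BrauerPairIdx K, SamePair a b := by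
  have h := Subgroup.map_subgroupOf_eq_of_le hb
  exact ⟨⟨b.1.subgroupOf K, mapBlock (centUp _ _ h hC) b.2⟩, h, _, fun _ => rfl, rfl⟩

omit [Fintype G] in
theorem exists_samePair_up {a : BrauerPairIdx K}
    (hC : Subgroup.centralizer ((a.1.map K.subtype : Subgroup G) : Set G) ≤ K) :
    ∃ b : BrauerPairIdx G, SamePair a b := by
  refine ⟨⟨a.1.map K.subtype, mapBlock (centUp _ _ rfl hC).symm a.2⟩, rfl, centUp _ _ rfl hC,
    fun _ => rfl, ?_⟩
  exact mapBlock_symm (centUp _ _ rfl hC).symm a.2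

omit [Fintype G] in
theorem SamePair.unique {a : BrauerPairIdx K} {b b' : BrauerPairIdx G} (h : SamePair a b)
    (h' : SamePair a b') : b = b' := by
  obtain ⟨R, g⟩ := b
  obtain ⟨R', g'⟩ := b'
  obtain ⟨rfl, φ, hφ, hm⟩ := h
  obtain ⟨(rfl : _ = R'), φ', hφ', hm'⟩ := h'
  obtain rfl : φ = φ' := MulEquiv.ext fun c => Subtype.ext ((hφ c).trans (hφ' c).symm)
  rw [← hm'] at hm
  have := congrArg (mapBlock φ.symm) hm
  rw [mapBlock_symm, mapBlock_symm] at this
  exact congrArg (Sigma.mk _) this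

omit [Fintype G] in
theorem SamePair.brauerPair_iff {p : ℕ} {M : Ideal AlgInt} {a : BrauerPairIdx K}
    {b : BrauerPairIdx G} (h : SamePair a b) :
    IsBrauerPair p M a.1 a.2 ↔ IsBrauerPair p M b.1 b.2 := by
  obtain ⟨h1, φ, hφ, hm⟩ := h
  have e := (a.1.equivMapOfInjective K.subtype K.subtype_injective).trans
    (MulEquiv.subgroupCongr h1)
  refine and_congr ⟨fun hp => hp.of_equiv e, fun hp => hp.of_equiv e.symm⟩ ⟨fun hb => ?_, fun hb => ?_⟩
  · rw [← mapBlock_symm φ b.2, hm]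
    exact isPBlock_mapBlock _ hb
  · rw [← hm]
    exact isPBlock_mapBlock _ hb

omit [Fintype G] in
theorem brauerOmega_same {a : BrauerPairIdx K} {b : BrauerPairIdx G}
    (φ : Subgroup.centralizer (a.1 : Set K) ≃* Subgroup.centralizer (b.1 : Set G))
    (hφ : ∀ c, ((φ c : Subgroup.centralizer (b.1 : Set G)) : G) = ((c : K) : G))
    (β : K → ℂ) (β' : G → ℂ) (hβ : ∀ k : K, β k = β' (k : G))
    (ξ : IrrCharacter (Subgroup.centralizer (b.1 : Set G))) :
    brauerOmega a.1 β (mapIrr φ ξ : Subgroup.centralizer (a.1 : Set K) → ℂ) =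
      brauerOmega b.1 β' (ξ : Subgroup.centralizer (b.1 : Set G) → ℂ) := by
  unfold brauerOmega
  refine finsum_eq_of_bijective φ φ.bijective fun c => ?_
  rw [hφ, hβ, mapIrr_apply, mapIrr_apply, map_one]

theorem SamePair.memLocalIdeal_iff {M : Ideal AlgInt} {a : BrauerPairIdx K} {b : BrauerPairIdx G}
    (h : SamePair a b) {β : K → ℂ} {β' : G → ℂ} (hβ : ∀ k : K, β k = β' (k : G)) :
    (∀ ξ ∈ a.2, MemLocalIdeal M
      (brauerOmega a.1 β (ξ : Subgroup.centralizer (a.1 : Set K) → ℂ) - 1)) ↔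
    ∀ ξ ∈ b.2, MemLocalIdeal M
      (brauerOmega b.1 β' (ξ : Subgroup.centralizer (b.1 : Set G) → ℂ) - 1) := by
  obtain ⟨-, φ, hφ, hm⟩ := h
  rw [← hm, mapBlock, Set.forall_mem_image]
  simp only [brauerOmega_same φ hφ β β' hβ]

omit [Fintype G] in
theorem blockCoeff_of_samePair {a : BrauerPairIdx K} {b : BrauerPairIdx G} (h : SamePair a b)
    (k : K) :
    subgroupBlockCoeff (Subgroup.centralizer (a.1 : Set K)) a.2 k =
      subgroupBlockCoeff (Subgroup.centralizer (b.1 : Set G)) b.2 (k : G) := by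
  obtain ⟨-, φ, hφ, hm⟩ := h
  by_cases hk : k ∈ Subgroup.centralizer (a.1 : Set K)
  · have hk' : (k : G) ∈ Subgroup.centralizer (b.1 : Set G) := by
      have := (φ ⟨k, hk⟩).2
      rwa [hφ] at this
    unfold subgroupBlockCoeff
    rw [dif_pos hk, dif_pos hk', ← hm, blockCoeff_mapBlock]
    exact congrArg _ (Subtype.ext (hφ ⟨k, hk⟩))
  · have hk' : (k : G) ∉ Subgroup.centralizer (b.1 : Set G) := fun hk' => hk (by
      have e := hφ (φ.symm ⟨(k : G), hk'⟩)
      rw [MulEquiv.apply_symm_apply] at e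
      have : k = (φ.symm ⟨(k : G), hk'⟩ : K) := Subtype.ext e
      rw [this]
      exact (φ.symm ⟨(k : G), hk'⟩).2)
    unfold subgroupBlockCoeff
    rw [dif_neg hk, dif_neg hk']

variable {p : ℕ} {M : Ideal AlgInt}

omit [Fintype G] in
theorem stabilizesBlock_of_samePair {a : BrauerPairIdx K} {b : BrauerPairIdx G} (h : SamePair a b)
    (hC : Subgroup.centralizer (b.1 : Set G) ≤ K) {x : K}
    (hx : StabilizesBlock (Subgroup.centralizer (a.1 : Set K)) a.2 x) :
    StabilizesBlock (Subgroup.centralizer (b.1 : Set G)) b.2 (x : G) := by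
  obtain ⟨-, φ, hφ, hm⟩ := h
  obtain ⟨hn, hs⟩ := hx
  have key : ∀ k : Subgroup.centralizer (b.1 : Set G),
      ((φ.symm k : Subgroup.centralizer (a.1 : Set K)) : K) = ⟨(k : G), hC k.2⟩ := fun k => by
    refine Subtype.ext ?_
    rw [← hφ, MulEquiv.apply_symm_apply]
  refine ⟨Subgroup.mem_normalizer_iff.2 fun g => ⟨fun hg => ?_, fun hg => ?_⟩, fun χ hχ => ?_⟩
  · have h1 := (Subgroup.mem_normalizer_iff.1 hn ⟨g, hC hg⟩).1
      (key ⟨g, hg⟩ ▸ (φ.symm ⟨g, hg⟩).2)
    have h2 := (φ ⟨_, h1⟩).2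
    rw [hφ] at h2
    exact h2
  · have hgK : g ∈ K := by
      have := mul_mem (mul_mem (inv_mem x.2) (hC hg)) x.2
      simpa [mul_assoc] using this
    have h1 := (Subgroup.mem_normalizer_iff.1 hn ⟨g, hgK⟩).2 (by
      have := key ⟨_, hg⟩ ▸ (φ.symm ⟨_, hg⟩).2
      exact this)
    have h2 := (φ ⟨_, h1⟩).2
    rw [hφ] at h2
    exact h2
  · obtain ⟨χ', hχ', hc⟩ := hs (mapIrr φ χ) (hm ▸ ⟨χ, hχ, rfl⟩)
    rw [← hm] at hχ'
    obtain ⟨ψ, hψ, rfl⟩ := hχ'
    refine ⟨ψ, hψ, fun k k' hk => ?_⟩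
    have := hc (φ.symm k) (φ.symm k') (Subtype.ext (by
      rw [Subgroup.coe_mul, Subgroup.coe_mul, Subgroup.coe_inv, key, key]
      exact hk))
    simpa using this

omit [Fintype G] in
theorem normalizer_of_samePair {a : BrauerPairIdx K} {b : BrauerPairIdx G} (h : SamePair a b)
    {Z : Subgroup K} (hZ : Z ≤ Subgroup.normalizer (a.1 : Set K)) :
    Z.map K.subtype ≤ Subgroup.normalizer (b.1 : Set G) := by
  rw [← h.1]
  exact (Subgroup.map_mono hZ).trans (Subgroup.le_normalizer_map _)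

theorem SamePair.normal {a a' : BrauerPairIdx K} {b b' : BrauerPairIdx G} (h : SamePair a b)
    (h' : SamePair a' b') (hC : Subgroup.centralizer (b.1 : Set G) ≤ K)
    (hr : NormalSubpairRel p M a a') : NormalSubpairRel p M b b' := by
  obtain ⟨ha, ha', hle, hN, hst, hval⟩ := hr
  refine ⟨h.brauerPair_iff.1 ha, h'.brauerPair_iff.1 ha', ?_, ?_, ?_,
    (h'.memLocalIdeal_iff (blockCoeff_of_samePair h)).1 hval⟩
  · rw [← h.1, ← h'.1]
    exact Subgroup.map_mono hle
  · rw [← h'.1]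
    exact normalizer_of_samePair h hN
  · intro x hx
    rw [← h'.1] at hx
    obtain ⟨z, hz, rfl⟩ := hx
    exact stabilizesBlock_of_samePair h hC (hst z hz)

theorem SamePair.chain {a a' : BrauerPairIdx K} (hr : Relation.ReflTransGen (NormalSubpairRel p M) a a')
    {b : BrauerPairIdx G} (h : SamePair a b) (hC : Subgroup.centralizer (b.1 : Set G) ≤ K) :
    ∃ b', SamePair a' b' ∧ Relation.ReflTransGen (NormalSubpairRel p M) b b' := by
  induction hr with
  | refl => exact ⟨b, h, Relation.ReflTransGen.refl⟩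
  | tail _ h2 ih =>
    obtain ⟨c, hc, hbc⟩ := ih
    have hle : b.1 ≤ c.1 := le_of_subpairLE hbc
    have hC' : Subgroup.centralizer (c.1 : Set G) ≤ K := (centralizer_le_of_le hle).trans hC
    obtain ⟨d, hd⟩ := exists_samePair_up (a := _) (K := K)
      ((centralizer_le_of_le (show c.1 ≤ _ from hc.1 ▸ Subgroup.map_mono h2.2.2.1)).trans hC')
    exact ⟨d, hd, hbc.tail (hc.normal hd hC' h2)⟩

omit [Fintype G] in
theorem SamePair.conj {a : BrauerPairIdx K} {b : BrauerPairIdx G} (h : SamePair a b) (k : K) :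
    SamePair (conjPair k a) (conjPair (k : G) b) := by
  obtain ⟨h1, φ, hφ, hm⟩ := h
  let ψ : Subgroup.centralizer ((a.1.map (MulAut.conj k).toMonoidHom : Subgroup K) : Set K) ≃*
      Subgroup.centralizer ((b.1.map (MulAut.conj (k : G)).toMonoidHom : Subgroup G) : Set G) :=
    (centEquiv a.1 k).symm.trans (φ.trans (centEquiv b.1 (k : G)))
  refine ⟨?_, ψ, fun c => ?_, ?_⟩
  · show (a.1.map (MulAut.conj k).toMonoidHom).map K.subtype =
      b.1.map (MulAut.conj (k : G)).toMonoidHom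
    rw [← h1, Subgroup.map_map, Subgroup.map_map]
    rfl
  · show (k : G) * (φ ((centEquiv a.1 k).symm c) : G) * (k : G)⁻¹ = ((c : K) : G)
    rw [hφ]
    show (k : G) * ((k⁻¹ * (c : K) * k : K) : G) * (k : G)⁻¹ = _
    push_cast
    group
  · show mapBlock ψ (conjBlock b.1 (k : G) b.2) = conjBlock a.1 k a.2
    rw [conjBlock_eq, conjBlock_eq, ← hm, mapBlock_mapBlock, mapBlock_mapBlock]
    refine congrArg (fun θ => mapBlock θ b.2) (MulEquiv.ext fun c => ?_)
    exact (centEquiv b.1 (k : G)).symm_apply_apply _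

variable [M.IsPrime] [Fact p.Prime] (hM : IsPModular p M)
include hM

/-- Pairs above `(Q, f)` inside `K` are conjugate in `K` into one whose subgroup is a defect group
of the block of `K` over `f`. -/
theorem exists_conj_le_within {Q D Y : Subgroup G}
    {f : Set (IrrCharacter (Subgroup.centralizer (Q : Set G)))}
    {d : Set (IrrCharacter (Subgroup.centralizer (D : Set G)))}
    {g : Set (IrrCharacter (Subgroup.centralizer (Y : Set G)))}
    (hK : K ≤ pairStab Q f) (hCK : Subgroup.centralizer (Q : Set G) ≤ K) (hQK : Q ≤ K)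
    (hD : IsNormalSubpair p M Q f D d) (hDK : D ≤ K)
    (hDmax : ∀ Z : Subgroup G, Z ≤ K → IsPGroup p Z →
      Brv Z (subIdem M (Subgroup.centralizer (Q : Set G)) f) → Nat.card Z ≤ Nat.card D)
    (hY : IsNormalSubpair p M Q f Y g) (hYK : Y ≤ K) :
    ∃ k ∈ K, Relation.ReflTransGen (NormalSubpairRel p M) (conjPair k ⟨Y, g⟩) ⟨D, d⟩ := by
  have hf : IsPBlock M f := hD.1.2
  obtain ⟨F, hF, hco⟩ := exists_block_over hM hD.1.1 hQK hCK
    (hK.trans (pairStab_le_normalizer Q f)) hf fun x hx => (hK hx).2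
  have hQD : Q ≤ D := hD.2.2.1
  have hQY : Q ≤ Y := hY.2.2.1
  -- a pair of `F` is a normal inclusion over `(Q, f)`
  have hiff : ∀ (a : BrauerPairIdx K) (b : BrauerPairIdx G), SamePair a b → Q ≤ b.1 → b.1 ≤ K →
      (IsBrauerPairOf p M F a.1 a.2 ↔ IsNormalSubpair p M Q f b.1 b.2) := by
    intro a b h hQb hbK
    constructor
    · rintro ⟨ha, -, hval⟩
      exact ⟨hD.1, h.brauerPair_iff.1 ha, hQb,
        (hbK.trans hK).trans (pairStab_le_normalizer Q f), fun x hx => (hK (hbK hx)).2,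
        (h.memLocalIdeal_iff hco).1 hval⟩
    · rintro ⟨-, hb, -, -, -, hval⟩
      exact ⟨h.brauerPair_iff.2 hb, hF, (h.memLocalIdeal_iff hco).2 hval⟩
  obtain ⟨aD, haD⟩ := exists_samePair_down (b := ⟨D, d⟩) hDK ((centralizer_le_of_le hQD).trans hCK)
  obtain ⟨aY, haY⟩ := exists_samePair_down (b := ⟨Y, g⟩) hYK ((centralizer_le_of_le hQY).trans hCK)
  have hmaxD : IsMaximalBrauerPair p M F aD.1 aD.2 := by
    refine ⟨(hiff aD ⟨D, d⟩ haD hQD hDK).2 hD, fun R r hR hle => ?_⟩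
    obtain ⟨b, hb, hDb⟩ := SamePair.chain (a' := ⟨R, r⟩) hle haD
      ((centralizer_le_of_le hQD).trans hCK)
    have hDb' : D ≤ b.1 := le_of_subpairLE hDb
    have hbK : b.1 ≤ K := hb.1 ▸ Subgroup.map_subtype_le R
    obtain ⟨-, hbp, -, -, -, hval⟩ := isNormalSubpair_iff.1 ((hiff _ b hb (hQD.trans hDb') hbK).1 hR)
    obtain ⟨ξ, hξ⟩ := IsPBlock.nonempty hbp.2
    have hcard := hDmax b.1 hbK hbp.1 (brv_of_pairVal (ξ := ξ) (by
      rw [hval ξ hξ]; exact one_ne_zero))
    have heq : D = b.1 := Subgroup.eq_of_le_of_card_ge hDb' hcard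
    exact Subgroup.map_injective K.subtype_injective ((hb.1.trans heq.symm).trans haD.1.symm)
  obtain ⟨k, hk⟩ := exists_conj_le hM hmaxD ((hiff aY ⟨Y, g⟩ haY hQY hYK).2 hY)
  have hQk : Q ≤ Y.map (MulAut.conj (k : G)).toMonoidHom := fun q hq =>
    (map_conj_eq Y (k : G) q).2 (hQY ((Subgroup.mem_normalizer_iff''.1
      (pairStab_le_normalizer Q f (hK k.2)) q).1 hq))
  obtain ⟨b, hb, hle⟩ := SamePair.chain hk (haY.conj k) ((centralizer_le_of_le hQk).trans hCK)
  rw [hb.unique haD] at hle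
  exact ⟨k, k.2, hle⟩

end CfsgLib.Pairs
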