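import Cfsg.Agent.Lib.Pairs.BlockFusion
import Cfsg.Agent.Lib.Pairs.Relative
import Cfsg.Agent.Lib.Fusion.Saturated
import Cfsg.Agent.Lib.CharAction.DefectCount

/-!
# The fusion system of a block is saturated
-/

namespace CfsgLib.Pairs

open Cfsg CfsgLib.Blocks MonoidAlgebra Cfsg.FusionSystem

variable {G : Type*} [Group G] [Fintype G] {M : Ideal AlgInt} [M.IsPrime] {p : ℕ} [Fact p.Prime]

/-- A `p`-group of the stabilizer fixes some class of `(Subgroup.centralizer (Q : Set G))(Q)` in the support of the idempotent. -/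
theorem exists_fixed_class (hM : IsPModular p M) {Q U : Subgroup G}
    {f : Set (IrrCharacter (Subgroup.centralizer (Q : Set G)))} (hf : IsPBlock M f)
    (hU : IsPGroup p U) (hUT : U ≤ pairStab Q f) :
    ∃ x : G, (subIdem M (Subgroup.centralizer (Q : Set G)) f).coeff x ≠ 0 ∧
      ∀ u ∈ U, ∃ k ∈ Subgroup.centralizer (Q : Set G), k * u ∈ Subgroup.centralizer ({x} : Set G) := by
  classical
  have := charP_residueField hM
  have hn : ∀ u : U, (u : G) ∈ Subgroup.normalizer ((Subgroup.centralizer (Q : Set G)) : Set G) := fun u => (hUT u.2).2.1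
  let φ : U → (Subgroup.centralizer (Q : Set G)) ≃* (Subgroup.centralizer (Q : Set G)) := fun u => conjEquiv (Subgroup.centralizer (Q : Set G)) (Subgroup.centralizer (Q : Set G)) (u : G) (mem_normalizer_conj (hn u))
  let act : MulAction U (ConjClasses (Subgroup.centralizer (Q : Set G))) :=
    { smul := fun u c => ConjClasses.map (φ u).toMonoidHom c
      one_smul := fun c => by
        obtain ⟨k, rfl⟩ := ConjClasses.mk_surjective c
        exact congrArg ConjClasses.mk (Subtype.ext (show (1 : G) * k * (1 : G)⁻¹ = k by simp))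
      mul_smul := fun u v c => by
        obtain ⟨k, rfl⟩ := ConjClasses.mk_surjective c
        exact congrArg ConjClasses.mk (Subtype.ext (by
          show ((u : G) * v) * k * ((u : G) * v)⁻¹ = (u : G) * ((v : G) * k * (v : G)⁻¹) * (u : G)⁻¹
          group)) }
  obtain ⟨ξ, hξ⟩ := IsPBlock.nonempty hf
  let h : ConjClasses (Subgroup.centralizer (Q : Set G)) → Res M := fun c =>
    (blockIdemBar M f).coeff (Quotient.out c) * centralCharBar M ξ (Quotient.out c)
  have hmk : ∀ k : (Subgroup.centralizer (Q : Set G)), h (ConjClasses.mk k) =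
      (blockIdemBar M f).coeff k * centralCharBar M ξ k := fun k => by
    have hc : IsConj k (Quotient.out (ConjClasses.mk k)) :=
      ConjClasses.mk_eq_mk_iff_isConj.1 (Quotient.out_eq (ConjClasses.mk k)).symm
    obtain ⟨c, hc'⟩ := isConj_iff.1 hc
    simp only [h]
    rw [← CfsgLib.CharAction.centralCharBar_of_isConj ξ hc, ← hc', isCentralElt_blockIdemBar hf k c]
  have hinv : ∀ (u : U) c, h (u • c) = h c := by
    intro u c
    obtain ⟨k, rfl⟩ := ConjClasses.mk_surjective c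
    obtain ⟨hx, hst⟩ := stabilizesBlock_iff.1 (hUT u.2).2
    show h (ConjClasses.mk (φ u k)) = _
    rw [hmk, hmk]
    congr 1
    · have h1 := subIdem_conjSelf (M := M) hx hf
      rw [hst] at h1
      have h2 := congrArg (fun z : MonoidAlgebra (Res M) G => z.coeff ((φ u k : (Subgroup.centralizer (Q : Set G))) : G)) h1
      simp only [coeff_conjAlg] at h2
      rw [subIdem, coeff_inclElt, show (u : G)⁻¹ * ((φ u k : (Subgroup.centralizer (Q : Set G))) : G) * (u : G) = (k : G) by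
        rw [conjEquiv_apply]; group, coeff_inclElt] at h2
      exact h2
    · have hφ : mapIrr (φ u).symm ξ ∈ f := by
        rw [← hst]
        exact ⟨ξ, hξ, rfl⟩
      rw [← sameBlock_iff.1 (IsPBlock.sameBlock hf hφ hξ) (φ u k)]
      refine congrArg (resHom M) (Subtype.ext ?_)
      show centralChar (mapIrr (φ u).symm ξ : (Subgroup.centralizer (Q : Set G)) → ℂ) (φ u k) = centralChar (ξ : (Subgroup.centralizer (Q : Set G)) → ℂ) k
      rw [centralChar_mapIrr, MulEquiv.symm_apply_apply]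
  have hsum : ∑ c, h c = 1 := by
    have := omegaBar_blockIdemBar (M := M) hf ξ
    rw [if_pos hξ, omegaBar] at this
    rw [← this]
    refine Finset.sum_congr ?_ fun _ _ => rfl
    ext
    simp
  rw [sum_eq_sum_fixedPoints hU h hinv] at hsum
  obtain ⟨c, hc, hne⟩ := Finset.exists_ne_zero_of_sum_ne_zero (hsum ▸ one_ne_zero)
  obtain ⟨k, rfl⟩ := ConjClasses.mk_surjective c
  refine ⟨(k : G), ?_, fun u hu => ?_⟩
  · rw [subIdem, coeff_inclElt]
    rw [hmk] at hne
    exact left_ne_zero_of_mul hne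
  · have h1 := (Finset.mem_filter.1 hc).2 ⟨u, hu⟩
    obtain ⟨d, hd⟩ := isConj_iff.1 (ConjClasses.mk_eq_mk_iff_isConj.1 h1)
    refine ⟨(d : G), d.2, Subgroup.mem_centralizer_singleton_iff.2 ?_⟩
    have h2 : (d : G) * (u * k * u⁻¹) * (d : G)⁻¹ = k := congrArg Subtype.val hd
    calc (d : G) * u * k = ((d : G) * (u * k * u⁻¹) * (d : G)⁻¹) * ((d : G) * u) := by group
      _ = k * ((d : G) * u) := by rw [h2]

variable {B : Set (IrrCharacter G)} {P : Subgroup G}
  {e : Set (IrrCharacter (Subgroup.centralizer (P : Set G)))} {F : FusionSystem P}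
  (hF : IsBlockFusionSystemOn p M B P e F) (hM : IsPModular p M) {Q : Subgroup G}
  {f : Set (IrrCharacter (Subgroup.centralizer (Q : Set G)))} (hle : SubpairLE p M Q f P e)
include hF hM hle

theorem mem_autGroup_iff_pairStab {α : MulAut Q} :
    α ∈ F.autGroup Q ↔ α ∈ autInducedBy (pairStab Q f) Q := by
  have hQP : Q ≤ P := le_of_subpairLE hle
  rw [CfsgLib.Fusion.mem_autGroup_iff hQP, CfsgLib.Fusion.mem_autInducedBy_iff, mem_hom_iff hF]
  constructor
  · rintro ⟨g, hg, f', h1, h2⟩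
    obtain rfl : f' = f := by
      have := eq_of_subpairLE hM hF.1.1.1 h1 (b := ⟨Q, f⟩) hle rfl
      simpa using this
    have hn : g ∈ Subgroup.normalizer (Q : Set G) :=
      CfsgLib.Fusion.mem_normalizer_of_conj_eq α fun x => hg x
    have hnC := normalizer_le_normalizer_centralizer Q hn
    rw [conjPair_self hn hnC] at h2
    refine ⟨g, ⟨hn, stabilizesBlock_iff.2 ⟨hnC, ?_⟩⟩, hg⟩
    have := eq_of_subpairLE hM hF.1.1.1 h2 (b := ⟨Q, f'⟩) hle rfl
    simpa using this
  · rintro ⟨g, ⟨hn, hst⟩, hg⟩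
    obtain ⟨hnC, hst'⟩ := stabilizesBlock_iff.1 hst
    refine ⟨g, hg, f, hle, ?_⟩
    rw [conjPair_self hn hnC, hst']
    exact hle

variable (hfn : F.IsFullyNormalized Q)
include hfn

theorem isFullyAutomized_of_fullyNormalized : F.IsFullyAutomized p Q := by
  classical
  have hQP : Q ≤ P := le_of_subpairLE hle
  have hPe := hF.1.1.1
  have hQf : IsBrauerPairOf p M B Q f :=
    (subpairLE_pairOf_iff hM (a := ⟨Q, f⟩) (b := ⟨P, e⟩) hle B).1 hF.1.1
  have hf := hQf.1.2
  obtain ⟨hbrD, hDmax⟩ := (isFullyNormalized_iff hF hM hle).1 hfn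
  set D := P ⊓ Subgroup.normalizer (Q : Set G) with hD
  have hDT : D ≤ (pairStab Q f) := normalizerIn_le_pairStab hM hPe hle
  have hDp : IsPGroup p D := hPe.1.to_le inf_le_left
  obtain ⟨E, hE, hco⟩ := exists_block_over hM hQf.1.1 (le_pairStab Q f)
    (centralizer_le_pairStab Q f) (pairStab_le_normalizer Q f) hf fun x hx => hx.2
  have hdef : IsDefectGroup p M E (D.subgroupOf (pairStab Q f)) :=
    (isDefectGroup_iff_brv hM hf (centralizer_le_pairStab Q f) hE hco hDT hDp).2 ⟨hbrD, hDmax⟩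
  let Φ : (pairStab Q f) →* MulAut Q :=
    Q.normalizerMonoidHom.comp (Subgroup.inclusion (pairStab_le_normalizer Q f))
  have hΦ : ∀ (t : (pairStab Q f)) (x : Q), ((Φ t x : Q) : G) = (t : G) * x * (t : G)⁻¹ := fun _ _ => rfl
  have hker : ∀ t : (pairStab Q f), (t : G) ∈ (Subgroup.centralizer (Q : Set G)) → Φ t = 1 := fun t ht => MulEquiv.ext fun x =>
    Subtype.ext (by
      show (t : G) * x * (t : G)⁻¹ = x
      rw [← Subgroup.mem_centralizer_iff.1 ht x x.2, mul_inv_cancel_right])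
  have hrange : F.autGroup Q = Φ.range := by
    ext α
    rw [mem_autGroup_iff_pairStab hF hM hle, CfsgLib.Fusion.mem_autInducedBy_iff]
    constructor
    · rintro ⟨g, hg, h⟩
      exact ⟨⟨g, hg⟩, MulEquiv.ext fun x => Subtype.ext (h x).symm⟩
    · rintro ⟨t, rfl⟩
      exact ⟨t, t.2, hΦ t⟩
  have hind : autInducedBy P Q = (D.subgroupOf (pairStab Q f)).map Φ := by
    ext α
    rw [CfsgLib.Fusion.mem_autInducedBy_iff]
    constructor
    · rintro ⟨g, hg, h⟩
      have hgD : g ∈ D := ⟨hg, CfsgLib.Fusion.mem_normalizer_of_conj_eq α h⟩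
      exact ⟨⟨g, hDT hgD⟩, hgD, MulEquiv.ext fun x => Subtype.ext (h x).symm⟩
    · rintro ⟨t, ht, rfl⟩
      exact ⟨t, (Subgroup.mem_inf.1 ht).1, hΦ t⟩
  have : Finite P := inferInstance
  rw [CfsgLib.Fusion.isFullyAutomized_iff hQP, hrange, hind]
  -- a Sylow subgroup of the stabilizer
  obtain ⟨U⟩ : Nonempty (Sylow p (pairStab Q f)) := inferInstance
  obtain ⟨x, hxne, hxU⟩ := exists_fixed_class hM hf (U.2.map (pairStab Q f).subtype)
    (Subgroup.map_subtype_le (U : Subgroup (pairStab Q f)))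
  let X : Subgroup (pairStab Q f) := (Subgroup.centralizer ({x} : Set G)).subgroupOf (pairStab Q f)
  obtain ⟨R⟩ : Nonempty (Sylow p X) := inferInstance
  have hUX : (U : Subgroup (pairStab Q f)).map Φ ≤ X.map Φ := by
    rintro _ ⟨u, hu, rfl⟩
    obtain ⟨k, hk, hku⟩ := hxU (u : G) ⟨u, hu, rfl⟩
    refine ⟨⟨k, centralizer_le_pairStab Q f hk⟩ * u, hku, ?_⟩
    rw [map_mul, hker ⟨k, _⟩ hk, one_mul]
  set Rt : Subgroup (pairStab Q f) := (R : Subgroup X).map X.subtype with hRt
  have hRp : IsPGroup p Rt := R.2.map _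
  have hRbr : Brv (Rt.map (pairStab Q f).subtype) (subIdem M (Subgroup.centralizer (Q : Set G)) f) := by
    refine ⟨x, mem_centralizer_iff_le.2 ?_, hxne⟩
    rintro _ ⟨_, ⟨r, -, rfl⟩, rfl⟩
    exact r.2
  have hsc := (brv_subConj_iff hM hf (centralizer_le_pairStab Q f) hE hco hdef
    (Subgroup.map_subtype_le Rt) (hRp.map _)).1 hRbr
  rw [show (Rt.map (pairStab Q f).subtype).subgroupOf (pairStab Q f) = Rt from
    Subgroup.comap_map_eq_self_of_injective (pairStab Q f).subtype_injective Rt] at hsc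
  obtain ⟨t, ht⟩ := SubConj.iff_map_le.1 hsc
  have hle1 : Nat.card (Rt.map Φ) ≤ Nat.card ((D.subgroupOf (pairStab Q f)).map Φ) := by
    rw [← card_map_conj (Φ t) (Rt.map Φ)]
    refine Subgroup.card_le_of_le ?_
    rintro _ ⟨_, ⟨r, hr, rfl⟩, rfl⟩
    exact ⟨t * r * t⁻¹, ht ⟨r, hr, rfl⟩, by simp⟩
  let ΦX : X →* MulAut Q := Φ.comp X.subtype
  have hXr : ΦX.range = X.map Φ := by
    rw [MonoidHom.range_comp, Subgroup.range_subtype]
  have hRcard : Nat.card (Rt.map Φ) = p ^ (Nat.card (X.map Φ)).factorization p := by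
    rw [← hXr, ← Sylow.card_eq_multiplicity (R.mapSurjective ΦX.rangeRestrict_surjective),
      Sylow.coe_mapSurjective, ← Subgroup.card_map_of_injective (f := ΦX.range.subtype)
        ΦX.range.subtype_injective]
    refine congrArg (fun S : Subgroup (MulAut Q) => Nat.card S) ?_
    rw [hRt, Subgroup.map_map, Subgroup.map_map]
    rfl
  have hUcard : Nat.card ((U : Subgroup (pairStab Q f)).map Φ) = p ^ (Nat.card Φ.range).factorization p := by
    rw [← Sylow.card_eq_multiplicity (U.mapSurjective Φ.rangeRestrict_surjective),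
      Sylow.coe_mapSurjective, ← Subgroup.card_map_of_injective (f := Φ.range.subtype)
        Φ.range.subtype_injective, Subgroup.map_map]
    rfl
  refine le_antisymm (Nat.le_of_dvd (pow_pos (Fact.out : p.Prime).pos _) ?_) ?_
  · exact CfsgLib.Fusion.card_le_sylowPart (Subgroup.map_le_range _ _)
      ((hDp.comap_of_injective _ (pairStab Q f).subtype_injective).map _)
  · rw [← hUcard]
    refine le_trans (Nat.le_of_dvd (pow_pos (Fact.out : p.Prime).pos _) ?_) (hRcard.symm.trans_le hle1)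
    exact CfsgLib.Fusion.card_le_sylowPart hUX (U.2.map _)

theorem isReceptive_of_fullyNormalized : F.IsReceptive Q := by
  classical
  have hQP : Q ≤ P := le_of_subpairLE hle
  have hPe := hF.1.1.1
  have hQf : IsBrauerPairOf p M B Q f :=
    (subpairLE_pairOf_iff hM (a := ⟨Q, f⟩) (b := ⟨P, e⟩) hle B).1 hF.1.1
  obtain ⟨-, hDmax⟩ := (isFullyNormalized_iff hF hM hle).1 hfn
  set D := P ⊓ Subgroup.normalizer (Q : Set G) with hD
  have hDC : D ≤ Subgroup.normalizer ((Subgroup.centralizer (Q : Set G)) : Set G) :=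
    inf_le_right.trans (normalizer_le_normalizer_centralizer Q)
  have hQD : Q ≤ D := le_inf hQP Subgroup.le_normalizer
  have hKT : D ⊔ (Subgroup.centralizer (Q : Set G)) ≤ pairStab Q f :=
    sup_le (normalizerIn_le_pairStab hM hPe hle) (centralizer_le_pairStab Q f)
  obtain ⟨d, hd, hdle⟩ := normalSubpair_of_le hM hPe hle hQD inf_le_left inf_le_right
  refine ⟨hQP, fun X φ hφ hrng => ?_⟩
  obtain ⟨g, hg, fX, h1, h2⟩ := (mem_hom_iff hF).1 hφ
  have hmapX : X.map (MulAut.conj g).toMonoidHom = Q := (range_eq_map hg).symm.trans hrng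
  have hconj : conjPair g ⟨X, fX⟩ = ⟨Q, f⟩ := eq_of_subpairLE hM hPe h2 hle hmapX
  set N := extender P X φ with hN
  have hNP : N ≤ P := CfsgLib.Fusion.extender_le_sup
  have hXN : X ≤ N := CfsgLib.Fusion.le_extender (CfsgLib.Fusion.hom_le hφ)
    fun x => CfsgLib.Fusion.hom_apply_mem hφ x
  obtain ⟨fN, -, hfN⟩ := exists_below hM (Nat.card P) (Nat.sub_le _ _) hPe hNP
  have hY := subpairLE_conjPair g (subpairLE_of_le hM hPe (a := ⟨X, fX⟩) (b := ⟨N, fN⟩) h1 hfN hXN)
  rw [hconj] at hY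
  have hQY : Q ≤ N.map (MulAut.conj g).toMonoidHom := le_of_subpairLE hY
  have hYK : N.map (MulAut.conj g).toMonoidHom ≤ D ⊔ (Subgroup.centralizer (Q : Set G)) := by
    rintro _ ⟨n, hn, rfl⟩
    obtain ⟨-, hnX, h, hhP, hh⟩ := CfsgLib.Fusion.mem_extender_iff.1 hn
    have hact : ∀ x : X, g * (n * x * n⁻¹) * g⁻¹ = h * (g * x * g⁻¹) * h⁻¹ := fun x => by
      have := hh x (CfsgLib.Fusion.conj_mem_of_mem_normalizer hnX x.2)
      rwa [hg, hg] at this
    have hsur : ∀ q ∈ Q, ∃ x : X, q = g * x * g⁻¹ := fun q hq => by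
      rw [← hmapX] at hq
      obtain ⟨x, hx, rfl⟩ := hq
      exact ⟨⟨x, hx⟩, rfl⟩
    have hhN : h ∈ Subgroup.normalizer (Q : Set G) := by
      rw [Subgroup.mem_normalizer_iff_map_conj_eq]
      refine Subgroup.eq_of_le_of_card_ge ?_ (card_map_conj h Q).ge
      rintro _ ⟨q, hq, rfl⟩
      obtain ⟨x, rfl⟩ := hsur q hq
      show h * (g * x * g⁻¹) * h⁻¹ ∈ Q
      rw [← hact, ← hmapX]
      exact Subgroup.mem_map_of_mem (MulAut.conj g).toMonoidHom
        (CfsgLib.Fusion.conj_mem_of_mem_normalizer hnX x.2)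
    have hz : h⁻¹ * (g * n * g⁻¹) ∈ (Subgroup.centralizer (Q : Set G)) := by
      refine Subgroup.mem_centralizer_iff.2 fun q hq => ?_
      obtain ⟨x, rfl⟩ := hsur q hq
      calc g * x * g⁻¹ * (h⁻¹ * (g * n * g⁻¹))
          = h⁻¹ * (h * (g * x * g⁻¹) * h⁻¹) * (g * n * g⁻¹) := by group
        _ = h⁻¹ * (g * (n * x * n⁻¹) * g⁻¹) * (g * n * g⁻¹) := by rw [hact]
        _ = h⁻¹ * (g * n * g⁻¹) * (g * x * g⁻¹) := by group
    have := mul_mem (Subgroup.mem_sup_left (T := (Subgroup.centralizer (Q : Set G))) (show h ∈ D from ⟨hhP, hhN⟩))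
      (Subgroup.mem_sup_right (S := D) hz)
    simpa [mul_assoc] using this
  have hYp := isBrauerPair_conjPair g (a := ⟨N, fN⟩) (isBrauerPair_of_subpairLE hfN hPe)
  have hYn := (unique_below hM (Nat.card (N.map (MulAut.conj g).toMonoidHom : Subgroup G))
    (Nat.sub_le _ _) hYp).1 f hY ((hYK.trans hKT).trans (pairStab_le_normalizer Q f))
  obtain ⟨k, hk, hkle⟩ := exists_conj_le_within hM hKT le_sup_right (le_sup_of_le_left hQD) hd
    le_sup_left (fun Z hZ hZp hZb => hDmax Z (hZ.trans hKT) hZp hZb) hYn hYK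
  rw [← SetLike.mem_coe, Subgroup.coe_mul_of_left_le_normalizer_right D (Subgroup.centralizer (Q : Set G)) hDC] at hk
  obtain ⟨a, ha, c, hc, rfl⟩ := hk
  have hmor : Mor p M P e N (c * g) := by
    refine ⟨fN, hfN, ?_⟩
    have h3 := subpairLE_conjPair a⁻¹ hkle
    rw [conjPair_of_mem (inv_mem ha), ← conjPair_mul, inv_mul_cancel_left] at h3
    rw [conjPair_mul]
    exact Relation.ReflTransGen.trans h3 hdle
  refine ⟨conjHom N (c * g), (mem_hom_iff hF).2 ⟨c * g, fun _ => rfl, hmor⟩, fun x hx hxN => ?_⟩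
  show c * g * x * (c * g)⁻¹ = φ ⟨x, hx⟩
  rw [hg]
  have hq : g * x * g⁻¹ ∈ Q := hmapX ▸ Subgroup.mem_map_of_mem (MulAut.conj g).toMonoidHom hx
  calc c * g * x * (c * g)⁻¹ = c * (g * x * g⁻¹) * c⁻¹ := by group
    _ = g * x * g⁻¹ := by rw [← Subgroup.mem_centralizer_iff.1 hc _ hq, mul_inv_cancel_right]

omit hfn hle

theorem isSaturated_of_isBlockFusionSystemOn : F.IsSaturated p := by
  refine CfsgLib.Fusion.saturated_of_fullyNormalized fun Q hQ => ?_
  obtain ⟨f, -, hf⟩ := exists_below hM (Nat.card P) (Nat.sub_le _ _) hF.1.1.1 hQ.1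
  exact ⟨isFullyAutomized_of_fullyNormalized hF hM hf hQ,
    isReceptive_of_fullyNormalized hF hM hf hQ⟩

end CfsgLib.Pairs
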