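import Cfsg.Agent.Lib.Pairs.BlockFusion

/-!
# A centric pair normal in the group
-/

namespace CfsgLib.Pairs

open Cfsg CfsgLib.Blocks MonoidAlgebra

variable {G : Type*} [Group G] [Fintype G] {M : Ideal AlgInt} [M.IsPrime] {p : ℕ} [Fact p.Prime]
  {B : Set (IrrCharacter G)} {Q : Subgroup G}
  {f : Set (IrrCharacter (Subgroup.centralizer (Q : Set G)))}
  (hM : IsPModular p M)
include hM

theorem blockCoeff_eq_of_stable (hQf : IsBrauerPairOf p M B Q f) [Q.Normal]
    (hst : ∀ x : G, StabilizesBlock (Subgroup.centralizer (Q : Set G)) f x) (g : G) :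
    blockCoeff B g = subgroupBlockCoeff (Subgroup.centralizer (Q : Set G)) f g := by
  rw [blockCoeff_eq_orbit_sum hM hQf.1.1 hQf]
  refine Finset.sum_eq_single f (fun a ha hne => absurd ?_ hne)
    fun h => absurd (self_mem_orbit Q f) h
  obtain ⟨n, hn⟩ := mem_orbit.1 ha
  rw [← hn]
  exact (stabilizesBlock_iff.1 (hst (n : G))).2

/-- With `Z(Q)` as defect group of `f`, the block over `f` of `Q C(Q)` is nilpotent. -/
theorem nilpotent_over_centric (hQp : IsPGroup p Q) (hf : IsPBlock M f)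
    (hD : IsDefectGroup p M f ((Q ⊓ Subgroup.centralizer (Q : Set G)).subgroupOf
      (Subgroup.centralizer (Q : Set G))))
    {F' : Set (IrrCharacter ↥(Q ⊔ Subgroup.centralizer (Q : Set G)))} (hF' : IsPBlock M F')
    (hco : ∀ t : ↥(Q ⊔ Subgroup.centralizer (Q : Set G)),
      blockCoeff F' t = subgroupBlockCoeff (Subgroup.centralizer (Q : Set G)) f (t : G)) :
    IsNilpotentBlock p M F' := by
  classical
  set T := Q ⊔ Subgroup.centralizer (Q : Set G) with hT
  have hmul : ∀ t ∈ T, ∃ q ∈ Q, ∃ c ∈ Subgroup.centralizer (Q : Set G), q * c = t := by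
    intro t ht
    rw [hT, ← SetLike.mem_coe, Subgroup.coe_mul_of_right_le_normalizer_left Q
      (Subgroup.centralizer (Q : Set G)) (centralizer_le_normalizer' Q)] at ht
    exact ht
  have hppow : ∀ q ∈ Q, ∃ k : ℕ, q ^ p ^ k = 1 := fun q hq => by
    obtain ⟨k, hk⟩ := hQp ⟨q, hq⟩
    exact ⟨k, congrArg Subtype.val hk⟩
  refine ⟨hF', fun R r hR x hxN hxst hxreg => ?_⟩
  -- the subgroup of the pair lies in `Q`
  have hRQ : ∀ u ∈ R, ((u : T) : G) ∈ Q := by
    obtain ⟨hRr, -, hval⟩ := isBrauerPairOf_iff.1 hR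
    obtain ⟨ξ, hξ⟩ := IsPBlock.nonempty hRr.2
    obtain ⟨c, hc, hcne⟩ := brv_of_pairVal (ξ := ξ) (by rw [hval ξ hξ]; exact one_ne_zero)
    have hCT : Subgroup.centralizer (Q : Set G) ≤ T := le_sup_right
    rw [subIdem_coeff_of_block hf hF' hco] at hcne
    have hcC : (c : G) ∈ Subgroup.centralizer (Q : Set G) := by
      by_contra h
      exact hcne (coeff_inclElt_of_notMem _ _ h)
    rw [subIdem, coeff_inclElt _ _ ⟨(c : G), hcC⟩] at hcne
    intro u hu
    obtain ⟨q, hq, z, hz, hqz⟩ := hmul (u : G) u.2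
    have hzq : Commute q z := Subgroup.mem_centralizer_iff.1 hz q hq
    have hzc : z * c = c * z := by
      have h1 : ((u : T) : G) * c = c * (u : G) :=
        congrArg Subtype.val (Subgroup.mem_centralizer_iff.1 hc u hu)
      rw [← hqz] at h1
      have h2 : q * c = c * q := Subgroup.mem_centralizer_iff.1 hcC q hq
      refine mul_left_cancel (a := q) ?_
      rw [← mul_assoc, h1, ← mul_assoc, ← h2, mul_assoc]
    have hzp : IsPGroup p (Subgroup.zpowers (⟨z, hz⟩ : Subgroup.centralizer (Q : Set G))) := by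
      obtain ⟨k, hk⟩ := hppow q hq
      obtain ⟨l, hl⟩ := hRr.1 ⟨u, hu⟩
      have hl' : ((u : T) : G) ^ p ^ l = 1 :=
        congrArg (fun v : R => (((v : R) : T) : G)) hl
      have hz1 : z ^ p ^ (k + l) = 1 := by
        have h2 : (q * z) ^ p ^ (k + l) = 1 := by
          rw [hqz, pow_add, mul_comm, pow_mul, hl', one_pow]
        rw [hzq.mul_pow, pow_add p k l, pow_mul q, hk, one_pow, one_mul, ← pow_add p k l] at h2
        exact h2
      have h3 : orderOf (⟨z, hz⟩ : Subgroup.centralizer (Q : Set G)) ∣ p ^ (k + l) := by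
        rw [← Subgroup.orderOf_coe]
        exact orderOf_dvd_of_pow_eq_one hz1
      obtain ⟨j, -, hj⟩ := (Nat.dvd_prime_pow (Fact.out : p.Prime)).1 h3
      exact IsPGroup.of_card (n := j) (by rw [Nat.card_zpowers, hj])
    obtain ⟨y, hy⟩ := (exists_coeff_ne_zero_centralizer_iff hM hf hD hzp).1
      ⟨⟨(c : G), hcC⟩, hcne, mem_centralizer_iff_le.2 (Subgroup.zpowers_le.2
        (mem_centralizer_singleton.2 (show Commute (⟨z, hz⟩ : Subgroup.centralizer (Q : Set G))
          ⟨(c : G), hcC⟩ from Subtype.ext hzc)))⟩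
    have h4 := Subgroup.mem_subgroupOf.1 (hy _ (Subgroup.mem_zpowers _))
    have hzQ : z ∈ Q := by
      have h5 : (y : G) * z * (y : G)⁻¹ ∈ Q := (Subgroup.mem_inf.1 h4).1
      exact (Subgroup.mem_normalizer_iff.1 (centralizer_le_normalizer' Q y.2) z).2 h5
    rw [← hqz]
    exact Q.mul_mem hq hzQ
  -- regular elements of the group centralize `Q`
  have hxC : (x : G) ∈ Subgroup.centralizer (Q : Set G) := by
    obtain ⟨q, hq, z, hz, hqz⟩ := hmul (x : G) x.2
    obtain ⟨k, hk⟩ := hppow q hq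
    have hx' : (x : G) ^ p ^ k = z ^ p ^ k := by
      rw [← hqz, (show Commute q z from Subgroup.mem_centralizer_iff.1 hz q hq).mul_pow, hk, one_mul]
    obtain ⟨m, hm⟩ := exists_pow_eq_self_of_coprime (x := (x : G)) (n := p ^ k) (by
      rw [Subgroup.orderOf_coe]
      exact ((Fact.out : p.Prime).coprime_iff_not_dvd.2 hxreg).pow_left k)
    rw [← hm, hx']
    exact pow_mem (pow_mem hz _) _
  exact Subgroup.mem_centralizer_iff.2 fun u hu =>
    Subtype.ext (Subgroup.mem_centralizer_iff.1 hxC _ (hRQ u hu))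

end CfsgLib.Pairs
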