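import Mathlib

/-!
An element of order three normalising an elementary abelian `2`-group on a space over the field with three
elements, with small commutator space: the three moved lines.
-/

set_option autoImplicit false
set_option linter.style.haveILetI false
set_option linter.unusedSectionVars false

namespace CfsgLib.Pairs.Cubic

open Subgroup

instance factThree : Fact (Nat.Prime 3) := ⟨Nat.prime_three⟩

variable {G : Type*} [Group G] {V : Type*} [AddCommGroup V] [Module (ZMod 3) V]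
variable (ρ : Representation (ZMod 3) G V)

theorem rep_mul (g h : G) (v : V) : ρ g (ρ h v) = ρ (g * h) v := by rw [map_mul]; rfl

theorem rep_one (v : V) : ρ 1 v = v := by rw [map_one]; rfl

theorem rep_inv_apply (g : G) (v : V) : ρ g⁻¹ (ρ g v) = v := by rw [rep_mul, inv_mul_cancel, rep_one]

theorem rep_apply_inv (g : G) (v : V) : ρ g (ρ g⁻¹ v) = v := by rw [rep_mul, mul_inv_cancel, rep_one]

theorem rep_injective (g : G) : Function.Injective (ρ g) := fun v w h => by
  rw [← rep_inv_apply ρ g v, h, rep_inv_apply]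

/-- weight spaces of a sign function -/
def weight (A : Subgroup G) (χ : A → ZMod 3) : Submodule (ZMod 3) V where
  carrier := {v | ∀ a : A, ρ (a : G) v = χ a • v}
  add_mem' := fun {v w} hv hw a => by rw [map_add, hv a, hw a, smul_add]
  zero_mem' := fun a => by rw [map_zero, smul_zero]
  smul_mem' := fun c {v} hv a => by rw [map_smul, hv a, smul_comm]

theorem mem_weight {A : Subgroup G} {χ : A → ZMod 3} {v : V} :
    v ∈ weight ρ A χ ↔ ∀ a : A, ρ (a : G) v = χ a • v := Iff.rfl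

theorem sign_weight {A : Subgroup G} (hA : ∀ a ∈ A, a * a = 1) {χ : A → ZMod 3} {v : V}
    (hv : v ∈ weight ρ A χ) (hv0 : v ≠ 0) (a : A) : χ a = 1 ∨ χ a = -1 := by
  have h : (χ a * χ a) • v = v := by
    rw [← smul_smul, ← hv a, ← map_smul, ← hv a, rep_mul, hA a a.2, rep_one]
  have h' : χ a * χ a = 1 := by
    by_contra hne
    have : (χ a * χ a - 1) • v = 0 := by rw [sub_smul, h, one_smul, sub_self]
    exact hne (sub_eq_zero.1 ((smul_eq_zero.1 this).resolve_right hv0))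
  revert h'
  generalize χ a = x
  revert x
  decide

theorem weight_unique {A : Subgroup G} {χ ψ : A → ZMod 3} {v : V} (hχ : v ∈ weight ρ A χ) (hψ : v ∈ weight ρ A ψ)
    (hv : v ≠ 0) : χ = ψ := funext fun a => by
  have : (χ a - ψ a) • v = 0 := by rw [sub_smul, ← hχ a, ← hψ a, sub_self]
  exact sub_eq_zero.1 ((smul_eq_zero.1 this).resolve_right hv)

/-- the sum of the projection: characters of `A` -/
noncomputable def proj (A : Subgroup G) [Fintype A] (χ : A → ZMod 3) : Module.End (ZMod 3) V :=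
  ∑ a : A, ((Fintype.card A : ZMod 3) * χ a) • ρ (a : G)

theorem proj_apply (A : Subgroup G) [Fintype A] (χ : A → ZMod 3) (v : V) :
    proj ρ A χ v = ∑ a : A, ((Fintype.card A : ZMod 3) * χ a) • ρ (a : G) v := by
  simp [proj, LinearMap.sum_apply]

theorem card_unit {A : Subgroup G} [Fintype A] (hA : ∀ a ∈ A, a * a = 1) :
    (Fintype.card A : ZMod 3) * (Fintype.card A : ZMod 3) = 1 := by
  obtain ⟨n, hn⟩ := IsPGroup.iff_card.1 (show IsPGroup 2 A from fun a => ⟨1, by
    rw [pow_one, pow_two]; exact Subtype.ext (hA a a.2)⟩)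
  rw [← Nat.card_eq_fintype_card, hn, Nat.cast_pow, ← mul_pow]
  rw [show ((2 : ℕ) : ZMod 3) * ((2 : ℕ) : ZMod 3) = 1 by decide, one_pow]

/-- characters with values `±1` -/
def IsSign (A : Subgroup G) (χ : A → ZMod 3) : Prop :=
  (∀ a b : A, χ (a * b) = χ a * χ b) ∧ ∀ a, χ a = 1 ∨ χ a = -1

theorem isSign_of_weight {A : Subgroup G} (hA : ∀ a ∈ A, a * a = 1) {χ : A → ZMod 3} {v : V}
    (hv : v ∈ weight ρ A χ) (hv0 : v ≠ 0) : IsSign A χ := by
  refine ⟨fun a b => ?_, sign_weight ρ hA hv hv0⟩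
  have h : (χ a * χ b) • v = χ (a * b) • v := by
    rw [← hv (a * b), Subgroup.coe_mul, ← rep_mul, hv b, map_smul, hv a, smul_smul, mul_comm]
  have : (χ a * χ b - χ (a * b)) • v = 0 := by rw [sub_smul, h, sub_self]
  exact (sub_eq_zero.1 ((smul_eq_zero.1 this).resolve_right hv0)).symm

theorem proj_of_weight {A : Subgroup G} [Fintype A] (hA : ∀ a ∈ A, a * a = 1) {χ ψ : A → ZMod 3}
    (hχ : IsSign A χ) {v : V} (hv : v ∈ weight ρ A ψ) :
    proj ρ A χ v = if χ = ψ then v else 0 := by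
  classical
  rcases eq_or_ne v 0 with rfl | hv0
  · simp
  have hψ := isSign_of_weight ρ hA hv hv0
  rw [proj_apply, Finset.sum_congr rfl fun a _ => by rw [hv a, smul_smul], ← Finset.sum_smul]
  split_ifs with h
  · subst h
    have h1 : ∀ a : A, (Fintype.card A : ZMod 3) * χ a * χ a = Fintype.card A := fun a => by
      rcases hχ.2 a with e | e <;> rw [e] <;> ring
    rw [Finset.sum_congr rfl fun a _ => h1 a, Finset.sum_const, Finset.card_univ, nsmul_eq_mul, card_unit hA,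
      one_smul]
  · obtain ⟨a₀, ha₀⟩ := Function.ne_iff.1 h
    have hne : χ a₀ * ψ a₀ = -1 := by
      rcases hχ.2 a₀ with e | e <;> rcases hψ.2 a₀ with e' | e' <;> rw [e, e'] at ha₀ ⊢ <;>
        first | exact absurd rfl ha₀ | ring
    set σ := ∑ a : A, (Fintype.card A : ZMod 3) * χ a * ψ a with hσ
    have h2 : σ = -σ := by
      conv_lhs => rw [hσ, ← Equiv.sum_comp (Equiv.mulLeft a₀)]
      rw [hσ, ← Finset.sum_neg_distrib]
      refine Finset.sum_congr rfl fun a _ => ?_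
      rw [Equiv.coe_mulLeft, hχ.1, hψ.1]
      calc (Fintype.card A : ZMod 3) * (χ a₀ * χ a) * (ψ a₀ * ψ a)
          = (χ a₀ * ψ a₀) * ((Fintype.card A : ZMod 3) * χ a * ψ a) := by ring
        _ = _ := by rw [hne]; ring
    have h3 : σ = 0 := by
      revert h2
      generalize σ = x
      revert x
      decide
    rw [h3, zero_smul]

theorem proj_mem {A : Subgroup G} [Fintype A] {χ : A → ZMod 3} (hχ : IsSign A χ) (v : V) :
    proj ρ A χ v ∈ weight ρ A χ := by
  intro b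
  rw [proj_apply, map_sum, Finset.smul_sum]
  refine Fintype.sum_equiv (Equiv.mulLeft b) _ _ fun a => ?_
  rw [map_smul, rep_mul, smul_smul, Equiv.coe_mulLeft, Subgroup.coe_mul, hχ.1]
  congr 1
  rcases hχ.2 b with e | e <;> rw [e] <;> ring

theorem span_weights [Finite G] {A : Subgroup G} (hA : ∀ a ∈ A, a * a = 1) :
    ⨆ χ : {χ : A → ZMod 3 // IsSign A χ}, weight ρ A χ.1 = ⊤ := by
  classical
  haveI : Fintype A := Fintype.ofFinite A
  refine eq_top_iff.2 fun v _ => ?_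
  haveI : Fintype {χ : A → ZMod 3 // IsSign A χ} := Fintype.ofFinite _
  -- characters of an elementary abelian group separate its elements
  have hcomm : ∀ a b : A, a * b = b * a := fun a b => Subtype.ext (by
    show (a : G) * b = b * a
    have h1 := hA _ (mul_mem a.2 b.2)
    calc (a : G) * b = a * ((a : G) * b * (a * b)) * b := by rw [h1, mul_one]
      _ = (a * a) * b * a * (b * b) := by group
      _ = b * a := by rw [hA a a.2, hA b b.2, one_mul, mul_one])
  letI : CommGroup A := { (inferInstance : Group A) with mul_comm := hcomm }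
  let e : {χ : A → ZMod 3 // IsSign A χ} ≃ (A →* (ZMod 3)ˣ) :=
    { toFun := fun χ => MonoidHom.mk' (fun a => if χ.1 a = 1 then 1 else -1) (fun a b => by
        rcases χ.2.2 a with e | e <;> rcases χ.2.2 b with e' | e' <;>
          simp [χ.2.1, e, e', show ((-1 : ZMod 3) = 1) = False from eq_false (by decide)])
      invFun := fun f => ⟨fun a => (f a : ZMod 3), fun a b => by simp, fun a => by
        show ((f a : (ZMod 3)ˣ) : ZMod 3) = 1 ∨ ((f a : (ZMod 3)ˣ) : ZMod 3) = -1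
        generalize f a = u
        revert u
        decide⟩
      left_inv := fun χ => Subtype.ext (funext fun a => by
        rcases χ.2.2 a with e | e <;> simp [e, show ((-1 : ZMod 3) = 1) = False from eq_false (by decide)])
      right_inv := fun f => MonoidHom.ext fun a => by
        simp only [MonoidHom.mk'_apply]
        exact (show ∀ u : (ZMod 3)ˣ, (if (u : ZMod 3) = 1 then (1 : (ZMod 3)ˣ) else -1) = u by decide) (f a) }
  haveI : HasEnoughRootsOfUnity (ZMod 3) 2 := ⟨⟨-1, IsPrimitiveRoot.mk_of_lt _ two_pos (by decide) (by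
        intro l hl hl2
        obtain rfl : l = 1 := by omega
        decide)⟩, inferInstance⟩
  haveI : HasEnoughRootsOfUnity (ZMod 3) (Monoid.exponent A) := HasEnoughRootsOfUnity.of_dvd (ZMod 3) (n := 2)
    (Monoid.exponent_dvd_of_forall_pow_eq_one fun a => by rw [pow_two]; exact Subtype.ext (hA a a.2))
  haveI : Fintype (A →* (ZMod 3)ˣ) := Fintype.ofEquiv _ e
  have hcard : Fintype.card {χ : A → ZMod 3 // IsSign A χ} = Fintype.card A := by
    rw [← Nat.card_eq_fintype_card, ← Nat.card_eq_fintype_card, Nat.card_congr e,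
      CommGroup.card_monoidHom_of_hasEnoughRootsOfUnity A (ZMod 3)]
  have hsum : v = ∑ χ : {χ : A → ZMod 3 // IsSign A χ}, proj ρ A χ.1 v := by
    simp only [proj_apply]
    rw [Finset.sum_comm, Fintype.sum_eq_single 1]
    · have h1 : ∀ χ : {χ : A → ZMod 3 // IsSign A χ}, χ.1 1 = 1 := fun χ => by
        have h := χ.2.1 1 1
        rw [mul_one] at h
        rcases χ.2.2 1 with e' | e'
        · exact e'
        · rw [e'] at h; exact absurd h (by decide)
      simp only [h1, mul_one, OneMemClass.coe_one, rep_one]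
      rw [← Finset.sum_smul, Finset.sum_const, Finset.card_univ, nsmul_eq_mul, hcard, card_unit hA, one_smul]
    · intro a ha
      rw [← Finset.sum_smul]
      obtain ⟨ψ, hψ⟩ := CommGroup.exists_apply_ne_one_of_hasEnoughRootsOfUnity A (ZMod 3) ha
      set σ := ∑ χ : {χ : A → ZMod 3 // IsSign A χ}, (Fintype.card A : ZMod 3) * χ.1 a with hσ
      have hval : ∀ χ : {χ : A → ZMod 3 // IsSign A χ}, χ.1 a = ((e χ a : (ZMod 3)ˣ) : ZMod 3) := fun χ => by
        conv_lhs => rw [← e.symm_apply_apply χ]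
        rfl
      have hσ' : σ = ∑ f : A →* (ZMod 3)ˣ, (Fintype.card A : ZMod 3) * ((f a : (ZMod 3)ˣ) : ZMod 3) :=
        Fintype.sum_equiv e _ _ fun χ => by rw [hval χ]
      have h2 : ((ψ a : (ZMod 3)ˣ) : ZMod 3) * σ = σ := by
        rw [hσ', Finset.mul_sum]
        refine Fintype.sum_equiv (Equiv.mulLeft ψ) _ _ fun f => ?_
        simp only [Equiv.coe_mulLeft, MonoidHom.mul_apply, Units.val_mul]
        ring
      have h3 : σ = 0 := by
        by_contra h0
        exact hψ (Units.ext (mul_right_cancel₀ h0 (h2.trans (one_mul σ).symm)))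
      rw [h3, zero_smul]
  rw [hsum]
  exact sum_mem fun χ _ => Submodule.mem_iSup_of_mem χ (proj_mem ρ χ.2 v)

/-- conjugated sign function -/
def twist {A : Subgroup G} (g : G) (hg : g ∈ normalizer (A : Set G)) (χ : A → ZMod 3) : A → ZMod 3 := fun a =>
  χ ⟨g⁻¹ * a * g, by simpa using (mem_normalizer_iff.1 (inv_mem hg) (a : G)).1 a.2⟩

theorem mem_weight_twist {A : Subgroup G} {g : G} (hg : g ∈ normalizer (A : Set G)) {χ : A → ZMod 3} {v : V}
    (hv : v ∈ weight ρ A χ) : ρ g v ∈ weight ρ A (twist g hg χ) := by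
  intro a
  have h := hv ⟨g⁻¹ * a * g, by simpa using (mem_normalizer_iff.1 (inv_mem hg) (a : G)).1 a.2⟩
  rw [rep_mul, show (a : G) * g = g * (g⁻¹ * a * g) by group, ← rep_mul, h, map_smul]
  rfl

/-- three moved lines; everything else is fixed -/
theorem exists_frame [Finite G] [Finite V] {A : Subgroup G} (hA : ∀ a ∈ A, a * a = 1) {b : G}
    (hb : b ∈ normalizer (A : Set G)) (hb3 : b ^ 3 = 1)
    (hrank : Module.finrank (ZMod 3) (LinearMap.range (ρ b - 1)) ≤ 2)
    {a₀ : G} (ha₀ : a₀ ∈ A) (hmove : ρ (b * a₀ * b⁻¹) ≠ ρ a₀) :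
    ∃ (χ : A → ZMod 3) (w : V), w ≠ 0 ∧ w ∈ weight ρ A χ ∧ IsSign A χ ∧ twist b hb χ ≠ χ ∧
      twist b hb (twist b hb χ) ≠ χ ∧ twist b hb (twist b hb χ) ≠ twist b hb χ ∧
      twist b hb (twist b hb (twist b hb χ)) = χ ∧
      (∀ v ∈ weight ρ A χ, ∃ c : ZMod 3, v = c • w) ∧
      (∀ ψ, ψ ≠ χ → ψ ≠ twist b hb χ → ψ ≠ twist b hb (twist b hb χ) → ∀ v ∈ weight ρ A ψ, ρ b v = v) ∧
      LinearMap.range (ρ b - 1) = Submodule.span (ZMod 3) {ρ b w - w, ρ b (ρ b w) - ρ b w} := by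
  classical
  haveI : Fintype A := Fintype.ofFinite A
  -- some weight is moved
  obtain ⟨χ, hχ, w, hw, hw0, hχb⟩ : ∃ χ, IsSign A χ ∧ ∃ w ∈ weight ρ A χ, w ≠ 0 ∧ twist b hb χ ≠ χ := by
    by_contra! hall
    refine hmove ?_
    have hle : (⊤ : Submodule (ZMod 3) V) ≤ LinearMap.ker (ρ (b * a₀ * b⁻¹) - ρ a₀) := by
      rw [← span_weights ρ hA]
      refine iSup_le fun χ v hv => ?_
      rcases eq_or_ne v 0 with rfl | hv0
      · exact zero_mem _
      have hfix := hall χ.1 χ.2 v hv hv0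
      have hmem : b * a₀ * b⁻¹ ∈ A := (mem_normalizer_iff.1 hb a₀).1 ha₀
      rw [LinearMap.mem_ker, LinearMap.sub_apply, hv ⟨_, hmem⟩, hv ⟨a₀, ha₀⟩, sub_eq_zero]
      congr 1
      conv_lhs => rw [← hfix]
      exact congrArg χ.1 (Subtype.ext (show b⁻¹ * (b * a₀ * b⁻¹) * b = a₀ by group))
    exact sub_eq_zero.1 (LinearMap.ext fun v => hle (Submodule.mem_top (x := v)))
  set β := twist b hb with hβ
  have hβ3 : ∀ ψ, β (β (β ψ)) = ψ := fun ψ => funext fun a => by
    show ψ _ = ψ a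
    congr 1
    refine Subtype.ext ?_
    show b⁻¹ * (b⁻¹ * (b⁻¹ * (a : G) * b) * b) * b = a
    calc b⁻¹ * (b⁻¹ * (b⁻¹ * (a : G) * b) * b) * b = (b ^ 3)⁻¹ * a * b ^ 3 := by
          rw [pow_succ, pow_two]; group
      _ = a := by rw [hb3, inv_one, one_mul, mul_one]
  have hβinj : Function.Injective β := fun x y h => by rw [← hβ3 x, h, hβ3]
  have h2 : β (β χ) ≠ χ := fun h => hχb (by
    have := hβ3 χ
    rwa [h] at this)
  have h21 : β (β χ) ≠ β χ := fun h => hχb (hβinj h)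
  have hsβ : ∀ {ψ}, IsSign A ψ → IsSign A (β ψ) := fun {ψ} h => ⟨fun x y => by
    show ψ _ = ψ _ * ψ _
    rw [← h.1]
    congr 1
    refine Subtype.ext ?_
    show b⁻¹ * ((x : G) * y) * b = b⁻¹ * x * b * (b⁻¹ * y * b)
    group, fun x => h.2 _⟩
  let f : V →ₗ[ZMod 3] V := ρ b - 1
  have hf : ∀ v, f v = ρ b v - v := fun v => rfl
  have hmw : ∀ {ψ : A → ZMod 3} {v : V}, v ∈ weight ρ A ψ → ρ b v ∈ weight ρ A (β ψ) :=
    fun hv => mem_weight_twist ρ hb hv
  have hp : ∀ {φ ψ : A → ZMod 3} {v : V}, IsSign A φ → v ∈ weight ρ A ψ →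
      proj ρ A φ v = if φ = ψ then v else 0 := fun hφ hv => proj_of_weight ρ hA hφ hv
  let L : weight ρ A χ × weight ρ A χ →ₗ[ZMod 3] LinearMap.range f :=
    ((f.comp (weight ρ A χ).subtype).coprod (f.comp ((ρ b).comp (weight ρ A χ).subtype))).codRestrict _ fun p => by
      rw [LinearMap.coprod_apply]
      exact add_mem ⟨_, rfl⟩ ⟨_, rfl⟩
  have hL : Function.Injective L := by
    rw [← LinearMap.ker_eq_bot, Submodule.eq_bot_iff]
    rintro ⟨u, v⟩ huv
    have he : (ρ b (u : V) - u) + (ρ b (ρ b (v : V)) - ρ b v) = 0 := congrArg Subtype.val huv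
    have e1 := congrArg (proj ρ A χ) he
    simp only [map_add, map_sub, map_zero, hp hχ u.2, hp hχ (hmw u.2), hp hχ (hmw v.2), hp hχ (hmw (hmw v.2))] at e1
    simp [Ne.symm hχb, Ne.symm h2] at e1
    have e3 := congrArg (proj ρ A (β (β χ))) he
    simp only [map_add, map_sub, map_zero, hp (hsβ (hsβ hχ)) u.2, hp (hsβ (hsβ hχ)) (hmw u.2),
      hp (hsβ (hsβ hχ)) (hmw v.2), hp (hsβ (hsβ hχ)) (hmw (hmw v.2))] at e3
    simp [h2, h21] at e3
    have hv0 : (v : V) = 0 := by
      refine rep_injective ρ b (rep_injective ρ b ?_)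
      rw [map_zero, map_zero]
      exact e3
    exact Prod.ext e1 (Subtype.ext hv0)
  have hdim := LinearMap.finrank_le_finrank_of_injective hL
  rw [Module.finrank_prod] at hdim
  have hd1 : Module.finrank (ZMod 3) (weight ρ A χ) = 1 := by
    have h1 : 0 < Module.finrank (ZMod 3) (weight ρ A χ) := by
      haveI : Nontrivial (weight ρ A χ) := nontrivial_of_ne ⟨w, hw⟩ 0 fun h => hw0 (congrArg Subtype.val h)
      exact Module.finrank_pos
    change 2 ≥ Module.finrank (ZMod 3) (LinearMap.range f) at hrank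
    omega
  have hline : ∀ v ∈ weight ρ A χ, ∃ c : ZMod 3, v = c • w := by
    intro v hv
    obtain ⟨c, hc⟩ := exists_smul_eq_of_finrank_eq_one hd1 (x := ⟨w, hw⟩) (fun h => hw0 (congrArg Subtype.val h)) ⟨v, hv⟩
    exact ⟨c, (congrArg Subtype.val hc).symm⟩
  have hsur : Function.Surjective L := by
    haveI : FiniteDimensional (ZMod 3) V := Module.Finite.of_finite
    change 2 ≥ Module.finrank (ZMod 3) (LinearMap.range f) at hrank
    exact (LinearMap.injective_iff_surjective_of_finrank_eq_finrank (by rw [Module.finrank_prod]; omega)).1 hL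
  have hrange : LinearMap.range f = Submodule.span (ZMod 3) {ρ b w - w, ρ b (ρ b w) - ρ b w} := by
    refine le_antisymm ?_ (Submodule.span_le.2 ?_)
    · intro x hx
      obtain ⟨⟨u, v⟩, huv⟩ := hsur ⟨x, hx⟩
      have he : (ρ b (u : V) - u) + (ρ b (ρ b (v : V)) - ρ b v) = x := congrArg Subtype.val huv
      obtain ⟨c, hc⟩ := hline u u.2
      obtain ⟨d, hd⟩ := hline v v.2
      rw [← he, hc, hd]
      simp only [map_smul, ← smul_sub]
      exact add_mem (Submodule.smul_mem _ c (Submodule.subset_span (by simp)))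
        (Submodule.smul_mem _ d (Submodule.subset_span (by simp)))
    · rintro x (rfl | rfl)
      exacts [⟨w, rfl⟩, ⟨ρ b w, rfl⟩]
  refine ⟨χ, w, hw0, hw, hχ, hχb, h2, h21, hβ3 χ, hline, ?_, hrange⟩
  intro ψ n0 n1 n2 v hv
  rcases eq_or_ne v 0 with rfl | hv0
  · exact map_zero _
  have hψ := isSign_of_weight ρ hA hv hv0
  have hz : ∀ φ, IsSign A φ → φ ≠ χ → φ ≠ β χ → φ ≠ β (β χ) → proj ρ A φ (ρ b v - v) = 0 := by
    intro φ hφ a1 a2 a3
    have hmem : ρ b v - v ∈ LinearMap.range f := ⟨v, rfl⟩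
    rw [hrange] at hmem
    generalize ρ b v - v = x at hmem ⊢
    induction hmem using Submodule.span_induction with
    | mem x hx =>
      rcases hx with rfl | rfl
      · simp [hp hφ hw, hp hφ (hmw hw), a1, a2]
      · simp [hp hφ (hmw hw), hp hφ (hmw (hmw hw)), a2, a3]
    | zero => simp
    | add x y _ _ hx hy => rw [map_add, hx, hy, add_zero]
    | smul c x _ hx => rw [map_smul, hx, smul_zero]
  have e := hz ψ hψ n0 n1 n2
  rw [map_sub, hp hψ hv, hp hψ (hmw hv), if_pos rfl] at e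
  by_cases hfix : ψ = β ψ
  · rw [if_pos hfix] at e
    exact sub_eq_zero.1 e
  · rw [if_neg hfix, zero_sub, neg_eq_zero] at e
    exact absurd e hv0

/-- the four-group of the hypothesis -/
theorem four_frame [Finite G] [Finite V] (hfaith : Function.Injective ρ) {Q : Subgroup G} (hQ : Nat.card Q = 4)
    (hQ2 : ∀ q ∈ Q, q * q = 1) {b : G} (hb : b ∈ normalizer (Q : Set G)) (hb3 : b ^ 3 = 1)
    (hrank : Module.finrank (ZMod 3) (LinearMap.range (ρ b - 1)) ≤ 2)
    (hnc : ∃ q ∈ Q, b * q * b⁻¹ ≠ q) :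
    (∀ q ∈ Q, b * q * b⁻¹ = q → q = 1) ∧ (∀ v, (∀ q ∈ Q, ρ q v = v) → ρ b v = v) ∧
    ∃ (q₁ : G) (w₁ w₂ w₃ : V), q₁ ∈ Q ∧ q₁ ≠ 1 ∧ w₁ ≠ 0 ∧ w₂ = ρ b w₁ ∧ w₃ = ρ b w₂ ∧ ρ b w₃ = w₁ ∧
      (∀ q ∈ Q, ρ q w₁ = w₁ ∨ ρ q w₁ = -w₁) ∧
      ρ q₁ w₁ = w₁ ∧ ρ q₁ w₂ = -w₂ ∧ ρ q₁ w₃ = -w₃ ∧
      (∀ v, (∀ q ∈ Q, ∃ c : ZMod 3, ρ q w₁ = c • w₁ ∧ ρ q v = c • v) → ∃ c : ZMod 3, v = c • w₁) ∧
      LinearMap.range (ρ b - 1) = Submodule.span (ZMod 3) {w₂ - w₁, w₃ - w₂} ∧
      (∀ v, ρ q₁ v = -v → ∃ c d : ZMod 3, v = c • w₂ + d • w₃) := by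
  classical
  obtain ⟨q₀, hq₀, hmove⟩ := hnc
  obtain ⟨χ, w, hw0, hw, hχ, hb1, hb2, hb21, hb33, hline, hfix, hrange⟩ :=
    exists_frame ρ hQ2 hb hb3 hrank hq₀ fun h => hmove (hfaith h)
  haveI : Fintype Q := Fintype.ofFinite Q
  set β := twist b hb with hβ
  have hmw : ∀ {ψ : Q → ZMod 3} {v : V}, v ∈ weight ρ Q ψ → ρ b v ∈ weight ρ Q (β ψ) :=
    fun hv => mem_weight_twist ρ hb hv
  have hsβ : ∀ {ψ}, IsSign Q ψ → IsSign Q (β ψ) := fun {ψ} h => ⟨fun x y => by
    show ψ _ = ψ _ * ψ _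
    rw [← h.1]
    congr 1
    refine Subtype.ext ?_
    show b⁻¹ * ((x : G) * y) * b = b⁻¹ * x * b * (b⁻¹ * y * b)
    group, fun x => h.2 _⟩
  have hone : IsSign Q fun _ => 1 := ⟨fun _ _ => (one_mul 1).symm, fun _ => Or.inl rfl⟩
  have hne1 : ∀ {ψ}, IsSign Q ψ → β ψ ≠ ψ → ψ ≠ fun _ => 1 := fun {ψ} _ h e => h (by rw [e]; rfl)
  -- sign functions on a four-group
  have hfour : ∀ ψ φ : Q → ZMod 3, IsSign Q ψ → IsSign Q φ → ∀ a c : Q, a ≠ 1 → c ≠ 1 → a ≠ c →
      ψ a = φ a → ψ c = φ c → ψ = φ := by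
    intro ψ φ hψ hφ a c ha hc hac h1 h2
    have hψ1 : ∀ {θ : Q → ZMod 3}, IsSign Q θ → θ 1 = 1 := fun {θ} hθ => by
      have h := hθ.1 1 1
      rw [mul_one] at h
      rcases hθ.2 1 with e' | e'
      · exact e'
      · rw [e'] at h; exact absurd h (by decide)
    have hac' : a * c ≠ 1 := fun e => hac (by
      rw [eq_inv_of_mul_eq_one_left e, inv_eq_of_mul_eq_one_right (show c * c = 1 from Subtype.ext (hQ2 c c.2))])
    let g : Fin 4 → Q := ![1, a, c, a * c]
    have hg : Function.Injective g := by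
      intro i j e
      have a1 : a * c ≠ a := fun e => hc (mul_eq_left.1 e)
      have a2 : a * c ≠ c := fun e => ha (mul_eq_right.1 e)
      fin_cases i <;> fin_cases j <;> simp [g] at e ⊢ <;>
        first | exact ha e | exact ha e.symm | exact hc e | exact hc e.symm | exact hac e | exact hac e.symm | exact hac' e | exact hac' e.symm | exact a1 e | exact a1 e.symm | exact a2 e | exact a2 e.symm
    have hb := hg.bijective_of_nat_card_le (by rw [hQ]; simp)
    funext x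
    obtain ⟨i, rfl⟩ := hb.2 x
    fin_cases i
    · exact (hψ1 hψ).trans (hψ1 hφ).symm
    · exact h1
    · exact h2
    · show ψ (a * c) = φ (a * c)
      rw [hψ.1, hφ.1, h1, h2]
  -- each nonidentity element is negative on exactly two of the three characters
  obtain ⟨q₁, hq₁, hχq₁⟩ : ∃ q : Q, q ≠ 1 ∧ χ q = 1 := by
    by_contra! h
    haveI : Nontrivial Q := Finite.one_lt_card_iff_nontrivial.1 (by rw [hQ]; norm_num)
    obtain ⟨a, ha⟩ := exists_ne (1 : Q)
    obtain ⟨c, hc, hca⟩ : ∃ c : Q, c ≠ 1 ∧ c ≠ a := by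
      by_contra! h'
      have hsub : (Set.univ : Set Q) ⊆ {1, a} := fun x _ => by
        simp only [Set.mem_insert_iff, Set.mem_singleton_iff]
        exact (em (x = 1)).imp id fun hx => h' x hx
      have := Set.ncard_le_ncard hsub (Set.toFinite _)
      rw [Set.ncard_univ, hQ, Set.ncard_pair (Ne.symm ha)] at this
      omega
    have e1 := (hχ.2 a).resolve_left (h a ha)
    have e2 := (hχ.2 c).resolve_left (h c hc)
    refine h (a * c) (fun e => hca (by
      rw [eq_inv_of_mul_eq_one_right e, inv_eq_of_mul_eq_one_right (show a * a = 1 from Subtype.ext (hQ2 a a.2))])) ?_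
    rw [hχ.1, e1, e2]; decide
  have hβq : ∀ {ψ φ : Q → ZMod 3}, IsSign Q ψ → IsSign Q φ → ψ ≠ φ → ψ ≠ (fun _ => 1) → φ ≠ (fun _ => 1) →
      ψ q₁ = 1 → φ q₁ = -1 := by
    intro ψ φ hψ hφ hne h1 h1' hq
    refine (hφ.2 q₁).resolve_left fun hq' => ?_
    obtain ⟨c, hc, hcq⟩ : ∃ c : Q, c ≠ 1 ∧ c ≠ q₁ := by
      by_contra! h'
      refine h1 (funext fun x => ?_)
      rcases eq_or_ne x 1 with rfl | hx
      · have h := hψ.1 1 1
        rw [mul_one] at h
        rcases hψ.2 1 with e' | e'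
        · exact e'
        · rw [e'] at h; exact absurd h (by decide)
      · rw [h' x hx]; exact hq
    have e1 : ψ c = -1 := (hψ.2 c).resolve_left fun e => h1 (hfour ψ _ hψ hone q₁ c hq₁ hc (Ne.symm hcq) hq e)
    have e2 : φ c = -1 := (hφ.2 c).resolve_left fun e => h1' (hfour φ _ hφ hone q₁ c hq₁ hc (Ne.symm hcq) hq' e)
    exact hne (hfour ψ φ hψ hφ q₁ c hq₁ hc (Ne.symm hcq) (hq.trans hq'.symm) (e1.trans e2.symm))
  have n0 : χ ≠ fun _ => 1 := hne1 hχ hb1
  have n1 : β χ ≠ fun _ => 1 := hne1 (hsβ hχ) fun e => hb21 e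
  have n2 : β (β χ) ≠ fun _ => 1 := hne1 (hsβ (hsβ hχ)) fun e => hb2 (e.symm.trans hb33)
  have e1 : β χ q₁ = -1 := hβq hχ (hsβ hχ) (Ne.symm hb1) n0 n1 hχq₁
  have e2 : β (β χ) q₁ = -1 := hβq hχ (hsβ (hsβ hχ)) (Ne.symm hb2) n0 n2 hχq₁
  have hall : ∀ ψ, IsSign Q ψ → ψ = (fun _ => 1) ∨ ψ = χ ∨ ψ = β χ ∨ ψ = β (β χ) := by
    intro ψ hψ
    obtain ⟨c, hc, hcq⟩ : ∃ c : Q, c ≠ 1 ∧ c ≠ q₁ := by
      by_contra! h'
      refine n0 (funext fun x => ?_)
      rcases eq_or_ne x 1 with rfl | hx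
      · have h := hχ.1 1 1
        rw [mul_one] at h
        rcases hχ.2 1 with e' | e'
        · exact e'
        · rw [e'] at h; exact absurd h (by decide)
      · rw [h' x hx]; exact hχq₁
    have key : ∀ φ, IsSign Q φ → ψ q₁ = φ q₁ → ψ c = φ c → ψ = φ := fun φ hφ =>
      hfour ψ φ hψ hφ q₁ c hq₁ hc (Ne.symm hcq)
    have hχc : χ c = -1 := (hχ.2 c).resolve_left fun e => n0 (hfour χ _ hχ hone q₁ c hq₁ hc (Ne.symm hcq) hχq₁ e)
    have hne12 : β χ c ≠ β (β χ) c := fun e => hb21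
      (hfour _ _ (hsβ (hsβ hχ)) (hsβ hχ) q₁ c hq₁ hc (Ne.symm hcq) (e2.trans e1.symm) e.symm)
    rcases hψ.2 q₁ with p | p <;> rcases hψ.2 c with p' | p'
    · exact Or.inl (key _ hone p p')
    · exact Or.inr (Or.inl (key _ hχ (p.trans hχq₁.symm) (p'.trans hχc.symm)))
    all_goals
      rcases (hsβ hχ).2 c with r | r <;> rcases (hsβ (hsβ hχ)).2 c with r' | r'
      all_goals first
        | exact absurd (r.trans r'.symm) hne12
        | exact Or.inr (Or.inr (Or.inl (key _ (hsβ hχ) (p.trans e1.symm) (p'.trans r.symm))))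
        | exact Or.inr (Or.inr (Or.inr (key _ (hsβ (hsβ hχ)) (p.trans e2.symm) (p'.trans r'.symm))))
  have hw2 := hmw hw
  have hw3 := hmw hw2
  have hw4 : ρ b (ρ b (ρ b w)) = w := by
    rw [rep_mul, rep_mul, show b * b * b = b ^ 3 by rw [pow_succ, pow_two], hb3, rep_one]
  refine ⟨fun q hq e => ?_, fun v hv => ?_, q₁, w, ρ b w, ρ b (ρ b w), q₁.2,
    fun e => hq₁ (Subtype.ext e), hw0, rfl, rfl, hw4, fun q hq => ?_, ?_, ?_, ?_, ?_, hrange, ?_⟩
  · by_contra hq1
    have hval : β χ ⟨q, hq⟩ = χ ⟨q, hq⟩ := congrArg χ (Subtype.ext (by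
      show b⁻¹ * q * b = q
      calc b⁻¹ * q * b = b⁻¹ * (b * q * b⁻¹) * b := by rw [e]
        _ = q := by group))
    have hval2 : β (β χ) ⟨q, hq⟩ = β χ ⟨q, hq⟩ := congrArg (β χ) (Subtype.ext (by
      show b⁻¹ * q * b = q
      calc b⁻¹ * q * b = b⁻¹ * (b * q * b⁻¹) * b := by rw [e]
        _ = q := by group))
    rcases eq_or_ne (⟨q, hq⟩ : Q) q₁ with h | h
    · rw [h, e1, hχq₁] at hval
      exact absurd hval (by decide)
    · have hne : (⟨q, hq⟩ : Q) ≠ 1 := fun e' => hq1 (congrArg Subtype.val e')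
      exact hb21 (hfour _ _ (hsβ (hsβ hχ)) (hsβ hχ) q₁ ⟨q, hq⟩ hq₁ hne (Ne.symm h) (e2.trans e1.symm) hval2)
  · exact hfix _ (Ne.symm n0) (Ne.symm n1) (Ne.symm n2) v fun a => by rw [one_smul]; exact hv a a.2
  · rcases hχ.2 ⟨q, hq⟩ with e | e
    · left; rw [hw ⟨q, hq⟩, e, one_smul]
    · right; rw [hw ⟨q, hq⟩, e, neg_smul, one_smul]
  · rw [hw q₁, hχq₁, one_smul]
  · rw [hw2 q₁, e1, neg_smul, one_smul]
  · rw [hw3 q₁, e2, neg_smul, one_smul]
  · intro v hv
    refine hline v fun a => ?_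
    obtain ⟨c, hc1, hc2⟩ := hv a a.2
    have h : (χ a - c) • w = 0 := by rw [sub_smul, ← hw a, ← hc1, sub_self]
    rw [sub_eq_zero.1 ((smul_eq_zero.1 h).resolve_right hw0)]
    exact hc2
  · intro v hv
    have hline2 : ∀ u ∈ weight ρ Q (β χ), ∃ c : ZMod 3, u = c • ρ b w := by
      intro u hu
      obtain ⟨c, hc⟩ := hline (ρ b (ρ b u)) (hb33 ▸ hmw (hmw hu))
      exact ⟨c, by rw [← map_smul, ← hc, rep_mul, rep_mul, show b * b * b = b ^ 3 by
        rw [pow_succ, pow_two], hb3, rep_one]⟩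
    have hline3 : ∀ u ∈ weight ρ Q (β (β χ)), ∃ c : ZMod 3, u = c • ρ b (ρ b w) := by
      intro u hu
      obtain ⟨c, hc⟩ := hline (ρ b u) (hb33 ▸ hmw hu)
      exact ⟨c, by rw [← map_smul, ← map_smul, ← hc, rep_mul, rep_mul, show b * b * b = b ^ 3 by
        rw [pow_succ, pow_two], hb3, rep_one]⟩
    -- write `v` through the four projections
    let K : Submodule (ZMod 3) V := Submodule.span (ZMod 3) {ρ b w, ρ b (ρ b w)}
    let P : Submodule (ZMod 3) V := LinearMap.ker (ρ (q₁ : G) - 1)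
    have hle : (⊤ : Submodule (ZMod 3) V) ≤ K ⊔ P := by
      rw [← span_weights ρ hQ2]
      refine iSup_le fun ψ u hu => ?_
      rcases hall ψ.1 ψ.2 with e | e | e | e
      · refine Submodule.mem_sup_right ?_
        rw [LinearMap.mem_ker, LinearMap.sub_apply, Module.End.one_apply, hu q₁, e, one_smul, sub_self]
      · refine Submodule.mem_sup_right ?_
        rw [LinearMap.mem_ker, LinearMap.sub_apply, Module.End.one_apply, hu q₁, e, hχq₁, one_smul, sub_self]
      · obtain ⟨c, hc⟩ := hline2 u (e ▸ hu)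
        exact Submodule.mem_sup_left (hc ▸ Submodule.smul_mem _ c (Submodule.subset_span (by simp)))
      · obtain ⟨c, hc⟩ := hline3 u (e ▸ hu)
        exact Submodule.mem_sup_left (hc ▸ Submodule.smul_mem _ c (Submodule.subset_span (by simp)))
    obtain ⟨k, hk, p, hp, hkp⟩ := Submodule.mem_sup.1 (hle (Submodule.mem_top (x := v)))
    obtain ⟨c, d, hcd⟩ := Submodule.mem_span_pair.1 hk
    have hp' : ρ (q₁ : G) p = p := sub_eq_zero.1 hp
    have hk' : ρ (q₁ : G) k = -k := by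
      rw [← hcd, map_add, map_smul, map_smul, hw2 q₁, hw3 q₁, e1, e2]
      simp [neg_add]
      abel
    have hp0 : p = 0 := by
      have h : ρ (q₁ : G) v = -k + p := by rw [← hkp, map_add, hk', hp']
      rw [hv, ← hkp, neg_add, add_right_inj] at h
      have h2 : (2 : ZMod 3) • p = 0 := by rw [two_smul]; exact (neg_eq_iff_add_eq_zero.1 h)
      exact (smul_eq_zero.1 h2).resolve_left (by decide)
    exact ⟨c, d, by rw [← hkp, hp0, add_zero, hcd]⟩

end CfsgLib.Pairs.Cubic
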