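import Mathlib

/-!
Solvable transitive permutation groups generated by conjugates of a `3`-cycle.
-/

set_option autoImplicit false
set_option linter.style.haveILetI false
set_option linter.unusedSectionVars false

namespace CfsgLib.Pairs.ThreeCycle

open Subgroup Equiv
open scoped commutatorElement

variable {X : Type*} [DecidableEq X]

/-- `σ` is the cycle `a ↦ b ↦ c ↦ a` -/
structure Cyc (σ : Perm X) (a b c : X) : Prop where
  hab : a ≠ b
  hbc : b ≠ c
  hca : c ≠ a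
  mab : σ a = b
  mbc : σ b = c
  mca : σ c = a
  fixd : ∀ x, x ≠ a → x ≠ b → x ≠ c → σ x = x

theorem Cyc.rot {σ : Perm X} {a b c : X} (h : Cyc σ a b c) : Cyc σ b c a :=
  ⟨h.hbc, h.hca, h.hab, h.mbc, h.mca, h.mab, fun x hb hc ha => h.fixd x ha hb hc⟩

theorem Cyc.conj {σ : Perm X} {a b c : X} (h : Cyc σ a b c) (g : Perm X) :
    Cyc (g * σ * g⁻¹) (g a) (g b) (g c) := by
  refine ⟨g.injective.ne h.hab, g.injective.ne h.hbc, g.injective.ne h.hca, ?_, ?_, ?_, fun x ha hb hc => ?_⟩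
  · simp [Perm.mul_apply, h.mab]
  · simp [Perm.mul_apply, h.mbc]
  · simp [Perm.mul_apply, h.mca]
  · obtain ⟨y, rfl⟩ := g.surjective x
    have := h.fixd y (fun e => ha (congrArg g e)) (fun e => hb (congrArg g e)) (fun e => hc (congrArg g e))
    simp [Perm.mul_apply, this]

theorem fin_five_commutators :
    let s : Perm (Fin 5) := swap 0 1 * swap 1 2
    let t : Perm (Fin 5) := swap 0 3 * swap 3 4
    ⁅t * s * s * t, t * s * t⁆ = s ∧ ⁅s * t * s * s, s * t * s⁆ = t := by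
  decide +kernel

/-- two `3`-cycles with one common point generate a nonsolvable group -/
theorem not_overlap_one {K : Subgroup (Perm X)} [Group.IsSolvable K] {σ τ : Perm X} (hσ : σ ∈ K) (hτ : τ ∈ K)
    {a b c p q : X} (h1 : Cyc σ a b c) (h2 : Cyc τ a p q) (hbp : b ≠ p) (hbq : b ≠ q) (hcp : c ≠ p)
    (hcq : c ≠ q) : False := by
  let f : Fin 5 → X := ![a, b, c, p, q]
  have hf : Function.Injective f := by
    intro i j e
    have := h1.hab
    have := h1.hbc
    have := h1.hca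
    have := h2.hab
    have := h2.hbc
    have := h2.hca
    fin_cases i <;> fin_cases j <;> simp [f] at e ⊢ <;> simp_all
  let ι : Fin 5 ↪ X := ⟨f, hf⟩
  let Φ : Perm (Fin 5) →* Perm X := Perm.viaEmbeddingHom ι
  have hΦ : ∀ (e : Perm (Fin 5)) (i : Fin 5), Φ e (f i) = f (e i) := fun e i => Perm.viaEmbedding_apply e ι i
  have hΦ' : ∀ (e : Perm (Fin 5)) (x : X), (∀ i, f i ≠ x) → Φ e x = x := fun e x hx =>
    Perm.viaEmbedding_apply_of_notMem e ι x (by rintro ⟨i, hi⟩; exact hx i hi)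
  let s : Perm (Fin 5) := swap 0 1 * swap 1 2
  let t : Perm (Fin 5) := swap 0 3 * swap 3 4
  have hs : Φ s = σ := by
    refine Equiv.ext fun x => ?_
    by_cases hx : ∃ i, f i = x
    · obtain ⟨i, rfl⟩ := hx
      rw [hΦ]
      fin_cases i
      · exact h1.mab.symm
      · exact h1.mbc.symm
      · exact h1.mca.symm
      · exact (h1.fixd p h2.hab.symm (Ne.symm hbp) (Ne.symm hcp)).symm
      · exact (h1.fixd q h2.hca (Ne.symm hbq) (Ne.symm hcq)).symm
    · push Not at hx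
      rw [hΦ' s x hx]
      exact (h1.fixd x (hx 0).symm (hx 1).symm (hx 2).symm).symm
  have ht : Φ t = τ := by
    refine Equiv.ext fun x => ?_
    by_cases hx : ∃ i, f i = x
    · obtain ⟨i, rfl⟩ := hx
      rw [hΦ]
      fin_cases i
      · exact h2.mab.symm
      · exact (h2.fixd b h1.hab.symm hbp hbq).symm
      · exact (h2.fixd c h1.hca hcp hcq).symm
      · exact h2.mbc.symm
      · exact h2.mca.symm
    · push Not at hx
      rw [hΦ' t x hx]
      exact (h2.fixd x (hx 0).symm (hx 3).symm (hx 4).symm).symm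
  obtain ⟨e1, e2⟩ := fin_five_commutators
  let H : Subgroup (Perm (Fin 5)) := K.comap Φ
  have hsH : s ∈ H := by show Φ s ∈ K; rw [hs]; exact hσ
  have htH : t ∈ H := by show Φ t ∈ K; rw [ht]; exact hτ
  haveI : Group.IsSolvable H := by
    let ψ : H →* K := (Φ.comp H.subtype).codRestrict K fun h => h.2
    exact solvable_of_solvable_injective (f := ψ) fun x y e =>
      Subtype.ext (Perm.viaEmbeddingHom_injective ι (congrArg Subtype.val e))
  obtain ⟨n, hn⟩ := (Group.isSolvable_def _).1 (inferInstance : Group.IsSolvable H)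
  have key : ∀ k, (⟨s, hsH⟩ : H) ∈ derivedSeries H k ∧ (⟨t, htH⟩ : H) ∈ derivedSeries H k := by
    intro k
    induction k with
    | zero => exact ⟨mem_top _, mem_top _⟩
    | succ k ih =>
      obtain ⟨ks, kt⟩ := ih
      constructor
      · rw [show (⟨s, hsH⟩ : H) = ⁅(⟨t, htH⟩ : H) * ⟨s, hsH⟩ * ⟨s, hsH⟩ * ⟨t, htH⟩,
          (⟨t, htH⟩ : H) * ⟨s, hsH⟩ * ⟨t, htH⟩⁆ from Subtype.ext e1.symm, derivedSeries_succ]
        exact commutator_mem_commutator (mul_mem (mul_mem (mul_mem kt ks) ks) kt) (mul_mem (mul_mem kt ks) kt)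
      · rw [show (⟨t, htH⟩ : H) = ⁅(⟨s, hsH⟩ : H) * ⟨t, htH⟩ * ⟨s, hsH⟩ * ⟨s, hsH⟩,
          (⟨s, hsH⟩ : H) * ⟨t, htH⟩ * ⟨s, hsH⟩⁆ from Subtype.ext e2.symm, derivedSeries_succ]
        exact commutator_mem_commutator (mul_mem (mul_mem (mul_mem ks kt) ks) ks) (mul_mem (mul_mem ks kt) ks)
  have h0 := (key n).1
  rw [hn, mem_bot] at h0
  have h0' : (s : Perm (Fin 5)) 0 = 0 := by rw [show s = 1 from congrArg Subtype.val h0]; rfl
  exact absurd h0' (by decide)

theorem card_three_or_four [Fintype X] {K : Subgroup (Perm X)} [Group.IsSolvable K] {c : Perm X} (hc : c ∈ K)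
    {x y z : X} (hcyc : Cyc c x y z) (htrans : ∀ p q : X, ∃ g ∈ K, g p = q)
    (hgen : K ≤ closure {σ | ∃ g ∈ K, g * c * g⁻¹ = σ}) : Fintype.card X = 3 ∨ Fintype.card X = 4 := by
  classical
  have hno : ∀ {σ τ : Perm X} {a b e p q : X}, σ ∈ K → τ ∈ K → Cyc σ a b e → Cyc τ a p q → b ≠ p → b ≠ q →
      e ≠ p → e ≠ q → False := fun hσ hτ h1 h2 => not_overlap_one hσ hτ h1 h2
  -- a set moved by no conjugate is everything
  have hblock : ∀ F : Finset X, F.Nonempty →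
      (∀ σ a b e, σ ∈ K → Cyc σ a b e → ∀ v ∈ F, σ v ∈ F) → F = Finset.univ := by
    intro F hF hinv
    let St : Subgroup (Perm X) :=
      { carrier := {g | ∀ v, g v ∈ F ↔ v ∈ F}
        one_mem' := fun v => Iff.rfl
        mul_mem' := fun {g h} hg hh v => (hg (h v)).trans (hh v)
        inv_mem' := fun {g} hg v => by
          have := hg (g⁻¹ v)
          rw [← Perm.mul_apply, mul_inv_cancel, Perm.one_apply] at this
          exact this.symm }
    have hle : K ≤ St := hgen.trans ((closure_le St).2 (by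
      rintro _ ⟨g, hg, rfl⟩ v
      have hmem : g * c * g⁻¹ ∈ K := mul_mem (mul_mem hg hc) (inv_mem hg)
      have h := hinv _ _ _ _ hmem (hcyc.conj g)
      refine ⟨fun hv => ?_, h v⟩
      obtain ⟨w, hw, hwe⟩ := Finset.mem_image.1 (Finset.eq_of_subset_of_card_le
        (show F.image (g * c * g⁻¹) ⊆ F from fun u hu => by
          obtain ⟨w, hw, rfl⟩ := Finset.mem_image.1 hu
          exact h w hw) (Finset.card_image_of_injective F (g * c * g⁻¹).injective).ge ▸ hv)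
      exact (g * c * g⁻¹).injective hwe ▸ hw))
    obtain ⟨v, hv⟩ := hF
    refine Finset.eq_univ_iff_forall.2 fun u => ?_
    obtain ⟨g, hg, rfl⟩ := htrans v u
    exact (hle hg v).2 hv
  -- rotations
  have hrot : ∀ {σ : Perm X} {a b e : X}, Cyc σ a b e → ∀ v, v = a ∨ v = b ∨ v = e →
      ∃ b' e', Cyc σ v b' e' ∧ ({v, b', e'} : Finset X) = {a, b, e} := by
    intro σ a b e h v hv
    rcases hv with rfl | rfl | rfl
    · exact ⟨b, e, h, rfl⟩
    · exact ⟨e, a, h.rot, by ext; simp; tauto⟩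
    · exact ⟨a, b, h.rot.rot, by ext; simp; tauto⟩
  have hmoved : ∀ {σ : Perm X} {a b e : X}, Cyc σ a b e → ∀ v, σ v ≠ v → v = a ∨ v = b ∨ v = e := by
    intro σ a b e h v hv
    by_contra! hh
    exact hv (h.fixd v hh.1 hh.2.1 hh.2.2)
  by_cases h3 : ∀ σ a b e, σ ∈ K → Cyc σ a b e → ∀ v ∈ ({x, y, z} : Finset X), σ v ∈ ({x, y, z} : Finset X)
  · left
    rw [← Finset.card_univ, ← hblock _ ⟨x, by simp⟩ h3, Finset.card_eq_three]
    exact ⟨x, y, z, hcyc.hab, hcyc.hca.symm, hcyc.hbc, rfl⟩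
  right
  push Not at h3
  obtain ⟨σ, a, b, e, hσ, hσc, v, hv, hσv⟩ := h3
  -- two cycles sharing exactly two points
  obtain ⟨c₂, u, hc₂, hu, hset⟩ : ∃ (c₂ : Perm X) (u : X), c₂ ∈ K ∧ u ∉ ({x, y, z} : Finset X) ∧
      ∃ p q, p ∈ ({x, y, z} : Finset X) ∧ q ∈ ({x, y, z} : Finset X) ∧ p ≠ q ∧ Cyc c₂ p q u ∨
        p ∈ ({x, y, z} : Finset X) ∧ q ∈ ({x, y, z} : Finset X) ∧ p ≠ q ∧ Cyc c₂ q p u := by
    have hvm : σ v ≠ v := fun e' => hσv (by rw [e']; exact hv)
    obtain ⟨b', e', hvc, -⟩ := hrot hσc v (hmoved hσc v hvm)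
    have hb' : b' ∉ ({x, y, z} : Finset X) := hvc.mab ▸ hσv
    obtain ⟨y', z', hcv, hsetv⟩ := hrot hcyc v (by simpa using hv)
    by_cases he' : e' ∈ ({x, y, z} : Finset X)
    · exact ⟨σ, b', hσ, hb', e', v, Or.inl ⟨he', hv, hvc.hca, hvc.rot.rot⟩⟩
    · exfalso
      have hy' : y' ∈ ({x, y, z} : Finset X) := hsetv ▸ (by simp)
      have hz' : z' ∈ ({x, y, z} : Finset X) := hsetv ▸ (by simp)
      exact hno hc hσ hcv hvc (fun h => hb' (h ▸ hy')) (fun h => he' (h ▸ hy')) (fun h => hb' (h ▸ hz'))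
        (fun h => he' (h ▸ hz'))
  obtain ⟨p, q, h⟩ := hset
  obtain ⟨p, q, hp, hq, hpq, hd⟩ : ∃ p q, p ∈ ({x, y, z} : Finset X) ∧ q ∈ ({x, y, z} : Finset X) ∧ p ≠ q ∧
      Cyc c₂ p q u := by
    rcases h with h | ⟨h1, h2, h3, h4⟩
    · exact ⟨p, q, h⟩
    · exact ⟨q, p, h2, h1, h3.symm, h4⟩
  set F : Finset X := insert u {x, y, z} with hF
  have hmem : ∀ w, w ∈ F ↔ w = u ∨ w = x ∨ w = y ∨ w = z := fun w => by simp [hF]
  -- all four triples occur
  have htriples : ∀ w ∈ F, ∀ m ∈ F, m ≠ w → ∃ τ m' m'', τ ∈ K ∧ Cyc τ m m' m'' ∧ m' ∈ F ∧ m'' ∈ F ∧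
      m' ≠ w ∧ m'' ≠ w := by
    intro w hw m hm hmw
    -- some element of `K` inside `F` has support `F` without `w`
    obtain ⟨τ, a', b'', e'', hτ, hτc, ha', hb'', he'', n1, n2, n3⟩ : ∃ τ a' b'' e'', τ ∈ K ∧ Cyc τ a' b'' e'' ∧
        a' ∈ F ∧ b'' ∈ F ∧ e'' ∈ F ∧ a' ≠ w ∧ b'' ≠ w ∧ e'' ≠ w := by
      have hu' : u ≠ x ∧ u ≠ y ∧ u ≠ z := by simpa using hu
      by_cases hwu : w = u
      · refine ⟨c, x, y, z, hc, hcyc, by simp [hF], by simp [hF], by simp [hF], ?_, ?_, ?_⟩ <;> subst hwu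
        exacts [hu'.1.symm, hu'.2.1.symm, hu'.2.2.symm]
      · -- the third point of `c`
        obtain ⟨p₁, p₂, hpc, hpset⟩ := hrot hcyc p (by simpa using hp)
        have hp1 : p₁ ∈ ({x, y, z} : Finset X) := hpset ▸ (by simp)
        have hp2 : p₂ ∈ ({x, y, z} : Finset X) := hpset ▸ (by simp)
        have hne : u ≠ p ∧ u ≠ p₁ ∧ u ≠ p₂ :=
          ⟨fun e => hu (e ▸ hp), fun e => hu (e ▸ hp1), fun e => hu (e ▸ hp2)⟩
        have hFm : ∀ w ∈ ({x, y, z} : Finset X), w ∈ F := fun w h => Finset.mem_insert_of_mem h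
        have hw' : w = p ∨ w = p₁ ∨ w = p₂ := by
          have : w ∈ ({p, p₁, p₂} : Finset X) := hpset.symm ▸ (Finset.mem_insert.1 hw).resolve_left hwu
          simpa using this
        have hq' : q = p₁ ∨ q = p₂ := by
          have : q ∈ ({p, p₁, p₂} : Finset X) := hpset.symm ▸ hq
          simpa [Ne.symm hpq] using this
        have hcu : c u = u := hpc.fixd u hne.1 hne.2.1 hne.2.2
        have h2 := hd.conj c
        rw [hpc.mab, hcu] at h2
        have h2' := h2.conj c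
        rw [hpc.mbc, hcu] at h2'
        have k1 : c * c₂ * c⁻¹ ∈ K := mul_mem (mul_mem hc hc₂) (inv_mem hc)
        have k2 : c * (c * c₂ * c⁻¹) * c⁻¹ ∈ K := mul_mem (mul_mem hc k1) (inv_mem hc)
        rcases hq' with rfl | rfl
        · rw [hpc.mbc] at h2
          rw [hpc.mbc, hpc.mca] at h2'
          rcases hw' with rfl | rfl | rfl
          · exact ⟨_, _, _, _, k1, h2, hFm _ hp1, hFm _ hp2, Finset.mem_insert_self _ _, hpc.hab.symm, hpc.hca, hne.1⟩
          · exact ⟨_, _, _, _, k2, h2', hFm _ hp2, hFm _ hp, Finset.mem_insert_self _ _, hpc.hbc.symm, hpc.hab, hne.2.1⟩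
          · exact ⟨_, _, _, _, hc₂, hd, hFm _ hp, hFm _ hp1, Finset.mem_insert_self _ _, hpc.hca.symm, hpc.hbc, hne.2.2⟩
        · rw [hpc.mca] at h2
          rw [hpc.mca, hpc.mab] at h2'
          rcases hw' with rfl | rfl | rfl
          · exact ⟨_, _, _, _, k2, h2', hFm _ hp2, hFm _ hp1, Finset.mem_insert_self _ _, hpc.hca, hpc.hab.symm, hne.1⟩
          · exact ⟨_, _, _, _, hc₂, hd, hFm _ hp, hFm _ hp2, Finset.mem_insert_self _ _, hpc.hab, hpc.hbc.symm, hne.2.1⟩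
          · exact ⟨_, _, _, _, k1, h2, hFm _ hp1, hFm _ hp, Finset.mem_insert_self _ _, hpc.hbc, hpc.hca.symm, hne.2.2⟩
    have hFw : ({a', b'', e''} : Finset X) = F.erase w := by
      refine Finset.eq_of_subset_of_card_le ?_ ?_
      · intro i hi
        simp only [Finset.mem_insert, Finset.mem_singleton] at hi
        rcases hi with rfl | rfl | rfl
        exacts [Finset.mem_erase.2 ⟨n1, ha'⟩, Finset.mem_erase.2 ⟨n2, hb''⟩, Finset.mem_erase.2 ⟨n3, he''⟩]
      · rw [Finset.card_erase_of_mem hw, hF, Finset.card_insert_of_notMem hu,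
          Finset.card_eq_three.2 ⟨x, y, z, hcyc.hab, hcyc.hca.symm, hcyc.hbc, rfl⟩,
          Finset.card_eq_three.2 ⟨a', b'', e'', hτc.hab, hτc.hca.symm, hτc.hbc, rfl⟩]
    have hm' : m ∈ ({a', b'', e''} : Finset X) := hFw ▸ Finset.mem_erase.2 ⟨hmw, hm⟩
    obtain ⟨m', m'', hmc, hmset⟩ := hrot hτc m (by simpa using hm')
    have h1 : m' ∈ F.erase w := hFw ▸ hmset ▸ (by simp)
    have h2 : m'' ∈ F.erase w := hFw ▸ hmset ▸ (by simp)
    exact ⟨τ, m', m'', hτ, hmc, (Finset.mem_erase.1 h1).2, (Finset.mem_erase.1 h2).2, (Finset.mem_erase.1 h1).1,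
      (Finset.mem_erase.1 h2).1⟩
  have hFall : F = Finset.univ := by
    refine hblock F ⟨u, Finset.mem_insert_self _ _⟩ fun τ a' b' e' hτ hτc m hm => ?_
    by_contra hout
    have hmm : τ m ≠ m := fun e => hout (by rw [e]; exact hm)
    obtain ⟨r, s, hmc, -⟩ := hrot hτc m (hmoved hτc m hmm)
    have hr : r ∉ F := hmc.mab ▸ hout
    obtain ⟨w, hw, hwm, hws⟩ : ∃ w ∈ F, m ≠ w ∧ (s ∈ F → s = w) := by
      by_cases hs : s ∈ F
      · exact ⟨s, hs, hmc.hca.symm, fun _ => rfl⟩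
      · have hcard : 1 < F.card := by
          rw [hF, Finset.card_insert_of_notMem hu]
          exact Nat.lt_add_of_pos_left (Finset.card_pos.2 ⟨x, by simp⟩)
        obtain ⟨w, hw, hne⟩ := Finset.exists_mem_ne hcard m
        exact ⟨w, hw, hne.symm, fun h => absurd h hs⟩
    obtain ⟨ρ, m', m'', hρ, hρc, g1, g2, g3, g4⟩ := htriples w hw m hm hwm
    refine hno hρ hτ hρc hmc (fun e => hr (e ▸ g1)) (fun e => ?_) (fun e => hr (e ▸ g2)) (fun e => ?_)
    · exact g3 (e.trans (hws (e ▸ g1)))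
    · exact g4 (e.trans (hws (e ▸ g2)))
  rw [← Finset.card_univ, ← hFall, hF, Finset.card_insert_of_notMem hu,
    Finset.card_eq_three.2 ⟨x, y, z, hcyc.hab, hcyc.hca.symm, hcyc.hbc, rfl⟩]

end CfsgLib.Pairs.ThreeCycle
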