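import Cfsg.Prelude.Def_Transfer
import Cfsg.Agent.Lib.Pairs.CubicFrame
import Cfsg.Agent.Lib.Pairs.ThreeCycleSolvable
import Cfsg.Agent.Lib.PGroups.Extraspecial

/-!
The monomial case: a normal elementary abelian `2`-subgroup that is not centralised.
-/

set_option autoImplicit false
set_option linter.style.haveILetI false
set_option linter.unusedSectionVars false

namespace CfsgLib.Pairs.Cubic

open Subgroup
open scoped commutatorElement

variable {G : Type*} [Group G] [Finite G] {V : Type*} [AddCommGroup V] [Module (ZMod 3) V] [Finite V]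

/-- the situation -/
structure Setting (ρ : Representation (ZMod 3) G V) (R Q : Subgroup G) (b : G) : Prop where
  faith : Function.Injective ρ
  irr : ∀ N : Submodule (ZMod 3) V, (∀ g, ∀ v ∈ N, ρ g v ∈ N) → N = ⊥ ∨ N = ⊤
  normalR : R.Normal
  cop : (Nat.card R).Coprime 3
  b3 : b ^ 3 = 1
  bR : b ∉ R
  supTop : R ⊔ zpowers b = ⊤
  full : ⁅R, zpowers b⁆ = R
  rank : Module.finrank (ZMod 3) (LinearMap.range (ρ b - 1)) ≤ 2
  solvable : Group.IsSolvable G
  Q4 : Nat.card Q = 4
  Q2 : ∀ q ∈ Q, q * q = 1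
  QR : Q ≤ R
  bQ : b ∈ normalizer (Q : Set G)
  nc : ∃ q ∈ Q, b * q * b⁻¹ ≠ q

variable {ρ : Representation (ZMod 3) G V} {R Q : Subgroup G} {b : G}

theorem Setting.closure_conj (h : Setting ρ R Q b) : closure {x | ∃ g, g * b * g⁻¹ = x} = ⊤ := by
  set N := closure {x | ∃ g, g * b * g⁻¹ = x} with hN
  have hb : b ∈ N := subset_closure ⟨1, by rw [one_mul, inv_one, mul_one]⟩
  rw [eq_top_iff, ← h.supTop]
  refine sup_le ?_ (zpowers_le.2 hb)
  conv_lhs => rw [← h.full]
  rw [commutator_le]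
  intro r _ y hy
  obtain ⟨k, rfl⟩ := mem_zpowers_iff.1 hy
  rw [commutatorElement_def]
  refine mul_mem ?_ (inv_mem (zpow_mem hb k))
  rw [← conj_zpow]
  exact zpow_mem (subset_closure (show r * b * r⁻¹ ∈ {x | ∃ g, g * b * g⁻¹ = x} from ⟨r, rfl⟩)) k

/-- a normal subgroup centralized by `b` is central -/
theorem Setting.central_of_commute (h : Setting ρ R Q b) {A : Subgroup G} [A.Normal]
    (hbA : ∀ a ∈ A, b * a = a * b) : A ≤ center G := by
  have hle : closure {x | ∃ g, g * b * g⁻¹ = x} ≤ centralizer (A : Set G) := by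
    rw [closure_le]
    rintro _ ⟨g, rfl⟩
    refine mem_centralizer_iff.2 fun a ha => ?_
    have ha' : g⁻¹ * a * g ∈ A := by simpa using Normal.conj_mem (H := A) inferInstance a ha g⁻¹
    have e := hbA _ ha'
    calc a * (g * b * g⁻¹) = g * ((g⁻¹ * a * g) * b) * g⁻¹ := by group
      _ = g * (b * (g⁻¹ * a * g)) * g⁻¹ := by rw [e]
      _ = g * b * g⁻¹ * a := by group
  rw [h.closure_conj] at hle
  exact fun a ha => mem_center_iff.2 fun g => (mem_centralizer_iff.1 (hle (mem_top g)) a ha).symm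

/-- monomial data -/
structure MonData (ρ : Representation (ZMod 3) G V) (b : G) (X : Type*) [Fintype X] [DecidableEq X] where
  perm : G →* Equiv.Perm X
  vec : X → V
  coef : G → X → ZMod 3
  vec_ne : ∀ x, vec x ≠ 0
  coef_sign : ∀ g x, coef g x = 1 ∨ coef g x = -1
  act : ∀ g x, ρ g (vec x) = coef g x • vec (perm g x)
  span : Submodule.span (ZMod 3) (Set.range vec) = ⊤
  cyc : ∃ x y z, ThreeCycle.Cyc (perm b) x y z
  trans : ∀ p q : X, ∃ g, perm g p = q

variable {X : Type*} [Fintype X] [DecidableEq X]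

theorem smul_vec_cancel (d : MonData ρ b X) {c c' : ZMod 3} {x : X} (h : c • d.vec x = c' • d.vec x) : c = c' := by
  have : (c - c') • d.vec x = 0 := by rw [sub_smul, h, sub_self]
  exact sub_eq_zero.1 ((smul_eq_zero.1 this).resolve_right (d.vec_ne x))

theorem MonData.coef_mul (d : MonData ρ b X) (g h : G) (x : X) :
    d.coef (g * h) x = d.coef g (d.perm h x) * d.coef h x := by
  refine smul_vec_cancel d (x := d.perm (g * h) x) ?_
  rw [← d.act, ← rep_mul, d.act h, map_smul, d.act g, smul_smul, map_mul, Equiv.Perm.mul_apply, mul_comm]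

theorem MonData.coef_one (d : MonData ρ b X) (x : X) : d.coef 1 x = 1 := by
  have h := d.coef_mul 1 1 x
  rw [mul_one, map_one, Equiv.Perm.one_apply] at h
  rcases d.coef_sign 1 x with e | e
  · exact e
  · rw [e] at h; exact absurd h (by decide)

theorem MonData.eq_one (d : MonData ρ b X) (hf : Function.Injective ρ) {g : G} (h1 : d.perm g = 1)
    (h2 : ∀ x, d.coef g x = 1) : g = 1 := by
  refine hf ?_
  rw [map_one]
  refine LinearMap.ext_on_range d.span fun x => ?_
  rw [d.act, h1, h2, one_smul]; rfl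

/-- the product of the coefficients -/
noncomputable def MonData.delta (d : MonData ρ b X) : G →* ZMod 3 where
  toFun g := ∏ x, d.coef g x
  map_one' := Finset.prod_eq_one fun x _ => d.coef_one x
  map_mul' g h := by
    simp only [d.coef_mul, Finset.prod_mul_distrib]
    congr 1
    exact Fintype.prod_equiv (d.perm h) _ _ fun x => rfl

theorem MonData.delta_apply (d : MonData ρ b X) (g : G) : d.delta g = ∏ x, d.coef g x := rfl

theorem MonData.delta_eq_one (d : MonData ρ b X) (h : Setting ρ R Q b) : ∀ r ∈ R, d.delta r = 1 := by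
  have hle : R ≤ d.delta.ker := by
    conv_lhs => rw [← h.full]
    rw [commutator_le]
    intro r _ y _
    rw [MonoidHom.mem_ker, commutatorElement_def, map_mul, map_mul, map_mul,
      mul_right_comm (d.delta r), ← map_mul d.delta r, mul_inv_cancel, map_one, one_mul, ← map_mul, mul_inv_cancel,
      map_one]
  exact fun r hr => hle hr

theorem exists_monData (h : Setting ρ R Q b) {A : Subgroup G} [A.Normal] (hA : ∀ a ∈ A, a * a = 1)
    (hnc : ¬ A ≤ center G) :
    ∃ (X : Type) (_ : Fintype X) (_ : DecidableEq X) (d : MonData ρ b X),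
      (∀ a ∈ A, d.perm a = 1) ∧ ∃ a ∈ A, ∃ x y, d.coef a x ≠ d.coef a y := by
  classical
  have hn : ∀ g : G, g ∈ normalizer (A : Set G) := fun g => (normalizer_eq_top (H := A)).symm ▸ mem_top g
  obtain ⟨a₀, ha₀, hmove⟩ : ∃ a ∈ A, ρ (b * a * b⁻¹) ≠ ρ a := by
    by_contra! hall
    refine hnc (h.central_of_commute fun a ha => ?_)
    exact mul_inv_eq_iff_eq_mul.1 (h.faith (hall a ha))
  obtain ⟨χ, w, hw0, hw, hχ, hb1, hb2, hb21, hb33, hline, hfix, -⟩ :=
    exists_frame ρ hA (hn b) h.b3 h.rank ha₀ hmove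
  let act : G → (A → ZMod 3) → A → ZMod 3 := fun g ψ => twist g (hn g) ψ
  have hact : ∀ g k ψ, act (g * k) ψ = act g (act k ψ) := fun g k ψ => funext fun a => congrArg ψ (Subtype.ext (by
    show (g * k)⁻¹ * (a : G) * (g * k) = k⁻¹ * (g⁻¹ * a * g) * k
    group))
  have hact1 : ∀ ψ, act 1 ψ = ψ := fun ψ => funext fun a => congrArg ψ (Subtype.ext (by
    show (1 : G)⁻¹ * (a : G) * 1 = a
    group))
  let O : Set (A → ZMod 3) := Set.range fun g => act g χ
  have hOfin : Finite O := Set.finite_coe_iff.2 (Set.finite_range _)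
  obtain ⟨n, ⟨eX⟩⟩ := Finite.exists_equiv_fin O
  let X := Fin n
  let val : X → A → ZMod 3 := fun x => (eX.symm x : O)
  have hval_inj : Function.Injective val := fun x y e => eX.symm.injective (Subtype.ext e)
  have hval : ∀ ψ ∈ O, ∃ x, val x = ψ := fun ψ hψ => ⟨eX ⟨ψ, hψ⟩, by simp [val]⟩
  have hclosed : ∀ g x, act g (val x) ∈ O := fun g x => by
    obtain ⟨k, hk⟩ := (eX.symm x).2
    exact ⟨g * k, by simp only [hact]; exact congrArg _ hk⟩
  let pf : G → X → X := fun g x => eX ⟨act g (val x), hclosed g x⟩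
  have hpf : ∀ g x, val (pf g x) = act g (val x) := fun g x => by simp [val, pf]
  have hpfmul : ∀ g k x, pf (g * k) x = pf g (pf k x) := fun g k x => hval_inj (by
    rw [hpf, hpf, hpf, hact])
  have hpf1 : ∀ x, pf 1 x = x := fun x => hval_inj (by rw [hpf, hact1])
  let π : G →* Equiv.Perm X :=
    { toFun := fun g => ⟨pf g, pf g⁻¹, fun x => by rw [← hpfmul, inv_mul_cancel, hpf1],
        fun x => by rw [← hpfmul, mul_inv_cancel, hpf1]⟩
      map_one' := Equiv.ext hpf1
      map_mul' := fun g k => Equiv.ext (hpfmul g k) }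
  have hπ : ∀ g x, val (π g x) = act g (val x) := hpf
  -- a vector in each line
  have hg : ∀ x, ∃ g, act g χ = val x := fun x => (eX.symm x).2
  choose gx hgx using hg
  let vec : X → V := fun x => ρ (gx x) w
  have hvec : ∀ x, vec x ∈ weight ρ A (val x) := fun x => hgx x ▸ mem_weight_twist ρ (hn _) hw
  have hvec0 : ∀ x, vec x ≠ 0 := fun x e => hw0 (rep_injective ρ (gx x) (e.trans (map_zero _).symm))
  have hlineX : ∀ x, ∀ v ∈ weight ρ A (val x), ∃ c : ZMod 3, v = c • vec x := by
    intro x v hv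
    have h' : ρ (gx x)⁻¹ v ∈ weight ρ A χ := by
      have h1 := mem_weight_twist ρ (hn (gx x)⁻¹) hv
      rwa [show twist (gx x)⁻¹ (hn _) (val x) = act (gx x)⁻¹ (val x) from rfl, ← hgx, ← hact, inv_mul_cancel,
        hact1] at h1
    obtain ⟨c, hc⟩ := hline _ h'
    exact ⟨c, by rw [← rep_apply_inv ρ (gx x) v, hc, map_smul]⟩
  have hcoef : ∀ g x, ∃ c : ZMod 3, (c = 1 ∨ c = -1) ∧ ρ g (vec x) = c • vec (π g x) := by
    intro g x
    obtain ⟨c, hc⟩ := hlineX (π g x) (ρ g (vec x)) (hπ g x ▸ mem_weight_twist ρ (hn g) (hvec x))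
    refine ⟨c, ?_, hc⟩
    have hc0 : c ≠ 0 := fun e => hvec0 x (rep_injective ρ g (by rw [hc, e, zero_smul, map_zero]))
    revert hc0
    generalize c = y
    revert y
    decide
  choose coef hcs hca using hcoef
  have hspan : Submodule.span (ZMod 3) (Set.range vec) = ⊤ := by
    refine (h.irr _ fun g v hv => ?_).resolve_left fun e => ?_
    · induction hv using Submodule.span_induction with
      | mem y hy =>
        obtain ⟨x, rfl⟩ := hy
        rw [hca]
        exact Submodule.smul_mem _ _ (Submodule.subset_span ⟨_, rfl⟩)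
      | zero => simp
      | add x y _ _ hx hy => rw [map_add]; exact add_mem hx hy
      | smul c x _ hx => rw [map_smul]; exact Submodule.smul_mem _ c hx
    · obtain ⟨x, hx⟩ := hval χ ⟨1, hact1 χ⟩
      refine hvec0 x ((Submodule.mem_bot (ZMod 3)).1 ?_)
      rw [← e]
      exact Submodule.subset_span ⟨x, rfl⟩
  obtain ⟨x₁, hx₁⟩ := hval χ ⟨1, hact1 χ⟩
  refine ⟨X, inferInstance, inferInstance, ⟨π, vec, coef, hvec0, hcs, hca, hspan, ?_, ?_⟩, ?_, ?_⟩
  · refine ⟨x₁, π b x₁, π b (π b x₁), ⟨?_, ?_, ?_, rfl, rfl, ?_, fun x a1 a2 a3 => ?_⟩⟩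
    · intro e
      have := congrArg val e
      rw [hπ, hx₁] at this
      exact hb1 this.symm
    · intro e
      have := congrArg val e
      rw [hπ b (π b x₁), hπ b x₁, hx₁] at this
      exact hb21 this.symm
    · intro e
      have := congrArg val e
      rw [hπ b (π b x₁), hπ b x₁, hx₁] at this
      exact hb2 this
    · refine hval_inj ?_
      rw [hπ b (π b (π b x₁)), hπ b (π b x₁), hπ b x₁, hx₁]
      exact hb33
    · have hfixv := hfix (val x) (fun e => a1 (hval_inj (e.trans hx₁.symm)))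
        (fun e => a2 (hval_inj (e.trans (by rw [hπ, hx₁]))))
        (fun e => a3 (hval_inj (e.trans (by rw [hπ, hπ, hx₁])))) _ (hvec x)
      refine hval_inj ?_
      rw [hπ]
      exact weight_unique ρ (hfixv ▸ mem_weight_twist ρ (hn b) (hvec x)) (hvec x) (hvec0 x)
  · intro p q
    refine ⟨gx q * (gx p)⁻¹, hval_inj ?_⟩
    rw [hπ, ← hgx p, ← hact, inv_mul_cancel_right, hgx]
  · intro a ha
    refine Equiv.ext fun x => hval_inj ?_
    rw [hπ, Equiv.Perm.one_apply]
    refine funext fun c => congrArg (val x) (Subtype.ext ?_)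
    show a⁻¹ * (c : G) * a = c
    have h1 := hA _ (mul_mem ha c.2)
    have hca' : (c : G) * a = a * c := by
      calc (c : G) * a = (a * a) * c * a * (c * c) := by rw [hA a ha, hA c c.2, one_mul, mul_one]
        _ = a * ((a * c) * (a * c)) * c := by group
        _ = a * c := by rw [h1, mul_one]
    rw [mul_assoc, hca', inv_mul_cancel_left]
  · -- some coefficient function is not constant
    by_contra! hconst
    refine hmove ?_
    refine LinearMap.ext_on_range hspan fun x => ?_
    have hc : ∀ (a : G) (ha : a ∈ A), coef a x = val x ⟨a, ha⟩ := by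
      intro a ha
      have h1 := hvec x ⟨a, ha⟩
      have h2 : π a x = x := by
        refine hval_inj ?_
        rw [hπ]
        refine funext fun c => congrArg (val x) (Subtype.ext ?_)
        show a⁻¹ * (c : G) * a = c
        have h1 := hA _ (mul_mem ha c.2)
        have hca' : (c : G) * a = a * c := by
          calc (c : G) * a = (a * a) * c * a * (c * c) := by rw [hA a ha, hA c c.2, one_mul, mul_one]
            _ = a * ((a * c) * (a * c)) * c := by group
            _ = a * c := by rw [h1, mul_one]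
        rw [mul_assoc, hca', inv_mul_cancel_left]
      rw [hca, h2] at h1
      have : (coef a x - val x ⟨a, ha⟩) • vec x = 0 := by rw [sub_smul, h1, sub_self]
      exact sub_eq_zero.1 ((smul_eq_zero.1 this).resolve_right (hvec0 x))
    have hmem : b * a₀ * b⁻¹ ∈ A := (mem_normalizer_iff.1 (hn b) a₀).1 ha₀
    rw [hvec x ⟨_, hmem⟩, hvec x ⟨a₀, ha₀⟩]
    congr 1
    -- constant coefficients: compare at the image under `b`
    have key : val x ⟨b * a₀ * b⁻¹, hmem⟩ = val (π b⁻¹ x) ⟨a₀, ha₀⟩ := by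
      rw [hπ]
      refine congrArg (val x) (Subtype.ext ?_)
      show b * a₀ * b⁻¹ = b⁻¹⁻¹ * a₀ * b⁻¹
      group
    have hc' : coef a₀ (π b⁻¹ x) = val (π b⁻¹ x) ⟨a₀, ha₀⟩ := by
      have h1 := hvec (π b⁻¹ x) ⟨a₀, ha₀⟩
      have h2 : π a₀ (π b⁻¹ x) = π b⁻¹ x := by
        refine hval_inj ?_
        rw [hπ]
        refine funext fun c => congrArg (val (π b⁻¹ x)) (Subtype.ext ?_)
        show a₀⁻¹ * (c : G) * a₀ = c
        have h1 := hA _ (mul_mem ha₀ c.2)
        have hca' : (c : G) * a₀ = a₀ * c := by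
          calc (c : G) * a₀ = (a₀ * a₀) * c * a₀ * (c * c) := by rw [hA a₀ ha₀, hA c c.2, one_mul, mul_one]
            _ = a₀ * ((a₀ * c) * (a₀ * c)) * c := by group
            _ = a₀ * c := by rw [h1, mul_one]
        rw [mul_assoc, hca', inv_mul_cancel_left]
      rw [hca, h2] at h1
      have : (coef a₀ (π b⁻¹ x) - val (π b⁻¹ x) ⟨a₀, ha₀⟩) • vec (π b⁻¹ x) = 0 := by rw [sub_smul, h1, sub_self]
      exact sub_eq_zero.1 ((smul_eq_zero.1 this).resolve_right (hvec0 _))
    rw [key, ← hc', ← hc a₀ ha₀]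
    exact hconst a₀ ha₀ _ _

/-- the monomial case -/
theorem monomial_conclusion (h : Setting ρ R Q b) {A : Subgroup G} [A.Normal] (hA : ∀ a ∈ A, a * a = 1)
    (hAR : A ≤ R) (hnc : ¬ A ≤ center G) :
    (Cfsg.IsElementaryAbelian 2 R ∧ Nat.card R = 4) ∨
      (Cfsg.IsExtraspecial 2 R ∧ Nat.card R = 32 ∧
        ∃ D : Subgroup G, D ≤ R ∧ Cfsg.IsElementaryAbelian 2 D ∧ Nat.card D = 8) := by
  classical
  haveI := h.solvable
  haveI := h.normalR
  obtain ⟨X, _, _, d, hApi, a₀, ha₀, hne⟩ := exists_monData h hA hnc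
  obtain ⟨x, y, z, hcyc⟩ := d.cyc
  set K := d.perm.range with hK
  haveI : Group.IsSolvable K := solvable_of_surjective (MonoidHom.rangeRestrict_surjective d.perm)
  have hgen : K ≤ closure {σ | ∃ g ∈ K, g * d.perm b * g⁻¹ = σ} := by
    rintro _ ⟨g, rfl⟩
    have hmem : g ∈ closure {x | ∃ g, g * b * g⁻¹ = x} := h.closure_conj.symm ▸ mem_top g
    have := mem_map_of_mem d.perm hmem
    rw [MonoidHom.map_closure] at this
    refine closure_mono ?_ this
    rintro _ ⟨_, ⟨k, rfl⟩, rfl⟩
    exact ⟨d.perm k, ⟨k, rfl⟩, by simp⟩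
  have htrans : ∀ p q : X, ∃ g ∈ K, g p = q := fun p q =>
    (d.trans p q).elim fun g hg => ⟨d.perm g, ⟨g, rfl⟩, hg⟩
  have hb3 : d.perm b ^ 3 = 1 := by rw [← map_pow, h.b3, map_one]
  have hsign : ∀ σ ∈ K, Equiv.Perm.sign σ = 1 := by
    intro σ hσ
    have hle : closure {σ | ∃ g ∈ K, g * d.perm b * g⁻¹ = σ} ≤ Equiv.Perm.sign.ker := by
      rw [closure_le]
      rintro _ ⟨g, -, rfl⟩
      have hc : Equiv.Perm.sign (d.perm b) = 1 := by
        have := congrArg Equiv.Perm.sign hb3
        rw [map_pow, map_one, pow_succ, Int.units_sq, one_mul] at this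
        exact this
      rw [SetLike.mem_coe, MonoidHom.mem_ker, map_mul, map_mul, hc, mul_one, map_inv, mul_inv_cancel]
    exact hle (hgen hσ)
  -- the image of `R`
  let J : Subgroup (Equiv.Perm X) := R.map d.perm
  have hJcop : (Nat.card J).Coprime 3 :=
    h.cop.coprime_dvd_left (Subgroup.card_dvd_of_surjective (d.perm.subgroupMap R) (d.perm.subgroupMap_surjective R))
  have hdiag : ∀ r : G, d.perm r = 1 → ∀ p, d.coef (r * r) p = 1 := fun r hr p => by
    rw [d.coef_mul, hr, Equiv.Perm.one_apply]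
    rcases d.coef_sign r p with e | e <;> rw [e] <;> ring
  have hsq : ∀ r : G, d.perm r = 1 → r * r = 1 := fun r hr =>
    d.eq_one h.faith (by rw [map_mul, hr, mul_one]) (hdiag r hr)
  let D : Subgroup G := R ⊓ d.perm.ker
  have hDperm : ∀ r ∈ D, d.perm r = 1 := fun r hr => (mem_inf.1 hr).2
  let sg : D → {s : X → ({1, -1} : Finset (ZMod 3)) // ∏ p, (s p : ZMod 3) = 1} := fun r =>
    ⟨fun p => ⟨d.coef r p, by simpa using d.coef_sign r p⟩, (d.delta_eq_one h r (mem_inf.1 r.2).1)⟩
  have hsg : Function.Injective sg := by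
    rintro ⟨r, hr⟩ ⟨r', hr'⟩ e
    refine Subtype.ext ?_
    have e' : ∀ p, d.coef r p = d.coef r' p := fun p =>
      congrArg Subtype.val (congrFun (congrArg Subtype.val e) p)
    have hinv : r * r'⁻¹ = 1 := by
      refine d.eq_one h.faith (by rw [map_mul, map_inv, hDperm r hr, hDperm r' hr', inv_one, mul_one]) fun p => ?_
      have h' := d.coef_mul r'⁻¹ r' p
      rw [inv_mul_cancel, d.coef_one, hDperm r' hr', Equiv.Perm.one_apply, ← e'] at h'
      rw [d.coef_mul, show d.perm r'⁻¹ p = p by rw [map_inv, hDperm r' hr', inv_one]; rfl, mul_comm]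
      exact h'.symm
    exact mul_inv_eq_one.1 hinv
  rcases ThreeCycle.card_three_or_four (K := K) ⟨b, rfl⟩ hcyc htrans hgen with h3 | h4
  · -- three lines
    left
    have hKle : K ≤ Equiv.Perm.sign.ker := fun σ hσ => hsign σ hσ
    have hJone : J = ⊥ := by
      have hle : J ≤ alternatingGroup X := fun σ hσ => by
        obtain ⟨g, -, rfl⟩ := hσ
        exact hKle ⟨g, rfl⟩
      have hd := Subgroup.card_dvd_of_le hle
      haveI : Nontrivial X := Fintype.one_lt_card_iff_nontrivial.1 (by omega)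
      have hA3 : Nat.card (alternatingGroup X) = 3 := by
        have h2 : 2 * Nat.card (alternatingGroup X) = Nat.card (Equiv.Perm X) :=
          two_mul_nat_card_alternatingGroup
        rw [Nat.card_perm, Nat.card_eq_fintype_card (α := X), h3] at h2
        have h6 : Nat.factorial 3 = 6 := rfl
        omega
      rw [hA3] at hd
      exact card_eq_one.1 (Nat.eq_one_of_dvd_coprimes hJcop dvd_rfl hd)
    have hRD : R ≤ D := fun r hr => mem_inf.2 ⟨hr, MonoidHom.mem_ker.2 (mem_bot.1 (hJone ▸ mem_map_of_mem d.perm hr))⟩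
    have hcard : Nat.card D ≤ 4 := by
      refine (Nat.card_le_card_of_injective sg hsg).trans ?_
      rw [Nat.card_eq_fintype_card]
      obtain ⟨e⟩ : Nonempty (X ≃ Fin 3) := ⟨Fintype.equivFinOfCardEq h3⟩
      rw [Fintype.card_congr (Equiv.subtypeEquiv (Equiv.arrowCongr e (Equiv.refl _))
        (q := fun s : Fin 3 → ({1, -1} : Finset (ZMod 3)) => ∏ p, (s p : ZMod 3) = 1) fun s => by
          rw [← e.symm.prod_comp]; simp [Equiv.arrowCongr])]
      decide
    have hQR : Q = R := eq_of_le_of_card_ge h.QR (by rw [h.Q4]; exact (card_le_of_le hRD).trans hcard)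
    refine ⟨⟨⟨⟨fun r s => Subtype.ext ?_⟩⟩, fun r hr => ?_⟩, hQR ▸ h.Q4⟩
    · show (r : G) * s = s * r
      have h1 := hsq _ (show d.perm ((r : G) * s) = 1 by rw [map_mul, hDperm _ (hRD r.2), hDperm _ (hRD s.2), mul_one])
      have h2 := hsq r (hDperm _ (hRD r.2))
      have h3 := hsq s (hDperm _ (hRD s.2))
      calc (r : G) * s = r * ((r : G) * s * (r * s)) * s := by rw [h1, mul_one]
        _ = (r * r : G) * s * r * (s * s) := by group
        _ = s * r := by rw [h2, h3, one_mul, mul_one]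
    · rw [pow_two]; exact hsq r (hDperm _ (hRD hr))
  -- four lines
  right
  obtain ⟨e4⟩ : Nonempty (X ≃ Fin 4) := ⟨Fintype.equivFinOfCardEq h4⟩
  have hA4 : ∀ g : Equiv.Perm (Fin 4), g ^ 4 = 1 → Equiv.Perm.sign g = 1 → g * g = 1 ∧ (g = 1 ∨ ∀ i, g i ≠ i) := by
    decide +kernel
  have hJfacts : ∀ σ ∈ J, σ * σ = 1 ∧ (σ = 1 ∨ ∀ p, σ p ≠ p) := by
    intro σ hσ
    have hpow : σ ^ 4 = 1 := by
      have hle : J ≤ alternatingGroup X := fun σ hσ => by
        obtain ⟨g, -, rfl⟩ := hσ
        exact hsign _ ⟨g, rfl⟩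
      haveI : Nontrivial X := Fintype.one_lt_card_iff_nontrivial.1 (by omega)
      have hA12 : Nat.card (alternatingGroup X) = 12 := by
        have h2 : 2 * Nat.card (alternatingGroup X) = Nat.card (Equiv.Perm X) :=
          two_mul_nat_card_alternatingGroup
        rw [Nat.card_perm, Nat.card_eq_fintype_card (α := X), h4] at h2
        have h6 : Nat.factorial 4 = 24 := rfl
        omega
      have hd := Subgroup.card_dvd_of_le hle
      rw [hA12] at hd
      have hd4 : Nat.card J ∣ 4 := hJcop.dvd_of_dvd_mul_left (show Nat.card J ∣ 3 * 4 from hd)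
      exact orderOf_dvd_iff_pow_eq_one.1 ((J.orderOf_dvd_natCard hσ).trans hd4)
    have hs : Equiv.Perm.sign σ = 1 := by
      obtain ⟨g, -, rfl⟩ := hσ
      exact hsign _ ⟨g, rfl⟩
    obtain ⟨g1, g2⟩ := hA4 (e4.permCongrHom σ) (by rw [← map_pow, hpow, map_one])
      (by rw [show e4.permCongrHom σ = e4.permCongr σ from rfl, Equiv.Perm.sign_permCongr, hs])
    refine ⟨e4.permCongrHom.injective (by rw [map_mul, g1, map_one]), g2.imp (fun e => e4.permCongrHom.injective (e.trans (map_one _).symm)) fun hfree p hp => hfree (e4 p) ?_⟩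
    show e4.permCongr σ (e4 p) = e4 p
    rw [Equiv.permCongr_apply, Equiv.symm_apply_apply, hp]
  -- the fixed line of `b`
  obtain ⟨o, ho⟩ : ∃ o, d.perm b o = o := by
    by_contra! hno
    have hsub : (Finset.univ : Finset X) ⊆ {x, y, z} := fun p _ => by
      by_contra hp
      simp only [Finset.mem_insert, Finset.mem_singleton, not_or] at hp
      exact hno p (hcyc.fixd p hp.1 hp.2.1 hp.2.2)
    have := (Finset.card_le_card hsub).trans Finset.card_le_three
    rw [Finset.card_univ] at this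
    omega
  haveI hJn : ∀ g : G, ∀ σ ∈ J, d.perm g * σ * (d.perm g)⁻¹ ∈ J := by
    rintro g _ ⟨r, hr, rfl⟩
    exact ⟨g * r * g⁻¹, Normal.conj_mem inferInstance r hr g, by simp⟩
  have hJtrans : ∀ p, ∃ σ ∈ J, σ o = p := by
    intro p
    obtain ⟨g, hg⟩ := d.trans o p
    obtain ⟨r, hr, k, hk, rfl⟩ := mem_sup_of_normal_left.1 (h.supTop.symm ▸ mem_top g : g ∈ R ⊔ zpowers b)
    refine ⟨d.perm r, mem_map_of_mem _ hr, ?_⟩
    obtain ⟨i, rfl⟩ := mem_zpowers_iff.1 hk
    rw [map_mul, Equiv.Perm.mul_apply, map_zpow] at hg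
    rwa [Equiv.Perm.zpow_apply_eq_self_of_apply_eq_self ho] at hg
  have hJ4 : Nat.card J = 4 := by
    refine (Nat.card_eq_of_bijective (fun σ : J => (σ : Equiv.Perm X) o) ⟨fun σ τ e => ?_, fun p => ?_⟩).trans
      (Nat.card_eq_fintype_card.trans h4)
    · have hfix : ((σ : Equiv.Perm X)⁻¹ * τ) o = o := by
        rw [Equiv.Perm.mul_apply]
        change (σ : Equiv.Perm X) o = (τ : Equiv.Perm X) o at e
        rw [← e, ← Equiv.Perm.mul_apply, inv_mul_cancel]; rfl
      rcases (hJfacts _ (mul_mem (inv_mem σ.2) τ.2)).2 with h1 | h1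
      · exact Subtype.ext (inv_mul_eq_one.1 h1)
      · exact absurd hfix (h1 o)
    · obtain ⟨σ, hσ, e⟩ := hJtrans p
      exact ⟨⟨σ, hσ⟩, e⟩
  have hDn : ∀ g : G, ∀ r ∈ D, g * r * g⁻¹ ∈ D := fun g r hr => mem_inf.2
    ⟨Normal.conj_mem inferInstance r (mem_inf.1 hr).1 g,
      Normal.conj_mem inferInstance r (mem_inf.1 hr).2 g⟩
  have hconj : ∀ g : G, ∀ r ∈ D, ∀ p, d.coef (g * r * g⁻¹) (d.perm g p) = d.coef r p := by
    intro g r hr p
    have h1 : g * r * g⁻¹ * g = g * r := by group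
    have h2 := d.coef_mul (g * r * g⁻¹) g p
    rw [h1, d.coef_mul g r p, hDperm r hr, Equiv.Perm.one_apply] at h2
    rcases d.coef_sign g p with e | e <;> rw [e] at h2
    · simpa using h2.symm
    · simpa using h2.symm
  -- a diagonal element negative on the fixed line
  obtain ⟨s, hsD, hso, ⟨u, hsu⟩, q, hq, hsq'⟩ : ∃ s ∈ D, d.coef s o = -1 ∧ (∃ u, d.coef s u = 1) ∧
      ∃ q, q ≠ o ∧ d.coef s q = -1 := by
    obtain ⟨p₁, p₂, hp12⟩ := hne
    obtain ⟨p, hp⟩ : ∃ p, d.coef a₀ p = -1 := by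
      rcases d.coef_sign a₀ p₁ with e | e
      · rcases d.coef_sign a₀ p₂ with e' | e'
        · exact absurd (e.trans e'.symm) hp12
        · exact ⟨p₂, e'⟩
      · exact ⟨p₁, e⟩
    obtain ⟨σ, hσ, hσo⟩ := hJtrans p
    obtain ⟨r, -, rfl⟩ := hσ
    have haD : a₀ ∈ D := mem_inf.2 ⟨hAR ha₀, hApi a₀ ha₀⟩
    have hro : d.perm r⁻¹ p = o := by rw [map_inv, ← hσo, ← Equiv.Perm.mul_apply, inv_mul_cancel]; rfl
    have hs := hDn r⁻¹ a₀ haD
    have h1 : d.coef (r⁻¹ * a₀ * r⁻¹⁻¹) o = -1 := by rw [← hro, hconj _ _ haD, hp]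
    refine ⟨_, hs, h1, ?_, ?_⟩
    · rcases d.coef_sign a₀ p₁ with e | e
      · exact ⟨d.perm r⁻¹ p₁, by rw [hconj _ _ haD, e]⟩
      · exact ⟨d.perm r⁻¹ p₂, by rw [hconj _ _ haD]; exact (d.coef_sign a₀ p₂).resolve_right fun e' => hp12 (e.trans e'.symm)⟩
    by_contra! hall
    have hδ := d.delta_eq_one h _ (mem_inf.1 hs).1
    rw [d.delta_apply, Fintype.prod_eq_single o fun q hq => (d.coef_sign _ q).resolve_right (hall q hq), h1] at hδ
    exact absurd hδ (by decide)
  have hqmoved : d.perm b q ≠ q ∧ d.perm b (d.perm b q) ≠ q ∧ d.perm b (d.perm b q) ≠ d.perm b q := by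
    have hm : q = x ∨ q = y ∨ q = z := by
      by_contra! hh
      have hno : ∀ w, (w ≠ x ∧ w ≠ y ∧ w ≠ z) → w = o := by
        intro w hw
        by_contra hwo
        have hcard : ({x, y, z, o, w} : Finset X).card = 5 := by
          have hox : o ≠ x := fun e => hcyc.hab (by rw [← hcyc.mab, ← e, ho])
          have hoy : o ≠ y := fun e => hcyc.hbc (by rw [← hcyc.mbc, ← e, ho])
          have hoz : o ≠ z := fun e => hcyc.hca (by rw [← hcyc.mca, ← e, ho])
          simp [hcyc.hab, hcyc.hbc, hcyc.hca.symm, Ne.symm hox, Ne.symm hoy, Ne.symm hoz, Ne.symm hwo,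
            Ne.symm hw.1, Ne.symm hw.2.1, Ne.symm hw.2.2]
        have := hcard.symm.le.trans (Finset.card_le_univ _)
        omega
      exact hq (hno q hh)
    rcases hm with rfl | rfl | rfl
    · exact ⟨by rw [hcyc.mab]; exact hcyc.hab.symm, by rw [hcyc.mab, hcyc.mbc]; exact hcyc.hca, by rw [hcyc.mab, hcyc.mbc]; exact hcyc.hbc.symm⟩
    · exact ⟨by rw [hcyc.mbc]; exact hcyc.hbc.symm, by rw [hcyc.mbc, hcyc.mca]; exact hcyc.hab, by rw [hcyc.mbc, hcyc.mca]; exact hcyc.hca.symm⟩
    · exact ⟨by rw [hcyc.mca]; exact hcyc.hca.symm, by rw [hcyc.mca, hcyc.mab]; exact hcyc.hbc, by rw [hcyc.mca, hcyc.mab]; exact hcyc.hab.symm⟩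
  obtain ⟨q1, q2, q21⟩ := hqmoved
  let q' := d.perm b q
  let q'' := d.perm b q'
  have hq'o : q' ≠ o := fun e => hq ((d.perm b).injective (e.trans ho.symm))
  have hq''o : q'' ≠ o := fun e => hq'o ((d.perm b).injective (e.trans ho.symm))
  have huniv : ∀ p, p = o ∨ p = q ∨ p = q' ∨ p = q'' := by
    intro p
    by_contra! hp
    have hcard : ({o, q, q', q'', p} : Finset X).card = 5 := by
      simp [q', q'', Ne.symm hq, Ne.symm hq'o, Ne.symm hq''o, Ne.symm hp.1, Ne.symm hp.2.1, Ne.symm hp.2.2.1,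
        Ne.symm hp.2.2.2, Ne.symm q1, Ne.symm q2, Ne.symm q21]
    have := hcard.symm.le.trans (Finset.card_le_univ _)
    omega
  let s' := b * s * b⁻¹
  let s'' := b * s' * b⁻¹
  have hs'D : s' ∈ D := hDn b s hsD
  have hs''D : s'' ∈ D := hDn b s' hs'D
  have c'o : d.coef s' o = -1 := by conv_lhs => rw [← ho]; rw [hconj b s hsD, hso]
  have c''o : d.coef s'' o = -1 := by conv_lhs => rw [← ho]; rw [hconj b s' hs'D, c'o]
  have c'q' : d.coef s' q' = -1 := by rw [hconj b s hsD, hsq']
  have c''q'' : d.coef s'' q'' = -1 := by rw [hconj b s' hs'D, c'q']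
  have hne5 : q ≠ q' ∧ q ≠ q'' ∧ q' ≠ q'' := ⟨Ne.symm q1, Ne.symm q2, Ne.symm q21⟩
  have hu4 : (Finset.univ : Finset X) = {o, q, q', q''} := by
    ext w; simpa using huniv w
  have hprod : ∀ r ∈ R, d.coef r o * (d.coef r q * (d.coef r q' * d.coef r q'')) = 1 := by
    intro r hr
    have hδ := d.delta_eq_one h r hr
    rw [d.delta_apply, hu4, Finset.prod_insert (by simp [Ne.symm hq, Ne.symm hq'o, Ne.symm hq''o]),
      Finset.prod_insert (by simp [hne5.1, hne5.2.1]), Finset.prod_insert (by simp [hne5.2.2]),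
      Finset.prod_singleton] at hδ
    exact hδ
  -- the exact values
  have hsvals : d.coef s q' = 1 ∧ d.coef s q'' = 1 := by
    have h1 := hprod s (mem_inf.1 hsD).1
    rw [hso, hsq'] at h1
    rcases d.coef_sign s q' with e | e <;> rcases d.coef_sign s q'' with e' | e' <;> rw [e, e'] at h1
    · exact ⟨e, e'⟩
    · exact absurd h1 (by decide)
    · exact absurd h1 (by decide)
    · exfalso
      have m1 : (-1 : ZMod 3) ≠ 1 := by decide
      rcases huniv u with r | r | r | r <;> rw [r] at hsu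
      exacts [m1 (hso.symm.trans hsu), m1 (hsq'.symm.trans hsu), m1 (e.symm.trans hsu), m1 (e'.symm.trans hsu)]
  have hb''' : d.perm b q'' = q := by
    show d.perm b (d.perm b (d.perm b q)) = q
    have := Equiv.congr_fun hb3 q
    rw [pow_succ, pow_two] at this
    exact this
  have c'q'' : d.coef s' q'' = 1 := by rw [hconj b s hsD, hsvals.1]
  have c'q : d.coef s' q = 1 := by conv_lhs => rw [← hb''']; rw [hconj b s hsD, hsvals.2]
  have c''q : d.coef s'' q = 1 := by conv_lhs => rw [← hb''']; rw [hconj b s' hs'D, c'q'']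
  have c''q' : d.coef s'' q' = 1 := by rw [hconj b s' hs'D, c'q]
  have cssq : d.coef (s * s') q = -1 ∧ d.coef (s * s') o = 1 := by
    rw [d.coef_mul s s' q, d.coef_mul s s' o, hDperm s' hs'D, Equiv.Perm.one_apply, Equiv.Perm.one_apply, hsq', c'q, hso, c'o]
    decide
  have hD8 : Nat.card D = 8 := by
    have hle : Nat.card D ≤ 8 := by
      refine (Nat.card_le_card_of_injective sg hsg).trans ?_
      rw [Nat.card_eq_fintype_card, Fintype.card_congr (Equiv.subtypeEquiv (Equiv.arrowCongr e4 (Equiv.refl _))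
        (q := fun s : Fin 4 → ({1, -1} : Finset (ZMod 3)) => ∏ p, (s p : ZMod 3) = 1) fun s => by
          rw [← e4.symm.prod_comp]; simp [Equiv.arrowCongr])]
      decide
    let f : Fin 5 → D := ![1, ⟨s, hsD⟩, ⟨s', hs'D⟩, ⟨s'', hs''D⟩, ⟨s * s', mul_mem hsD hs'D⟩]
    have hne01 : ∀ {r r' : D}, (∃ p, d.coef r p ≠ d.coef r' p) → r ≠ r' := fun ⟨p, hp⟩ e => hp (by rw [e])
    have m1 : (-1 : ZMod 3) ≠ 1 := by decide
    have n01 : (1 : D) ≠ ⟨s, hsD⟩ := hne01 ⟨o, by simp [d.coef_one, hso, Ne.symm m1]⟩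
    have n02 : (1 : D) ≠ ⟨s', hs'D⟩ := hne01 ⟨o, by simp [d.coef_one, c'o, Ne.symm m1]⟩
    have n03 : (1 : D) ≠ ⟨s'', hs''D⟩ := hne01 ⟨o, by simp [d.coef_one, c''o, Ne.symm m1]⟩
    have n04 : (1 : D) ≠ ⟨s * s', mul_mem hsD hs'D⟩ := hne01 ⟨q, by simp [d.coef_one, cssq.1, Ne.symm m1]⟩
    have n12 : (⟨s, hsD⟩ : D) ≠ ⟨s', hs'D⟩ := hne01 ⟨q, by simp [hsq', c'q, m1]⟩
    have n13 : (⟨s, hsD⟩ : D) ≠ ⟨s'', hs''D⟩ := hne01 ⟨q, by simp [hsq', c''q, m1]⟩
    have n14 : (⟨s, hsD⟩ : D) ≠ ⟨s * s', mul_mem hsD hs'D⟩ := hne01 ⟨o, by simp [hso, cssq.2, m1]⟩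
    have n23 : (⟨s', hs'D⟩ : D) ≠ ⟨s'', hs''D⟩ := hne01 ⟨q', by simp [c'q', c''q', m1]⟩
    have n24 : (⟨s', hs'D⟩ : D) ≠ ⟨s * s', mul_mem hsD hs'D⟩ := hne01 ⟨o, by simp [c'o, cssq.2, m1]⟩
    have n34 : (⟨s'', hs''D⟩ : D) ≠ ⟨s * s', mul_mem hsD hs'D⟩ := hne01 ⟨o, by simp [c''o, cssq.2, m1]⟩
    have hf : Function.Injective f := by
      intro i j e
      fin_cases i <;> fin_cases j <;> simp only [f] at e <;>
        first | rfl | exact absurd e n01 | exact absurd e.symm n01 | exact absurd e n02 | exact absurd e.symm n02 | exact absurd e n03 | exact absurd e.symm n03 | exact absurd e n04 | exact absurd e.symm n04 | exact absurd e n12 | exact absurd e.symm n12 | exact absurd e n13 | exact absurd e.symm n13 | exact absurd e n14 | exact absurd e.symm n14 | exact absurd e n23 | exact absurd e.symm n23 | exact absurd e n24 | exact absurd e.symm n24 | exact absurd e n34 | exact absurd e.symm n34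
    have h5 := Nat.card_le_card_of_injective f hf
    rw [Nat.card_eq_fintype_card, Fintype.card_fin] at h5
    obtain ⟨k, hk⟩ := IsPGroup.iff_card.1 (show IsPGroup 2 D from fun r => ⟨1, Subtype.ext (by
      rw [pow_one, pow_two]; exact hsq r (hDperm r r.2))⟩)
    have : 2 ^ 2 < 2 ^ k := by omega
    have hk3 := (Nat.pow_lt_pow_iff_right (show 1 < 2 by norm_num)).1 this
    have : 2 ^ 3 ≤ 2 ^ k := Nat.pow_le_pow_right (by norm_num) hk3
    omega
  have hR32 : Nat.card R = 32 := by
    let φ := d.perm.subgroupMap R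
    have hk := φ.ker.card_mul_index
    rw [index_ker, MonoidHom.range_eq_top.2 (d.perm.subgroupMap_surjective R), Subgroup.card_top,
      show Nat.card ↥(R.map d.perm) = 4 from hJ4] at hk
    have hker : Nat.card φ.ker = Nat.card D := by
      refine Nat.card_congr
        { toFun := fun r => ⟨r.1.1, mem_inf.2 ⟨r.1.2, MonoidHom.mem_ker.2 (congrArg Subtype.val r.2)⟩⟩
          invFun := fun r => ⟨⟨r.1, (mem_inf.1 r.2).1⟩, Subtype.ext (hDperm r r.2)⟩
          left_inv := fun r => rfl
          right_inv := fun r => rfl }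
    omega
  have hR2 : IsPGroup 2 R := IsPGroup.of_card (n := 5) (hR32.trans (by norm_num))
  -- scalars on the four lines are central
  have hscalar : ∀ r ∈ R, d.perm r = 1 → (∀ p, d.coef r p = d.coef r o) → ∀ g, g * r = r * g := by
    intro r hr h1 hc g
    refine mul_inv_eq_iff_eq_mul.1 (mul_inv_eq_one.1 (d.eq_one h.faith ?_ fun p => ?_))
    · simp [h1]
    · rw [d.coef_mul, map_inv, h1, inv_one, Equiv.Perm.one_apply]
      have h2 := hconj g r (mem_inf.2 ⟨hr, h1⟩) ((d.perm g)⁻¹ p)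
      rw [← Equiv.Perm.mul_apply, mul_inv_cancel, Equiv.Perm.one_apply] at h2
      rw [h2, hc, ← hc p]
      have h3 := d.coef_mul r r⁻¹ p
      rw [mul_inv_cancel, d.coef_one, map_inv, h1, inv_one, Equiv.Perm.one_apply] at h3
      exact h3.symm
  have hsquare : ∀ r ∈ R, ∀ p, d.coef (r * r) p = d.coef (r * r) o := by
    intro r hr p
    obtain ⟨hj2, hj⟩ := hJfacts _ (mem_map_of_mem d.perm hr)
    rcases hj with hj | hj
    · rw [hdiag r hj, hdiag r hj]
    have hinv : ∀ w, d.perm r (d.perm r w) = w := fun w => by rw [← Equiv.Perm.mul_apply, hj2]; rfl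
    have hsym : ∀ w, d.coef (r * r) (d.perm r w) = d.coef (r * r) w := fun w => by
      rw [d.coef_mul, d.coef_mul, hinv, mul_comm]
    obtain ⟨t, hto, htr⟩ : ∃ t, t ≠ o ∧ t ≠ d.perm r o := by
      rcases huniv (d.perm r o) with e | e | e | e
      · exact absurd e (hj o)
      · exact ⟨q', hq'o, e ▸ Ne.symm hne5.1⟩
      · exact ⟨q, hq, e ▸ hne5.1⟩
      · exact ⟨q, hq, e ▸ hne5.2.1⟩
    have t1 : d.perm r t ≠ o := fun e => htr (by rw [← e, hinv])
    have t2 : d.perm r t ≠ d.perm r o := fun e => hto ((d.perm r).injective e)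
    have hu : (Finset.univ : Finset X) = {o, d.perm r o, t, d.perm r t} := by
      symm
      refine Finset.eq_of_subset_of_card_le (Finset.subset_univ _) ?_
      rw [Finset.card_univ, h4, Finset.card_insert_of_notMem (by simp [Ne.symm (hj o), Ne.symm hto, Ne.symm t1]),
        Finset.card_insert_of_notMem (by simp [Ne.symm htr, Ne.symm t2]),
        Finset.card_insert_of_notMem (by simp [Ne.symm (hj t)]), Finset.card_singleton]
    have hδ := d.delta_eq_one h r hr
    rw [d.delta_apply, hu, Finset.prod_insert (by simp [Ne.symm (hj o), Ne.symm hto, Ne.symm t1]),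
      Finset.prod_insert (by simp [Ne.symm htr, Ne.symm t2]), Finset.prod_insert (by simp [Ne.symm (hj t)]),
      Finset.prod_singleton] at hδ
    have he : d.coef (r * r) t = d.coef (r * r) o := by
      rw [d.coef_mul, d.coef_mul]
      rcases d.coef_sign r o with e1 | e1 <;> rcases d.coef_sign r (d.perm r o) with e2 | e2 <;>
        rcases d.coef_sign r t with e3 | e3 <;> rcases d.coef_sign r (d.perm r t) with e4' | e4' <;>
        rw [e1, e2, e3, e4'] at hδ ⊢ <;> revert hδ <;> decide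
    have hp : p ∈ (Finset.univ : Finset X) := Finset.mem_univ p
    rw [hu] at hp
    simp only [Finset.mem_insert, Finset.mem_singleton] at hp
    rcases hp with rfl | rfl | rfl | rfl
    exacts [rfl, hsym o, he, (hsym t).trans he]
  have hsqc : ∀ r ∈ R, d.perm (r * r) = 1 := fun r hr => by
    rw [map_mul]; exact (hJfacts _ (mem_map_of_mem d.perm hr)).1
  have hsqcen : ∀ r : R, r ^ 2 ∈ center R := fun r => mem_center_iff.2 fun g => Subtype.ext (by
    show (g : G) * ((r : G) ^ 2) = (r : G) ^ 2 * g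
    rw [pow_two]
    exact hscalar _ (mul_mem r.2 r.2) (hsqc r r.2) (hsquare r r.2) g)
  -- the centre
  have hcen : ∀ w : R, w ∈ center R → d.perm w = 1 ∧ ∀ p, d.coef w p = d.coef w o := by
    intro w hw
    have hcomm : ∀ r ∈ R, r * (w : G) = w * r := fun r hr => congrArg Subtype.val (mem_center_iff.1 hw ⟨r, hr⟩)
    have h1 : d.perm (w : G) = 1 := by
      refine ((hJfacts _ (mem_map_of_mem d.perm w.2)).2).resolve_right fun hfree => ?_
      have hk : ∀ r ∈ D, d.coef r (d.perm w o) = d.coef r o := by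
        intro r hr
        have e := congrArg (fun g => d.coef g o) (hcomm r (mem_inf.1 hr).1)
        simp only [d.coef_mul, hDperm r hr, Equiv.Perm.one_apply] at e
        rw [mul_comm (d.coef (w : G) o)] at e
        rcases d.coef_sign (w : G) o with e' | e' <;> rw [e'] at e
        · simpa using e
        · simpa using e
      rcases huniv (d.perm w o) with e | e | e | e
      · exact hfree o e
      · exact absurd ((e ▸ hk s' hs'D : d.coef s' q = d.coef s' o).symm.trans (c'q)) (by rw [c'o]; decide)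
      · exact absurd ((e ▸ hk s hsD : d.coef s q' = d.coef s o).symm.trans (hsvals.1)) (by rw [hso]; decide)
      · exact absurd ((e ▸ hk s hsD : d.coef s q'' = d.coef s o).symm.trans (hsvals.2)) (by rw [hso]; decide)
    refine ⟨h1, fun p => ?_⟩
    obtain ⟨σ, hσ, rfl⟩ := hJtrans p
    obtain ⟨r, hr, rfl⟩ := hσ
    have e := congrArg (fun g => d.coef g o) (hcomm r hr)
    simp only [d.coef_mul, h1, Equiv.Perm.one_apply] at e
    rcases d.coef_sign r o with e' | e' <;> rw [e'] at e
    · simpa using e.symm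
    · simpa [mul_comm] using e.symm
  have hZle : Nat.card (center R) ≤ 2 := by
    let f : center R → ({1, -1} : Finset (ZMod 3)) := fun w => ⟨d.coef (w.1 : G) o, by simpa using d.coef_sign _ o⟩
    have hf : Function.Injective f := by
      intro w w' e
      have e' : d.coef (w.1 : G) o = d.coef (w'.1 : G) o := congrArg Subtype.val e
      refine Subtype.ext (Subtype.ext (mul_inv_eq_one.1 ?_))
      obtain ⟨a1, a2⟩ := hcen w.1 w.2
      obtain ⟨b1, b2⟩ := hcen w'.1 w'.2
      refine d.eq_one h.faith (by rw [map_mul, map_inv, a1, b1, inv_one, mul_one]) fun p => ?_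
      have h' := d.coef_mul (w'.1 : G)⁻¹ w'.1 p
      rw [inv_mul_cancel, d.coef_one, b1, Equiv.Perm.one_apply, b2, ← e', ← a2 p] at h'
      rw [d.coef_mul, show d.perm (w'.1 : G)⁻¹ p = p by rw [map_inv, b1, inv_one]; rfl, mul_comm]
      exact h'.symm
    refine (Nat.card_le_card_of_injective f hf).trans ?_
    rw [Nat.card_eq_fintype_card, Fintype.card_coe]
    exact Finset.card_le_two
  have hna : ¬ IsMulCommutative R := fun hc => by
    have htop : center R = ⊤ := eq_top_iff.2 fun w _ => mem_center_iff.2 fun g => hc.is_comm.comm g w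
    rw [htop, Subgroup.card_top, hR32] at hZle
    omega
  have hZ : Nat.card (center R) = 2 := by
    haveI : Fact (Nat.Prime 2) := ⟨Nat.prime_two⟩
    haveI : Nontrivial R := Finite.one_lt_card_iff_nontrivial.1 (by rw [hR32]; norm_num)
    haveI := hR2.center_nontrivial
    have := Finite.one_lt_card (α := center R)
    omega
  haveI : Fact (Nat.Prime 2) := ⟨Nat.prime_two⟩
  refine ⟨?_, hR32, D, inf_le_left, ⟨⟨⟨fun r r' => Subtype.ext ?_⟩⟩, fun r hr => ?_⟩, hD8⟩
  · refine CfsgLib.PGroups.isExtraspecial_of hR2 hna hZ ?_ hsqcen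
    refine Subgroup.Normal.quotient_commutative_iff_commutator_le.1 ⟨⟨fun a c => ?_⟩⟩
    have hs2 : ∀ v : R ⧸ center R, v * v = 1 := fun v => QuotientGroup.induction_on v fun v => by
      rw [← QuotientGroup.mk_mul, QuotientGroup.eq_one_iff, ← pow_two]
      exact hsqcen v
    calc a * c = a * ((a * c) * (a * c)) * c := by rw [hs2, mul_one]
      _ = (a * a) * c * a * (c * c) := by group
      _ = c * a := by rw [hs2 a, hs2 c, one_mul, mul_one]
  · show (r : G) * r' = r' * r
    have h1 := hsq _ (show d.perm ((r : G) * r') = 1 by rw [map_mul, hDperm _ r.2, hDperm _ r'.2, mul_one])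
    have h2 := hsq r (hDperm _ r.2)
    have h3 := hsq r' (hDperm _ r'.2)
    calc (r : G) * r' = r * ((r : G) * r' * (r * r')) * r' := by rw [h1, mul_one]
      _ = (r * r : G) * r' * r * (r' * r') := by group
      _ = r' * r := by rw [h2, h3, one_mul, mul_one]
  · rw [pow_two]; exact hsq r (hDperm r hr)

end CfsgLib.Pairs.Cubic
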