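import Mathlib
import Cfsg.Prelude.Def_Transfer
import Cfsg.Agent.Lib.PGroups.Basic
import Cfsg.Agent.Lib.PGroups.Extraspecial
import Cfsg.Agent.Lib.Core.Coprime
import Cfsg.Agent.Lib.Core.Nilpotent
import Cfsg.Agent.Lib.Core.UniqueOrderP

/-!
`2`-groups with few abelian subgroups, acted on by a group of odd order.
-/

set_option autoImplicit false
set_option linter.style.haveILetI false
set_option linter.unusedSectionVars false

namespace CfsgLib.Pairs.Thin

open Subgroup
open scoped commutatorElement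

variable {S : Type*} [Group S]

/-- no noncyclic abelian subgroup of order `8` -/
def Thin (K : Subgroup S) : Prop :=
  ¬ ∃ A : Subgroup S, A ≤ K ∧ IsMulCommutative A ∧ ¬ IsCyclic A ∧ Nat.card A = 8

theorem Thin.mono {K L : Subgroup S} (h : Thin L) (hKL : K ≤ L) : Thin K := fun ⟨A, hA, rest⟩ =>
  h ⟨A, hA.trans hKL, rest⟩

variable [Finite S]

instance factTwo : Fact (Nat.Prime 2) := ⟨Nat.prime_two⟩

theorem card_le_of_cyclic_of_pow {B : Subgroup S} [IsCyclic B] {m : ℕ} (hm : 0 < m) (h : ∀ x ∈ B, x ^ m = 1) :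
    Nat.card B ≤ m := by
  rw [← IsCyclic.exponent_eq_card (α := B)]
  exact Nat.le_of_dvd hm (Monoid.exponent_dvd_of_forall_pow_eq_one fun x => Subtype.ext (h x x.2))

theorem abelian_cases {B : Subgroup S} (hB : IsPGroup 2 B) [IsMulCommutative B] (hthin : Thin B) :
    IsCyclic B ∨ (Nat.card B = 4 ∧ ∀ x ∈ B, x * x = 1) := by
  by_cases hc : IsCyclic B
  · exact Or.inl hc
  right
  obtain ⟨q, hq, E, hEB, hexp, hcard⟩ := CfsgLib.Core.exists_elementary_of_not_isCyclic B hc
  have hq2 : q = 2 := by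
    haveI : Nontrivial E := Finite.one_lt_card_iff_nontrivial.1 (by
      have := hq.two_le
      calc 1 < q ^ 2 := Nat.one_lt_pow (by norm_num) hq.one_lt
        _ ≤ _ := hcard)
    obtain ⟨⟨e, he⟩, he1⟩ := exists_ne (1 : E)
    haveI := Fact.mk hq
    have ho : orderOf e = q := orderOf_eq_prime (hexp e he) fun h => he1 (Subtype.ext h)
    obtain ⟨k, hk⟩ := IsPGroup.iff_orderOf.1 hB ⟨e, hEB he⟩
    rw [Subgroup.orderOf_mk, ho] at hk
    exact (Nat.prime_dvd_prime_iff_eq hq Nat.prime_two).1 (hq.dvd_of_dvd_pow (n := k) (hk ▸ dvd_rfl))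
  subst hq2
  obtain ⟨n, hn⟩ := IsPGroup.iff_card.1 hB
  have hn2 : 2 ≤ n := (Nat.pow_le_pow_iff_right (show 1 < 2 by norm_num)).1 (hn ▸ hcard.trans (card_le_of_le hEB))
  have hlt : n = 2 := by
    by_contra hne
    obtain ⟨k, hk⟩ := IsPGroup.iff_card.1 (hB.to_le hEB)
    have hk2 : 2 ≤ k := (Nat.pow_le_pow_iff_right (show 1 < 2 by norm_num)).1 (hk ▸ hcard)
    obtain ⟨V₀, hV₀⟩ := Sylow.exists_subgroup_card_pow_prime (G := E) 2 (n := 2)
      (by rw [hk]; exact pow_dvd_pow 2 hk2)
    let V : Subgroup B := (V₀.map E.subtype).subgroupOf B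
    have hVle : V₀.map E.subtype ≤ B := (map_subtype_le V₀).trans hEB
    have hV : Nat.card V = 2 ^ 2 := by
      rw [Nat.card_congr (subgroupOfEquivOfLe hVle).toEquiv,
        ← Nat.card_congr (V₀.equivMapOfInjective _ E.subtype_injective).toEquiv, hV₀]
    obtain ⟨W, hW, hVW⟩ := Sylow.exists_subgroup_card_pow_prime_le 2 (m := 3)
      (by rw [hn]; exact pow_dvd_pow 2 (by omega)) V hV (by norm_num)
    refine hthin ⟨W.map B.subtype, map_subtype_le W, ?_, fun hcyc => ?_, ?_⟩
    · exact ⟨⟨fun a b => Subtype.ext (by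
        obtain ⟨x, -, hx⟩ := a.2
        obtain ⟨y, -, hy⟩ := b.2
        show (a : S) * b = b * a
        rw [← hx, ← hy]
        exact congrArg Subtype.val (mul_comm' x y))⟩⟩
    · have hle : V₀.map E.subtype ≤ W.map B.subtype := by
        intro x hx
        exact ⟨⟨x, hVle hx⟩, hVW (mem_subgroupOf.2 hx), rfl⟩
      haveI := hcyc
      haveI : IsCyclic ↥(V₀.map E.subtype) :=
        isCyclic_of_injective (inclusion hle) (inclusion_injective hle)
      have h4 := card_le_of_cyclic_of_pow (B := V₀.map E.subtype) (show 0 < 2 by norm_num)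
        (by rintro _ ⟨x, -, rfl⟩; exact hexp x x.2)
      rw [← Nat.card_congr (V₀.equivMapOfInjective _ E.subtype_injective).toEquiv, hV₀] at h4
      omega
    · rw [← Nat.card_congr (W.equivMapOfInjective _ B.subtype_injective).toEquiv, hW]
      norm_num
  subst hlt
  have hEeq : E = B := eq_of_le_of_card_ge hEB (hn ▸ hcard)
  exact ⟨hn.trans (by norm_num), fun x hx => by rw [← pow_two]; exact hexp x (hEeq ▸ hx)⟩

/-- a `2`-power cyclic group is centralized by elements of odd order -/
theorem centralizes_cyclic {V H : Subgroup S} (hV : IsPGroup 2 V) [IsCyclic V]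
    (hHV : H ≤ normalizer (V : Set S)) (hH : Odd (Nat.card H)) : H ≤ centralizer (V : Set S) := by
  intro h hh
  obtain ⟨n, hn⟩ := IsPGroup.iff_card.1 hV
  let φ : MulAut V := V.normalizerMonoidHom ⟨h, hHV hh⟩
  have h1 : orderOf φ ∣ Nat.card H := by
    refine (orderOf_map_dvd _ _).trans ?_
    rw [Subgroup.orderOf_mk]
    exact H.orderOf_dvd_natCard hh
  have h2 : orderOf φ ∣ Nat.totient (2 ^ n) := by
    rw [← hn, ← IsCyclic.card_mulAut]
    exact _root_.orderOf_dvd_natCard φ
  have hcop : Nat.Coprime (Nat.card H) (Nat.totient (2 ^ n)) := by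
    rcases Nat.eq_zero_or_pos n with rfl | hn0
    · simp
    · rw [Nat.totient_prime_pow Nat.prime_two hn0]
      simpa using ((Nat.coprime_two_right.2 hH).pow_right (n - 1))
  have h3 : φ = 1 := orderOf_eq_one_iff.1 (Nat.eq_one_of_dvd_coprimes hcop h1 h2)
  refine mem_centralizer_iff.2 fun v hv => ?_
  have h4 : h * v * h⁻¹ = v := by
    have e := congrArg Subtype.val (DFunLike.congr_fun h3 (⟨v, hv⟩ : V))
    exact e
  exact (mul_inv_eq_iff_eq_mul.1 h4).symm

/-- a four-group with a fixed point is centralized by elements of odd order -/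
theorem centralizes_four {V H : Subgroup S} (hV : Nat.card V = 4) (hV2 : ∀ x ∈ V, x * x = 1)
    (hHV : H ≤ normalizer (V : Set S)) (hH : Odd (Nat.card H)) {z : S} (hz : z ∈ V) (hz1 : z ≠ 1)
    (hfix : ∀ h ∈ H, h * z * h⁻¹ = z) : H ≤ centralizer (V : Set S) := by
  classical
  intro h hh
  refine mem_centralizer_iff.2 fun v hv => ?_
  have hconj : ∀ g ∈ H, ∀ x ∈ V, g * x * g⁻¹ ∈ V := fun g hg x hx => (mem_normalizer_iff.1 (hHV hg) x).1 hx
  suffices e : h * v * h⁻¹ = v from (mul_inv_eq_iff_eq_mul.1 e).symm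
  rcases eq_or_ne v 1 with rfl | hv1
  · simp
  rcases eq_or_ne v z with rfl | hvz
  · exact hfix h hh
  have hvz' : v * z ≠ 1 := fun e => hvz (by
    rw [eq_inv_of_mul_eq_one_left e, inv_eq_of_mul_eq_one_right (hV2 z hz)])
  have h5 : ∀ x ∈ V, x = 1 ∨ x = z ∨ x = v ∨ x = v * z := by
    let f : Fin 4 → V := ![1, ⟨z, hz⟩, ⟨v, hv⟩, ⟨v * z, mul_mem hv hz⟩]
    have hf : Function.Injective f := by
      intro i j e
      have a1 : v * z ≠ z := fun e => hv1 (by simpa using e)
      have a2 : v * z ≠ v := fun e => hz1 (by simpa using e)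
      fin_cases i <;> fin_cases j <;> simp [f, Subtype.ext_iff] at e ⊢ <;>
        first | exact hz1 e | exact hz1 e.symm | exact hv1 e | exact hv1 e.symm | exact hvz e | exact hvz e.symm | exact hvz' e | exact hvz' e.symm | exact a1 e | exact a1 e.symm | exact a2 e | exact a2 e.symm
    have hb := hf.bijective_of_nat_card_le (by rw [hV]; simp)
    intro x hx
    obtain ⟨i, hi⟩ := hb.2 ⟨x, hx⟩
    have hi' : (f i : S) = x := congrArg Subtype.val hi
    fin_cases i <;> simp [f] at hi' <;> simp [← hi']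
  have key : ∀ g ∈ H, g * v * g⁻¹ = v ∨ g * v * g⁻¹ = v * z := by
    intro g hg
    rcases h5 _ (hconj g hg v hv) with e | e | e | e
    · exact absurd (conj_eq_one_iff.1 e) hv1
    · exact absurd (mul_left_cancel (mul_right_cancel (e.trans (hfix g hg).symm))) hvz
    · exact Or.inl e
    · exact Or.inr e
  rcases key h hh with e | e
  · exact e
  obtain ⟨k, hk⟩ := hH.of_dvd_nat (H.orderOf_dvd_natCard hh)
  have hz2 : z * z = 1 := hV2 z hz
  have hfix2 : h ^ 2 * v * (h ^ 2)⁻¹ = v := by
    calc h ^ 2 * v * (h ^ 2)⁻¹ = h * (h * v * h⁻¹) * h⁻¹ := by rw [pow_two]; group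
      _ = h * (v * z) * h⁻¹ := by rw [e]
      _ = (h * v * h⁻¹) * (h * z * h⁻¹) := by group
      _ = v := by rw [e, hfix h hh, mul_assoc, hz2, mul_one]
  have hc : Commute (h ^ 2) v := mul_inv_eq_iff_eq_mul.1 hfix2
  have := hc.pow_left (k + 1)
  rw [← pow_mul, show 2 * (k + 1) = orderOf h + 1 by omega, pow_succ, pow_orderOf_eq_one, one_mul] at this
  exact mul_inv_eq_iff_eq_mul.2 this.eq

theorem fixed_of_card_two {W : Subgroup S} {H : Subgroup S} (hW : Nat.card W = 2)
    (hHW : H ≤ normalizer (W : Set S)) : ∀ h ∈ H, ∀ z ∈ W, h * z * h⁻¹ = z := by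
  intro h hh z hz
  rcases eq_or_ne z 1 with rfl | hz1
  · simp
  obtain ⟨a, b, hab, hset⟩ := Nat.card_eq_two_iff.1 hW
  have hmem : ∀ x : W, x = a ∨ x = b := fun x => by
    have : x ∈ ({a, b} : Set W) := hset ▸ Set.mem_univ _
    simpa using this
  have hne1 : h * z * h⁻¹ ≠ 1 := fun e => hz1 (conj_eq_one_iff.1 e)
  rcases hmem ⟨1, one_mem W⟩ with e1 | e1 <;> rcases hmem ⟨z, hz⟩ with e2 | e2 <;>
    rcases hmem ⟨h * z * h⁻¹, (mem_normalizer_iff.1 (hHW hh) z).1 hz⟩ with e3 | e3
  all_goals first | exact absurd (congrArg Subtype.val (e2.trans e1.symm)) hz1 | exact absurd (congrArg Subtype.val (e3.trans e1.symm)) hne1 | exact congrArg Subtype.val (e3.trans e2.symm)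

/-- commutators centralize what is fixed -/
theorem commutator_centralizes {V Y H : Subgroup S} (hY : Y ≤ normalizer (V : Set S))
    (hH : H ≤ centralizer (V : Set S)) : ⁅Y, H⁆ ≤ centralizer (V : Set S) := by
  rw [commutator_le]
  intro y hy h hh
  refine mem_centralizer_iff.2 fun v hv => ?_
  have h1 : h⁻¹ * v = v * h⁻¹ := (mem_centralizer_iff.1 (hH (inv_mem hh)) v hv).symm
  have hw : y⁻¹ * v * y ∈ V := by simpa using (mem_normalizer_iff.1 (inv_mem (hY hy)) v).1 hv
  have h2 : (y⁻¹ * v * y) * h⁻¹ = h⁻¹ * (y⁻¹ * v * y) := mem_centralizer_iff.1 (hH (inv_mem hh)) _ hw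
  rw [commutatorElement_def]
  calc v * (y * h * y⁻¹ * h⁻¹) = y * h * (h⁻¹ * (y⁻¹ * v * y)) * h * y⁻¹ * h⁻¹ := by group
    _ = y * h * y⁻¹ * (v * y * h⁻¹ * h * y⁻¹ * h⁻¹) := by rw [← h2]; group
    _ = y * h * y⁻¹ * (h⁻¹ * v) := by rw [h1]; group
    _ = _ := by group

/-- small normal subgroups of `[Y, H] = Y` are central -/
theorem central_of_thin {Y H V : Subgroup S} (hY : IsPGroup 2 Y) (hH : Odd (Nat.card H)) (hfull : ⁅Y, H⁆ = Y)
    (hVY : V ≤ Y) (hYV : Y ≤ normalizer (V : Set S)) (hHV : H ≤ normalizer (V : Set S))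
    (hHY : H ≤ normalizer (Y : Set S)) [IsMulCommutative V] (hthin : Thin V) :
    V ≤ centralizer (Y : Set S) := by
  have hfin : H ≤ centralizer (V : Set S) → V ≤ centralizer (Y : Set S) := fun h =>
    le_centralizer_iff.1 (hfull ▸ commutator_centralizes hYV h)
  rcases abelian_cases (hY.to_le hVY) hthin with hc | ⟨h4, h2⟩
  · exact hfin (centralizes_cyclic (hY.to_le hVY) hHV hH)
  by_contra hnot
  let W := V ⊓ centralizer (Y : Set S)
  have hW1 : W ≠ ⊥ := by
    haveI : (V.subgroupOf Y).Normal := normal_subgroupOf_iff_le_normalizer hVY |>.2 hYV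
    have hne : V.subgroupOf Y ≠ ⊥ := fun h => by
      have := Nat.card_congr (subgroupOfEquivOfLe hVY).toEquiv
      rw [h, card_bot, h4] at this
      omega
    obtain ⟨⟨u, hu⟩, hu1⟩ := ne_bot_iff_exists_ne_one.1 (CfsgLib.PGroups.inf_center_ne_bot hY hne)
    obtain ⟨huV, huC⟩ := mem_inf.1 hu
    intro hbot
    refine hu1 (Subtype.ext (Subtype.ext ?_))
    have : (u : S) ∈ W := mem_inf.2 ⟨mem_subgroupOf.1 huV, mem_centralizer_iff.2 fun y hy =>
      congrArg Subtype.val (mem_center_iff.1 huC ⟨y, hy⟩)⟩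
    rw [hbot] at this
    exact mem_bot.1 this
  have hW2 : Nat.card W = 2 := by
    have hd := card_dvd_of_le (show W ≤ V from inf_le_left)
    rw [h4] at hd
    have h1 : Nat.card W ≠ 1 := fun e => hW1 (card_eq_one.1 e)
    have h4' : Nat.card W ≠ 4 := fun e => hnot (by
      have : W = V := eq_of_le_of_card_ge inf_le_left (by rw [e, h4])
      exact this ▸ inf_le_right)
    have := Nat.le_of_dvd (by norm_num) hd
    have hpos := Nat.card_pos (α := W)
    rcases (show Nat.card W = 2 ∨ Nat.card W = 3 by omega) with e | e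
    · exact e
    · rw [e] at hd; norm_num at hd
  have hHW : H ≤ normalizer (W : Set S) := by
    rw [le_normalizer_iff]
    intro h hh w hw
    obtain ⟨hwV, hwC⟩ := mem_inf.1 hw
    refine mem_inf.2 ⟨(mem_normalizer_iff.1 (hHV hh) w).1 hwV, mem_centralizer_iff.2 fun y hy => ?_⟩
    have hy' : h⁻¹ * y * h ∈ Y := by simpa using (mem_normalizer_iff.1 (inv_mem (hHY hh)) y).1 hy
    have e := mem_centralizer_iff.1 hwC _ hy'
    calc y * (h * w * h⁻¹) = h * ((h⁻¹ * y * h) * w) * h⁻¹ := by group
      _ = h * w * h⁻¹ * y := by rw [e]; group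
  obtain ⟨⟨z, hz⟩, hz1⟩ := ne_bot_iff_exists_ne_one.1 hW1
  refine hnot (hfin (centralizes_four h4 h2 hHV hH (mem_inf.1 hz).1 (fun e => hz1 (Subtype.ext e)) fun h hh => ?_))
  exact fixed_of_card_two hW2 hHW h hh z hz

theorem conj_mem_char {Y : Subgroup S} (C : Subgroup Y) [C.Characteristic] {g : S} (hg : g ∈ normalizer (Y : Set S))
    {v : S} (hv : v ∈ C.map Y.subtype) : g * v * g⁻¹ ∈ C.map Y.subtype := by
  obtain ⟨w, hw, rfl⟩ := hv
  have h := characteristic_iff_map_eq.1 (inferInstance : C.Characteristic) (Y.normalizerMonoidHom ⟨g, hg⟩)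
  exact ⟨Y.normalizerMonoidHom ⟨g, hg⟩ w, h ▸ mem_map_of_mem _ hw, rfl⟩

theorem le_normalizer_char {Y K : Subgroup S} (C : Subgroup Y) [C.Characteristic]
    (hK : K ≤ normalizer (Y : Set S)) : K ≤ normalizer ((C.map Y.subtype : Subgroup S) : Set S) :=
  le_normalizer_iff.2 fun _ hk _ hv => conj_mem_char C (hK hk) hv

theorem frattini_central {Y H : Subgroup S} (hY : IsPGroup 2 Y) (hH : Odd (Nat.card H)) (hfull : ⁅Y, H⁆ = Y)
    (hHY : H ≤ normalizer (Y : Set S)) (hthin : Thin ((frattini Y).map Y.subtype)) :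
    frattini Y ≤ center Y := by
  classical
  haveI : Group.IsNilpotent Y := hY.isNilpotent
  set P := frattini Y with hP
  let Z₀ : Subgroup Y := P ⊓ centralizer (P : Set Y)
  haveI : Z₀.Characteristic := by
    rw [characteristic_iff_map_eq]
    intro φ
    have h1 : P.map φ.toMonoidHom = P := characteristic_iff_map_eq.1 inferInstance φ
    refine le_antisymm ?_ ?_
    · rintro _ ⟨v, ⟨hvP, hvC⟩, rfl⟩
      refine ⟨h1 ▸ mem_map_of_mem _ hvP, mem_centralizer_iff.2 fun w hw => ?_⟩
      obtain ⟨u, hu, rfl⟩ : w ∈ P.map φ.toMonoidHom := h1.symm ▸ hw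
      simp only [MulEquiv.coe_toMonoidHom, ← map_mul, mem_centralizer_iff.1 hvC u hu]
    · intro v hv
      refine ⟨φ.symm v, ⟨?_, mem_centralizer_iff.2 fun w hw => ?_⟩, φ.apply_symm_apply v⟩
      · obtain ⟨u, hu, rfl⟩ : v ∈ P.map φ.toMonoidHom := h1.symm ▸ hv.1
        simpa using hu
      · refine φ.injective ?_
        rw [map_mul, map_mul, φ.apply_symm_apply]
        exact mem_centralizer_iff.1 hv.2 (φ w) (h1 ▸ mem_map_of_mem φ.toMonoidHom hw)
  have hab : IsMulCommutative (Z₀.map Y.subtype) := ⟨⟨fun a b => Subtype.ext (by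
    obtain ⟨x, hx, hxa⟩ := a.2
    obtain ⟨y, hy, hyb⟩ := b.2
    show (a : S) * b = b * a
    rw [← hxa, ← hyb]
    exact congrArg Subtype.val (mem_centralizer_iff.1 hy.2 x hx.1))⟩⟩
  have hZc : Z₀ ≤ center Y := by
    haveI := hab
    have h := central_of_thin (V := Z₀.map Y.subtype) hY hH hfull (map_subtype_le _)
      (le_normalizer_char Z₀ le_normalizer) (le_normalizer_char Z₀ hHY) hHY
      (hthin.mono (map_mono inf_le_left))
    intro v hv
    exact mem_center_iff.2 fun y =>
      Subtype.ext (mem_centralizer_iff.1 (h (mem_map_of_mem Y.subtype hv)) y y.2)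
  suffices hle : P ≤ Z₀ from hle.trans hZc
  by_contra hnot
  haveI : Z₀.Normal := inferInstance
  let π := QuotientGroup.mk' Z₀
  haveI : (P.map π).Normal := Subgroup.Normal.map inferInstance π (QuotientGroup.mk'_surjective _)
  have hne : P.map π ≠ ⊥ := fun h => hnot (by
    have := (map_eq_bot_iff P).1 h
    rwa [QuotientGroup.ker_mk'] at this)
  have hne' := CfsgLib.PGroups.inf_center_ne_bot (hY.to_quotient Z₀) hne
  obtain ⟨d, hd⟩ : ∃ d : ↥(P.map π ⊓ center (Y ⧸ Z₀)), orderOf d = 2 := by
    refine exists_prime_orderOf_dvd_card' 2 ?_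
    obtain ⟨n, hn⟩ := IsPGroup.iff_card.1 ((hY.to_quotient Z₀).to_subgroup (P.map π ⊓ center (Y ⧸ Z₀)))
    rw [hn]
    refine dvd_pow_self 2 fun h0 => hne' (card_eq_one.1 ?_)
    rw [hn, h0, pow_zero]
  obtain ⟨⟨u, hu, hud⟩, hdc⟩ := mem_inf.1 d.2
  have hu2 : u * u ∈ Z₀ := by
    refine (QuotientGroup.eq_one_iff _).1 ?_
    have e : (d : Y ⧸ Z₀) * d = 1 := by
      have := congrArg Subtype.val (pow_orderOf_eq_one d)
      rwa [hd, pow_two] at this
    rw [← hud] at e
    exact e
  have hu1 : u ∉ Z₀ := fun h => by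
    have e : (d : Y ⧸ Z₀) = 1 := hud ▸ (QuotientGroup.eq_one_iff u).2 h
    rw [orderOf_eq_one_iff.2 (Subtype.ext e : d = 1)] at hd
    omega
  -- the displacement of `u`
  have hdis : ∀ y : Y, ∃ c ∈ center Y, c * c = 1 ∧ y * u * y⁻¹ = c * u := by
    intro y
    have hmem : y * u * y⁻¹ * u⁻¹ ∈ Z₀ := by
      refine (QuotientGroup.eq_one_iff _).1 ?_
      have := mem_center_iff.1 hdc (π y)
      rw [← hud] at this
      show π (y * u * y⁻¹ * u⁻¹) = 1
      rw [map_mul, map_mul, map_mul, map_inv, map_inv, this, mul_inv_cancel_right, mul_inv_cancel]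
    refine ⟨y * u * y⁻¹ * u⁻¹, hZc hmem, ?_, by group⟩
    have hc := mem_center_iff.1 (hZc hmem)
    have e2 : y * (u * u) * y⁻¹ = u * u := by
      rw [mem_center_iff.1 (hZc hu2) y, mul_inv_cancel_right]
    set c := y * u * y⁻¹ * u⁻¹ with hcdef
    have e3 : c * c * (u * u) = u * u := by
      calc c * c * (u * u) = c * (c * u) * u := by group
        _ = c * (u * c) * u := by rw [hc u]
        _ = c * u * (c * u) := by group
        _ = y * (u * u) * y⁻¹ := by rw [hcdef]; group
        _ = u * u := e2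
    exact mul_right_cancel (e3.trans (one_mul _).symm)
  let K : Subgroup Y := centralizer {u}
  have hsq : ∀ y : Y, y ^ 2 ∈ K := fun y => by
    obtain ⟨c, hc, hc2, he⟩ := hdis y
    refine mem_centralizer_singleton_iff.2 (mul_inv_eq_iff_eq_mul.1 ?_)
    calc y ^ 2 * u * (y ^ 2)⁻¹ = y * (y * u * y⁻¹) * y⁻¹ := by rw [pow_two]; group
      _ = y * c * u * y⁻¹ := by rw [he]; group
      _ = c * (y * u * y⁻¹) := by rw [mem_center_iff.1 hc y]; group
      _ = u := by rw [he, ← mul_assoc, hc2, one_mul]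
  have hcom : commutator Y ≤ K := by
    rw [_root_.commutator_def, commutator_le]
    intro a _ b _
    obtain ⟨ca, hca, hca2, hea⟩ := hdis a
    obtain ⟨cb, hcb, hcb2, heb⟩ := hdis b
    obtain ⟨ca', hca', -, hea'⟩ := hdis a⁻¹
    obtain ⟨cb', hcb', -, heb'⟩ := hdis b⁻¹
    have hinv : ∀ {x c c' : Y}, c ∈ center Y → x * u * x⁻¹ = c * u → x⁻¹ * u * x⁻¹⁻¹ = c' * u → c' * c = 1 := by
      intro x c c' hc e e'
      have h1 : c * u = x * u * x⁻¹ := e.symm
      have h2 : x⁻¹ * (c * u) * x⁻¹⁻¹ = c * (x⁻¹ * u * x⁻¹⁻¹) := by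
        rw [show x⁻¹ * (c * u) = x⁻¹ * c * u from (mul_assoc _ _ _).symm, mem_center_iff.1 hc x⁻¹]; group
      rw [h1, e'] at h2
      have h3 : u = c * c' * u := by
        calc u = x⁻¹ * (x * u * x⁻¹) * x⁻¹⁻¹ := by group
          _ = _ := by rw [h2, mul_assoc]
      rw [mem_center_iff.1 hc c']
      exact (mul_eq_right.1 h3.symm)
    have pa := hinv hca hea hea'
    have pb := hinv hcb heb heb'
    refine mem_centralizer_singleton_iff.2 (mul_inv_eq_iff_eq_mul.1 ?_)
    rw [commutatorElement_def]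
    calc a * b * a⁻¹ * b⁻¹ * u * (a * b * a⁻¹ * b⁻¹)⁻¹
        = a * (b * (a⁻¹ * (b⁻¹ * u * b⁻¹⁻¹) * a⁻¹⁻¹) * b⁻¹) * a⁻¹ := by group
      _ = a * (b * (cb' * (a⁻¹ * u * a⁻¹⁻¹)) * b⁻¹) * a⁻¹ := by
          rw [heb', show a⁻¹ * (cb' * u) = cb' * (a⁻¹ * u) by rw [← mul_assoc, mem_center_iff.1 hcb' a⁻¹, mul_assoc]]
          group
      _ = a * ((cb' * ca') * (b * u * b⁻¹)) * a⁻¹ := by
          rw [hea', show b * (cb' * (ca' * u)) = cb' * ca' * (b * u) by
            rw [← mul_assoc cb', ← mul_assoc b, mem_center_iff.1 (mul_mem hcb' hca') b, mul_assoc]]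
          group
      _ = (cb' * ca' * cb) * (a * u * a⁻¹) := by
          rw [heb, show a * (cb' * ca' * (cb * u)) = cb' * ca' * cb * (a * u) by
            rw [← mul_assoc (cb' * ca'), ← mul_assoc a, mem_center_iff.1 (mul_mem (mul_mem hcb' hca') hcb) a,
              mul_assoc]]
          group
      _ = (cb' * cb) * (ca' * ca) * u := by
          rw [hea, show cb' * ca' * cb = cb' * cb * ca' by
            rw [mul_assoc, mem_center_iff.1 hcb ca', ← mul_assoc]]
          group
      _ = u := by rw [pa, pb, one_mul, one_mul]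
  haveI : K.Normal := Subgroup.Normal.of_commutator_le Y hcom
  have hPK : P ≤ K := CfsgLib.PGroups.frattini_le_of_elementary hcom hsq
  exact hu1 ⟨hu, mem_centralizer_iff.2 fun w hw => mem_centralizer_singleton_iff.1 (hPK hw)⟩

/-- points fixed by `H` in `[Y, H] = Y` lie in the Frattini subgroup -/
theorem fixed_le_frattini {Y H : Subgroup S} (hY : IsPGroup 2 Y) (hH : Odd (Nat.card H)) (hfull : ⁅Y, H⁆ = Y)
    (hHY : H ≤ normalizer (Y : Set S)) {c : Y} (hc : ∀ h ∈ H, h * (c : S) * h⁻¹ = c) : c ∈ frattini Y := by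
  classical
  haveI : Fintype H := Fintype.ofFinite H
  obtain ⟨hcomm, hsq⟩ := CfsgLib.PGroups.frattini_quotient hY
  letI : CommGroup (Y ⧸ frattini Y) :=
    { (inferInstance : Group (Y ⧸ frattini Y)) with mul_comm := fun a b => hcomm.is_comm.comm a b }
  let cj : H → Y →* Y := fun h => (Y.normalizerMonoidHom ⟨h, hHY h.2⟩).toMonoidHom
  have hcj : ∀ (h : H) (y : Y), (cj h y : S) = h * y * (h : S)⁻¹ := fun h y => rfl
  let N : Y →* Y ⧸ frattini Y := ∏ h : H, (QuotientGroup.mk' (frattini Y)).comp (cj h)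
  have hN : ∀ y, N y = ∏ h : H, QuotientGroup.mk' (frattini Y) (cj h y) := fun y =>
    MonoidHom.finsetProd_apply _ _ _
  have hNk : ∀ (k : H) (y : Y), N (cj k y) = N y := by
    intro k y
    rw [hN, hN]
    refine Fintype.prod_equiv (Equiv.mulRight k) _ _ fun h => congrArg _ (Subtype.ext ?_)
    rw [hcj, hcj, hcj, Equiv.coe_mulRight, Subgroup.coe_mul]
    group
  have hker : Y ≤ N.ker.map Y.subtype := by
    conv_lhs => rw [← hfull]
    rw [commutator_le]
    intro y hy k hk
    refine ⟨⟨y, hy⟩ * (cj ⟨k, hk⟩ ⟨y, hy⟩)⁻¹, ?_, ?_⟩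
    · rw [SetLike.mem_coe, MonoidHom.mem_ker, map_mul, map_inv, hNk, mul_inv_cancel]
    · rw [coe_subtype, Subgroup.coe_mul, Subgroup.coe_inv, hcj, commutatorElement_def]
      group
  obtain ⟨c', hc', hcc'⟩ := hker c.2
  obtain rfl : c' = c := Subtype.ext hcc'
  have h1 : QuotientGroup.mk' (frattini Y) c' ^ Nat.card H = 1 := by
    rw [← MonoidHom.mem_ker.1 hc', hN, Nat.card_eq_fintype_card, ← Finset.card_univ, ← Finset.prod_const]
    exact Finset.prod_congr rfl fun h _ => congrArg _ (Subtype.ext ((hcj h c').trans (hc h h.2)).symm)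
  obtain ⟨k, hk⟩ := hH
  rw [hk, pow_succ, pow_mul, hsq, one_pow, one_mul] at h1
  exact (QuotientGroup.eq_one_iff _).1 h1

theorem map_center_comm {Y : Subgroup S} : IsMulCommutative ((center Y).map Y.subtype) :=
  ⟨⟨fun a b => Subtype.ext (by
    obtain ⟨x, hx, hxa⟩ := a.2
    obtain ⟨y, hy, hyb⟩ := b.2
    show (a : S) * b = b * a
    rw [← hxa, ← hyb]
    exact (congrArg Subtype.val (mem_center_iff.1 hx y)).symm)⟩⟩

theorem special_of_full {Y H : Subgroup S} (hY : IsPGroup 2 Y) (hH : Odd (Nat.card H)) (hfull : ⁅Y, H⁆ = Y)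
    (hHY : H ≤ normalizer (Y : Set S)) (hna : ¬ IsMulCommutative Y)
    (hΦ : Thin ((frattini Y).map Y.subtype)) (hZ : Thin ((center Y).map Y.subtype)) :
    Cfsg.IsSpecial 2 Y ∧ (Nat.card (center Y) = 2 ∨ Nat.card (center Y) = 4) := by
  classical
  haveI : Group.IsNilpotent Y := hY.isNilpotent
  have hΦZ : frattini Y ≤ center Y := frattini_central hY hH hfull hHY hΦ
  have hderΦ : commutator Y ≤ frattini Y := CfsgLib.PGroups.commutator_le_frattini' hY
  have hder : commutator Y ≠ ⊥ := fun h => hna ((commutator_eq_bot_iff Y).1 h)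
  have hfixed : ∀ c : Y, (∀ h ∈ H, h * (c : S) * h⁻¹ = c) → c ∈ frattini Y :=
    fun c => fixed_le_frattini hY hH hfull hHY
  haveI := map_center_comm (Y := Y)
  have hcardmap : ∀ C : Subgroup Y, Nat.card (C.map Y.subtype) = Nat.card C := fun C =>
    (Nat.card_congr (C.equivMapOfInjective _ Y.subtype_injective).toEquiv).symm
  have hnormC : ∀ (C : Subgroup Y) [C.Characteristic], H ≤ normalizer ((C.map Y.subtype : Subgroup S) : Set S) :=
    fun C _ => le_normalizer_char C hHY
  have hcent : H ≤ centralizer ((center Y).map Y.subtype : Set S) → center Y ≤ frattini Y := by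
    intro h v hv
    refine hfixed v fun k hk => ?_
    rw [← mem_centralizer_iff.1 (h hk) v (mem_map_of_mem _ hv), mul_inv_cancel_right]
  have hZΦ : center Y = frattini Y := by
    refine le_antisymm ?_ hΦZ
    rcases abelian_cases (hY.to_le (map_subtype_le _)) hZ with hc | ⟨h4, h2⟩
    · exact hcent (centralizes_cyclic (hY.to_le (map_subtype_le _)) (hnormC _) hH)
    · have hd := card_dvd_of_le hΦZ
      rw [← hcardmap (center Y), h4] at hd
      by_contra hne
      have h1 : Nat.card (frattini Y) ≠ 1 := fun e => hder (le_bot_iff.1 (card_eq_one.1 e ▸ hderΦ))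
      have h4' : Nat.card (frattini Y) ≠ 4 := fun e => hne
        (eq_of_le_of_card_ge hΦZ (by rw [e, ← hcardmap, h4])).ge
      have hΦ2 : Nat.card ((frattini Y).map Y.subtype) = 2 := by
        rw [hcardmap]
        have := Nat.le_of_dvd (by norm_num) hd
        have hpos := Nat.card_pos (α := frattini Y)
        rcases (show Nat.card (frattini Y) = 2 ∨ Nat.card (frattini Y) = 3 by omega) with e | e
        · exact e
        · rw [e] at hd; norm_num at hd
      obtain ⟨⟨z, hz⟩, hz1⟩ := ne_bot_iff_exists_ne_one.1 (show (frattini Y).map Y.subtype ≠ ⊥ from fun h => by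
        rw [h, card_bot] at hΦ2; omega)
      refine hne (hcent (centralizes_four h4 h2 (hnormC _) hH (map_mono hΦZ hz) (fun e => hz1 (Subtype.ext e))
        fun h hh => fixed_of_card_two hΦ2 (hnormC _) h hh z hz))
  -- commutators give the whole centre
  have hcomsq : ∀ v ∈ commutator Y, v * v = 1 := by
    let K : Subgroup Y :=
      { carrier := {v | v ∈ center Y ∧ v * v = 1}
        one_mem' := ⟨one_mem _, one_mul 1⟩
        mul_mem' := fun {a b} ha hb => ⟨mul_mem ha.1 hb.1, by
          rw [Commute.mul_mul_mul_comm (mem_center_iff.1 ha.1 b) a b, ha.2, hb.2, one_mul]⟩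
        inv_mem' := fun {a} ha => ⟨inv_mem ha.1, by rw [← mul_inv_rev, ha.2, inv_one]⟩ }
    have hle : commutator Y ≤ K := by
      rw [_root_.commutator_def, commutator_le]
      intro a _ b _
      have hmem : ⁅a, b⁆ ∈ center Y := hΦZ (hderΦ (commutator_mem_commutator (mem_top a) (mem_top b)))
      refine ⟨hmem, ?_⟩
      have ha2 := mem_center_iff.1 (hΦZ (CfsgLib.PGroups.pow_mem_frattini hY a)) b
      have e1 : a * b * a⁻¹ = ⁅a, b⁆ * b := by rw [commutatorElement_def]; group
      have e2 : a ^ 2 * b * (a ^ 2)⁻¹ = b := by rw [← ha2, mul_inv_cancel_right]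
      have e3 : a ^ 2 * b * (a ^ 2)⁻¹ = ⁅a, b⁆ * ⁅a, b⁆ * b := by
        calc a ^ 2 * b * (a ^ 2)⁻¹ = a * (a * b * a⁻¹) * a⁻¹ := by rw [pow_two]; group
          _ = a * ⁅a, b⁆ * b * a⁻¹ := by rw [e1]; group
          _ = ⁅a, b⁆ * (a * b * a⁻¹) := by rw [mem_center_iff.1 hmem a]; group
          _ = _ := by rw [e1, mul_assoc]
      exact mul_eq_right.1 (e3.symm.trans e2)
    exact fun v hv => (hle hv).2
  have hΦder : frattini Y = commutator Y := by
    refine le_antisymm ?_ hderΦ
    by_cases hfix : H ≤ centralizer ((frattini Y).map Y.subtype : Set S)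
    · refine CfsgLib.PGroups.frattini_le_of_elementary (p := 2) le_rfl fun y => ?_
      let cm : ∀ a b : Abelianization Y, a * b = b * a := mul_comm
      let q : Y →* Abelianization Y := (powMonoidHom 2).comp Abelianization.of
      have hker : Y ≤ q.ker.map Y.subtype := by
        conv_lhs => rw [← hfull]
        rw [commutator_le]
        intro a ha k hk
        refine ⟨⟨a, ha⟩ * (Y.normalizerMonoidHom ⟨k, hHY hk⟩ ⟨a, ha⟩)⁻¹, ?_, ?_⟩
        · have he : Y.normalizerMonoidHom ⟨k, hHY hk⟩ ((⟨a, ha⟩ : Y) ^ 2) = (⟨a, ha⟩ : Y) ^ 2 := by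
            refine Subtype.ext ?_
            show k * _ * k⁻¹ = _
            exact mul_inv_eq_iff_eq_mul.2 (mem_centralizer_iff.1 (hfix hk) _
              (mem_map_of_mem Y.subtype (CfsgLib.PGroups.pow_mem_frattini hY (⟨a, ha⟩ : Y)))).symm
          rw [SetLike.mem_coe, MonoidHom.mem_ker, map_mul, map_inv]
          show Abelianization.of (⟨a, ha⟩ : Y) ^ 2 * (Abelianization.of _ ^ 2)⁻¹ = 1
          rw [← map_pow, ← map_pow, ← map_pow, he, mul_inv_cancel]
        · rw [coe_subtype, Subgroup.coe_mul, Subgroup.coe_inv, commutatorElement_def]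
          show a * (k * a * k⁻¹)⁻¹ = _
          group
      obtain ⟨y', hy', hyy⟩ := hker y.2
      obtain rfl : y' = y := Subtype.ext hyy
      rw [← Abelianization.ker_of Y, MonoidHom.mem_ker, map_pow]
      exact MonoidHom.mem_ker.1 hy'
    · haveI : IsMulCommutative ((frattini Y).map Y.subtype) := hZΦ ▸ map_center_comm
      rcases abelian_cases (hY.to_le (map_subtype_le _)) hΦ with hc | ⟨h4, h2⟩
      · exact absurd (centralizes_cyclic (hY.to_le (map_subtype_le _)) (hnormC _) hH) hfix
      by_contra hne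
      have hd := card_dvd_of_le hderΦ
      rw [← hcardmap (frattini Y), h4] at hd
      have h1 : Nat.card (commutator Y) ≠ 1 := fun e => hder (card_eq_one.1 e)
      have h4' : Nat.card (commutator Y) ≠ 4 := fun e => hne
        (eq_of_le_of_card_ge hderΦ (by rw [e, ← hcardmap, h4])).ge
      have hD2 : Nat.card ((commutator Y).map Y.subtype) = 2 := by
        rw [hcardmap]
        have := Nat.le_of_dvd (by norm_num) hd
        have hpos := Nat.card_pos (α := commutator Y)
        rcases (show Nat.card (commutator Y) = 2 ∨ Nat.card (commutator Y) = 3 by omega) with e | e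
        · exact e
        · rw [e] at hd; norm_num at hd
      obtain ⟨⟨z, hz⟩, hz1⟩ := ne_bot_iff_exists_ne_one.1 (show (commutator Y).map Y.subtype ≠ ⊥ from fun h => by
        rw [h, card_bot] at hD2; omega)
      exact hfix (centralizes_four h4 h2 (hnormC _) hH (map_mono hderΦ hz) (fun e => hz1 (Subtype.ext e))
        fun h hh => fixed_of_card_two hD2 (hnormC _) h hh z hz)
  refine ⟨⟨hY, hZΦ.symm, hΦder.symm.trans hZΦ.symm⟩, ?_⟩
  rcases abelian_cases (hY.to_le (map_subtype_le _)) hZ with hc | ⟨h4, -⟩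
  · left
    have hle := card_le_of_cyclic_of_pow (B := (center Y).map Y.subtype) (show 0 < 2 by norm_num) (by
      rintro _ ⟨v, hv, rfl⟩
      rw [hZΦ, hΦder] at hv
      rw [← map_pow, pow_two, hcomsq v hv, map_one])
    rw [hcardmap] at hle
    have : Nat.card (center Y) ≠ 1 := fun e => hder (le_bot_iff.1 (card_eq_one.1 e ▸ hderΦ.trans hΦZ))
    have := Nat.card_pos (α := center Y)
    omega
  · exact Or.inr (by rw [← hcardmap, h4])

/-- an extraspecial group of order at least `16` is not thin -/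
theorem not_thin_extraspecial {Y : Subgroup S} (hE : Cfsg.IsExtraspecial 2 Y) (h16 : 16 ≤ Nat.card Y) :
    ¬ Thin Y := by
  intro hthin
  obtain ⟨n, hn, hc, -, A, hA, -, hAc⟩ := CfsgLib.PGroups.IsExtraspecial.exists_card hE
  have hn2 : 2 ≤ n := by
    by_contra h
    obtain rfl : n = 1 := by omega
    rw [hc] at h16; norm_num at h16
  haveI := hA
  haveI : IsMulCommutative (A.map Y.subtype) := ⟨⟨fun a b => Subtype.ext (by
    obtain ⟨x, hx, hxa⟩ := a.2
    obtain ⟨y, hy, hyb⟩ := b.2
    show (a : S) * b = b * a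
    rw [← hxa, ← hyb]
    exact congrArg (fun t : A => ((t : Y) : S)) (mul_comm' (⟨x, hx⟩ : A) ⟨y, hy⟩))⟩⟩
  have hcard : Nat.card (A.map Y.subtype) = 2 ^ (n + 1) := by
    rw [← Nat.card_congr (A.equivMapOfInjective _ Y.subtype_injective).toEquiv, hAc]
  have h8 : 2 ^ 3 ≤ 2 ^ (n + 1) := Nat.pow_le_pow_right (by norm_num) (by omega)
  rcases abelian_cases (hE.1.1.to_le (map_subtype_le A)) (hthin.mono (map_subtype_le A)) with hcyc | ⟨h4, -⟩
  · have hle := card_le_of_cyclic_of_pow (B := A.map Y.subtype) (show 0 < 4 by norm_num) (by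
      rintro _ ⟨v, -, rfl⟩
      rw [← map_pow, show v ^ 4 = v ^ 2 ^ 2 by norm_num, CfsgLib.PGroups.IsExtraspecial.pow_sq hE, map_one])
    omega
  · omega

/-- a four-group or a quaternion group -/
theorem perfect_thin {Y H : Subgroup S} (hY : IsPGroup 2 Y) (hH : Odd (Nat.card H)) (hfull : ⁅Y, H⁆ = Y)
    (hHY : H ≤ normalizer (Y : Set S)) (hne : Y ≠ ⊥) (hthin : Thin Y) :
    (Nat.card Y = 4 ∧ (∀ x ∈ Y, x * x = 1) ∧ ∀ z ∈ Y, (∀ h ∈ H, h * z * h⁻¹ = z) → z = 1) ∨
      (Nat.card Y = 8 ∧ Nonempty (Y ≃* QuaternionGroup 2) ∧ Nat.card (center Y) = 2 ∧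
        Cfsg.IsExtraspecial 2 Y) := by
  classical
  by_cases hab : IsMulCommutative Y
  · left
    rcases abelian_cases hY hthin with hc | ⟨h4, h2⟩
    · exfalso
      have hc' := centralizes_cyclic hY hHY hH
      refine hne ?_
      rw [← hfull, commutator_eq_bot_iff_le_centralizer]
      exact le_centralizer_iff.1 hc'
    · refine ⟨h4, h2, fun z hz hfix => by_contra fun hz1 => hne ?_⟩
      rw [← hfull, commutator_eq_bot_iff_le_centralizer]
      exact le_centralizer_iff.1 (centralizes_four h4 h2 hHY hH hz hz1 hfix)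
  right
  obtain ⟨hsp, hz⟩ := special_of_full hY hH hfull hHY hab (hthin.mono (map_subtype_le _))
    (hthin.mono (map_subtype_le _))
  have hmapcard : Nat.card ((center Y).map Y.subtype) = Nat.card (center Y) :=
    (Nat.card_congr ((center Y).equivMapOfInjective _ Y.subtype_injective).toEquiv).symm
  have hz2 : Nat.card (center Y) = 2 := by
    refine hz.resolve_right fun h4 => hab ?_
    haveI := map_center_comm (Y := Y)
    rcases abelian_cases (hY.to_le (map_subtype_le (center Y))) (hthin.mono (map_subtype_le _)) with hc | ⟨-, h2⟩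
    · exfalso
      have := card_le_of_cyclic_of_pow (B := (center Y).map Y.subtype) (show 0 < 2 by norm_num) (by
        rintro _ ⟨v, hv, rfl⟩
        rw [← map_pow]
        refine (congrArg _ ?_).trans (map_one _)
        have hv' : v ∈ commutator Y := hsp.2.2.symm ▸ hv
        let K : Subgroup Y :=
          { carrier := {v | v ∈ center Y ∧ v ^ 2 = 1}
            one_mem' := ⟨one_mem _, one_pow 2⟩
            mul_mem' := fun {a b} ha hb => ⟨mul_mem ha.1 hb.1, by
              rw [(show Commute a b from mem_center_iff.1 hb.1 a).mul_pow, ha.2, hb.2, one_mul]⟩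
            inv_mem' := fun {a} ha => ⟨inv_mem ha.1, by rw [inv_pow, ha.2, inv_one]⟩ }
        have hle : commutator Y ≤ K := by
          rw [_root_.commutator_def, commutator_le]
          intro a _ b _
          have hmem : ⁅a, b⁆ ∈ center Y := hsp.2.2 ▸ commutator_mem_commutator (mem_top a) (mem_top b)
          refine ⟨hmem, ?_⟩
          have ha2 := mem_center_iff.1 (hsp.2.1 ▸ CfsgLib.PGroups.pow_mem_frattini hY a) b
          have e1 : a * b * a⁻¹ = ⁅a, b⁆ * b := by rw [commutatorElement_def]; group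
          have e2 : a ^ 2 * b * (a ^ 2)⁻¹ = b := by rw [← ha2, mul_inv_cancel_right]
          have e3 : a ^ 2 * b * (a ^ 2)⁻¹ = ⁅a, b⁆ * ⁅a, b⁆ * b := by
            calc a ^ 2 * b * (a ^ 2)⁻¹ = a * (a * b * a⁻¹) * a⁻¹ := by rw [pow_two]; group
              _ = a * ⁅a, b⁆ * b * a⁻¹ := by rw [e1]; group
              _ = ⁅a, b⁆ * (a * b * a⁻¹) := by rw [mem_center_iff.1 hmem a]; group
              _ = _ := by rw [e1, mul_assoc]
          rw [pow_two]
          exact mul_eq_right.1 (e3.symm.trans e2)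
        exact (hle hv').2)
      omega
    · refine ⟨⟨fun a b => ?_⟩⟩
      -- a central four-group in a thin group is everything
      by_contra hne'
      have hnb : a ∉ center Y := fun h => hne' (mem_center_iff.1 h b).symm
      let B : Subgroup S := (center Y).map Y.subtype ⊔ zpowers (a : S)
      have hBY : B ≤ Y := sup_le (map_subtype_le _) (zpowers_le.2 a.2)
      haveI : IsMulCommutative B := by
        have h1 : B ≤ centralizer (B : Set S) := by
          refine sup_le (fun v hv => ?_) (zpowers_le.2 ?_)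
          · obtain ⟨w, hw, rfl⟩ := hv
            exact mem_centralizer_iff.2 fun y hy => congrArg Subtype.val (mem_center_iff.1 hw ⟨y, hBY hy⟩)
          · refine mem_centralizer_iff.2 fun y hy => ?_
            have hle : B ≤ centralizer {(a : S)} := by
              refine sup_le (fun v hv => ?_) (zpowers_le.2 (mem_centralizer_singleton_iff.2 rfl))
              obtain ⟨w, hw, rfl⟩ := hv
              exact mem_centralizer_singleton_iff.2 (congrArg Subtype.val (mem_center_iff.1 hw a)).symm
            exact mem_centralizer_singleton_iff.1 (hle hy)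
        exact le_centralizer_iff_isMulCommutative.1 h1
      have hlt : (center Y).map Y.subtype < B := lt_of_le_of_ne le_sup_left fun e => hnb (by
        have : (a : S) ∈ (center Y).map Y.subtype := e ▸ mem_sup_right (mem_zpowers _)
        obtain ⟨w, hw, hwa⟩ := this
        exact Subtype.ext hwa ▸ hw)
      have h8 : 4 < Nat.card B := by
        by_contra! hle
        exact hlt.ne (eq_of_le_of_card_ge hlt.le (by rw [hmapcard, h4]; exact hle))
      rcases abelian_cases (hY.to_le hBY) (hthin.mono hBY) with hcB | ⟨h4B, -⟩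
      · haveI := hcB
        haveI : IsCyclic ↥((center Y).map Y.subtype) :=
          isCyclic_of_injective (inclusion hlt.le) (inclusion_injective hlt.le)
        have := card_le_of_cyclic_of_pow (B := (center Y).map Y.subtype) (show 0 < 2 by norm_num)
          (fun x hx => by rw [pow_two]; exact h2 x hx)
        rw [hmapcard, h4] at this
        omega
      · omega
  have hE : Cfsg.IsExtraspecial 2 Y := ⟨hsp, hz2⟩
  have h8 : Nat.card Y = 8 := by
    obtain ⟨n, hn, hc, -⟩ := CfsgLib.PGroups.IsExtraspecial.exists_card hE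
    have hlt : ¬ 16 ≤ Nat.card Y := fun h => not_thin_extraspecial hE h hthin
    rw [hc] at hlt ⊢
    rcases (show n = 1 ∨ 2 ≤ n by omega) with rfl | h
    · norm_num
    · exfalso
      have : 2 ^ 5 ≤ 2 ^ (2 * n + 1) := Nat.pow_le_pow_right (by norm_num) (by omega)
      omega
  refine ⟨h8, ?_, hz2, hE⟩
  have hsq1 : ∀ y : Y, y * y = 1 → y ∈ center Y := by
    intro y hy
    by_contra hyz
    -- the orbit of `y` modulo the centre
    have hnfix : ∃ h ∈ H, (y : S)⁻¹ * (h * y * h⁻¹) ∉ (center Y).map Y.subtype := by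
      by_contra! hall
      have hcz : Nat.card ((center Y).map Y.subtype) = 2 := hmapcard.trans hz2
      refine hyz ?_
      obtain ⟨c, hc, hcf⟩ : ∃ c : Y, y⁻¹ * c ∈ center Y ∧ ∀ h ∈ H, h * (c : S) * h⁻¹ = c := by
        haveI : Group.IsSolvable Y := by haveI := hY.isNilpotent; infer_instance
        have hcop : (Nat.card H).Coprime (Nat.card ↥((center Y).map Y.subtype)) := by
          rw [hcz]; exact Nat.coprime_two_right.2 hH
        obtain ⟨n, hn, hcen⟩ := CfsgLib.Core.exists_centralizing_in_coset (A := H)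
          (N := (center Y).map Y.subtype) (le_normalizer_char _ hHY) hcop
          (Or.inr (isSolvable_of_comm fun a b => (map_center_comm (Y := Y)).is_comm.comm a b)) (k := (y : S))
          hall
        obtain ⟨w, hw, rfl⟩ := hn
        refine ⟨y * w, by rw [inv_mul_cancel_left]; exact hw, fun h hh => ?_⟩
        show h * ((y : S) * Y.subtype w) * h⁻¹ = (y : S) * Y.subtype w
        rw [mem_centralizer_iff.1 hcen h hh, mul_inv_cancel_right]
      have := hsp.2.1 ▸ fixed_le_frattini hY hH hfull hHY hcf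
      have h' := mul_mem this (inv_mem hc)
      rwa [mul_inv_rev, _root_.inv_inv, mul_inv_cancel_left] at h'
    obtain ⟨h, hh, hhy⟩ := hnfix
    let cj := Y.normalizerMonoidHom ⟨h, hHY hh⟩
    have hcj : ∀ v : Y, (cj v : S) = h * v * h⁻¹ := fun v => rfl
    let π := QuotientGroup.mk' (center Y)
    have hcjπ : ∀ {a b : Y}, π a = π b → π (cj a) = π (cj b) := by
      intro a b e
      refine QuotientGroup.eq.2 ?_
      rw [← map_inv, ← map_mul]
      have := characteristic_iff_map_eq.1 (inferInstance : (center Y).Characteristic) cj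
      exact this ▸ mem_map_of_mem _ (QuotientGroup.eq.1 e)
    have h12 : π y ≠ π (cj y) := fun e => hhy ⟨y⁻¹ * cj y, QuotientGroup.eq.1 e, rfl⟩
    have hq4 : Nat.card (Y ⧸ center Y) = 4 := by
      have := (center Y).card_mul_index
      rw [hz2, h8, index_eq_card] at this
      omega
    have h23 : π (cj y) ≠ π (cj (cj y)) := fun e => h12 (by
      obtain ⟨n, hn⟩ := hH.of_dvd_nat (H.orderOf_dvd_natCard hh)
      have hcjpow : ∀ m : ℕ, π ((cj ^ m) (cj y)) = π (cj y) := by
        intro m
        induction m with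
        | zero => rfl
        | succ m ih => rw [pow_succ', MulAut.mul_apply, hcjπ ih, ← e]
      have hone : cj ^ orderOf h = 1 := by
        show Y.normalizerMonoidHom ⟨h, hHY hh⟩ ^ orderOf h = 1
        rw [← map_pow, show (⟨h, hHY hh⟩ : normalizer (Y : Set S)) ^ orderOf h = 1 from
          Subtype.ext (pow_orderOf_eq_one h), map_one]
      have h' := hcjpow (2 * n)
      rwa [← MulAut.mul_apply, ← pow_succ, ← hn, hone, MulAut.one_apply] at h')
    have h13 : π y ≠ π (cj (cj y)) := fun e => h12 (by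
      obtain ⟨n, hn⟩ := hH.of_dvd_nat (H.orderOf_dvd_natCard hh)
      have hcjpow : ∀ m : ℕ, π ((cj ^ (2 * m)) y) = π y := by
        intro m
        induction m with
        | zero => rfl
        | succ m ih =>
          rw [show 2 * (m + 1) = 1 + (1 + 2 * m) by ring, pow_add, MulAut.mul_apply, pow_one, pow_add,
            MulAut.mul_apply, pow_one, hcjπ (hcjπ ih), ← e]
      have hone : cj ^ orderOf h = 1 := by
        show Y.normalizerMonoidHom ⟨h, hHY hh⟩ ^ orderOf h = 1
        rw [← map_pow, show (⟨h, hHY hh⟩ : normalizer (Y : Set S)) ^ orderOf h = 1 from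
          Subtype.ext (pow_orderOf_eq_one h), map_one]
      have e' := hcjπ (hcjpow n)
      rw [← MulAut.mul_apply, ← pow_succ', ← hn, hone, MulAut.one_apply] at e'
      exact e')
    have hy0 : π y ≠ 1 := fun e => hyz ((QuotientGroup.eq_one_iff y).1 e)
    have hsq : ∀ v : Y ⧸ center Y, v * v = 1 := fun v => QuotientGroup.induction_on v fun v => by
      rw [← QuotientGroup.mk_mul, QuotientGroup.eq_one_iff, ← pow_two]
      exact hsp.2.1 ▸ CfsgLib.PGroups.pow_mem_frattini hY v
    have hj0 : π (cj y) ≠ 1 := fun e => hy0 (by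
      have e1 := (QuotientGroup.eq_one_iff _).1 e
      have := characteristic_iff_comap_eq.1 (inferInstance : (center Y).Characteristic) cj
      exact (QuotientGroup.eq_one_iff y).2 (this ▸ e1))
    have hk0 : π (cj (cj y)) ≠ 1 := fun e => hj0 (by
      have e1 := (QuotientGroup.eq_one_iff _).1 e
      have := characteristic_iff_comap_eq.1 (inferInstance : (center Y).Characteristic) cj
      exact (QuotientGroup.eq_one_iff _).2 (this ▸ e1))
    have hprod : π (cj (cj y)) = π (y * cj y) := by
      rw [map_mul]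
      by_contra hne2
      let f : Fin 5 → Y ⧸ center Y := ![1, π y, π (cj y), π y * π (cj y), π (cj (cj y))]
      have a1 : π y * π (cj y) ≠ 1 := fun e => h12 (mul_left_cancel ((hsq _).trans e.symm))
      have a2 : π y * π (cj y) ≠ π y := fun e => hj0 (by simpa using e)
      have a3 : π y * π (cj y) ≠ π (cj y) := fun e => hy0 (by simpa using e)
      have hf : Function.Injective f := by
        intro i j e
        fin_cases i <;> fin_cases j <;> simp [f] at e ⊢ <;>
          first | exact hy0 e | exact hy0 e.symm | exact hj0 e | exact hj0 e.symm | exact hk0 e | exact hk0 e.symm | exact h12 e | exact h12 e.symm | exact h23 e | exact h23 e.symm | exact h13 e | exact h13 e.symm | exact a1 e | exact a1 e.symm | exact a2 e | exact a2 e.symm | exact a3 e | exact a3 e.symm | exact hne2 e | exact hne2 e.symm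
      have := Nat.card_le_card_of_injective f hf
      rw [hq4] at this
      simp at this
    have hsq3 : ∀ v : Y, v * v = 1 → ∀ w : Y, π w = π v → w * w = 1 := by
      intro v hv w hw
      have hc : v⁻¹ * w ∈ center Y := QuotientGroup.eq.1 hw.symm
      have hc2 : (v⁻¹ * w) * (v⁻¹ * w) = 1 := by
        have := pow_card_eq_one' (x := (⟨v⁻¹ * w, hc⟩ : center Y))
        rw [hz2, pow_two] at this
        exact congrArg Subtype.val this
      calc w * w = (v * (v⁻¹ * w)) * (v * (v⁻¹ * w)) := by group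
        _ = (v * v) * ((v⁻¹ * w) * (v⁻¹ * w)) := Commute.mul_mul_mul_comm (mem_center_iff.1 hc v).symm v _
        _ = 1 := by rw [hv, hc2, one_mul]
    have hj2 : cj y * cj y = 1 := by rw [← map_mul, hy, map_one]
    have hk2 : cj (cj y) * cj (cj y) = 1 := by rw [← map_mul, hj2, map_one]
    have hp2 := hsq3 _ hk2 _ hprod.symm
    have hcomm : y * cj y = cj y * y := by
      calc y * cj y = y * (y * cj y * (y * cj y)) * cj y := by rw [hp2, mul_one]
        _ = (y * y) * cj y * y * (cj y * cj y) := by group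
        _ = cj y * y := by rw [hy, hj2, one_mul, mul_one]
    apply hyz
    -- `y` commutes with everything
    have hle : (⊤ : Subgroup Y) ≤ centralizer {y} := by
      intro v _
      rw [mem_centralizer_singleton_iff]
      have hv : π v = 1 ∨ π v = π y ∨ π v = π (cj y) ∨ π v = π (y * cj y) := by
        by_contra! hall
        let f : Fin 5 → Y ⧸ center Y := ![1, π y, π (cj y), π (y * cj y), π v]
        have a1 : π (y * cj y) ≠ 1 := fun e => hk0 (hprod.trans e)
        have a2 : π (y * cj y) ≠ π y := fun e => h13 (hprod.trans e).symm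
        have a3 : π (y * cj y) ≠ π (cj y) := fun e => h23 (hprod.trans e).symm
        have hf : Function.Injective f := by
          intro i j e
          fin_cases i <;> fin_cases j <;> simp [f, map_mul] at e ⊢ <;> simp [map_mul] at a1 a2 a3 hall <;>
            first | exact hy0 e | exact hy0 e.symm | exact hj0 e | exact hj0 e.symm | exact h12 e | exact h12 e.symm | exact a1 e | exact a1 e.symm | exact a2 e | exact a2 e.symm | exact a3 e | exact a3 e.symm | exact hall.1 e | exact hall.1 e.symm | exact hall.2.1 e | exact hall.2.1 e.symm | exact hall.2.2.1 e | exact hall.2.2.1 e.symm | exact hall.2.2.2 e | exact hall.2.2.2 e.symm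
        have := Nat.card_le_card_of_injective f hf
        rw [hq4] at this
        simp at this
      have hrep : ∀ w : Y, π v = π w → Commute w y → v * y = y * v := by
        intro w hw hwy
        have hc : w⁻¹ * v ∈ center Y := QuotientGroup.eq.1 hw.symm
        calc v * y = w * ((w⁻¹ * v) * y) := by group
          _ = w * y * (w⁻¹ * v) := by rw [← mem_center_iff.1 hc y, mul_assoc]
          _ = y * v := by rw [hwy.eq]; group
      rcases hv with e | e | e | e
      · exact hrep 1 (e.trans (map_one π).symm) (Commute.one_left y)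
      · exact hrep y e (Commute.refl y)
      · exact hrep _ e hcomm.symm
      · exact hrep _ e ((Commute.refl y).mul_left hcomm.symm)
    exact mem_center_iff.2 fun g => mem_centralizer_singleton_iff.1 (hle (mem_top g))
  haveI : Nontrivial Y := Finite.one_lt_card_iff_nontrivial.1 (by omega)
  rcases CfsgLib.Core.UniqueOrderP.isCyclic_or_quaternion_of_unique (p := 2) hY (fun A B hA hB => by
    have key : ∀ C : Subgroup Y, Nat.card C = 2 → C = center Y := fun C hC => by
      refine eq_of_le_of_card_ge (fun v hv => hsq1 v ?_) (by rw [hC, hz2])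
      have := pow_card_eq_one' (x := (⟨v, hv⟩ : C))
      rw [hC, pow_two] at this
      exact congrArg Subtype.val this
    rw [key A hA, key B hB]) with hc | ⟨-, n, ⟨e⟩⟩
  · exfalso
    haveI := hc
    exact hab IsCyclic.commutative
  · have h := Nat.card_congr e.toEquiv
    rw [h8, Nat.card_eq_fintype_card, QuaternionGroup.card] at h
    obtain rfl : n = 1 := Nat.pow_right_injective (le_refl 2) (show 2 ^ n = 2 ^ 1 by omega)
    exact ⟨e⟩

end CfsgLib.Pairs.Thin
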