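import Cfsg.Prelude.Def_Solvable
import Cfsg.Agent.Lib.Pairs.CubicMonomial
import Cfsg.Agent.Lib.Pairs.ThinTwoGroups
import Cfsg.Agent.Lib.Core.Cores
import Cfsg.Agent.Lib.Core.Coprime
import Cfsg.Agent.Lib.Core.SolvableStruct

/-!
The core: a normal elementary abelian `2`-subgroup that is not centralised exists.
-/

set_option autoImplicit false
set_option linter.style.haveILetI false
set_option linter.unusedSectionVars false

namespace CfsgLib.Pairs.Cubic

open Subgroup
open scoped commutatorElement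

theorem finrank_span_pair_le {M : Type*} [AddCommGroup M] [Module (ZMod 3) M] (x y : M) :
    Module.finrank (ZMod 3) (Submodule.span (ZMod 3) ({x, y} : Set M)) ≤ 2 := by
  classical
  rw [show ({x, y} : Set M) = (({x, y} : Finset M) : Set M) by simp]
  exact (finrank_span_finset_le_card _).trans Finset.card_le_two

variable {G : Type*} [Group G] [Finite G] {V : Type*} [AddCommGroup V] [Module (ZMod 3) V] [Finite V]
variable {ρ : Representation (ZMod 3) G V} {R Q : Subgroup G} {b : G}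

/-- counting fixed points of a linear map of prime power order -/
theorem fixed_modEq (ρ : Representation (ZMod 3) G V) {g : G} {r : ℕ} [Fact r.Prime] {k : ℕ}
    (hg : g ^ r ^ k = 1) (U : Submodule (ZMod 3) V) (hU : ∀ u ∈ U, ρ g u ∈ U) :
    ∃ i : ℕ, Nat.card {u : U // ρ g u = u} = 3 ^ i ∧ i ≤ Module.finrank (ZMod 3) U ∧
      3 ^ Module.finrank (ZMod 3) U ≡ 3 ^ i [MOD r] := by
  haveI : FiniteDimensional (ZMod 3) V := Module.Finite.of_finite
  obtain ⟨j, -, hj⟩ := (Nat.dvd_prime_pow (Fact.out : r.Prime)).1 (orderOf_dvd_of_pow_eq_one hg)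
  have hP : IsPGroup r (zpowers g) := IsPGroup.of_card (n := j) (by rw [Nat.card_zpowers, hj])
  let St : Subgroup G :=
    { carrier := {x | ∀ v, ρ x v ∈ U ↔ v ∈ U}
      one_mem' := fun v => by rw [rep_one]
      mul_mem' := fun {x y} hx hy v => by rw [← rep_mul]; exact (hx _).trans (hy v)
      inv_mem' := fun {x} hx v => by
        have := hx (ρ x⁻¹ v)
        rw [rep_apply_inv] at this
        exact this.symm }
  have hgSt : g ∈ St := by
    intro v
    refine ⟨fun hv => ?_, hU v⟩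
    let f : U →ₗ[ZMod 3] U := (ρ g).restrict hU
    have hf : Function.Injective f := fun a c e => Subtype.ext (rep_injective ρ g (congrArg Subtype.val e))
    obtain ⟨w, hw⟩ := (LinearMap.injective_iff_surjective.1 hf) ⟨_, hv⟩
    exact rep_injective ρ g (congrArg Subtype.val hw) ▸ w.2
  have hle : zpowers g ≤ St := zpowers_le.2 hgSt
  letI : MulAction (zpowers g) U :=
    { smul := fun x u => ⟨ρ (x : G) u, (hle x.2 _).2 u.2⟩
      one_smul := fun u => Subtype.ext (rep_one ρ (u : V))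
      mul_smul := fun x y u => Subtype.ext (rep_mul ρ (x : G) y (u : V)).symm }
  have hfix : MulAction.fixedPoints (zpowers g) U = {u : U | ρ g u = u} := by
    ext u
    constructor
    · intro h; exact congrArg Subtype.val (h ⟨g, mem_zpowers g⟩)
    · intro h x
      refine Subtype.ext ?_
      show ρ (x : G) u = u
      let Fx : Subgroup G :=
        { carrier := {y | ρ y (u : V) = u}
          one_mem' := rep_one ρ _
          mul_mem' := fun {y z} hy hz => by
            show ρ (y * z) (u : V) = u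
            rw [← rep_mul, show ρ z (u : V) = u from hz]; exact hy
          inv_mem' := fun {y} hy => by
            show ρ y⁻¹ (u : V) = u
            conv_lhs => rw [← show ρ y (u : V) = u from hy]
            rw [rep_inv_apply] }
      exact (zpowers_le.2 (show g ∈ Fx from h)) x.2
  let W : Submodule (ZMod 3) U :=
    { carrier := {u | ρ g u = u}
      add_mem' := fun {a c} ha hc => by
        show ρ g ((a : V) + c) = (a : V) + c
        rw [map_add, show ρ g (a : V) = a from ha, show ρ g (c : V) = c from hc]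
      zero_mem' := map_zero _
      smul_mem' := fun t {a} ha => by
        show ρ g (t • (a : V)) = t • (a : V)
        rw [map_smul, show ρ g (a : V) = a from ha] }
  refine ⟨Module.finrank (ZMod 3) W, ?_, Submodule.finrank_le W, ?_⟩
  · show Nat.card W = _
    rw [Module.natCard_eq_pow_finrank (K := ZMod 3), Nat.card_zmod]
  · have h := hP.card_modEq_card_fixedPoints U
    rw [hfix] at h
    have e1 : Nat.card U = 3 ^ Module.finrank (ZMod 3) U := by
      rw [Module.natCard_eq_pow_finrank (K := ZMod 3), Nat.card_zmod]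
    have e2 : Nat.card {u : U | ρ g u = u} = 3 ^ Module.finrank (ZMod 3) W := by
      show Nat.card W = _
      rw [Module.natCard_eq_pow_finrank (K := ZMod 3), Nat.card_zmod]
    rwa [e1, e2] at h

theorem fixes_small (ρ : Representation (ZMod 3) G V) {g : G} {r : ℕ} (hr : r.Prime) (hr5 : 5 ≤ r) {k : ℕ}
    (hg : g ^ r ^ k = 1) (U : Submodule (ZMod 3) V) (hU : ∀ u ∈ U, ρ g u ∈ U)
    (hdim : Module.finrank (ZMod 3) U ≤ 2) : ∀ u ∈ U, ρ g u = u := by
  haveI := Fact.mk hr
  haveI : FiniteDimensional (ZMod 3) V := Module.Finite.of_finite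
  obtain ⟨i, hcard, hi, hmod⟩ := fixed_modEq ρ hg U hU
  generalize hd : Module.finrank (ZMod 3) U = n at hi hmod hdim
  have hin : i = n := by
    by_contra hne
    have hdvd : r ∣ 3 ^ n - 3 ^ i := (Nat.modEq_iff_dvd' (Nat.pow_le_pow_right (by norm_num) hi)).1 hmod.symm
    have h4 : ∀ m, r ∣ m → (m = 2 ∨ m = 6 ∨ m = 8) → False := by
      intro m hm hcase
      have := Nat.le_of_dvd (by omega) hm
      rcases hcase with rfl | rfl | rfl
      · omega
      · rcases (show r = 5 ∨ r = 6 by omega) with rfl | rfl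
        · norm_num at hm
        · norm_num at hr
      · rcases (show r = 5 ∨ r = 6 ∨ r = 7 ∨ r = 8 by omega) with rfl | rfl | rfl | rfl
        · norm_num at hm
        · norm_num at hr
        · norm_num at hm
        · norm_num at hr
    refine h4 _ hdvd ?_
    interval_cases n <;> interval_cases i <;> simp_all
  intro u hu
  have htop : ∀ w : U, ρ g w = w := by
    intro w
    by_contra hw
    have hlt : Nat.card {u : U // ρ g u = u} < Nat.card U := Finite.card_subtype_lt (x := w) hw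
    rw [hcard, Module.natCard_eq_pow_finrank (K := ZMod 3) (V := U), Nat.card_zmod, hin, hd] at hlt
    exact lt_irrefl _ hlt
  exact htop ⟨u, hu⟩

/-- a central element is a sign -/
theorem central_scalar (h : Setting ρ R Q b) {z : G} (hz : ∀ g, g * z = z * g) :
    ρ z = 1 ∨ ρ z = -1 := by
  obtain ⟨-, -, q₁, w₁, w₂, w₃, -, -, hw1, -, -, -, hsign, -, -, -, hline, -, -⟩ :=
    four_frame ρ h.faith h.Q4 h.Q2 h.bQ h.b3 h.rank h.nc
  obtain ⟨c, hc⟩ := hline (ρ z w₁) fun q hq => by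
    rcases hsign q hq with e | e
    · refine ⟨1, by rw [e, one_smul], ?_⟩
      rw [rep_mul, hz q, ← rep_mul, e, one_smul]
    · refine ⟨-1, by rw [e, neg_smul, one_smul], ?_⟩
      rw [rep_mul, hz q, ← rep_mul, e, map_neg, neg_smul, one_smul]
  let N : Submodule (ZMod 3) V := LinearMap.ker (ρ z - c • 1)
  have hN : N = ⊤ := by
    refine (h.irr N fun g v hv => ?_).resolve_left fun e => hw1 ?_
    · rw [LinearMap.mem_ker, LinearMap.sub_apply, sub_eq_zero, LinearMap.smul_apply, Module.End.one_apply] at hv ⊢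
      rw [rep_mul, ← hz g, ← rep_mul, hv, map_smul]
    · refine (Submodule.mem_bot (ZMod 3)).1 (e ▸ ?_)
      rw [LinearMap.mem_ker, LinearMap.sub_apply, sub_eq_zero, LinearMap.smul_apply, Module.End.one_apply]
      exact hc
  have he : ρ z = c • 1 := sub_eq_zero.1 (LinearMap.ker_eq_top.1 hN)
  have hc0 : c ≠ 0 := fun e => hw1 (rep_injective ρ z (by rw [he, e, zero_smul, LinearMap.zero_apply]; simp))
  rcases (show ∀ y : ZMod 3, y ≠ 0 → y = 1 ∨ y = -1 by decide) c hc0 with rfl | rfl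
  · exact Or.inl (by rw [he, one_smul])
  · exact Or.inr (by rw [he, neg_smul, one_smul])

theorem central_sq (h : Setting ρ R Q b) {z : G} (hz : ∀ g, g * z = z * g) : z * z = 1 := by
  refine h.faith ?_
  rw [map_mul, map_one]
  rcases central_scalar h hz with e | e <;> rw [e]
  · exact one_mul _
  · rw [neg_mul, one_mul, neg_neg]

theorem central_eq (h : Setting ρ R Q b) {z z' : G} (hz : ∀ g, g * z = z * g) (hz' : ∀ g, g * z' = z' * g)
    (h1 : z ≠ 1) (h2 : z' ≠ 1) : z = z' := by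
  have hne : ∀ {y : G}, y ≠ 1 → (∀ g, g * y = y * g) → ρ y = -1 := fun hy hc =>
    (central_scalar h hc).resolve_left fun e => hy (h.faith (e.trans (map_one ρ).symm))
  exact h.faith ((hne h1 hz).trans (hne h2 hz').symm)

/-- abelian normal subgroups of odd prime power order are trivial -/
theorem odd_abelian_trivial (h : Setting ρ R Q b) {r : ℕ} (hr : r.Prime) (hr5 : 5 ≤ r) (A : Subgroup G) [A.Normal]
    (hA : IsPGroup r A) (hAc : ∀ a ∈ A, ∀ c ∈ A, a * c = c * a) : A = ⊥ := by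
  haveI : FiniteDimensional (ZMod 3) V := Module.Finite.of_finite
  haveI := Fact.mk hr
  obtain ⟨hfpf, hfixb, q₁, w₁, w₂, w₃, hq₁, hq₁1, hw1, hw2, hw3, hw31, hsign, e11, e12, e13, hline, hrange, heig⟩ :=
    four_frame ρ h.faith h.Q4 h.Q2 h.bQ h.b3 h.rank h.nc
  have hord : ∀ a ∈ A, ∃ k, a ^ r ^ k = 1 := fun a ha => by
    obtain ⟨k, hk⟩ := hA ⟨a, ha⟩
    exact ⟨k, congrArg Subtype.val hk⟩
  have hodd : Odd r := hr.odd_of_ne_two (by omega)
  have hQc : ∀ p ∈ Q, ∀ q ∈ Q, p * q = q * p := fun p hp q hq => by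
    have h1 := h.Q2 _ (mul_mem hp hq)
    calc p * q = p * (p * q * (p * q)) * q := by rw [h1, mul_one]
      _ = (p * p) * q * p * (q * q) := by group
      _ = q * p := by rw [h.Q2 p hp, h.Q2 q hq, one_mul, mul_one]
  -- generated by `q₁` and its conjugate
  obtain ⟨q₂, hq₂def⟩ : ∃ q₂, q₂ = b * q₁ * b⁻¹ := ⟨_, rfl⟩
  have hq₂ : q₂ ∈ Q := hq₂def ▸ (mem_normalizer_iff.1 h.bQ q₁).1 hq₁
  have hq12 : q₁ ≠ q₂ := fun e => hq₁1 (hfpf q₁ hq₁ (hq₂def ▸ e.symm))
  have hq₂1 : q₂ ≠ 1 := fun e => hq₁1 (conj_eq_one_iff.1 (hq₂def ▸ e))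
  have hQall : ∀ q ∈ Q, q = 1 ∨ q = q₁ ∨ q = q₂ ∨ q = q₁ * q₂ := by
    intro q hq
    by_contra! hq'
    let f : Fin 5 → Q := ![1, ⟨q₁, hq₁⟩, ⟨q₂, hq₂⟩, ⟨q₁ * q₂, mul_mem hq₁ hq₂⟩, ⟨q, hq⟩]
    have a0 : q₁ * q₂ ≠ 1 := fun e => hq12 (by
      rw [eq_inv_of_mul_eq_one_left e, inv_eq_of_mul_eq_one_right (h.Q2 q₂ hq₂)])
    have a1 : q₁ * q₂ ≠ q₁ := fun e => hq₂1 (mul_eq_left.1 e)
    have a2 : q₁ * q₂ ≠ q₂ := fun e => hq₁1 (mul_eq_right.1 e)
    have hf : Function.Injective f := by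
      intro i j e
      fin_cases i <;> fin_cases j <;> simp [f, Subtype.ext_iff] at e ⊢ <;>
        first | exact hq₁1 e | exact hq₁1 e.symm | exact hq₂1 e | exact hq₂1 e.symm | exact hq12 e | exact hq12 e.symm | exact a0 e | exact a0 e.symm | exact a1 e | exact a1 e.symm | exact a2 e | exact a2 e.symm | exact hq'.1 e | exact hq'.1 e.symm | exact hq'.2.1 e | exact hq'.2.1 e.symm | exact hq'.2.2.1 e | exact hq'.2.2.1 e.symm | exact hq'.2.2.2 e | exact hq'.2.2.2 e.symm
    have := Nat.card_le_card_of_injective f hf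
    rw [h.Q4] at this
    simp at this
  have hgenQ : ∀ a : G, a * q₁ = q₁ * a → a * q₂ = q₂ * a → ∀ q ∈ Q, a * q = q * a := by
    intro a h1 h2 q hq
    rcases hQall q hq with rfl | rfl | rfl | rfl
    · rw [mul_one, one_mul]
    · exact h1
    · exact h2
    · exact (show Commute a (q₁ * q₂) from Commute.mul_right h1 h2).eq
  have hAn : ∀ g : G, ∀ a ∈ A, g * a * g⁻¹ ∈ A := fun g a ha => Normal.conj_mem inferInstance a ha g
  -- the elements centralising `q₁` centralise `Q`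
  have hstep : ∀ t ∈ A, t * q₁ = q₁ * t → ∀ q ∈ Q, t * q = q * t := by
    intro t ht htq
    have htc : ∀ u : G, u * q₁ = q₁ * u → u ∈ A → ∀ v, ρ q₁ v = -v → ρ u v = v := by
      intro u huq hu
      let U : Submodule (ZMod 3) V := LinearMap.ker (ρ q₁ + 1)
      have hmemU : ∀ v, v ∈ U ↔ ρ q₁ v = -v := fun v => by
        rw [LinearMap.mem_ker, LinearMap.add_apply, Module.End.one_apply, ← eq_neg_iff_add_eq_zero]
      obtain ⟨k, hk⟩ := hord u hu
      have hdim : Module.finrank (ZMod 3) U ≤ 2 := by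
        have hle : U ≤ Submodule.span (ZMod 3) {w₂, w₃} := fun v hv => by
          obtain ⟨c, d, rfl⟩ := heig v ((hmemU v).1 hv)
          exact Submodule.mem_span_pair.2 ⟨c, d, rfl⟩
        exact (Submodule.finrank_mono hle).trans (finrank_span_pair_le _ _)
      have := fixes_small ρ hr hr5 hk U (fun v hv => by
        rw [hmemU] at hv ⊢
        rw [rep_mul, ← huq, ← rep_mul, hv, map_neg]) hdim
      exact fun v hv => this v ((hmemU v).2 hv)
    -- an element moving `w₁`'s sign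
    obtain ⟨p, hp, hpw⟩ : ∃ p ∈ Q, ρ p w₁ = -w₁ := by
      refine ⟨q₂, hq₂, (hsign q₂ hq₂).resolve_left fun e => hw1 ?_⟩
      -- otherwise `w₁` would be fixed by `b`
      have hall : ∀ q ∈ Q, ρ q w₁ = w₁ := by
        intro q hq
        rcases hQall q hq with rfl | rfl | rfl | rfl
        · exact rep_one ρ _
        · exact e11
        · exact e
        · rw [← rep_mul, e, e11]
      have hb1 : w₂ = w₁ := hw2.trans (hfixb w₁ hall)
      rw [hb1, e11] at e12
      have : (2 : ZMod 3) • w₁ = 0 := by rw [two_smul]; exact add_eq_zero_iff_eq_neg.2 e12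
      exact (smul_eq_zero.1 this).resolve_left (by decide)
    obtain ⟨u, hu_def⟩ : ∃ u, u = t * p * t⁻¹ * p⁻¹ := ⟨_, rfl⟩
    have huA : u ∈ A := by
      rw [hu_def, show t * p * t⁻¹ * p⁻¹ = t * (p * t⁻¹ * p⁻¹) by group]
      exact mul_mem ht (hAn p _ (inv_mem ht))
    have huq : u * q₁ = q₁ * u := by
      have c1 : Commute q₁ t := htq.symm
      have c2 : Commute q₁ p := hQc q₁ hq₁ p hp
      rw [hu_def]
      exact (((c1.mul_right c2).mul_right c1.inv_right).mul_right c2.inv_right).symm.eq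
    -- displacements of `p` on the positive part lie on the line
    have hplus : ∀ v, ρ q₁ v = v → ∃ c : ZMod 3, ρ p v - v = c • w₁ := by
      intro v hv
      refine hline _ fun q hq => ?_
      have hv2 : ρ q₁ (ρ p v - v) = ρ p v - v := by
        rw [map_sub, rep_mul, hQc q₁ hq₁ p hp, ← rep_mul, hv]
      have hvp : ρ p (ρ p v - v) = -(ρ p v - v) := by
        rw [map_sub, rep_mul, h.Q2 p hp, rep_one, neg_sub]
      have hpall : q = 1 ∨ q = q₁ ∨ q = p ∨ q = q₁ * p := by
        have hp' : p = q₂ ∨ p = q₁ * q₂ := by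
          rcases hQall p hp with e | e | e | e
          · exfalso
            rw [e, rep_one] at hpw
            have : (2 : ZMod 3) • w₁ = 0 := by rw [two_smul]; exact add_eq_zero_iff_eq_neg.2 hpw
            exact hw1 ((smul_eq_zero.1 this).resolve_left (by decide))
          · exfalso
            rw [e, e11] at hpw
            have : (2 : ZMod 3) • w₁ = 0 := by rw [two_smul]; exact add_eq_zero_iff_eq_neg.2 hpw
            exact hw1 ((smul_eq_zero.1 this).resolve_left (by decide))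
          · exact Or.inl e
          · exact Or.inr e
        rcases hp' with rfl | rfl
        · exact hQall q hq
        · rcases hQall q hq with e | e | e | e
          · exact Or.inl e
          · exact Or.inr (Or.inl e)
          · exact Or.inr (Or.inr (Or.inr (by rw [e, ← mul_assoc, h.Q2 q₁ hq₁, one_mul])))
          · exact Or.inr (Or.inr (Or.inl e))
      rcases hpall with rfl | rfl | rfl | rfl
      · exact ⟨1, by rw [rep_one, one_smul], by rw [rep_one, one_smul]⟩
      · exact ⟨1, by rw [e11, one_smul], by rw [hv2, one_smul]⟩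
      · exact ⟨-1, by rw [hpw, neg_smul, one_smul], by rw [hvp, neg_smul, one_smul]⟩
      · exact ⟨-1, by rw [← rep_mul, hpw, map_neg, e11, neg_smul, one_smul],
          by rw [← rep_mul, hvp, map_neg, hv2, neg_smul, one_smul]⟩
    let U : Submodule (ZMod 3) V := Submodule.span (ZMod 3) {w₁, ρ t w₁}
    have htp : ∀ x : V, ρ q₁ x = x → ρ q₁ (ρ t⁻¹ x) = ρ t⁻¹ x := fun x hx => by
      have c1 : Commute q₁ t⁻¹ := (show Commute q₁ t from htq.symm).inv_right
      rw [rep_mul, c1.eq, ← rep_mul, hx]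
    -- the displacement of `u` lies in `U`
    have hdis : ∀ v, ρ u v - v ∈ U := by
      have hplus' : ∀ v, ρ q₁ v = v → ρ u v - v ∈ U := by
        intro v hv
        have hpv : ρ q₁ (ρ p v) = ρ p v := by rw [rep_mul, hQc q₁ hq₁ p hp, ← rep_mul, hv]
        obtain ⟨c, hc⟩ := hplus v hv
        obtain ⟨d, hd⟩ := hplus (ρ t⁻¹ (ρ p v)) (htp _ hpv)
        have hu' : ρ u v = ρ t (ρ p (ρ t⁻¹ (ρ p v))) := by
          rw [hu_def, inv_eq_of_mul_eq_one_right (h.Q2 p hp)]
          simp only [rep_mul, mul_assoc]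
        have e1 : ρ p (ρ t⁻¹ (ρ p v)) = ρ t⁻¹ (ρ p v) + d • w₁ := by rw [← hd, add_sub_cancel]
        rw [hu', e1, map_add, rep_apply_inv, map_smul, show ρ p v + d • ρ t w₁ - v = d • ρ t w₁ + (ρ p v - v) by abel,
          hc]
        exact add_mem (Submodule.smul_mem _ _ (Submodule.subset_span (by simp)))
          (Submodule.smul_mem _ _ (Submodule.subset_span (by simp)))
      intro v
      have h1 : ρ q₁ (v + ρ q₁ v) = v + ρ q₁ v := by rw [map_add, rep_mul, h.Q2 q₁ hq₁, rep_one, add_comm]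
      have h2 : ρ q₁ (v - ρ q₁ v) = -(v - ρ q₁ v) := by rw [map_sub, rep_mul, h.Q2 q₁ hq₁, rep_one, neg_sub]
      have h3 := hplus' _ h1
      have h4 := htc u huq huA _ h2
      have hsum : ρ u v - v = -((ρ u (v + ρ q₁ v) - (v + ρ q₁ v)) + (ρ u (v - ρ q₁ v) - (v - ρ q₁ v))) := by
        have h3' : ∀ y : V, y = -(y + y) := fun y => by
          rw [eq_neg_iff_add_eq_zero, ← two_smul (ZMod 3) y]
          nth_rw 1 [← one_smul (ZMod 3) y]
          rw [← add_smul, show (1 : ZMod 3) + 2 = 0 by decide, zero_smul]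
        rw [map_add, map_sub]
        conv_lhs => rw [h3' (ρ u v - v)]
        congr 1
        abel
      rw [hsum, h4, sub_self, add_zero]
      exact neg_mem h3
    obtain ⟨k, hk⟩ := hord u huA
    have hUfix : ∀ x ∈ U, ρ u x = x := by
      refine fixes_small ρ hr hr5 hk U (fun x hx => ?_) ?_
      · have h' := hdis x
        have := add_mem h' hx
        rwa [sub_add_cancel] at this
      · exact finrank_span_pair_le _ _
    have hu1 : u = 1 := by
      refine h.faith ?_
      rw [map_one]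
      refine LinearMap.ext fun v => ?_
      have hiter : ∀ n : ℕ, ρ (u ^ n) v = v + (n : ZMod 3) • (ρ u v - v) := by
        intro n
        induction n with
        | zero => rw [pow_zero, rep_one, Nat.cast_zero, zero_smul, add_zero]
        | succ n ih =>
          rw [pow_succ', ← rep_mul, ih, map_add, map_smul, hUfix _ (hdis v), Nat.cast_succ, add_smul, one_smul]
          abel
      have h0 := hiter (r ^ k)
      rw [hk, rep_one, left_eq_add] at h0
      have hne : ((r ^ k : ℕ) : ZMod 3) ≠ 0 := by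
        rw [Ne, ZMod.natCast_eq_zero_iff]
        intro h3
        have := (Nat.prime_dvd_prime_iff_eq Nat.prime_three hr).1 (Nat.prime_three.dvd_of_dvd_pow h3)
        omega
      exact sub_eq_zero.1 ((smul_eq_zero.1 h0).resolve_left hne)
    rw [hu_def, mul_inv_eq_one, mul_inv_eq_iff_eq_mul] at hu1
    intro q hq
    refine hgenQ t htq ?_ q hq
    rcases hQall p hp with e | e | e | e
    · exfalso
      rw [e, rep_one] at hpw
      have : (2 : ZMod 3) • w₁ = 0 := by rw [two_smul]; exact add_eq_zero_iff_eq_neg.2 hpw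
      exact hw1 ((smul_eq_zero.1 this).resolve_left (by decide))
    · exfalso
      rw [e, e11] at hpw
      have : (2 : ZMod 3) • w₁ = 0 := by rw [two_smul]; exact add_eq_zero_iff_eq_neg.2 hpw
      exact hw1 ((smul_eq_zero.1 this).resolve_left (by decide))
    · rw [← e]; exact hu1
    · have e2 : q₂ = q₁ * p := by rw [e, ← mul_assoc, h.Q2 q₁ hq₁, one_mul]
      rw [e2]
      exact (show Commute t (q₁ * p) from Commute.mul_right htq hu1).eq
  -- conjugates
  have hstep' : ∀ t ∈ A, ∀ p ∈ Q, p ≠ 1 → t * p = p * t → ∀ q ∈ Q, t * q = q * t := by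
    have hconj : ∀ t ∈ A, ∀ p ∈ Q, t * (b * p * b⁻¹) = b * p * b⁻¹ * t →
        (∀ s ∈ A, s * p = p * s → ∀ q ∈ Q, s * q = q * s) → ∀ q ∈ Q, t * q = q * t := by
      intro t ht p hp htp hs q hq
      have hs' := hs (b⁻¹ * t * b) (by simpa using hAn b⁻¹ t ht) (by
        calc b⁻¹ * t * b * p = b⁻¹ * (t * (b * p * b⁻¹)) * b := by group
          _ = b⁻¹ * (b * p * b⁻¹ * t) * b := by rw [htp]
          _ = p * (b⁻¹ * t * b) := by group) (b⁻¹ * q * b) (by
            simpa using (mem_normalizer_iff.1 (inv_mem h.bQ) q).1 hq)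
      calc t * q = b * ((b⁻¹ * t * b) * (b⁻¹ * q * b)) * b⁻¹ := by group
        _ = b * ((b⁻¹ * q * b) * (b⁻¹ * t * b)) * b⁻¹ := by rw [hs']
        _ = q * t := by group
    intro t ht p hp hp1 htp
    have h1 := hstep
    have h2 : ∀ s ∈ A, s * q₂ = q₂ * s → ∀ q ∈ Q, s * q = q * s := fun s hs e =>
      hconj s hs q₁ hq₁ (hq₂def ▸ e) h1
    have h3q : b * q₂ * b⁻¹ = q₁ * q₂ := by
      have hmem : b * q₂ * b⁻¹ ∈ Q := (mem_normalizer_iff.1 h.bQ q₂).1 hq₂
      rcases hQall _ hmem with e | e | e | e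
      · exact absurd (conj_eq_one_iff.1 e) hq₂1
      · exfalso
        have e4 : b * (b * q₁ * b⁻¹) * b⁻¹ = q₁ := hq₂def ▸ e
        refine hq12 ?_
        have h33 := h.b3
        rw [pow_succ, pow_two] at h33
        have e5 : b * (b * (b * q₁ * b⁻¹) * b⁻¹) * b⁻¹ = q₁ := by
          calc b * (b * (b * q₁ * b⁻¹) * b⁻¹) * b⁻¹ = (b * b * b) * q₁ * (b * b * b)⁻¹ := by group
            _ = q₁ := by rw [h33, inv_one, mul_one, one_mul]
        rw [e4] at e5
        exact hq₂def ▸ e5.symm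
      · exact absurd (hfpf q₂ hq₂ e) hq₂1
      · exact e
    have h3 : ∀ s ∈ A, s * (q₁ * q₂) = q₁ * q₂ * s → ∀ q ∈ Q, s * q = q * s := fun s hs e =>
      hconj s hs q₂ hq₂ (h3q.symm ▸ e) h2
    rcases hQall p hp with rfl | rfl | rfl | rfl
    exacts [absurd rfl hp1, h1 t ht htp, h2 t ht htp, h3 t ht htp]
  obtain ⟨q₃, hq₃def⟩ : ∃ q₃, q₃ = q₁ * q₂ := ⟨_, rfl⟩
  have hq₃ : q₃ ∈ Q := hq₃def ▸ mul_mem hq₁ hq₂
  have hq₃1 : q₃ ≠ 1 := fun e => hq12 (by
    rw [eq_inv_of_mul_eq_one_left (show q₁ * q₂ = 1 from hq₃def.symm.trans e), inv_eq_of_mul_eq_one_right (h.Q2 q₂ hq₂)])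
  have hAc' : ∀ a ∈ A, ∀ c ∈ A, Commute a c := hAc
  -- the whole of `A` centralises `Q`
  have hAQ : ∀ t ∈ A, ∀ q ∈ Q, t * q = q * t := by
    intro t ht q hq
    have hx : ∀ p ∈ Q, p ≠ 1 → Commute (t * (p * t * p⁻¹)) q := fun p hp hp1 =>
      hstep' _ (mul_mem ht (hAn p t ht)) p hp hp1 (by
        have hc : Commute (p * t * p⁻¹) t := hAc _ (hAn p t ht) t ht
        have e0 : p * (t * (p * t * p⁻¹)) = p * ((p * t * p⁻¹) * t) := by rw [hc.eq]
        calc t * (p * t * p⁻¹) * p = t * p * t := by group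
          _ = (p * p) * t * p⁻¹ * t := by rw [h.Q2 p hp, one_mul, inv_eq_of_mul_eq_one_right (h.Q2 p hp)]
          _ = p * ((p * t * p⁻¹) * t) := by group
          _ = p * (t * (p * t * p⁻¹)) := e0.symm) q hq
    obtain ⟨c₁, hc₁⟩ : ∃ c, c = q₁ * t * q₁⁻¹ := ⟨_, rfl⟩
    obtain ⟨c₂, hc₂⟩ : ∃ c, c = q₂ * t * q₂⁻¹ := ⟨_, rfl⟩
    obtain ⟨c₃, hc₃⟩ : ∃ c, c = q₃ * t * q₃⁻¹ := ⟨_, rfl⟩
    have m₁ : c₁ ∈ A := hc₁ ▸ hAn q₁ t ht
    have m₂ : c₂ ∈ A := hc₂ ▸ hAn q₂ t ht
    have m₃ : c₃ ∈ A := hc₃ ▸ hAn q₃ t ht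
    -- the product of all conjugates
    have hy : Commute (t * c₁ * c₂ * c₃) q := by
      refine hgenQ _ ?_ ?_ q hq
      · have hq' : q₁ * q₂ = q₃ := hq₃def.symm
        have hq'' : q₁ * q₃ = q₂ := by rw [hq₃def, ← mul_assoc, h.Q2 q₁ hq₁, one_mul]
        refine (mul_inv_eq_iff_eq_mul.1 ?_).symm
        calc q₁ * (t * c₁ * c₂ * c₃) * q₁⁻¹
            = (q₁ * t * q₁⁻¹) * (q₁ * q₁ * t * (q₁ * q₁)⁻¹) * (q₁ * q₂ * t * (q₁ * q₂)⁻¹) *
              (q₁ * q₃ * t * (q₁ * q₃)⁻¹) := by rw [hc₁, hc₂, hc₃]; group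
          _ = c₁ * t * c₃ * c₂ := by rw [h.Q2 q₁ hq₁, hq', hq'', ← hc₁, ← hc₂, ← hc₃, one_mul, inv_one, mul_one]
          _ = t * c₁ * c₂ * c₃ := by
            rw [hAc c₁ m₁ t ht, mul_assoc (t * c₁), hAc c₃ m₃ c₂ m₂, ← mul_assoc]
      · have hq' : q₂ * q₁ = q₃ := by rw [hQc q₂ hq₂ q₁ hq₁]; exact hq₃def.symm
        have hq'' : q₂ * q₃ = q₁ := by
          rw [hq₃def, hQc q₁ hq₁ q₂ hq₂, ← mul_assoc, h.Q2 q₂ hq₂, one_mul]
        refine (mul_inv_eq_iff_eq_mul.1 ?_).symm
        calc q₂ * (t * c₁ * c₂ * c₃) * q₂⁻¹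
            = (q₂ * t * q₂⁻¹) * (q₂ * q₁ * t * (q₂ * q₁)⁻¹) * (q₂ * q₂ * t * (q₂ * q₂)⁻¹) *
              (q₂ * q₃ * t * (q₂ * q₃)⁻¹) := by rw [hc₁, hc₂, hc₃]; group
          _ = c₂ * c₃ * t * c₁ := by rw [h.Q2 q₂ hq₂, hq', hq'', ← hc₁, ← hc₂, ← hc₃, one_mul, inv_one, mul_one]
          _ = t * c₁ * c₂ * c₃ := by
            rw [mul_assoc (c₂ * c₃), hAc (c₂ * c₃) (mul_mem m₂ m₃) (t * c₁) (mul_mem ht m₁), ← mul_assoc]
    have hx₁ := hx q₁ hq₁ hq₁1
    have hx₂ := hx q₂ hq₂ hq₂1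
    have hx₃ := hx q₃ hq₃ hq₃1
    rw [← hc₁] at hx₁
    rw [← hc₂] at hx₂
    rw [← hc₃] at hx₃
    have h2 : t * c₁ * (t * c₂) * (t * c₃) = t * t * (t * c₁ * c₂ * c₃) := by
      calc t * c₁ * (t * c₂) * (t * c₃) = t * (c₁ * t) * c₂ * (t * c₃) := by group
        _ = t * (t * c₁) * c₂ * (t * c₃) := by rw [hAc c₁ m₁ t ht]
        _ = t * ((t * c₁ * c₂) * t) * c₃ := by group
        _ = t * (t * (t * c₁ * c₂)) * c₃ := by
          rw [hAc (t * c₁ * c₂) (mul_mem (mul_mem ht m₁) m₂) t ht]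
        _ = t * t * (t * c₁ * c₂ * c₃) := by group
    have h3 : Commute (t * t) q := by
      have h4 := (((hx₁.mul_left hx₂).mul_left hx₃))
      rw [h2] at h4
      have h5 := h4.mul_left hy.inv_left
      rwa [mul_inv_cancel_right] at h5
    obtain ⟨k, hk⟩ := hord t ht
    obtain ⟨m, hm⟩ := hodd.pow (n := k)
    have h6 := (h3.pow_left (m + 1)).eq
    rwa [show (t * t) ^ (m + 1) = t by rw [← pow_two, ← pow_mul, show 2 * (m + 1) = r ^ k + 1 by omega, pow_succ, hk,
      one_mul]] at h6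
  -- hence it fixes the three lines and commutes with `b`
  have hAw : ∀ t ∈ A, ρ t w₁ = w₁ := by
    intro t ht
    obtain ⟨c, hc⟩ := hline (ρ t w₁) fun q hq => by
      rcases hsign q hq with e | e
      · exact ⟨1, by rw [e, one_smul], by rw [rep_mul, ← hAQ t ht q hq, ← rep_mul, e, one_smul]⟩
      · exact ⟨-1, by rw [e, neg_smul, one_smul],
          by rw [rep_mul, ← hAQ t ht q hq, ← rep_mul, e, map_neg, neg_smul, one_smul]⟩
    have hc0 : c ≠ 0 := fun e => hw1 (rep_injective ρ t (by rw [hc, e, zero_smul, map_zero]))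
    rcases (show ∀ y : ZMod 3, y ≠ 0 → y = 1 ∨ y = -1 by decide) c hc0 with rfl | rfl
    · rw [hc, one_smul]
    exfalso
    have hn : ∀ n : ℕ, ρ (t ^ n) w₁ = ((-1 : ZMod 3) ^ n) • w₁ := by
      intro n
      induction n with
      | zero => rw [pow_zero, rep_one, pow_zero, one_smul]
      | succ n ih => rw [pow_succ', ← rep_mul, ih, map_smul, hc, smul_smul, ← pow_succ]
    obtain ⟨k, hk⟩ := hord t ht
    have := hn (r ^ k)
    rw [hk, rep_one, (hodd.pow (n := k)).neg_one_pow] at this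
    have h2 : (2 : ZMod 3) • w₁ = 0 := by
      rw [two_smul]
      conv_lhs => arg 1; rw [this, neg_smul, one_smul]
      exact neg_add_cancel _
    exact hw1 ((smul_eq_zero.1 h2).resolve_left (by decide))
  have hAw2 : ∀ t ∈ A, ρ t w₂ = w₂ := fun t ht => by
    have h1 := hAw (b⁻¹ * t * b) (by simpa using hAn b⁻¹ t ht)
    rw [hw2]
    conv_rhs => rw [← h1, rep_mul, show b * (b⁻¹ * t * b) = t * b by group, ← rep_mul]
  have hAw3 : ∀ t ∈ A, ρ t w₃ = w₃ := fun t ht => by
    have h1 := hAw2 (b⁻¹ * t * b) (by simpa using hAn b⁻¹ t ht)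
    rw [hw3]
    conv_rhs => rw [← h1, rep_mul, show b * (b⁻¹ * t * b) = t * b by group, ← rep_mul]
  have hneg1 : ∀ t ∈ A, ∀ v, ρ q₁ v = -v → ρ t v = v := by
    intro t ht v hv
    obtain ⟨c, d, rfl⟩ := heig v hv
    rw [map_add, map_smul, map_smul, hAw2 t ht, hAw3 t ht]
  have hnegconj : ∀ q ∈ Q, (∀ t ∈ A, ∀ v, ρ q v = -v → ρ t v = v) →
      ∀ t ∈ A, ∀ v, ρ (b * q * b⁻¹) v = -v → ρ t v = v := by
    intro q _ hq' t ht v hv
    have h1 := hq' (b⁻¹ * t * b) (by simpa using hAn b⁻¹ t ht) (ρ b⁻¹ v) (by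
      rw [rep_mul, show q * b⁻¹ = b⁻¹ * (b * q * b⁻¹) by group, ← rep_mul, hv, map_neg])
    conv_rhs => rw [← rep_apply_inv ρ b v, ← h1, rep_mul, rep_mul, show b * (b⁻¹ * t * b) * b⁻¹ = t by group]
  have hneg2 : ∀ t ∈ A, ∀ v, ρ q₂ v = -v → ρ t v = v := hq₂def ▸ hnegconj q₁ hq₁ hneg1
  have hbq2 : b * q₂ * b⁻¹ = q₃ := by
    rcases hQall _ ((mem_normalizer_iff.1 h.bQ q₂).1 hq₂) with e | e | e | e
    · exact absurd (conj_eq_one_iff.1 e) hq₂1
    · exfalso
      refine hq12 ?_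
      have h33 := h.b3
      rw [pow_succ, pow_two] at h33
      calc q₁ = (b * b * b) * q₁ * (b * b * b)⁻¹ := by rw [h33, inv_one, mul_one, one_mul]
        _ = b * (b * (b * q₁ * b⁻¹) * b⁻¹) * b⁻¹ := by group
        _ = b * (b * q₂ * b⁻¹) * b⁻¹ := by rw [← hq₂def]
        _ = b * q₁ * b⁻¹ := by rw [e]
        _ = q₂ := hq₂def.symm
    · exact absurd (hfpf q₂ hq₂ e) hq₂1
    · exact e.trans hq₃def.symm
  have hneg3 : ∀ t ∈ A, ∀ v, ρ q₃ v = -v → ρ t v = v := hbq2 ▸ hnegconj q₂ hq₂ hneg2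
  have hAb : ∀ t ∈ A, b * t = t * b := by
    intro t ht
    refine h.faith (LinearMap.ext fun v => ?_)
    have hd : ρ b (ρ t v - v) = ρ t v - v := hfixb _ fun q hq => by
      have hn : ρ q (ρ q v - v) = -(ρ q v - v) := by rw [map_sub, rep_mul, h.Q2 q hq, rep_one, neg_sub]
      have hfix : ρ t (ρ q v - v) = ρ q v - v := by
        rcases hQall q hq with rfl | rfl | rfl | rfl
        · rw [rep_one, sub_self, map_zero]
        · exact hneg1 t ht _ hn
        · exact hneg2 t ht _ hn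
        · rw [← hq₃def] at hn ⊢; exact hneg3 t ht _ hn
      rw [map_sub, rep_mul, ← hAQ t ht q hq, ← rep_mul]
      rw [map_sub] at hfix
      linear_combination (norm := abel) hfix
    have hr' : ρ t (ρ b v - v) = ρ b v - v := by
      have hmem : ρ b v - v ∈ LinearMap.range (ρ b - 1) := ⟨v, rfl⟩
      rw [hrange, Submodule.mem_span_pair] at hmem
      obtain ⟨c, d, e⟩ := hmem
      rw [← e]
      simp only [map_add, map_smul, map_sub, hAw t ht, hAw2 t ht, hAw3 t ht]
    rw [← rep_mul, ← rep_mul]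
    rw [map_sub] at hd hr'
    linear_combination (norm := abel) hd - hr'
  -- so it is central
  have hcen : A ≤ center G := h.central_of_commute hAb
  rw [eq_bot_iff]
  intro t ht
  obtain ⟨k, hk⟩ := hord t ht
  obtain ⟨m, hm⟩ := hodd.pow (n := k)
  have h2 := central_sq h (fun g => mem_center_iff.1 (hcen ht) g)
  rw [mem_bot]
  rw [hm, pow_succ, pow_mul, pow_two, h2, one_pow, one_mul] at hk
  exact hk

end CfsgLib.Pairs.Cubic
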