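import Cfsg.Agent.Lib.Pairs.CubicCore
import Cfsg.Agent.Lib.Components.Char
import Cfsg.Agent.Lib.PGroups.Basic
import Cfsg.Agent.Lib.Pairs.ThinTwoGroups

/-!
A noncentral normal elementary abelian `2`-subgroup exists in the cubic setting.
-/

set_option autoImplicit false
set_option linter.style.haveILetI false
set_option linter.unusedSectionVars false

namespace CfsgLib.Pairs.Cubic

open Subgroup
open scoped commutatorElement

variable {G : Type*} [Group G] [Finite G] {V : Type*} [AddCommGroup V] [Module (ZMod 3) V] [Finite V]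
variable {ρ : Representation (ZMod 3) G V} {R Q : Subgroup G} {b : G}

theorem card_zpowers_b (h : Setting ρ R Q b) : Nat.card (zpowers b) = 3 := by
  have hb1 : b ≠ 1 := fun e => h.bR (e ▸ one_mem R)
  rw [Nat.card_zpowers]
  exact orderOf_eq_prime h.b3 hb1

theorem card_dvd (h : Setting ρ R Q b) : Nat.card G ∣ Nat.card R * 3 := by
  haveI := h.normalR
  have hd := CfsgLib.Core.card_sup_dvd (zpowers b) R le_normalizer_of_normal
  rw [sup_comm, h.supTop, card_top, card_zpowers_b h, mul_comm] at hd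
  exact hd

/-- no nontrivial normal subgroup of odd order -/
theorem odd_normal_trivial (h : Setting ρ R Q b) (N : Subgroup G) [N.Normal] (hN : Odd (Nat.card N)) : N = ⊥ := by
  haveI := h.solvable
  haveI := h.normalR
  have hNR : N ⊓ R = ⊥ := by
    by_contra hne
    set M := N ⊓ R with hM
    haveI : M.Normal := normal_inf_normal N R
    haveI : Nontrivial M := (nontrivial_iff_ne_bot M).2 hne
    obtain ⟨r, hr, hP⟩ : ∃ r : ℕ, r.Prime ∧ Cfsg.pCore r M ≠ ⊥ := by
      by_contra! hall
      have hF : Cfsg.fittingSubgroup M = ⊥ := by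
        rw [CfsgLib.Core.fittingSubgroup_eq_iSup_pCore, iSup_eq_bot]
        exact fun q => hall q q.2
      have hle := CfsgLib.Components.centralizer_fitting_le_of_isSolvable (G := M)
      rw [hF, le_bot_iff, centralizer_eq_top_iff_subset.2 (by simp)] at hle
      exact top_ne_bot hle
    haveI := Fact.mk hr
    set P := Cfsg.pCore r M with hPdef
    haveI : P.Characteristic := CfsgLib.Components.pCore_characteristic r
    have hPp : IsPGroup r P := CfsgLib.Core.isPGroup_pCore r M
    haveI : Nontrivial P := (nontrivial_iff_ne_bot P).2 hP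
    let W : Subgroup P := center P
    haveI : W.Characteristic := inferInstance
    haveI : (W.map P.subtype).Characteristic := by
      rw [characteristic_iff_map_le]
      intro φ
      rintro _ ⟨_, ⟨w, hw, rfl⟩, rfl⟩
      have hwP : φ (w : M) ∈ P := (characteristic_iff_map_le.1 (inferInstanceAs P.Characteristic)) φ ⟨w, w.2, rfl⟩
      refine ⟨⟨φ (w : M), hwP⟩, mem_center_iff.2 fun g => Subtype.ext ?_, rfl⟩
      have hgP : φ.symm (g : M) ∈ P :=
        (characteristic_iff_map_le.1 (inferInstanceAs P.Characteristic)) φ.symm ⟨g, g.2, rfl⟩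
      have e := congrArg φ (congrArg Subtype.val (mem_center_iff.1 hw ⟨_, hgP⟩))
      simpa using e
    let A : Subgroup G := (W.map P.subtype).map M.subtype
    haveI : A.Normal := ConjAct.normal_of_characteristic_of_normal
    have hA : IsPGroup r A := ((hPp.to_subgroup W).map P.subtype).map M.subtype
    have hAc : ∀ a ∈ A, ∀ c ∈ A, a * c = c * a := by
      rintro _ ⟨_, ⟨a, ha, rfl⟩, rfl⟩ _ ⟨_, ⟨c, -, rfl⟩, rfl⟩
      rw [← map_mul, ← map_mul, ← map_mul, ← map_mul]
      exact congrArg (fun x => M.subtype (P.subtype x)) (mem_center_iff.1 ha c).symm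
    have hne' : A ≠ ⊥ := by
      intro e
      have : Nontrivial W := hPp.center_nontrivial
      refine (nontrivial_iff_ne_bot W).1 this ?_
      rw [map_eq_bot_iff_of_injective _ M.subtype_injective, map_eq_bot_iff_of_injective _ P.subtype_injective] at e
      exact e
    have hd : r ∣ Nat.card M := by
      obtain ⟨n, hn⟩ := IsPGroup.iff_card.1 hPp
      refine (dvd_pow_self r fun e => hP (card_eq_one.1 ?_)).trans (hn ▸ P.card_subgroup_dvd_card)
      rw [hn, e, pow_zero]
    have h2 : r ≠ 2 := by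
      rintro rfl
      exact hN.not_two_dvd_nat (hd.trans (card_dvd_of_le inf_le_left))
    have h3 : r ≠ 3 := by
      rintro rfl
      have h' := Nat.Coprime.coprime_dvd_left (hd.trans (card_dvd_of_le inf_le_right)) h.cop
      norm_num at h'
    have h4 : r ≠ 4 := fun e => by subst e; norm_num at hr
    exact hne' (odd_abelian_trivial h hr (by have := hr.two_le; omega) A hA hAc)
  by_contra hne
  -- `N` would be a normal complement
  have hcomm : ∀ n ∈ N, ∀ r ∈ R, n * r = r * n := fun n hn r hr =>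
    (commute_of_normal_of_disjoint N R inferInstance inferInstance (disjoint_iff.2 hNR) n r hn hr).eq
  have hsup : N ⊔ R = ⊤ := by
    have hbig : Nat.card R * 2 ≤ Nat.card ↥(N ⊔ R) := by
      obtain ⟨k, hk⟩ := card_dvd_of_le (le_sup_right : R ≤ N ⊔ R)
      rw [hk]
      refine Nat.mul_le_mul_left _ ?_
      rcases k with _ | _ | k
      · rw [mul_zero] at hk; exact absurd hk Nat.card_pos.ne'
      · exfalso
        simp only [zero_add, mul_one] at hk
        have hle : N ≤ R := le_sup_left.trans (eq_of_le_of_card_ge le_sup_right hk.le).ge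
        exact hne (by rwa [inf_eq_left.2 hle] at hNR)
      · omega
    obtain ⟨k, hk⟩ := card_dvd_of_le (le_sup_right : R ≤ N ⊔ R)
    have hd := (N ⊔ R).card_subgroup_dvd_card.trans (card_dvd h)
    rw [hk] at hd hbig
    have hpos : 0 < Nat.card R := Nat.card_pos
    have hk3 : k ∣ 3 := (Nat.mul_dvd_mul_iff_left hpos).1 hd
    rcases (Nat.dvd_prime Nat.prime_three).1 hk3 with rfl | rfl
    · omega
    refine eq_top_of_le_card _ ?_
    rw [hk]
    exact Nat.le_of_dvd (Nat.mul_pos hpos (by norm_num)) (card_dvd h)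
  obtain ⟨n, hn, r₀, hr₀, hb⟩ := mem_sup_of_normal_left.1 (hsup.symm ▸ mem_top b : b ∈ N ⊔ R)
  -- so `b` induces inner automorphisms on `R`, and `R` is perfect
  have hperf : R ≤ ⁅R, R⁆ := by
    conv_lhs => rw [← h.full]
    rw [commutator_le]
    intro r hr y hy
    obtain ⟨k, rfl⟩ := mem_zpowers_iff.1 hy
    have hc : Commute n r₀ := hcomm n hn r₀ hr₀
    have e : ⁅r, b ^ k⁆ = ⁅r, r₀ ^ k⁆ := by
      rw [← hb, hc.mul_zpow, commutatorElement_def, commutatorElement_def]
      have hcr : Commute (n ^ k) r := (show Commute n r from hcomm n hn r hr).zpow_left k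
      calc r * (n ^ k * r₀ ^ k) * r⁻¹ * (n ^ k * r₀ ^ k)⁻¹
          = (r * n ^ k) * r₀ ^ k * r⁻¹ * (r₀ ^ k)⁻¹ * (n ^ k)⁻¹ := by group
        _ = n ^ k * (r * r₀ ^ k * r⁻¹ * (r₀ ^ k)⁻¹) * (n ^ k)⁻¹ := by rw [hcr.eq.symm]; group
        _ = r * r₀ ^ k * r⁻¹ * (r₀ ^ k)⁻¹ := by
          rw [hcomm _ (zpow_mem hn k) _ (mul_mem (mul_mem (mul_mem hr (zpow_mem hr₀ k)) (inv_mem hr))
            (inv_mem (zpow_mem hr₀ k))), mul_inv_cancel_right]
    rw [e]
    exact commutator_mem_commutator hr (zpow_mem hr₀ k)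
  haveI : Nontrivial R := by
    obtain ⟨q, hq, hne⟩ := h.nc
    refine (nontrivial_iff_ne_bot R).2 fun e => hne ?_
    have hq1 : q = 1 := mem_bot.1 (e ▸ h.QR hq : q ∈ (⊥ : Subgroup G))
    rw [hq1, mul_one, mul_inv_cancel]
  have hlt : commutator R < ⊤ := Group.IsSolvable.commutator_lt_top_of_nontrivial R
  refine hlt.ne (eq_top_iff.2 fun x _ => ?_)
  have : (x : G) ∈ (commutator R).map R.subtype := by
    rw [map_subtype_commutator]
    exact hperf x.2
  obtain ⟨y, hy, e⟩ := this
  exact Subtype.ext e ▸ hy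

theorem odd_core_trivial (h : Setting ρ R Q b) : Cfsg.pPrimeCore 2 G = ⊥ :=
  odd_normal_trivial h _ (Nat.coprime_two_right.1 (CfsgLib.Core.coprime_card_pPrimeCore 2 G))

theorem centralizer_two_core (h : Setting ρ R Q b) :
    centralizer (Cfsg.pCore 2 G : Set G) ≤ Cfsg.pCore 2 G := by
  haveI := h.solvable
  exact CfsgLib.Core.centralizer_pCore_le_of_pPrimeCore_eq_bot (odd_core_trivial h)

theorem two_core_le (h : Setting ρ R Q b) : Cfsg.pCore 2 G ≤ R := by
  haveI := h.normalR
  intro t ht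
  obtain ⟨k, hk⟩ := (CfsgLib.Core.isPGroup_pCore 2 G) ⟨t, ht⟩
  have hk' : t ^ 2 ^ k = 1 := congrArg Subtype.val hk
  have h3 : orderOf (QuotientGroup.mk' R t) ∣ 3 := by
    refine (_root_.orderOf_dvd_natCard _).trans ?_
    have hpos : 0 < Nat.card R := Nat.card_pos
    refine (Nat.mul_dvd_mul_iff_left hpos).1 ?_
    rw [← index_eq_card, R.card_mul_index]
    exact card_dvd h
  have h2 : orderOf (QuotientGroup.mk' R t) ∣ 2 ^ k :=
    (orderOf_map_dvd _ t).trans (orderOf_dvd_of_pow_eq_one hk')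
  have h1 := Nat.eq_one_of_dvd_coprimes ((show Nat.Coprime 2 3 by norm_num).pow_left k) h2 h3
  exact (QuotientGroup.eq_one_iff t).1 (orderOf_eq_one_iff.1 h1)

/-- a central element other than the identity acts as `-1` -/
theorem central_neg (h : Setting ρ R Q b) {z : G} (hz : ∀ g, g * z = z * g) (h1 : z ≠ 1) : ρ z = -1 :=
  (central_scalar h hz).resolve_left fun e => h1 (h.faith (e.trans (map_one ρ).symm))

theorem card_dvd_GL (hf : Function.Injective ρ) (hdim : Module.finrank (ZMod 3) V ≤ 4) :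
    Nat.card G ∣ 24261120 := by
  haveI : FiniteDimensional (ZMod 3) V := Module.Finite.of_finite
  let bV := Module.finBasis (ZMod 3) V
  let e : (Module.End (ZMod 3) V)ˣ ≃* GL (Fin (Module.finrank (ZMod 3) V)) (ZMod 3) :=
    Units.mapEquiv (LinearMap.toMatrixAlgEquiv bV).toMulEquiv
  let f : G →* GL (Fin (Module.finrank (ZMod 3) V)) (ZMod 3) := e.toMonoidHom.comp ρ.toHomUnits
  have hfi : Function.Injective f := fun x y exy => hf (by
    have := congrArg Units.val (e.injective exy)
    simpa using this)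
  refine (Subgroup.card_dvd_of_injective f hfi).trans ?_
  rw [Matrix.card_GL_field, ZMod.card]
  generalize hn : Module.finrank (ZMod 3) V = n at hdim ⊢
  interval_cases n <;> norm_num [Fin.prod_univ_succ]

/-- the central case is impossible -/
theorem exists_abelian (h : Setting ρ R Q b) :
    ∃ A : Subgroup G, A.Normal ∧ (∀ a ∈ A, a * a = 1) ∧ A ≤ R ∧ ¬ A ≤ center G := by
  classical
  by_contra! hall
  haveI := h.solvable
  haveI := h.normalR
  haveI : FiniteDimensional (ZMod 3) V := Module.Finite.of_finite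
  haveI : Fact (Nat.Prime 2) := ⟨Nat.prime_two⟩
  set T := Cfsg.pCore 2 G with hT
  have hT2 : IsPGroup 2 T := CfsgLib.Core.isPGroup_pCore 2 G
  have hTn : ∀ g : G, ∀ t ∈ T, g * t * g⁻¹ ∈ T := fun g t ht => Normal.conj_mem inferInstance t ht g
  have hcen : ∀ {x : G}, x ∈ center G → ∀ g, g * x = x * g := fun hx g => mem_center_iff.1 hx g
  -- normal abelian subgroups of `T` are central
  have hab : ∀ W : Subgroup G, W.Normal → W ≤ T → (∀ x ∈ W, ∀ y ∈ W, x * y = y * x) → W ≤ center G := by
    intro W hWn hWT hWc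
    haveI := hWn
    let Ω : Subgroup G :=
      { carrier := {x | x ∈ W ∧ x * x = 1}
        one_mem' := ⟨one_mem _, one_mul 1⟩
        mul_mem' := fun {x y} hx hy => ⟨mul_mem hx.1 hy.1, by
          calc x * y * (x * y) = x * (y * x) * y := by group
            _ = x * (x * y) * y := by rw [hWc y hy.1 x hx.1]
            _ = (x * x) * (y * y) := by group
            _ = 1 := by rw [hx.2, hy.2, one_mul]⟩
        inv_mem' := fun {x} hx => ⟨inv_mem hx.1, by rw [← mul_inv_rev, hx.2, inv_one]⟩ }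
    have hΩn : Ω.Normal := ⟨fun x hx g => ⟨Normal.conj_mem hWn x hx.1 g, by
      calc g * x * g⁻¹ * (g * x * g⁻¹) = g * (x * x) * g⁻¹ := by group
        _ = 1 := by rw [hx.2, mul_one, mul_inv_cancel]⟩⟩
    have hΩc : Ω ≤ center G := hall Ω hΩn (fun x hx => hx.2) fun x hx => two_core_le h (hWT hx.1)
    have hW2 : IsPGroup 2 W := hT2.to_le hWT
    haveI : IsMulCommutative W := ⟨⟨fun x y => Subtype.ext (hWc x x.2 y y.2)⟩⟩
    haveI : IsCyclic W := by
      by_contra hc
      obtain ⟨p, hp, E, hEW, hexp, hcard⟩ := CfsgLib.Core.exists_elementary_of_not_isCyclic W hc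
      haveI : Nontrivial E := Finite.one_lt_card_iff_nontrivial.1
        (lt_of_lt_of_le (Nat.one_lt_pow (by norm_num) hp.one_lt) hcard)
      obtain ⟨⟨e, he⟩, he1⟩ := exists_ne (1 : E)
      haveI := Fact.mk hp
      have ho : orderOf e = p := orderOf_eq_prime (hexp e he) fun h' => he1 (Subtype.ext h')
      obtain ⟨k, hk⟩ := IsPGroup.iff_orderOf.1 hW2 ⟨e, hEW he⟩
      rw [Subgroup.orderOf_mk, ho] at hk
      obtain rfl : p = 2 := (Nat.prime_dvd_prime_iff_eq hp Nat.prime_two).1 (hp.dvd_of_dvd_pow (n := k) (hk ▸ dvd_rfl))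
      have hEΩ : ∀ x ∈ E, x ∈ Ω := fun x hx => ⟨hEW hx, by rw [← pow_two]; exact hexp x hx⟩
      have huniq : ∀ x : E, x = 1 ∨ x = ⟨e, he⟩ := by
        intro x
        refine (em (x = 1)).imp id fun hx => Subtype.ext ?_
        exact central_eq h (hcen (hΩc (hEΩ x x.2))) (hcen (hΩc (hEΩ e he))) (fun h' => hx (Subtype.ext h'))
          fun h' => he1 (Subtype.ext h')
      have hle : Nat.card E ≤ 2 := by
        have hsub : (Set.univ : Set E) ⊆ {1, ⟨e, he⟩} := fun x _ => huniq x
        have := Set.ncard_le_ncard hsub (Set.toFinite _)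
        rwa [Set.ncard_univ, Set.ncard_pair (fun h' => he1 h'.symm)] at this
      omega
    have hbW : zpowers b ≤ centralizer (W : Set G) :=
      Thin.centralizes_cyclic hW2 le_normalizer_of_normal (by rw [card_zpowers_b h]; decide)
    exact h.central_of_commute fun x hx => (mem_centralizer_iff.1 (hbW (mem_zpowers b)) x hx).symm
  -- commutators of `T` are central
  have hder : ⁅T, T⁆ ≤ center G := by
    set D := ⁅T, T⁆ with hD
    haveI : D.Normal := commutator_normal T T
    have hDT : D ≤ T := (commutator_le_self T)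
    let Z₁ : Subgroup G := T ⊓ centralizer (T : Set G)
    haveI : Z₁.Normal := normal_inf_normal _ _
    have hZ₁ : Z₁ ≤ center G := hab Z₁ inferInstance inf_le_left fun x hx y hy =>
      (mem_centralizer_iff.1 hx.2 y hy.1).symm
    let Z₂ : Subgroup G := T ⊓ Subgroup.comap (QuotientGroup.mk' Z₁) (centralizer ((T.map (QuotientGroup.mk' Z₁) : Subgroup (G ⧸ Z₁)) : Set (G ⧸ Z₁)))
    haveI : (T.map (QuotientGroup.mk' Z₁)).Normal := Normal.map inferInstance _ (QuotientGroup.mk'_surjective _)
    haveI : Z₂.Normal := normal_inf_normal _ _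
    have hZ₂ : ⁅Z₂, T⁆ ≤ Z₁ := by
      rw [commutator_le]
      intro x hx t ht
      refine (QuotientGroup.eq_one_iff _).1 ?_
      show QuotientGroup.mk' Z₁ ⁅x, t⁆ = 1
      rw [map_commutatorElement, commutatorElement_eq_one_iff_mul_comm]
      exact (mem_centralizer_iff.1 hx.2 _ (mem_map_of_mem _ ht)).symm
    have h1 : ⁅⁅Z₂, T⁆, T⁆ = ⊥ := by
      rw [eq_bot_iff, commutator_le]
      intro x hx t _
      rw [mem_bot, commutatorElement_eq_one_iff_mul_comm]
      exact (hcen (hZ₁ (hZ₂ hx)) t).symm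
    have h2 : ⁅⁅T, T⁆, Z₂⁆ = ⊥ :=
      commutator_commutator_eq_bot_of_rotate (by rwa [commutator_comm T Z₂]) h1
    have hA : D ⊓ Z₂ ≤ center G := by
      haveI : (D ⊓ Z₂).Normal := normal_inf_normal _ _
      refine hab _ inferInstance (inf_le_left.trans hDT) fun x hx y hy => ?_
      refine (commutatorElement_eq_one_iff_mul_comm).1 ?_
      rw [← mem_bot, ← h2]
      exact commutator_mem_commutator hx.1 hy.2
    intro d hd
    by_contra hdc
    let π := QuotientGroup.mk' Z₁
    let T' := T.map π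
    haveI : (D.map π).Normal := Normal.map inferInstance π (QuotientGroup.mk'_surjective _)
    have hne : (D.map π).subgroupOf T' ≠ ⊥ := by
      intro e
      rw [subgroupOf_eq_bot, disjoint_iff, inf_eq_left.2 (map_mono hDT), Subgroup.map_eq_bot_iff, QuotientGroup.ker_mk'] at e
      exact hdc (hZ₁ (e hd))
    obtain ⟨⟨x, hx⟩, hx1⟩ := ne_bot_iff_exists_ne_one.1
      (CfsgLib.PGroups.inf_center_ne_bot (hT2.map π) hne)
    obtain ⟨hxD, hxC⟩ := mem_inf.1 hx
    obtain ⟨u, hu, hux⟩ := mem_subgroupOf.1 hxD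
    have huZ : u ∈ Z₂ := mem_inf.2 ⟨hDT hu, mem_centralizer_iff.2 fun y hy => by
      rw [hux]; exact congrArg Subtype.val (mem_center_iff.1 hxC ⟨y, hy⟩)⟩
    refine hx1 (Subtype.ext (Subtype.ext ?_))
    show (x : G ⧸ Z₁) = 1
    rw [← hux]
    exact (QuotientGroup.eq_one_iff u).2 (mem_inf.2 ⟨hDT hu, mem_centralizer_iff.2 fun y _ =>
      hcen (hA ⟨hu, huZ⟩) y⟩)
  -- squares of `T` are central
  have hdisp : ∀ x ∈ T, ∀ y ∈ T, ⁅x, y⁆ * ⁅x, y⁆ = 1 := fun x hx y hy =>
    central_sq h (hcen (hder (commutator_mem_commutator hx hy)))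
  have hsq : ∀ x ∈ T, x * x ∈ center G := by
    let W : Subgroup G := T ⊓ centralizer (T : Set G)
    haveI : W.Normal := normal_inf_normal _ _
    have hW : W ≤ center G := hab W inferInstance inf_le_left fun x hx y hy =>
      (mem_centralizer_iff.1 hx.2 y hy.1).symm
    intro x hx
    refine hW (mem_inf.2 ⟨mul_mem hx hx, mem_centralizer_iff.2 fun y hy => ?_⟩)
    have hc := hcen (hder (commutator_mem_commutator hy hx))
    calc y * (x * x) = ⁅y, x⁆ * (x * ⁅y, x⁆) * x * y := by rw [commutatorElement_def]; group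
      _ = ⁅y, x⁆ * (⁅y, x⁆ * x) * x * y := by rw [hc x]
      _ = (⁅y, x⁆ * ⁅y, x⁆) * (x * x * y) := by group
      _ = x * x * y := by rw [hdisp y hy x hx, one_mul]
  -- a commutator with `b` of order four
  have hbT : ∀ t ∈ T, b * t * b⁻¹ ∈ T := fun t ht => hTn b t ht
  have hbb : b * b * b = 1 := by
    have := h.b3
    rwa [pow_succ, pow_two] at this
  obtain ⟨t₀, ht₀, hu4⟩ : ∃ t ∈ T, ⁅t, b⁆ * ⁅t, b⁆ ≠ 1 := by
    by_contra! hinv
    have humem : ∀ t ∈ T, ⁅t, b⁆ ∈ T := fun t ht => by
      rw [commutatorElement_def, show t * b * t⁻¹ * b⁻¹ = t * (b * t⁻¹ * b⁻¹) by group]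
      exact mul_mem ht (hbT _ (inv_mem ht))
    have hmul : ∀ s ∈ T, ∀ t ∈ T, ⁅s * t, b⁆ = ⁅s, ⁅t, b⁆⁆ * (⁅t, b⁆ * ⁅s, b⁆) := fun s _ t _ => by
      simp only [commutatorElement_def]; group
    have hucomm : ∀ s ∈ T, ∀ t ∈ T, Commute ⁅t, b⁆ ⁅s, b⁆ := by
      intro s hs t ht
      have hc : ⁅s, ⁅t, b⁆⁆ ∈ center G := hder (commutator_mem_commutator hs (humem t ht))
      have hc2 := central_sq h (hcen hc)
      have h1 := hinv (s * t) (mul_mem hs ht)
      rw [hmul s hs t ht] at h1
      set c := ⁅s, ⁅t, b⁆⁆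
      have h2 : (⁅t, b⁆ * ⁅s, b⁆) * (⁅t, b⁆ * ⁅s, b⁆) = 1 := by
        calc _ = (c * c) * ((⁅t, b⁆ * ⁅s, b⁆) * (⁅t, b⁆ * ⁅s, b⁆)) := by rw [hc2, one_mul]
          _ = c * (c * (⁅t, b⁆ * ⁅s, b⁆)) * (⁅t, b⁆ * ⁅s, b⁆) := by group
          _ = c * ((⁅t, b⁆ * ⁅s, b⁆) * c) * (⁅t, b⁆ * ⁅s, b⁆) := by rw [hcen hc]
          _ = c * (⁅t, b⁆ * ⁅s, b⁆) * (c * (⁅t, b⁆ * ⁅s, b⁆)) := by group
          _ = 1 := h1
      show ⁅t, b⁆ * ⁅s, b⁆ = ⁅s, b⁆ * ⁅t, b⁆
      rw [eq_inv_of_mul_eq_one_left h2, mul_inv_rev, inv_eq_of_mul_eq_one_right (hinv t ht),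
        inv_eq_of_mul_eq_one_right (hinv s hs)]
    have hfix : ∀ x ∈ T, b * x * b⁻¹ = x → ∀ t ∈ T, Commute x ⁅t, b⁆ := by
      intro x hx hxb t ht
      have hc : ⁅x, t⁆ ∈ center G := hder (commutator_mem_commutator hx ht)
      refine mul_inv_eq_iff_eq_mul.1 ?_
      have hb' : x * b * x⁻¹ = b := by
        calc x * b * x⁻¹ = (b * x * b⁻¹) * b * x⁻¹ := by rw [hxb]
          _ = b := by group
      calc x * ⁅t, b⁆ * x⁻¹ = (x * t * x⁻¹) * (x * b * x⁻¹) * (x * t * x⁻¹)⁻¹ * (x * b * x⁻¹)⁻¹ := by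
            rw [commutatorElement_def]; group
        _ = (⁅x, t⁆ * t) * b * (⁅x, t⁆ * t)⁻¹ * b⁻¹ := by
            rw [hb', show x * t * x⁻¹ = ⁅x, t⁆ * t by rw [commutatorElement_def]; group]
        _ = ⁅x, t⁆ * (t * b * t⁻¹) * ⁅x, t⁆⁻¹ * b⁻¹ := by group
        _ = ⁅t, b⁆ := by rw [← hcen hc (t * b * t⁻¹), mul_inv_cancel_right, ← commutatorElement_def]
    have hcentral : ∀ t ∈ T, ∀ x ∈ T, Commute x ⁅t, b⁆ := by
      intro t ht x hx
      obtain ⟨y, hy⟩ : ∃ y, y = b * x * b⁻¹ := ⟨_, rfl⟩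
      obtain ⟨z, hz⟩ : ∃ z, z = b * y * b⁻¹ := ⟨_, rfl⟩
      have hyT : y ∈ T := hy ▸ hbT x hx
      have hzT : z ∈ T := hz ▸ hbT y hyT
      have hzx : b * z * b⁻¹ = x := by
        rw [hz, hy]
        calc b * (b * (b * x * b⁻¹) * b⁻¹) * b⁻¹ = b * b * b * x * (b * b * b)⁻¹ := by group
          _ = x := by rw [hbb, inv_one, mul_one, one_mul]
      -- the norm of `x`
      have hN : Commute (x * y * z) ⁅t, b⁆ := by
        refine hfix _ (mul_mem (mul_mem hx hyT) hzT) ?_ t ht
        obtain ⟨c, hc, hc'⟩ : ∃ c ∈ center G, b * (x * y * z) * b⁻¹ = c * (x * y * z) := by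
          refine ⟨⁅y * z, x⁆, hder (commutator_mem_commutator (mul_mem hyT hzT) hx), ?_⟩
          calc b * (x * y * z) * b⁻¹ = (b * x * b⁻¹) * (b * y * b⁻¹) * (b * z * b⁻¹) := by group
            _ = y * z * x := by rw [hzx, ← hy, ← hz]
            _ = _ := by rw [commutatorElement_def]; group
        have h1 := hcen hc
        have hc3 : c * c * c = 1 := by
          have e : (b * b * b) * (x * y * z) * (b * b * b)⁻¹ = c * c * c * (x * y * z) := by
            calc (b * b * b) * (x * y * z) * (b * b * b)⁻¹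
                = b * (b * (b * (x * y * z) * b⁻¹) * b⁻¹) * b⁻¹ := by group
              _ = b * (b * (c * (x * y * z)) * b⁻¹) * b⁻¹ := by rw [hc']
              _ = b * ((b * c) * (x * y * z) * b⁻¹) * b⁻¹ := by group
              _ = b * ((c * b) * (x * y * z) * b⁻¹) * b⁻¹ := by rw [h1 b]
              _ = b * (c * (b * (x * y * z) * b⁻¹)) * b⁻¹ := by group
              _ = b * (c * (c * (x * y * z))) * b⁻¹ := by rw [hc']
              _ = (b * (c * c)) * (x * y * z) * b⁻¹ := by group
              _ = (c * c * b) * (x * y * z) * b⁻¹ := by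
                rw [show b * (c * c) = c * c * b by rw [← mul_assoc, h1 b, mul_assoc, h1 b, ← mul_assoc]]
              _ = c * c * (b * (x * y * z) * b⁻¹) := by group
              _ = c * c * c * (x * y * z) := by rw [hc', ← mul_assoc]
          rw [hbb, inv_one, mul_one, one_mul] at e
          exact (right_eq_mul.1 e)
        rw [central_sq h h1, one_mul] at hc3
        rw [hc', hc3, one_mul]
      have hux : Commute ⁅x, b⁆ ⁅t, b⁆ := hucomm t ht x hx
      have huy : Commute ⁅y, b⁆ ⁅t, b⁆ := hucomm t ht y hyT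
      have ey : y = ⁅x, b⁆⁻¹ * x := by
        have : ⁅x, b⁆⁻¹ = y * x⁻¹ := by rw [hy, commutatorElement_def]; group
        rw [this, inv_mul_cancel_right]
      have ez : z = ⁅y, b⁆⁻¹ * y := by
        have : ⁅y, b⁆⁻¹ = z * y⁻¹ := by rw [hz, commutatorElement_def]; group
        rw [this, inv_mul_cancel_right]
      -- in the conjugation action everything reduces to `x`
      let φ : G := ⁅t, b⁆
      have hxc : Commute (x * x) φ := (hcen (hsq x hx) φ).symm
      have hxy : ∃ c ∈ center G, x * y * z = c * (⁅x, b⁆⁻¹ * ⁅y, b⁆⁻¹ * ⁅x, b⁆⁻¹ * (x * x) * x) := by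
        obtain ⟨p, hp⟩ : ∃ p, p = ⁅x, b⁆⁻¹ := ⟨_, rfl⟩
        obtain ⟨q, hq⟩ : ∃ q, q = ⁅y, b⁆⁻¹ := ⟨_, rfl⟩
        have hpT : p ∈ T := hp ▸ inv_mem (humem x hx)
        have hqT : q ∈ T := hq ▸ inv_mem (humem y hyT)
        have hd1 := hder (commutator_mem_commutator hx hpT)
        have hd2 := hder (commutator_mem_commutator (mul_mem hx hx) (mul_mem hqT hpT))
        refine ⟨⁅x, p⁆ * ⁅x * x, q * p⁆, mul_mem hd1 hd2, ?_⟩
        rw [← hp, ← hq, ez, ← hq, ey, ← hp]
        calc x * (p * x) * (q * (p * x)) = ⁅x, p⁆ * p * (⁅x * x, q * p⁆ * (q * p)) * (x * x) * x := by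
              simp only [commutatorElement_def]; group
          _ = ⁅x, p⁆ * (p * ⁅x * x, q * p⁆) * (q * p) * (x * x) * x := by group
          _ = ⁅x, p⁆ * (⁅x * x, q * p⁆ * p) * (q * p) * (x * x) * x := by rw [hcen hd2 p]
          _ = _ := by group
      obtain ⟨c, hc, e⟩ := hxy
      have hcc : Commute c φ := (hcen hc φ).symm
      have hpre : Commute (c * (⁅x, b⁆⁻¹ * ⁅y, b⁆⁻¹ * ⁅x, b⁆⁻¹ * (x * x))) φ :=
        hcc.mul_left (((hux.inv_left.mul_left huy.inv_left).mul_left hux.inv_left).mul_left hxc)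
      have := hpre.inv_left.mul_left hN
      rwa [show (c * (⁅x, b⁆⁻¹ * ⁅y, b⁆⁻¹ * ⁅x, b⁆⁻¹ * (x * x)))⁻¹ * (x * y * z) = x by rw [e]; group] at this
    have hbc : ∀ t ∈ T, b * t = t * b := by
      intro t ht
      have hW : ⁅t, b⁆ ∈ center G := by
        refine hab (T ⊓ centralizer (T : Set G)) (normal_inf_normal _ _) inf_le_left
          (fun x hx y hy => (mem_centralizer_iff.1 hx.2 y hy.1).symm) ?_
        exact mem_inf.2 ⟨humem t ht, mem_centralizer_iff.2 fun x hx => (hcentral t ht x hx).eq⟩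
      have h1 := hcen hW
      set u := ⁅t, b⁆ with hu
      have e : t * b * t⁻¹ = u * b := by rw [hu, commutatorElement_def, inv_mul_cancel_right]
      have e3 : (u * b) * (u * b) * (u * b) = 1 := by
        rw [← e]
        calc t * b * t⁻¹ * (t * b * t⁻¹) * (t * b * t⁻¹) = t * (b * b * b) * t⁻¹ := by group
          _ = 1 := by rw [hbb, mul_one, mul_inv_cancel]
      have e4 : (u * b) * (u * b) * (u * b) = (u * u) * u * (b * b * b) := by
        calc (u * b) * (u * b) * (u * b) = u * (b * u) * (b * u) * b := by group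
          _ = u * (u * b) * (u * b) * b := by rw [h1 b]
          _ = u * u * (b * u) * (b * b) := by group
          _ = u * u * (u * b) * (b * b) := by rw [h1 b]
          _ = (u * u) * u * (b * b * b) := by group
      rw [e4, central_sq h h1, one_mul, hbb, mul_one] at e3
      rw [e3, one_mul, mul_inv_eq_iff_eq_mul] at e
      exact e.symm
    have hbmem : b ∈ centralizer (T : Set G) := mem_centralizer_iff.2 fun t ht => (hbc t ht).symm
    exact h.bR (two_core_le h (centralizer_two_core h hbmem))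
  -- the space has dimension at most four
  set u := ⁅t₀, b⁆ with hu
  have huT : u ∈ T := by
    rw [hu, commutatorElement_def, show t₀ * b * t₀⁻¹ * b⁻¹ = t₀ * (b * t₀⁻¹ * b⁻¹) by group]
    exact mul_mem ht₀ (hbT _ (inv_mem ht₀))
  have huu : ρ (u * u) = -1 := central_neg h (hcen (hsq u huT)) hu4
  set U := LinearMap.range (ρ b - 1) with hU
  have hdim : Module.finrank (ZMod 3) V ≤ 4 := by
    have hinj : Function.Injective (ρ u - 1 : Module.End (ZMod 3) V) := by
      rw [← LinearMap.ker_eq_bot, LinearMap.ker_eq_bot']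
      intro v hv
      rw [LinearMap.sub_apply, sub_eq_zero, Module.End.one_apply] at hv
      have e : ρ (u * u) v = v := by rw [← rep_mul, hv, hv]
      rw [huu, LinearMap.neg_apply, Module.End.one_apply] at e
      have h2 : (2 : ZMod 3) • v = 0 := by
        rw [two_smul]; nth_rw 1 [← e]; exact neg_add_cancel v
      exact (smul_eq_zero.1 h2).resolve_left (by decide)
    have htop : LinearMap.range (ρ u - 1 : Module.End (ZMod 3) V) = ⊤ :=
      LinearMap.range_eq_top.2 (LinearMap.injective_iff_surjective.1 hinj)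
    have hle : LinearMap.range (ρ u - 1 : Module.End (ZMod 3) V) ≤ U.map (ρ t₀) ⊔ U := by
      rintro _ ⟨v, rfl⟩
      set w := ρ b⁻¹ v with hw
      have h1 : ρ t₀ (ρ b (ρ t₀⁻¹ w) - ρ t₀⁻¹ w) ∈ U.map (ρ t₀) :=
        Submodule.mem_map_of_mem ⟨ρ t₀⁻¹ w, rfl⟩
      have h2 : ρ b w - w ∈ U := ⟨w, rfl⟩
      have e : (ρ u - 1 : Module.End (ZMod 3) V) v
          = ρ t₀ (ρ b (ρ t₀⁻¹ w) - ρ t₀⁻¹ w) + -(ρ b w - w) := by
        rw [map_sub, rep_apply_inv, hw, rep_apply_inv, LinearMap.sub_apply, Module.End.one_apply, hu,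
          commutatorElement_def]
        simp only [rep_mul, mul_assoc]
        abel
      rw [e]
      exact add_mem (Submodule.mem_sup_left h1) (neg_mem (Submodule.mem_sup_right h2))
    rw [htop, top_le_iff] at hle
    have h3 := Submodule.finrank_add_le_finrank_add_finrank (U.map (ρ t₀)) U
    rw [hle, finrank_top] at h3
    have h4 : Module.finrank (ZMod 3) (U.map (ρ t₀)) ≤ 2 := (Submodule.finrank_map_le _ _).trans h.rank
    have h5 : Module.finrank (ZMod 3) U ≤ 2 := h.rank
    omega
  have hGdvd : Nat.card G ∣ 24261120 := card_dvd_GL h.faith hdim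
  -- `R` is a `2`-group
  have hR2 : IsPGroup 2 R := by
    refine IsPGroup.of_card (Nat.eq_prime_pow_of_unique_prime_dvd (p := 2) (Nat.card_pos (α := R)).ne'
      fun {r} hr hrd => ?_)
    by_contra hr2
    haveI := Fact.mk hr
    have hr3 : r ≠ 3 := fun e => by
      subst e
      have := Nat.Coprime.coprime_dvd_left hrd h.cop
      norm_num at this
    have hrG : r ∣ 24261120 := (hrd.trans R.card_subgroup_dvd_card).trans hGdvd
    have hr513 : r = 5 ∨ r = 13 := by
      have e : (24261120 : ℕ) = 2 ^ 9 * (3 ^ 6 * (5 * 13)) := by norm_num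
      rw [e] at hrG
      rcases hr.dvd_mul.1 hrG with d | d
      · exact absurd ((Nat.prime_dvd_prime_iff_eq hr Nat.prime_two).1 (hr.dvd_of_dvd_pow d)) hr2
      rcases hr.dvd_mul.1 d with d | d
      · exact absurd ((Nat.prime_dvd_prime_iff_eq hr Nat.prime_three).1 (hr.dvd_of_dvd_pow d)) hr3
      rcases hr.dvd_mul.1 d with d | d
      · exact Or.inl ((Nat.prime_dvd_prime_iff_eq hr (by norm_num)).1 d)
      · exact Or.inr ((Nat.prime_dvd_prime_iff_eq hr (by norm_num)).1 d)
    obtain ⟨P, hP⟩ := CfsgLib.Core.exists_invariant_sylow (A := zpowers b) (K := R) le_normalizer_of_normal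
      (by rw [card_zpowers_b h]; exact h.cop.symm) (Or.inr inferInstance) r
    set L := (P : Subgroup R).map R.subtype with hL
    have hLcard : Nat.card L = r := by
      rw [hL, ← Nat.card_congr ((P : Subgroup R).equivMapOfInjective _ R.subtype_injective).toEquiv]
      obtain ⟨j, hj⟩ := IsPGroup.iff_card.1 P.isPGroup'
      rw [hj]
      have h1 : j ≠ 0 := by
        intro e
        have := P.dvd_card_of_dvd_card hrd
        rw [hj, e, pow_zero, Nat.dvd_one] at this
        exact hr.ne_one this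
      have h2 : r ^ j ∣ 24261120 :=
        (hj ▸ (P : Subgroup R).card_subgroup_dvd_card).trans (R.card_subgroup_dvd_card.trans hGdvd)
      have h3 : j < 2 := by
        by_contra hge
        have h4 : r ^ 2 ∣ 24261120 := (pow_dvd_pow r (by omega)).trans h2
        rcases hr513 with rfl | rfl <;> norm_num at h4
      rw [show j = 1 by omega, pow_one]
    haveI : IsCyclic L := isCyclic_of_prime_card hLcard
    obtain ⟨g, hg⟩ := IsCyclic.exists_zpow_surjective (G := L)
    have hgr : (g : G) ^ r = 1 := by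
      have := pow_card_eq_one' (x := g)
      rw [hLcard] at this
      exact congrArg Subtype.val this
    have hg1 : (g : G) ≠ 1 := by
      intro e
      have : ∀ x : L, x = 1 := fun x => by
        obtain ⟨k, hk⟩ := hg x
        rw [← hk]
        exact Subtype.ext (by rw [SubgroupClass.coe_zpow, e, one_zpow]; rfl)
      haveI : Subsingleton L := ⟨fun x y => (this x).trans (this y).symm⟩
      rw [Nat.card_unique] at hLcard
      exact hr.ne_one hLcard.symm
    rcases hr513 with rfl | rfl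
    · -- `b` centralizes an element of order five
      let ψ : MulAut L := L.normalizerMonoidHom ⟨b, hP (mem_zpowers b)⟩
      have hψ3 : ψ ^ 3 = 1 := by
        rw [← map_pow]
        rw [show (⟨b, hP (mem_zpowers b)⟩ : normalizer (L : Set G)) ^ 3 = 1 from Subtype.ext h.b3, map_one]
      have hψ : ψ = 1 := by
        refine orderOf_eq_one_iff.1 (Nat.eq_one_of_dvd_coprimes (show Nat.Coprime 3 4 by norm_num)
          (orderOf_dvd_of_pow_eq_one hψ3) ((_root_.orderOf_dvd_natCard ψ).trans (dvd_of_eq ?_)))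
        rw [IsCyclic.card_mulAut, hLcard, Nat.totient_prime (by norm_num)]
      have hbg : (g : G) * b = b * g := by
        have e : b * (g : G) * b⁻¹ = g := congrArg Subtype.val (DFunLike.congr_fun hψ g)
        exact (mul_inv_eq_iff_eq_mul.1 e).symm
      have hUg : ∀ x ∈ U, ρ (g : G) x ∈ U := by
        rintro _ ⟨v, rfl⟩
        refine ⟨ρ (g : G) v, ?_⟩
        simp only [LinearMap.sub_apply, Module.End.one_apply, map_sub, rep_mul, hbg]
      have hfixU := fixes_small ρ hr le_rfl (k := 1) (by rw [pow_one]; exact hgr) U hUg h.rank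
      obtain ⟨i, hcard, hi, hmod⟩ := fixed_modEq ρ (r := 5) (k := 1) (by rw [pow_one]; exact hgr) ⊤ (fun _ _ => trivial)
      have hU1 : U ≠ ⊥ := by
        intro e
        obtain ⟨q, hq, hne⟩ := h.nc
        have hb1 : ρ b = 1 := sub_eq_zero.1 (LinearMap.range_eq_bot.1 e)
        exact h.bR (h.faith (hb1.trans (map_one ρ).symm) ▸ one_mem R)
      obtain ⟨x, hxU, hx0⟩ := (Submodule.ne_bot_iff U).1 hU1
      have hi0 : i ≠ 0 := by
        intro e
        rw [e, pow_zero, Nat.card_eq_one_iff_unique] at hcard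
        haveI := hcard.1
        have := @Subsingleton.elim {v : (⊤ : Submodule (ZMod 3) V) // ρ (g : G) v = v} _
          ⟨⟨x, trivial⟩, hfixU x hxU⟩ ⟨0, map_zero _⟩
        exact hx0 (congrArg (fun v => (v.1 : V)) this)
      rw [finrank_top] at hi hmod
      have hin : i = Module.finrank (ZMod 3) V := by
        generalize Module.finrank (ZMod 3) V = n at hi hmod hdim
        interval_cases n <;> interval_cases i <;> first | rfl | omega | (exfalso; revert hmod; decide)
      refine hg1 (h.faith ?_)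
      rw [map_one]
      refine LinearMap.ext fun v => ?_
      by_contra hv
      have hlt := Finite.card_subtype_lt (p := fun w : (⊤ : Submodule (ZMod 3) V) => ρ (g : G) w = w)
        (x := ⟨v, trivial⟩) hv
      rw [hcard, hin, Module.natCard_eq_pow_finrank (K := ZMod 3), Nat.card_zmod, finrank_top] at hlt
      exact lt_irrefl _ hlt
    · -- an element of order thirteen centralizes `T`
      obtain ⟨m, hm⟩ := IsPGroup.iff_card.1 hT2
      have hm9 : m ≤ 9 := by
        have h1 : 2 ^ m ∣ 24261120 := hm ▸ T.card_subgroup_dvd_card.trans hGdvd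
        by_contra hge
        have h2 : 2 ^ 10 ∣ 24261120 := (pow_dvd_pow 2 (show 10 ≤ m by omega)).trans h1
        norm_num at h2
      haveI := Fact.mk hr
      let H : Subgroup G := zpowers (g : G)
      have hH : IsPGroup 13 H := IsPGroup.of_card (n := 1) (by
        rw [pow_one, Nat.card_zpowers, orderOf_eq_prime hgr hg1])
      letI : MulAction H T :=
        { smul := fun x t => ⟨(x : G) * t * (x : G)⁻¹, hTn _ _ t.2⟩
          one_smul := fun t => Subtype.ext (by show (1 : G) * t * 1⁻¹ = t; group)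
          mul_smul := fun x y t => Subtype.ext (by
            show ((x : G) * y) * t * ((x : G) * y)⁻¹ = x * (y * t * (y : G)⁻¹) * (x : G)⁻¹; group) }
      have hsmul : ∀ (x : H) (t : T), ((x • t : T) : G) = (x : G) * t * (x : G)⁻¹ := fun _ _ => rfl
      let F : Subgroup T :=
        { carrier := MulAction.fixedPoints H T
          one_mem' := fun x => Subtype.ext (by rw [hsmul]; simp)
          mul_mem' := fun {a c} ha hc x => Subtype.ext (by
            rw [hsmul, coe_mul]
            calc (x : G) * (a * c) * (x : G)⁻¹ = ((x : G) * a * (x : G)⁻¹) * ((x : G) * c * (x : G)⁻¹) := by group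
              _ = a * c := by rw [← hsmul, ← hsmul, ha x, hc x])
          inv_mem' := fun {a} ha x => Subtype.ext (by
            rw [hsmul, coe_inv]
            calc (x : G) * (a : G)⁻¹ * (x : G)⁻¹ = ((x : G) * a * (x : G)⁻¹)⁻¹ := by group
              _ = (a : G)⁻¹ := by rw [← hsmul, ha x]) }
      obtain ⟨j, hjle, hj⟩ : ∃ j ≤ m, Nat.card F = 2 ^ j := (Nat.dvd_prime_pow Nat.prime_two).1 (hm ▸ F.card_subgroup_dvd_card)
      have hmod := hH.card_modEq_card_fixedPoints T
      rw [hm, show Nat.card (MulAction.fixedPoints H T) = 2 ^ j from hj] at hmod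
      have hjm : j = m := by
        unfold Nat.ModEq at hmod
        interval_cases m <;> interval_cases j <;> first | rfl | (exfalso; revert hmod; decide)
      have hFtop : F = ⊤ := eq_top_of_le_card _ (by rw [hm, hj, hjm])
      have hgT : (g : G) ∈ T := centralizer_two_core h (mem_centralizer_iff.2 fun t ht => by
        have hf : (⟨t, ht⟩ : T) ∈ F := hFtop ▸ mem_top _
        have e := congrArg Subtype.val (hf ⟨g, mem_zpowers _⟩)
        rw [hsmul] at e
        exact (mul_inv_eq_iff_eq_mul.1 e).symm)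
      obtain ⟨k, hk⟩ := hT2 ⟨g, hgT⟩
      have h1 : orderOf (g : G) ∣ 2 ^ k := orderOf_dvd_of_pow_eq_one (congrArg Subtype.val hk)
      rw [orderOf_eq_prime hgr hg1] at h1
      have := (Nat.prime_dvd_prime_iff_eq hr Nat.prime_two).1 (hr.dvd_of_dvd_pow h1)
      omega
  have hRT : R ≤ T := CfsgLib.Core.le_pCore hR2
  -- the four-group together with the centre is normal
  let D : Subgroup G := (Q ⊔ (T ⊓ center G))
  have hDn : D.Normal := by
    rw [← normalizer_eq_top_iff, eq_top_iff, ← h.supTop]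
    refine sup_le (fun r hr => ?_) (zpowers_le.2 ?_)
    all_goals rw [mem_normalizer_iff]
    · have hstep : ∀ s ∈ T, ∀ x ∈ D, s * x * s⁻¹ ∈ D := by
        intro s hs x hx
        have hxT : x ∈ T := (sup_le (h.QR.trans hRT) inf_le_left) hx
        rw [show s * x * s⁻¹ = ⁅s, x⁆ * x by rw [commutatorElement_def]; group]
        exact mul_mem (mem_sup_right (mem_inf.2 ⟨commutator_le_self T (commutator_mem_commutator hs hxT),
          hder (commutator_mem_commutator hs hxT)⟩)) hx
      intro x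
      refine ⟨hstep r (hRT hr) x, fun hx => ?_⟩
      have := hstep r⁻¹ (inv_mem (hRT hr)) _ hx
      simpa [mul_assoc] using this
    · have hbD : b ∈ normalizer (Q : Set G) ⊓ normalizer ((T ⊓ center G : Subgroup G) : Set G) :=
        mem_inf.2 ⟨h.bQ, (normalizer_eq_top (H := T ⊓ center G)).symm ▸ mem_top b⟩
      exact mem_normalizer_iff.1 (normalizer_inf_normalizer_le_normalizer_sup Q (T ⊓ center G) hbD)
  have hD2 : ∀ a ∈ D, a * a = 1 := by
    intro a ha
    obtain ⟨q, hq, z, hz, rfl⟩ := mem_sup_of_normal_right.1 ha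
    have h1 := hcen (mem_inf.1 hz).2
    calc q * z * (q * z) = q * (z * q) * z := by group
      _ = q * (q * z) * z := by rw [h1 q]
      _ = (q * q) * (z * z) := by group
      _ = 1 := by rw [h.Q2 q hq, central_sq h h1, one_mul]
  have hDc := hall D hDn hD2 (sup_le h.QR (inf_le_left.trans (two_core_le h)))
  obtain ⟨q, hq, hne⟩ := h.nc
  exact hne (by rw [hcen (hDc (mem_sup_left hq)) b, mul_inv_cancel_right])

/-- the core theorem -/
theorem core (h : Setting ρ R Q b) :
    (Cfsg.IsElementaryAbelian 2 R ∧ Nat.card R = 4) ∨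
      (Cfsg.IsExtraspecial 2 R ∧ Nat.card R = 32 ∧
        ∃ D : Subgroup G, D ≤ R ∧ Cfsg.IsElementaryAbelian 2 D ∧ Nat.card D = 8) := by
  obtain ⟨A, hAn, hA, hAR, hnc⟩ := exists_abelian h
  haveI := hAn
  exact monomial_conclusion h hA hAR hnc

end CfsgLib.Pairs.Cubic
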