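import Cfsg.Agent.Lib.Pairs.CubicExists
import Cfsg.Agent.Lib.PGroups.Extraspecial

/-!
Reduction of the cubic statement to the core: the commutator of the `3'`-core with `B`.
-/

set_option autoImplicit false
set_option linter.style.haveILetI false
set_option linter.unusedSectionVars false

namespace CfsgLib.Pairs.Cubic

open Subgroup
open scoped commutatorElement

theorem extraspecial_congr {X Y : Type*} [Group X] [Group Y] [Finite X] {p : ℕ} [Fact p.Prime]
    (hE : Cfsg.IsExtraspecial p X) (e : X ≃* Y) : Cfsg.IsExtraspecial p Y := by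
  haveI : Finite Y := Finite.of_equiv X e.toEquiv
  have hc : ∀ x : X, e x ∈ center Y ↔ x ∈ center X := by
    intro x
    rw [mem_center_iff, mem_center_iff]
    constructor
    · intro hx y; apply e.injective; rw [map_mul, map_mul]; exact hx (e y)
    · intro hx y; obtain ⟨y, rfl⟩ := e.surjective y; rw [← map_mul, ← map_mul, hx y]
  refine CfsgLib.PGroups.isExtraspecial_of (hE.1.1.of_equiv e) ?_ ?_ ?_ ?_
  · intro hcomm
    exact CfsgLib.PGroups.IsExtraspecial.not_comm hE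
      ⟨⟨fun a c => e.injective (by rw [map_mul, map_mul]; exact hcomm.1.1 _ _)⟩⟩
  · rw [← hE.2]
    exact (Nat.card_congr (e.toEquiv.subtypeEquiv fun x => (hc x).symm)).symm
  · rw [commutator_def, commutator_le]
    intro a _ c _
    obtain ⟨a, rfl⟩ := e.surjective a
    obtain ⟨c, rfl⟩ := e.surjective c
    rw [← map_commutatorElement, hc]
    exact CfsgLib.PGroups.IsExtraspecial.comm_mem hE a c
  · intro x
    obtain ⟨x, rfl⟩ := e.surjective x
    rw [← map_pow, hc]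
    exact CfsgLib.PGroups.IsExtraspecial.pow_mem_center hE x

variable {S : Type*} [Group S] [Finite S] {E : Type*} [AddCommGroup E] [Module (ZMod 3) E] [Finite E]

/-- the rank of `b - 1` -/
theorem rank_le (ρ : Representation (ZMod 3) S E) {b : S} (hb3 : b ^ 3 = 1) (E₀ E₁ : Submodule (ZMod 3) E)
    (hsup : E₀ ⊔ E₁ = ⊤) (hE1 : ∀ v ∈ E₁, ρ b v = v) (hE0inv : ∀ v ∈ E₀, ρ b v ∈ E₀)
    (hE0 : Nat.card E₀ = 27) : Module.finrank (ZMod 3) (LinearMap.range (ρ b - 1)) ≤ 2 := by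
  haveI : FiniteDimensional (ZMod 3) E := Module.Finite.of_finite
  have h3 : Module.finrank (ZMod 3) E₀ = 3 := by
    rw [Module.natCard_eq_pow_finrank (K := ZMod 3), Nat.card_zmod] at hE0
    exact Nat.pow_right_injective (le_refl 2 |>.trans (by norm_num)) (hE0.trans (by norm_num : (27 : ℕ) = 3 ^ 3))
  let f : E₀ →ₗ[ZMod 3] E₀ :=
    { toFun := fun x => ⟨ρ b x - x, sub_mem (hE0inv x x.2) x.2⟩
      map_add' := fun x y => Subtype.ext (by simp only [Submodule.coe_add, map_add]; abel)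
      map_smul' := fun c x => Subtype.ext (by simp [smul_sub]) }
  have hf : ∀ x : E₀, f (f (f x)) = 0 := by
    intro x
    refine Subtype.ext ?_
    show ρ b (ρ b (ρ b (x : E) - x) - (ρ b (x : E) - x)) - (ρ b (ρ b (x : E) - x) - (ρ b (x : E) - x)) = 0
    have e : ρ b (ρ b (ρ b (x : E))) = x := by
      rw [rep_mul, rep_mul, show b * b * b = b ^ 3 by rw [pow_succ, pow_two], hb3, rep_one]
    have h0 : ∀ y : E, y + y + y = 0 := fun y => by
      rw [← one_smul (ZMod 3) y, ← add_smul, ← add_smul, show (1 : ZMod 3) + 1 + 1 = 0 by decide, zero_smul]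
    simp only [map_sub, e]
    calc _ = -((ρ b) ((ρ b) (x : E)) + (ρ b) ((ρ b) (x : E)) + (ρ b) ((ρ b) (x : E))) +
          ((ρ b) (x : E) + (ρ b) (x : E) + (ρ b) (x : E)) := by abel
      _ = 0 := by rw [h0, h0, neg_zero, add_zero]
  have hlt : Module.finrank (ZMod 3) (LinearMap.range f) < 3 := by
    refine lt_of_lt_of_eq (Submodule.finrank_lt fun htop => ?_) h3
    have hs := LinearMap.range_eq_top.1 htop
    obtain ⟨v, hv⟩ : ∃ v : E₀, v ≠ 0 := by
      by_contra! h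
      haveI : Subsingleton E₀ := ⟨fun a c => (h a).trans (h c).symm⟩
      rw [Module.finrank_zero_of_subsingleton] at h3
      omega
    obtain ⟨x, rfl⟩ := hs v
    obtain ⟨y, rfl⟩ := hs x
    obtain ⟨z, rfl⟩ := hs y
    exact hv (hf z)
  have hle : LinearMap.range (ρ b - 1) ≤ (LinearMap.range f).map E₀.subtype := by
    rintro _ ⟨v, rfl⟩
    obtain ⟨x, hx, y, hy, rfl⟩ := Submodule.mem_sup.1 (hsup.symm ▸ Submodule.mem_top : v ∈ E₀ ⊔ E₁)
    refine ⟨f ⟨x, hx⟩, ⟨_, rfl⟩, ?_⟩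
    show ρ b x - x = (ρ b - 1 : Module.End (ZMod 3) E) (x + y)
    rw [LinearMap.sub_apply, Module.End.one_apply, map_add, hE1 y hy]
    abel
  have h1 := (Submodule.finrank_mono hle).trans (Submodule.finrank_map_le _ _)
  omega

/-- the four-group lies in the commutator of the `3'`-core with `B` -/
theorem four_le_commutator [Group.IsSolvable S] {B : Subgroup S} {b : S} (hb : zpowers b = B) (hB : Nat.card B = 3)
    {Q : Subgroup S} (hQ4 : Nat.card Q = 4) (hQ2 : ∀ q ∈ Q, q * q = 1) (hBQ : B ≤ normalizer (Q : Set S))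
    (hBQ' : ¬ B ≤ centralizer (Q : Set S)) (P : Sylow 3 S)
    (hBZ : (center (P : Subgroup S)).map (P : Subgroup S).subtype = B) :
    Q ≤ ⁅Cfsg.pPrimeCore 3 S, B⁆ := by
  set K := Cfsg.pPrimeCore 3 S with hK
  haveI : Fact (Nat.Prime 3) := ⟨Nat.prime_three⟩
  let π := QuotientGroup.mk' K
  let M := Cfsg.pCore 3 (S ⧸ K)
  have hbB : b ∈ B := hb ▸ mem_zpowers b
  have hbM : π b ∈ M := by
    refine CfsgLib.Core.centralizer_pCore_le_of_pPrimeCore_eq_bot
      (CfsgLib.Core.pPrimeCore_quotient_pPrimeCore 3 S) ?_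
    refine mem_centralizer_iff.2 fun x hx => ?_
    obtain ⟨y, hy, rfl⟩ := CfsgLib.Core.pCore_le_sylow
      (P.mapSurjective (QuotientGroup.mk'_surjective K)) hx
    obtain ⟨c, hc, e⟩ := hBZ.symm ▸ hbB
    have e2 : y * b = b * y := by
      rw [← e]
      exact congrArg Subtype.val (mem_center_iff.1 hc ⟨y, hy⟩)
    show π y * π b = π b * π y
    rw [← map_mul, ← map_mul, e2]
  have hbq : ∀ q ∈ Q, b * q * b⁻¹ ∈ Q := fun q hq => (mem_normalizer_iff.1 (hBQ hbB) q).1 hq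
  have hmem : ∀ q ∈ Q, b * q * b⁻¹ * q⁻¹ ∈ K := by
    intro q hq
    obtain ⟨x, hx⟩ : ∃ x, x = b * q * b⁻¹ * q⁻¹ := ⟨_, rfl⟩
    rw [← hx]
    have h1 : x ∈ Q := hx ▸ mul_mem (hbq q hq) (inv_mem hq)
    have h2 : π x ∈ M := by
      rw [hx, show b * q * b⁻¹ * q⁻¹ = b * (q * b⁻¹ * q⁻¹) by group, map_mul, map_mul π (q * b⁻¹), map_mul, map_inv,
        map_inv]
      exact mul_mem hbM (Normal.conj_mem inferInstance _ (inv_mem hbM) (π q))
    obtain ⟨k, hk⟩ := (CfsgLib.Core.isPGroup_pCore 3 (S ⧸ K)) ⟨π x, h2⟩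
    have d1 : orderOf (π x) ∣ 3 ^ k := orderOf_dvd_of_pow_eq_one (congrArg Subtype.val hk)
    have d2 : orderOf (π x) ∣ 2 := (orderOf_map_dvd π x).trans
      (orderOf_dvd_of_pow_eq_one (by rw [pow_two]; exact hQ2 x h1))
    have := Nat.eq_one_of_dvd_coprimes ((show Nat.Coprime 3 2 by norm_num).pow_left k) d1 d2
    exact (QuotientGroup.eq_one_iff x).1 (orderOf_eq_one_iff.1 this)
  have hQc : ∀ p ∈ Q, ∀ q ∈ Q, p * q = q * p := fun p hp q hq => by
    have h1 := hQ2 _ (mul_mem hp hq)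
    calc p * q = p * (p * q * (p * q)) * q := by rw [h1, mul_one]
      _ = (p * p) * q * p * (q * q) := by group
      _ = q * p := by rw [hQ2 p hp, hQ2 q hq, one_mul, mul_one]
  -- `b` has no fixed points
  have hfpf : ∀ q ∈ Q, b * q * b⁻¹ = q → q = 1 := by
    intro q hq e
    by_contra hq1
    refine hBQ' (Thin.centralizes_four hQ4 hQ2 hBQ (by rw [hB]; decide) hq hq1 fun g hg => ?_)
    have hle : B ≤ centralizer ({q} : Set S) := by
      rw [← hb, zpowers_le, mem_centralizer_iff]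
      intro y hy
      rw [Set.mem_singleton_iff.1 hy]
      exact (mul_inv_eq_iff_eq_mul.1 e).symm
    rw [← mem_centralizer_iff.1 (hle hg) q rfl, mul_inv_cancel_right]
  let f : Q → Q := fun q => ⟨b * q * b⁻¹ * (q : S)⁻¹, mul_mem (hbq q q.2) (inv_mem q.2)⟩
  have hf : Function.Injective f := by
    intro p q e
    have e' : b * p * b⁻¹ * (p : S)⁻¹ = b * q * b⁻¹ * (q : S)⁻¹ := congrArg Subtype.val e
    refine Subtype.ext (inv_mul_eq_one.1 (hfpf _ (mul_mem (inv_mem p.2) q.2) ?_))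
    calc b * ((p : S)⁻¹ * q) * b⁻¹ = (b * p * b⁻¹)⁻¹ * (b * q * b⁻¹ * (q : S)⁻¹) * q := by group
      _ = (b * p * b⁻¹)⁻¹ * (b * p * b⁻¹ * (p : S)⁻¹) * q := by rw [e']
      _ = (p : S)⁻¹ * q := by group
  have hfs := Finite.surjective_of_injective hf
  have hQK : Q ≤ K := fun q hq => by
    obtain ⟨p, hp⟩ := hfs ⟨q, hq⟩
    rw [← show b * p * b⁻¹ * (p : S)⁻¹ = q from congrArg Subtype.val hp]
    exact hmem p p.2
  intro q hq
  obtain ⟨p, hp⟩ := hfs ⟨q, hq⟩
  rw [← show b * p * b⁻¹ * (p : S)⁻¹ = q from congrArg Subtype.val hp, ← commutatorElement_def, commutator_comm]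
  exact commutator_mem_commutator hbB (hQK p.2)

/-- the reduction -/
theorem main (ρ : Representation (ZMod 3) S E) [Group.IsSolvable S] (hfaith : Function.Injective ρ)
    {B : Subgroup S} {b : S} (hb : zpowers b = B) (hB : Nat.card B = 3)
    (hrank : Module.finrank (ZMod 3) (LinearMap.range (ρ b - 1)) ≤ 2)
    {Q : Subgroup S} (hQ4 : Nat.card Q = 4) (hQ2 : ∀ q ∈ Q, q * q = 1) (hBQ : B ≤ normalizer (Q : Set S))
    (hnc : ∃ q ∈ Q, b * q * b⁻¹ ≠ q)
    {R : Subgroup S} (hcop : (Nat.card R).Coprime 3) (hBR : B ≤ normalizer (R : Set S))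
    (hfull : ⁅R, B⁆ = R) (hQR : Q ≤ R) :
    ((Cfsg.IsElementaryAbelian 2 R ∧ Nat.card R = 4) ∨
      (Cfsg.IsExtraspecial 2 R ∧ Nat.card R = 32 ∧
        ∃ A : Subgroup S, A ≤ R ∧ Cfsg.IsElementaryAbelian 2 A ∧ Nat.card A = 8)) ∧
    ∃ F₀ F₁ : Submodule (ZMod 3) E, F₀ ⊓ F₁ = ⊥ ∧ F₀ ⊔ F₁ = ⊤ ∧
      (∀ r ∈ R, ∀ v ∈ F₁, ρ r v = v) ∧ (∀ r ∈ R ⊔ B, ∀ v ∈ F₀, ρ r v ∈ F₀) ∧
      (∀ r ∈ R ⊔ B, (∀ v ∈ F₀, ρ r v = v) → r = 1) ∧
      (∀ N : Submodule (ZMod 3) E, N ≤ F₀ → (∀ r ∈ R ⊔ B, ∀ v ∈ N, ρ r v ∈ N) → N = ⊥ ∨ N = F₀) := by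
  classical
  haveI : Fintype R := Fintype.ofFinite R
  have hbB : b ∈ B := hb ▸ mem_zpowers b
  have hb3 : b ^ 3 = 1 := by
    have := orderOf_dvd_iff_pow_eq_one.1 (dvd_of_eq (show orderOf b = 3 by rw [← Nat.card_zpowers, hb, hB]))
    exact this
  have hbR' : b ∉ R := by
    intro hbR
    have hd : Nat.card B ∣ Nat.card R := card_dvd_of_le (hb ▸ zpowers_le.2 hbR)
    rw [hB] at hd
    exact (Nat.prime_three.coprime_iff_not_dvd.1 hcop.symm) hd
  -- averaging over `R`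
  let c : ZMod 3 := (Fintype.card R : ZMod 3)⁻¹
  have hc : (Fintype.card R : ZMod 3) * c = 1 := by
    refine mul_inv_cancel₀ fun e => ?_
    rw [ZMod.natCast_eq_zero_iff, ← Nat.card_eq_fintype_card] at e
    exact (Nat.prime_three.coprime_iff_not_dvd.1 hcop.symm) e
  let π : Module.End (ZMod 3) E := c • ∑ r : R, ρ (r : S)
  have hπ : ∀ v, π v = c • ∑ r : R, ρ (r : S) v := fun v => by simp [π, LinearMap.sum_apply]
  have hπfix : ∀ v, (∀ r ∈ R, ρ r v = v) → π v = v := by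
    intro v hv
    rw [hπ, Finset.sum_congr rfl fun (r : R) _ => hv r r.2, Finset.sum_const, Finset.card_univ, ← Nat.cast_smul_eq_nsmul (ZMod 3),
      smul_smul, mul_comm, hc, one_smul]
  have hπimg : ∀ v, ∀ r ∈ R, ρ r (π v) = π v := by
    intro v r hr
    rw [hπ, map_smul, map_sum]
    congr 1
    refine Fintype.sum_equiv (Equiv.mulLeft (⟨r, hr⟩ : R)) _ _ fun x => ?_
    rw [rep_mul]; rfl
  let F₀ : Submodule (ZMod 3) E := LinearMap.ker π
  let F₁ : Submodule (ZMod 3) E :=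
    { carrier := {v | ∀ r ∈ R, ρ r v = v}
      add_mem' := fun {x y} hx hy r hr => by rw [map_add, hx r hr, hy r hr]
      zero_mem' := fun r _ => map_zero _
      smul_mem' := fun a {x} hx r hr => by rw [map_smul, hx r hr] }
  have hinf : F₀ ⊓ F₁ = ⊥ := by
    rw [eq_bot_iff]
    rintro v ⟨h0, h1⟩
    rw [Submodule.mem_bot, ← hπfix v h1]
    exact h0
  have hsup : F₀ ⊔ F₁ = ⊤ := by
    rw [eq_top_iff]
    intro v _
    rw [← sub_add_cancel v (π v)]
    refine Submodule.add_mem_sup ?_ (hπimg v)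
    show π (v - π v) = 0
    rw [map_sub, hπfix (π v) (hπimg v), sub_self]
  -- invariance
  have hle : R ⊔ B ≤ normalizer (R : Set S) := sup_le le_normalizer hBR
  have hinv : ∀ g ∈ R ⊔ B, ∀ v ∈ F₀, ρ g v ∈ F₀ := by
    intro g hg v hv
    have hgn := mem_normalizer_iff.1 (hle hg)
    have hv' : π v = 0 := hv
    show π (ρ g v) = 0
    let e : R ≃ R :=
      { toFun := fun x => ⟨g * x * g⁻¹, (hgn x).1 x.2⟩
        invFun := fun x => ⟨g⁻¹ * x * g, (hgn _).2 (by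
          rw [show g * (g⁻¹ * (x : S) * g) * g⁻¹ = x by group]; exact x.2)⟩
        left_inv := fun x => Subtype.ext (by show g⁻¹ * (g * (x : S) * g⁻¹) * g = x; group)
        right_inv := fun x => Subtype.ext (by show g * (g⁻¹ * (x : S) * g) * g⁻¹ = x; group) }
    have hcomm : π (ρ g v) = ρ g (π v) := by
      rw [hπ, hπ, map_smul, map_sum]
      congr 1
      refine (Fintype.sum_equiv e _ _ fun x => ?_).symm
      show ρ g (ρ (x : S) v) = ρ (g * x * g⁻¹) (ρ g v)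
      rw [rep_mul, rep_mul, inv_mul_cancel_right]
    rw [hcomm, hv', map_zero]
  -- elements trivial on `F₀` and in `R`
  have hRfaith : ∀ r ∈ R, (∀ v ∈ F₀, ρ r v = v) → r = 1 := by
    intro r hr h0
    refine hfaith ?_
    rw [map_one]
    refine LinearMap.ext fun v => ?_
    obtain ⟨x, hx, y, hy, rfl⟩ := Submodule.mem_sup.1 (hsup.symm ▸ Submodule.mem_top : v ∈ F₀ ⊔ F₁)
    rw [map_add, h0 x hx, hy r hr, Module.End.one_apply]
  obtain ⟨q₀, hq₀, hq₀m⟩ := hnc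
  have hfull_b : ∀ {M : Subgroup S}, (∀ r ∈ R, r * b * r⁻¹ * b⁻¹ ∈ M) → (∀ r ∈ R, ∀ m ∈ M, r * m * r⁻¹ ∈ M) →
      (∀ m ∈ M, b * m * b⁻¹ ∈ M) → R ≤ M := by
    intro M h1 h2 h3
    conv_lhs => rw [← hfull]
    rw [commutator_le]
    intro r hr y hy
    rw [← hb] at hy
    obtain ⟨k, rfl⟩ := mem_zpowers_iff.1 hy
    obtain ⟨n, hn⟩ : ∃ n : ℕ, b ^ k = b ^ n := by
      refine ⟨(k % 3).toNat, ?_⟩
      rw [← zpow_natCast, Int.toNat_of_nonneg (Int.emod_nonneg _ (by norm_num))]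
      exact (zpow_eq_zpow_emod' k hb3)
    rw [hn]
    clear hn
    induction n with
    | zero => rw [pow_zero, commutatorElement_one_right]; exact one_mem M
    | succ n ih =>
      have e : ⁅r, b ^ (n + 1)⁆ = (r * b * r⁻¹ * b⁻¹) * (b * ⁅r, b ^ n⁆ * b⁻¹) := by
        rw [pow_succ', commutatorElement_def, commutatorElement_def]; group
      rw [e]
      exact mul_mem (h1 r hr) (h3 _ ih)
  have hfaith0 : ∀ g ∈ R ⊔ B, (∀ v ∈ F₀, ρ g v = v) → g = 1 := by
    intro g hg hg0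
    haveI : (R.subgroupOf (R ⊔ B)).Normal := (normal_subgroupOf_iff_le_normalizer le_sup_left).2 hle
    obtain ⟨r, hr, y, hy, rfl⟩ : ∃ r ∈ R, ∃ y ∈ B, r * y = g :=
      ((CfsgLib.Core.mem_sup_iff_mul' hBR).1 (sup_comm R B ▸ hg)).imp fun r hr => ⟨hr.1, hr.2.imp fun y hy => ⟨hy.1, hy.2.symm⟩⟩
    rw [← hb] at hy
    obtain ⟨k, rfl⟩ := mem_zpowers_iff.1 hy
    rcases (show k % 3 = 0 ∨ k % 3 = 1 ∨ k % 3 = 2 by omega) with h0 | h0
    · rw [zpow_eq_zpow_emod' k hb3, Nat.cast_ofNat, h0, zpow_zero, mul_one] at hg0 ⊢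
      exact hRfaith r hr hg0
    exfalso
    set g := r * b ^ k with hgdef
    -- `g` centralizes `R`
    have hgR : ∀ x ∈ R, g * x * g⁻¹ = x := by
      intro x hx
      have hgx : g * x * g⁻¹ ∈ R := (mem_normalizer_iff.1 (hle hg) x).1 hx
      refine mul_inv_eq_one.1 (hRfaith _ (mul_mem hgx (inv_mem hx)) fun v hv => ?_)
      have hxv : ρ x⁻¹ v ∈ F₀ := hinv _ (mem_sup_left (inv_mem hx)) v hv
      have hginv : ∀ w ∈ F₀, ρ g⁻¹ w = w := fun w hw => by
        conv_lhs => rw [← hg0 w hw]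
        rw [rep_inv_apply]
      rw [← rep_mul, ← rep_mul, ← rep_mul, hginv _ hxv, rep_apply_inv, hg0 v hv]
    have hyr : Commute (b ^ k) r := by
      have e := hgR r hr
      rw [hgdef] at e
      have : r * (b ^ k * r * (b ^ k)⁻¹) * r⁻¹ = r := by
        calc r * (b ^ k * r * (b ^ k)⁻¹) * r⁻¹ = r * b ^ k * r * (r * b ^ k)⁻¹ := by group
          _ = r := e
      have e2 : b ^ k * r * (b ^ k)⁻¹ = r := by
        calc b ^ k * r * (b ^ k)⁻¹ = r⁻¹ * (r * (b ^ k * r * (b ^ k)⁻¹) * r⁻¹) * r := by group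
          _ = r := by rw [this]; group
      exact mul_inv_eq_iff_eq_mul.1 e2
    have hcube : ∀ x ∈ R, Commute (r ^ 3) x := by
      intro x hx
      have h1 : Commute g x := mul_inv_eq_iff_eq_mul.1 (hgR x hx)
      have h2 : g ^ 3 = r ^ 3 := by
        rw [hgdef, hyr.symm.mul_pow, ← zpow_natCast (b ^ k), ← zpow_mul, mul_comm, zpow_mul, zpow_natCast, hb3,
          one_zpow, mul_one]
      exact h2 ▸ h1.pow_left 3
    have hrc : ∀ x ∈ R, Commute r x := by
      intro x hx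
      have hco : Nat.Coprime 3 (orderOf r) := (hcop.coprime_dvd_left (R.orderOf_dvd_natCard hr)).symm
      obtain ⟨m, hm⟩ := exists_pow_eq_self_of_coprime hco
      exact hm ▸ (hcube x hx).pow_left m
    have hbk : ∀ x ∈ R, Commute (b ^ k) x := by
      intro x hx
      have h1 : Commute g x := mul_inv_eq_iff_eq_mul.1 (hgR x hx)
      have := (hrc x hx).inv_left.mul_left h1
      rwa [hgdef, inv_mul_cancel_left] at this
    have hbq : Commute b q₀ := by
      have h2 : b = b ^ k ∨ b = (b ^ k) ^ 2 := by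
        rw [zpow_eq_zpow_emod' k hb3, Nat.cast_ofNat]
        rcases h0 with e | e <;> rw [e]
        · exact Or.inl (zpow_one b).symm
        · refine Or.inr ?_
          rw [← zpow_natCast, ← zpow_mul, show ((2 : ℤ) * ((2 : ℕ) : ℤ)) = 3 + 1 by norm_num, zpow_add, zpow_one,
            show b ^ (3 : ℤ) = 1 by exact_mod_cast hb3, one_mul]
      rcases h2 with e | e
      · rw [e]; exact hbk q₀ (hQR hq₀)
      · rw [e]; exact (hbk q₀ (hQR hq₀)).pow_left 2
    exact hq₀m (by rw [hbq.eq, mul_inv_cancel_right])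
  -- the frame
  obtain ⟨hfpf, hfixb, q₁, w₁, w₂, w₃, hq₁, hq₁1, hw1, hw2, hw3, hw31, hsign, e11, e12, e13, hline, hrange, heig⟩ :=
    four_frame ρ hfaith hQ4 hQ2 (hBQ hbB) hb3 hrank ⟨q₀, hq₀, hq₀m⟩
  obtain ⟨q₂, hq₂def⟩ : ∃ q₂, q₂ = b * q₁ * b⁻¹ := ⟨_, rfl⟩
  obtain ⟨q₃, hq₃def⟩ : ∃ q₃, q₃ = b * q₂ * b⁻¹ := ⟨_, rfl⟩
  have hq₂ : q₂ ∈ Q := hq₂def ▸ (mem_normalizer_iff.1 (hBQ hbB) q₁).1 hq₁
  have hq₃ : q₃ ∈ Q := hq₃def ▸ (mem_normalizer_iff.1 (hBQ hbB) q₂).1 hq₂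
  have hq₂1 : q₂ ≠ 1 := fun e => hq₁1 (conj_eq_one_iff.1 (hq₂def ▸ e))
  have hq₃1 : q₃ ≠ 1 := fun e => hq₂1 (conj_eq_one_iff.1 (hq₃def ▸ e))
  have hq₃b : b * q₃ * b⁻¹ = q₁ := by
    rw [hq₃def, hq₂def]
    calc b * (b * (b * q₁ * b⁻¹) * b⁻¹) * b⁻¹ = b ^ 3 * q₁ * (b ^ 3)⁻¹ := by rw [pow_succ, pow_two]; group
      _ = q₁ := by rw [hb3, inv_one, mul_one, one_mul]
  have hQall : ∀ q ∈ Q, q = 1 ∨ q = q₁ ∨ q = q₂ ∨ q = q₃ := by
    intro q hq
    by_contra! hq'
    have n12 : q₁ ≠ q₂ := fun e => hq₁1 (hfpf q₁ hq₁ (hq₂def.symm.trans e.symm))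
    have n23 : q₂ ≠ q₃ := fun e => hq₂1 (hfpf q₂ hq₂ (hq₃def.symm.trans e.symm))
    have n31 : q₃ ≠ q₁ := fun e => n12 (by rw [hq₂def, ← e, hq₃b, e])
    have hsub : ({1, q₁, q₂, q₃, q} : Set S) ⊆ Q := by
      simp [Set.insert_subset_iff, one_mem, hq₁, hq₂, hq₃, hq]
    have := Set.ncard_le_ncard hsub (Set.toFinite _)
    rw [show (Q : Set S).ncard = 4 by rw [← Nat.card_coe_set_eq]; exact hQ4] at this
    rw [Set.ncard_insert_of_notMem (by simp [Ne.symm hq₁1, Ne.symm hq₂1, Ne.symm hq₃1, Ne.symm hq'.1]) (Set.toFinite _),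
      Set.ncard_insert_of_notMem (by simp [n12, n31.symm, Ne.symm hq'.2.1]) (Set.toFinite _),
      Set.ncard_insert_of_notMem (by simp [n23, Ne.symm hq'.2.2.1]) (Set.toFinite _),
      Set.ncard_pair (Ne.symm hq'.2.2.2)] at this
    omega
  have hirr : ∀ N : Submodule (ZMod 3) E, N ≤ F₀ → (∀ r ∈ R ⊔ B, ∀ v ∈ N, ρ r v ∈ N) → N = ⊥ ∨ N = F₀ := by
    intro N hN hNi
    have hRN : ∀ r ∈ R, ∀ v ∈ N, ρ r v ∈ N := fun r hr => hNi r (mem_sup_left hr)
    have hbN : ∀ v ∈ N, ρ b v ∈ N := hNi b (mem_sup_right hbB)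
    by_cases hQN : ∀ q ∈ Q, ∀ v ∈ N, ρ q v = v
    · left
      rw [eq_bot_iff]
      intro v hv
      rw [Submodule.mem_bot, ← Submodule.mem_bot (ZMod 3), ← hinf]
      refine ⟨hN hv, fun r hr => ?_⟩
      have hb0 : ∀ x ∈ N, ρ b x = x := fun x hx => hfixb x fun q hq => hQN q hq x hx
      have hb0' : ∀ x ∈ N, ρ b⁻¹ x = x := fun x hx => by
        conv_lhs => rw [← hb0 x hx]
        rw [rep_inv_apply]
      let M : Subgroup S :=
        { carrier := {g | g ∈ R ⊔ B ∧ ∀ x ∈ N, ρ g x = x}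
          one_mem' := ⟨one_mem _, fun x _ => rep_one ρ x⟩
          mul_mem' := fun {a d} ha hd => ⟨mul_mem ha.1 hd.1, fun x hx => by rw [← rep_mul, hd.2 x hx, ha.2 x hx]⟩
          inv_mem' := fun {a} ha => ⟨inv_mem ha.1, fun x hx => by
            conv_lhs => rw [← ha.2 x hx]
            rw [rep_inv_apply]⟩ }
      have hbS : b ∈ R ⊔ B := mem_sup_right hbB
      refine ((hfull_b (M := M) (fun r hr => ⟨?_, fun x hx => ?_⟩) (fun r hr m hm => ⟨?_, fun x hx => ?_⟩)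
        (fun m hm => ⟨?_, fun x hx => ?_⟩)) hr).2 v hv
      · exact mul_mem (mul_mem (mul_mem (mem_sup_left hr) hbS) (inv_mem (mem_sup_left hr))) (inv_mem hbS)
      · rw [← rep_mul, hb0' x hx, ← rep_mul, ← rep_mul, hb0 _ (hRN _ (inv_mem hr) x hx), rep_apply_inv]
      · exact mul_mem (mul_mem (mem_sup_left hr) hm.1) (inv_mem (mem_sup_left hr))
      · rw [← rep_mul, ← rep_mul, hm.2 _ (hRN _ (inv_mem hr) x hx), rep_apply_inv]
      · exact mul_mem (mul_mem hbS hm.1) (inv_mem hbS)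
      · rw [← rep_mul, ← rep_mul, hb0' x hx, hm.2 x hx, hb0 x hx]
    right
    push Not at hQN
    obtain ⟨q, hq, v, hv, hqv⟩ := hQN
    -- a vector of `N` negated by `q₁`
    obtain ⟨x, hxN, hx0, hxneg⟩ : ∃ x ∈ N, x ≠ 0 ∧ ρ q₁ x = -x := by
      have hn : ρ q (ρ q v - v) = -(ρ q v - v) := by rw [map_sub, rep_mul, hQ2 q hq, rep_one, neg_sub]
      have hm : ρ q v - v ∈ N := sub_mem (hRN q (hQR hq) v hv) hv
      have hne : ρ q v - v ≠ 0 := sub_ne_zero.2 hqv
      have hback : ∀ p : S, ∀ y ∈ N, y ≠ 0 → ρ (b * p * b⁻¹) y = -y →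
          ρ b⁻¹ y ∈ N ∧ ρ b⁻¹ y ≠ 0 ∧ ρ p (ρ b⁻¹ y) = -ρ b⁻¹ y := fun p y hy hy0 hp =>
        ⟨hNi b⁻¹ (inv_mem (mem_sup_right hbB)) y hy, fun e => hy0 (rep_injective ρ b⁻¹ (e.trans (map_zero _).symm)),
          by rw [rep_mul, show p * b⁻¹ = b⁻¹ * (b * p * b⁻¹) by group, ← rep_mul, hp, map_neg]⟩
      rcases hQall q hq with rfl | rfl | rfl | rfl
      · exact absurd (rep_one ρ v) hqv
      · exact ⟨_, hm, hne, hn⟩
      · exact ⟨_, hback q₁ _ hm hne (hq₂def ▸ hn)⟩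
      · obtain ⟨a1, a2, a3⟩ := hback q₂ _ hm hne (hq₃def ▸ hn)
        exact ⟨_, hback q₁ _ a1 a2 (hq₂def ▸ a3)⟩
    obtain ⟨a, d, rfl⟩ := heig x hxneg
    have hq₂w₂ : ρ q₂ w₂ = w₂ := by
      rw [hw2, hq₂def, rep_mul, inv_mul_cancel_right, ← rep_mul, e11]
    have hq₂w₃ : ρ q₂ w₃ = -w₃ := by
      rw [hw3, hq₂def, rep_mul, inv_mul_cancel_right, ← rep_mul, e12, map_neg]
    have hm := hRN q₂ (hQR hq₂) _ hxN
    rw [map_add, map_smul, map_smul, hq₂w₂, hq₂w₃, smul_neg] at hm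
    have h2a : ((2 : ZMod 3) * a) • w₂ ∈ N := by
      have := add_mem hxN hm
      rwa [add_add_add_comm, add_neg_cancel, add_zero, ← add_smul, ← two_mul] at this
    have h2d : ((2 : ZMod 3) * d) • w₃ ∈ N := by
      have := sub_mem hxN hm
      rwa [add_sub_add_left_eq_sub, sub_neg_eq_add, ← add_smul, ← two_mul] at this
    have hunit : ∀ {y : ZMod 3} {w : E}, y ≠ 0 → ((2 : ZMod 3) * y) • w ∈ N → w ∈ N := fun {y w} hy h' => by
      have := Submodule.smul_mem N ((2 : ZMod 3) * y)⁻¹ h'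
      rwa [inv_smul_smul₀ (mul_ne_zero (by decide) hy)] at this
    have hw₁N : w₁ ∈ N := by
      rcases eq_or_ne a 0 with rfl | ha
      · have hd : d ≠ 0 := fun e => hx0 (by rw [e, zero_smul, zero_smul, add_zero])
        rw [← hw31]; exact hbN _ (hunit hd h2d)
      · rw [← hw31, hw3]; exact hbN _ (hbN _ (hunit ha h2a))
    have hrangeN : ∀ y : E, ρ b y - y ∈ N := by
      intro y
      have hmem : ρ b y - y ∈ LinearMap.range (ρ b - 1) := ⟨y, rfl⟩
      rw [hrange] at hmem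
      have hw₂N : w₂ ∈ N := hw2 ▸ hbN _ hw₁N
      have hw₃N : w₃ ∈ N := hw3 ▸ hbN _ hw₂N
      refine Submodule.span_le.2 ?_ hmem
      simp [Set.insert_subset_iff, sub_mem hw₂N hw₁N, sub_mem hw₃N hw₂N]
    refine le_antisymm hN fun y hy => ?_
    let M : Subgroup S :=
      { carrier := {g | g ∈ R ⊔ B ∧ ∀ x : E, ρ g x - x ∈ N}
        one_mem' := ⟨one_mem _, fun x => by rw [rep_one, sub_self]; exact zero_mem N⟩
        mul_mem' := fun {g k} hg hk => ⟨mul_mem hg.1 hk.1, fun x => by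
          rw [← rep_mul, ← sub_add_sub_cancel _ (ρ k x)]
          exact add_mem (hg.2 _) (hk.2 _)⟩
        inv_mem' := fun {g} hg => ⟨inv_mem hg.1, fun x => by
          have := hg.2 (ρ g⁻¹ x)
          rw [rep_apply_inv] at this
          rw [← neg_sub]; exact neg_mem this⟩ }
    have hbS : b ∈ R ⊔ B := mem_sup_right hbB
    have hbM : b ∈ M := ⟨hbS, hrangeN⟩
    have hconjM : ∀ g ∈ R ⊔ B, ∀ m ∈ M, g * m * g⁻¹ ∈ M := fun g hg m hm =>
      ⟨mul_mem (mul_mem hg hm.1) (inv_mem hg), fun x => by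
        have h1 := hNi g hg _ (hm.2 (ρ g⁻¹ x))
        rw [map_sub, rep_apply_inv] at h1
        rwa [← rep_mul, ← rep_mul]⟩
    have hRM : R ≤ M := hfull_b (fun r hr => mul_mem (hconjM r (mem_sup_left hr) b hbM) (inv_mem hbM))
      (fun r hr m hm => hconjM r (mem_sup_left hr) m hm) (fun m hm => hconjM b hbS m hm)
    have h0 : π y = 0 := hy
    have hsum : π y = y + c • ∑ r : R, (ρ (r : S) y - y) := by
      rw [Finset.sum_sub_distrib, smul_sub, ← hπ, Finset.sum_const, Finset.card_univ,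
        ← Nat.cast_smul_eq_nsmul (ZMod 3), smul_smul, mul_comm, hc, one_smul, add_sub_cancel]
    rw [h0, eq_comm, add_eq_zero_iff_eq_neg] at hsum
    rw [hsum]
    exact neg_mem (Submodule.smul_mem _ _ (Submodule.sum_mem _ fun r _ => (hRM r.2).2 y))
  refine ⟨?_, F₀, F₁, hinf, hsup, fun r hr v hv => hv r hr, hinv, hfaith0, hirr⟩
  -- the group `R B` on `F₀`
  let G₀ : Subgroup S := R ⊔ B
  let σ : Representation (ZMod 3) G₀ F₀ :=
    { toFun := fun g => (ρ (g : S)).restrict (hinv g g.2)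
      map_one' := LinearMap.ext fun v => Subtype.ext (rep_one ρ (v : E))
      map_mul' := fun g k => LinearMap.ext fun v => Subtype.ext (rep_mul ρ (g : S) k (v : E)).symm }
  have hbG : b ∈ G₀ := mem_sup_right hbB
  haveI : Group.IsSolvable G₀ := inferInstance
  have hset : Setting σ (R.subgroupOf G₀) (Q.subgroupOf G₀) (⟨b, hbG⟩ : G₀) := by
    have hRG : R ≤ G₀ := le_sup_left
    have hQG : Q ≤ G₀ := hQR.trans hRG
    have hz : (zpowers (⟨b, hbG⟩ : G₀)).map G₀.subtype = B := by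
      rw [MonoidHom.map_zpowers]; exact hb
    refine
      { faith := fun g k e => ?_
        irr := fun N hN => ?_
        normalR := (normal_subgroupOf_iff_le_normalizer hRG).2 hle
        cop := (Nat.card_congr (subgroupOfEquivOfLe hRG).toEquiv).symm ▸ hcop
        b3 := Subtype.ext hb3
        bR := fun h' => hbR' (mem_subgroupOf.1 h')
        supTop := ?_
        full := ?_
        rank := ?_
        solvable := inferInstance
        Q4 := (Nat.card_congr (subgroupOfEquivOfLe hQG).toEquiv).trans hQ4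
        Q2 := fun q hq => Subtype.ext (hQ2 q (mem_subgroupOf.1 hq))
        QR := fun q hq => mem_subgroupOf.2 (hQR (mem_subgroupOf.1 hq))
        bQ := ?_
        nc := ⟨⟨q₀, hQG hq₀⟩, mem_subgroupOf.2 hq₀, fun e => hq₀m (congrArg Subtype.val e)⟩ }
    · refine inv_mul_eq_one.1 (Subtype.ext (hfaith0 _ (g⁻¹ * k).2 fun v hv => ?_))
      have h1 : ρ (g : S) v = ρ (k : S) v := congrArg Subtype.val (LinearMap.congr_fun e ⟨v, hv⟩)
      rw [Subgroup.coe_mul, Subgroup.coe_inv, ← rep_mul, ← h1, rep_inv_apply]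
    · rcases hirr (N.map F₀.subtype) (Submodule.map_subtype_le _ _) (fun r hr x hx => by
        obtain ⟨y, hy, rfl⟩ := hx
        exact ⟨_, hN ⟨r, hr⟩ y hy, rfl⟩) with e | e
      · exact Or.inl (Submodule.map_injective_of_injective F₀.injective_subtype (e.trans (Submodule.map_bot _).symm))
      · exact Or.inr (Submodule.map_injective_of_injective F₀.injective_subtype
          (e.trans (Submodule.map_subtype_top F₀).symm))
    · refine map_injective G₀.subtype_injective ?_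
      rw [Subgroup.map_sup, hz, map_subgroupOf_eq_of_le hRG, ← MonoidHom.range_eq_map, range_subtype]
    · refine map_injective G₀.subtype_injective ?_
      rw [map_commutator, hz, map_subgroupOf_eq_of_le hRG, hfull]
    · refine le_trans ?_ hrank
      rw [← Submodule.finrank_map_subtype_eq F₀]
      haveI : FiniteDimensional (ZMod 3) E := Module.Finite.of_finite
      refine Submodule.finrank_mono ?_
      rintro _ ⟨_, ⟨v, rfl⟩, rfl⟩
      exact ⟨(v : E), rfl⟩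
    · refine mem_normalizer_iff.2 fun q => ?_
      exact mem_normalizer_iff.1 (hBQ hbB) (q : S)
  have hRG : R ≤ G₀ := le_sup_left
  let eR : R.subgroupOf G₀ ≃* R := subgroupOfEquivOfLe hRG
  rcases core hset with ⟨hel, hc4⟩ | ⟨hex, h32, D, hDR, hD, hD8⟩
  · left
    refine ⟨⟨⟨⟨fun x y => ?_⟩⟩, fun x hx => ?_⟩, (Nat.card_congr eR.toEquiv).symm.trans hc4⟩
    · apply eR.symm.injective
      rw [map_mul, map_mul]
      exact hel.1.is_comm.comm _ _
    · exact congrArg Subtype.val (hel.2 ⟨x, hRG hx⟩ (mem_subgroupOf.2 hx))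
  · right
    haveI : Fact (Nat.Prime 2) := ⟨Nat.prime_two⟩
    refine ⟨extraspecial_congr hex eR, (Nat.card_congr eR.toEquiv).symm.trans h32, D.map G₀.subtype, ?_,
      ⟨⟨⟨fun x y => Subtype.ext ?_⟩⟩, ?_⟩, ?_⟩
    · rw [← map_subgroupOf_eq_of_le hRG]; exact map_mono hDR
    · obtain ⟨x', hx', ex⟩ := x.2
      obtain ⟨y', hy', ey⟩ := y.2
      show (x : S) * y = y * x
      rw [← ex, ← ey]
      exact congrArg (fun z : D => ((z : G₀) : S)) (hD.1.is_comm.comm ⟨x', hx'⟩ ⟨y', hy'⟩)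
    · rintro _ ⟨x, hx, rfl⟩
      exact congrArg Subtype.val (hD.2 x hx)
    · rw [← Nat.card_congr (D.equivMapOfInjective _ G₀.subtype_injective).toEquiv, hD8]

end CfsgLib.Pairs.Cubic
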