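import Mathlib
import Cfsg.Agent.Lib.PGroups.Basic

/-!
An elementary abelian group of order eight acting on a `p`-group, `p` odd, with few non-cyclic
fixed-point subgroups.
-/

set_option autoImplicit false
set_option linter.style.haveILetI false

namespace CfsgLib.Pairs.EightAut

open Subgroup
open scoped commutatorElement

variable {P : Type*} [Group P]

/-- `T` fixes more than a cyclic subgroup -/
def Broad (T : MulAut P) : Prop := ¬ ∃ g : P, ∀ x : P, (T x = x ↔ x ∈ zpowers g)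

theorem comm_swap {G : Type*} [Group G] {x y : G} (hc : ∀ g, Commute ⁅x, y⁆ g) :
    ⁅x⁻¹, y⁆ = ⁅x, y⁆⁻¹ ∧ ⁅x, y⁻¹⁆ = ⁅x, y⁆⁻¹ ∧ ⁅x⁻¹, y⁻¹⁆ = ⁅x, y⁆ := by
  have key : ∀ a b : G, (∀ g, Commute ⁅a, b⁆ g) → ⁅a⁻¹, b⁆ = ⁅a, b⁆⁻¹ ∧ ⁅a, b⁻¹⁆ = ⁅a, b⁆⁻¹ := by
    intro a b hab
    constructor
    · calc ⁅a⁻¹, b⁆ = a⁻¹ * ⁅a, b⁆⁻¹ * a := by simp only [commutatorElement_def]; group
        _ = a⁻¹ * a * ⁅a, b⁆⁻¹ := by rw [mul_assoc, (hab a).inv_left.eq, ← mul_assoc]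
        _ = _ := by group
    · calc ⁅a, b⁻¹⁆ = b⁻¹ * ⁅a, b⁆⁻¹ * b := by simp only [commutatorElement_def]; group
        _ = b⁻¹ * b * ⁅a, b⁆⁻¹ := by rw [mul_assoc, (hab b).inv_left.eq, ← mul_assoc]
        _ = _ := by group
  obtain ⟨h1, h2⟩ := key x y hc
  refine ⟨h1, h2, ?_⟩
  rw [(key x⁻¹ y (by rw [h1]; exact fun g => (hc g).inv_left)).2, h1, _root_.inv_inv]

variable [Finite P]

/-- a fixed point in an invariant coset -/
theorem exists_fixed_in_coset {d : MulAut P} (hd : d * d = 1) (hodd : Odd (Nat.card P)) (N : Subgroup P) {x : P}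
    (hx : x⁻¹ * d x ∈ N) : ∃ z, d z = z ∧ x⁻¹ * z ∈ N := by
  set u := x⁻¹ * d x with hu
  have hd2 : ∀ y, d (d y) = y := fun y => by rw [← MulAut.mul_apply, hd, MulAut.one_apply]
  have hdu : d u = u⁻¹ := by rw [hu, map_mul, map_inv, hd2, _root_.mul_inv_rev, _root_.inv_inv]
  obtain ⟨k, hk⟩ := (hodd.of_dvd_nat (orderOf_dvd_natCard u))
  set v := u ^ (k + 1) with hv
  have hv2 : v * v = u := by
    rw [hv, ← pow_add, show k + 1 + (k + 1) = orderOf u + 1 by omega, pow_succ, pow_orderOf_eq_one, one_mul]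
  refine ⟨x * v, ?_, by rw [inv_mul_cancel_left]; exact pow_mem hx _⟩
  rw [map_mul, show d x = x * u by rw [hu, mul_inv_cancel_left], show d v = v⁻¹ by rw [hv, map_pow, hdu, inv_pow],
    mul_assoc, ← hv2, mul_inv_cancel_right]

theorem mem_of_sq_mem (hodd : Odd (Nat.card P)) {H : Subgroup P} {x : P} (h : x * x ∈ H) : x ∈ H := by
  obtain ⟨k, hk⟩ := hodd.of_dvd_nat (orderOf_dvd_natCard x)
  have h1 : (x * x) ^ (k + 1) = x := by
    rw [← pow_two, ← pow_mul, show 2 * (k + 1) = orderOf x + 1 by omega, pow_succ, pow_orderOf_eq_one, one_mul]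
  exact h1 ▸ pow_mem h _

/-- the fixed points of three involutions forming a four-group generate -/
theorem sup_fixed_eq_top (hodd : Odd (Nat.card P)) [hnil : Group.IsNilpotent P] {d₁ d₂ d₃ : MulAut P}
    (h1 : d₁ * d₁ = 1) (h2 : d₂ * d₂ = 1) (h3 : d₁ * d₂ = d₃) (h12 : d₁ * d₂ = d₂ * d₁) (H : Subgroup P)
    (hH1 : ∀ x, d₁ x = x → x ∈ H) (hH2 : ∀ x, d₂ x = x → x ∈ H) (hH3 : ∀ x, d₃ x = x → x ∈ H) : H = ⊤ := by
  have h3' : d₃ * d₃ = 1 := by
    rw [← h3]; calc d₁ * d₂ * (d₁ * d₂) = d₁ * (d₂ * d₁) * d₂ := by group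
      _ = (d₁ * d₁) * (d₂ * d₂) := by rw [← h12]; group
      _ = 1 := by rw [h1, h2, one_mul]
  refine frattini_nongenerating (eq_top_iff.2 fun x _ => ?_)
  haveI : (frattini P).Characteristic := inferInstance
  haveI : (frattini P).Normal := inferInstance
  let π := QuotientGroup.mk' (frattini P)
  have hab : ∀ a b : P, π a * π b = π b * π a := by
    haveI : IsMulCommutative (P ⧸ frattini P) :=
      Subgroup.Normal.quotient_commutative_iff_commutator_le.2 CfsgLib.PGroups.commutator_le_frattini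
    intro a b
    exact mul_comm' (π a) (π b)
  have hch : ∀ (d : MulAut P) (y : P), y ∈ frattini P → d y ∈ frattini P := fun d y hy => by
    have := Subgroup.characteristic_iff_map_eq.1 (inferInstance : (frattini P).Characteristic) d
    exact this ▸ ⟨y, hy, rfl⟩
  have hπ : ∀ (d : MulAut P) {a b : P}, π a = π b → π (d a) = π (d b) := fun d {a b} h => by
    refine QuotientGroup.eq.2 ?_
    rw [← map_inv, ← map_mul]
    exact hch d _ (QuotientGroup.eq.1 h)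
  have hlift : ∀ (d : MulAut P), d * d = 1 → (∀ z, d z = z → z ∈ H) → ∀ y, π (d y) = π y →
      π y ∈ H.map π := by
    intro d hd hdH y hy
    obtain ⟨z, hz, hzy⟩ := exists_fixed_in_coset hd hodd (frattini P) (QuotientGroup.eq.1 hy.symm)
    exact ⟨z, hdH z hz, (QuotientGroup.eq.2 hzy).symm⟩
  have hfix : ∀ (d : MulAut P), d * d = 1 → π (d (x * d x)) = π (x * d x) := fun d hd => by
    rw [map_mul d, show d (d x) = x by rw [← MulAut.mul_apply, hd, MulAut.one_apply], map_mul π, map_mul π, hab]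
  have e31 : d₁ * d₃ = d₂ := by rw [← h3, ← mul_assoc, h1, one_mul]
  set q := x * d₁ x * d₂ x * d₃ x with hq
  have hq1 : π (d₁ q) = π q := by
    simp only [hq, map_mul, ← MulAut.mul_apply, h1, h3, e31, MulAut.one_apply]
    rw [hab (d₁ x) x, mul_assoc, hab (d₃ x) (d₂ x), ← mul_assoc]
  have m1 := hlift d₁ h1 hH1 _ (hfix d₁ h1)
  have m2 := hlift d₂ h2 hH2 _ (hfix d₂ h2)
  have m3 := hlift d₃ h3' hH3 _ (hfix d₃ h3')
  have m4 := hlift d₁ h1 hH1 _ hq1
  have hsq : π (x * x) = π (x * d₁ x) * π (x * d₂ x) * π (x * d₃ x) * (π q)⁻¹ := by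
    letI : CommGroup (P ⧸ frattini P) := { (inferInstance : Group (P ⧸ frattini P)) with
      mul_comm := fun a b => QuotientGroup.induction_on a fun a => QuotientGroup.induction_on b fun b => hab a b }
    have key : ∀ u v w t : P ⧸ frattini P, u * u = u * v * (u * w) * (u * t) * (u * v * w * t)⁻¹ := by
      intro u v w t
      rw [eq_mul_inv_iff_mul_eq]
      ac_rfl
    simp only [hq, map_mul]
    exact key _ _ _ _
  have hmem : x * x ∈ H ⊔ frattini P := by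
    have : π (x * x) ∈ H.map π := hsq ▸ mul_mem (mul_mem (mul_mem m1 m2) m3) (inv_mem m4)
    rw [← Subgroup.mem_comap, comap_map_eq, QuotientGroup.ker_mk'] at this
    exact this
  exact mem_of_sq_mem hodd hmem

theorem fixes_or_inverts {p : ℕ} (hp : p.Prime) (hp2 : p ≠ 2) (hP : IsPGroup p P) {T : MulAut P}
    (hT : T * T = 1) {c : P} (hc : T c ∈ zpowers c) : T c = c ∨ T c = c⁻¹ := by
  haveI := Fact.mk hp
  obtain ⟨k, hk⟩ := mem_zpowers_iff.1 hc
  obtain ⟨m, hm⟩ := IsPGroup.iff_orderOf.1 hP c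
  have h1 : c ^ (k * k) = c := by
    rw [zpow_mul, hk, ← map_zpow, hk, ← MulAut.mul_apply, hT, MulAut.one_apply]
  have h2 : ((p : ℤ) ^ m) ∣ (k - 1) * (k + 1) := by
    rw [← Nat.cast_pow, ← hm]
    refine orderOf_dvd_iff_zpow_eq_one.2 ?_
    rw [show (k - 1) * (k + 1) = k * k - 1 by ring, zpow_sub, h1, zpow_one, mul_inv_cancel]
  have hpp : Prime (p : ℤ) := Nat.prime_iff_prime_int.1 hp
  by_cases hd : (p : ℤ) ∣ k - 1
  · have hnd : ¬ (p : ℤ) ∣ k + 1 := fun h => by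
      have h3 : (p : ℤ) ∣ (2 : ℕ) := by
        have := dvd_sub h hd
        rwa [show k + 1 - (k - 1) = 2 by ring] at this
      exact hp2 ((Nat.prime_dvd_prime_iff_eq hp Nat.prime_two).1 (Int.natCast_dvd_natCast.1 h3))
    have h4 := (hpp.coprime_iff_not_dvd.2 hnd).pow_left (m := m)
    left
    rw [← hk]
    conv_rhs => rw [← zpow_one c]
    rw [zpow_eq_zpow_iff_modEq, hm, Nat.cast_pow, Int.modEq_iff_dvd]
    exact (dvd_neg.2 (h4.dvd_of_dvd_mul_right h2)).trans (dvd_of_eq (by ring))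
  · have h4 := (hpp.coprime_iff_not_dvd.2 hd).pow_left (m := m)
    right
    rw [← hk, ← zpow_neg_one, zpow_eq_zpow_iff_modEq, hm, Nat.cast_pow, Int.modEq_iff_dvd]
    exact (dvd_neg.2 (h4.dvd_of_dvd_mul_left h2)).trans (dvd_of_eq (by ring))

omit [Finite P] in
theorem exists_four (I : Subgroup (MulAut P)) (hI : ∀ T ∈ I, T * T = 1) (hI8 : Nat.card I = 8)
    [Finite (MulAut P)] (u v : MulAut P) (hu : u ∈ I) (hv : v ∈ I) (hu1 : u ≠ 1) (hv1 : v ≠ 1) :
    ∃ x y : MulAut P, x ∈ I ∧ y ∈ I ∧ x ≠ 1 ∧ y ≠ 1 ∧ x ≠ y ∧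
      x ≠ u ∧ y ≠ u ∧ x * y ≠ u ∧ x ≠ v ∧ y ≠ v ∧ x * y ≠ v := by
  classical
  have pick : ∀ a b c d : MulAut P, ∃ w ∈ I, w ≠ a ∧ w ≠ b ∧ w ≠ c ∧ w ≠ d := by
    intro a b c d
    by_contra! h
    have hsub : (I : Set (MulAut P)) ⊆ ({a, b, c, d} : Finset (MulAut P)) := fun w hw => by
      simp only [Finset.coe_insert, Finset.coe_singleton, Set.mem_insert_iff, Set.mem_singleton_iff]
      by_contra! h'
      exact h'.2.2.2 (h w hw h'.1 h'.2.1 h'.2.2.1)
    have h1 := Set.ncard_le_ncard hsub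
    rw [← Nat.card_coe_set_eq, SetLike.coe_sort_coe, hI8, Set.ncard_coe_finset] at h1
    exact absurd (h1.trans Finset.card_le_four) (by omega)
  have hc : ∀ a ∈ I, ∀ b ∈ I, a * b = b * a := fun a ha b hb => by
    have := hI _ (mul_mem ha hb)
    calc a * b = a * (a * b * (a * b)) * b := by rw [this, mul_one]
      _ = (a * a) * b * a * (b * b) := by group
      _ = b * a := by rw [hI a ha, hI b hb, one_mul, mul_one]
  have hinv : ∀ {a}, a ∈ I → a⁻¹ = a := fun {a} ha => inv_eq_of_mul_eq_one_right (hI a ha)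
  by_cases huv : u = v
  · subst huv
    obtain ⟨x, hx, hx1, hxu, -, -⟩ := pick 1 u 1 1
    obtain ⟨y, hy, hy1, hyu, hyx, hyxu⟩ := pick 1 u x (x * u)
    refine ⟨x, y, hx, hy, hx1, hy1, Ne.symm hyx, hxu, hyu, ?_, hxu, hyu, ?_⟩ <;>
    · intro e
      exact hyxu (by rw [← e, ← mul_assoc, hI x hx, one_mul])
  · obtain ⟨w, hw, hw1, hwu, hwv, hwuv⟩ := pick 1 u v (u * v)
    refine ⟨u * v, w, mul_mem hu hv, hw, fun e => huv ?_, hw1, Ne.symm hwuv, fun e => hv1 ?_, hwu, ?_,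
      fun e => hu1 ?_, hwv, ?_⟩
    · rw [eq_inv_of_mul_eq_one_left e, hinv hv]
    · exact mul_left_cancel (e.trans (mul_one u).symm)
    · intro e
      exact hwv (by rw [← hinv hv]; exact eq_inv_of_mul_eq_one_right (mul_left_cancel ((mul_assoc u v w).symm.trans (e.trans (mul_one u).symm))))
    · exact mul_right_cancel (e.trans (one_mul v).symm)
    · intro e
      rw [hc u hu v hv, mul_assoc] at e
      exact hwu (by rw [← hinv hu]; exact eq_inv_of_mul_eq_one_right (mul_left_cancel (e.trans (mul_one v).symm)))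

theorem main {p : ℕ} (hp : p.Prime) (hp2 : p ≠ 2) (hP : IsPGroup p P)
    (I : Subgroup (MulAut P)) (hI : ∀ T ∈ I, T * T = 1) (hI8 : Nat.card I = 8)
    (I₀ : Subgroup (MulAut P)) (hI₀ : I₀ < I) (hdisj : ∀ T ∈ I₀, T ≠ 1 → ¬ Broad T)
    (hprod : ∀ T ∈ I, ∀ T' ∈ I, T ≠ 1 → T' ≠ 1 → Broad T → Broad T' → T * T' ∈ I₀) :
    IsMulCommutative P ∧ (∃ a b c : P, Subgroup.closure {a, b, c} = ⊤) ∧ (¬ ∃ a b : P, Subgroup.closure {a, b} = ⊤) ∧
      Nat.card {T : MulAut P // T ∈ I ∧ T ≠ 1 ∧ Broad T} = 3 ∧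
      Subgroup.closure {T : MulAut P | T ∈ I ∧ T ≠ 1 ∧ Broad T} = I ∧
      (I₀ : Set (MulAut P)) = {S : MulAut P | ∃ T T' : MulAut P, T ∈ I ∧ T' ∈ I ∧ T ≠ 1 ∧ T' ≠ 1 ∧
        Broad T ∧ Broad T' ∧ S = T * T'} := by
  classical
  haveI := Fact.mk hp
  haveI : Finite (MulAut P) := Finite.of_injective _ DFunLike.coe_injective
  haveI hnil : Group.IsNilpotent P := hP.isNilpotent
  have hodd : Odd (Nat.card P) := by
    obtain ⟨n, hn⟩ := IsPGroup.iff_card.1 hP
    rw [hn]; exact (hp.odd_of_ne_two hp2).pow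
  have hcI : ∀ a ∈ I, ∀ b ∈ I, a * b = b * a := fun a ha b hb => by
    have := hI _ (mul_mem ha hb)
    calc a * b = a * (a * b * (a * b)) * b := by rw [this, mul_one]
      _ = (a * a) * b * a * (b * b) := by group
      _ = b * a := by rw [hI a ha, hI b hb, one_mul, mul_one]
  -- a four-group without broad elements
  obtain ⟨x, y, hx, hy, hx1, hy1, hxy, nx, ny, nxy⟩ : ∃ x y : MulAut P, x ∈ I ∧ y ∈ I ∧ x ≠ 1 ∧ y ≠ 1 ∧ x ≠ y ∧
      ¬ Broad x ∧ ¬ Broad y ∧ ¬ Broad (x * y) := by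
    by_cases hBd : ∃ u v, u ∈ I ∧ v ∈ I ∧ u ≠ 1 ∧ v ≠ 1 ∧ ∀ T ∈ I, T ≠ 1 → Broad T → T = u ∨ T = v
    · obtain ⟨u, v, hu, hv, hu1, hv1, huv⟩ := hBd
      obtain ⟨x, y, hx, hy, hx1, hy1, hxy, a1, a2, a3, b1, b2, b3⟩ := exists_four I hI hI8 u v hu hv hu1 hv1
      have hxy1 : x * y ≠ 1 := fun e => hxy (by
        rw [eq_inv_of_mul_eq_one_left e, inv_eq_of_mul_eq_one_right (hI y hy)])
      refine ⟨x, y, hx, hy, hx1, hy1, hxy, fun h => ?_, fun h => ?_, fun h => ?_⟩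
      · exact (huv x hx hx1 h).elim a1 b1
      · exact (huv y hy hy1 h).elim a2 b2
      · exact (huv _ (mul_mem hx hy) hxy1 h).elim a3 b3
    · -- at least three broad elements, so `I₀` has two nontrivial elements
      push Not at hBd
      haveI : Nontrivial I := Finite.one_lt_card_iff_nontrivial.1 (by rw [hI8]; norm_num)
      obtain ⟨⟨u, hu⟩, hu1⟩ := exists_ne (1 : I)
      have hu1' : u ≠ 1 := fun e => hu1 (Subtype.ext e)
      obtain ⟨a, ha, ha1, hab, -, -⟩ := hBd u u hu hu hu1' hu1'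
      obtain ⟨b, hb, hb1, hbb, hba, -⟩ := hBd a a ha ha ha1 ha1
      obtain ⟨c, hc, hc1, hcb, hca, hcb'⟩ := hBd a b ha hb ha1 hb1
      have hx : a * b ∈ I₀ := hprod a ha b hb ha1 hb1 hab hbb
      have hy : a * c ∈ I₀ := hprod a ha c hc ha1 hc1 hab hcb
      have hne : ∀ {d}, d ∈ I → d ≠ a → a * d ≠ 1 := fun {d} hd hda e =>
        hda (by rw [← inv_eq_of_mul_eq_one_right (hI a ha), eq_inv_of_mul_eq_one_right e])
      refine ⟨a * b, a * c, hI₀.le hx, hI₀.le hy, hne hb hba, hne hc hca, fun e => hcb' (mul_left_cancel e).symm,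
        hdisj _ hx (hne hb hba), hdisj _ hy (hne hc hca), ?_⟩
      by_cases h1 : a * b * (a * c) = 1
      · exfalso
        refine hcb' ?_
        have := eq_inv_of_mul_eq_one_right h1
        rw [inv_eq_of_mul_eq_one_right (hI _ (mul_mem ha hb))] at this
        exact mul_left_cancel this
      · exact hdisj _ (mul_mem hx hy) h1
  obtain ⟨z, hz⟩ : ∃ z, z = x * y := ⟨_, rfl⟩
  rw [← hz] at nxy
  have hzI : z ∈ I := hz ▸ mul_mem hx hy
  have hz1 : z ≠ 1 := fun e => hxy (by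
    rw [eq_inv_of_mul_eq_one_left (hz.symm.trans e), inv_eq_of_mul_eq_one_right (hI y hy)])
  obtain ⟨c₁, hc₁⟩ := not_not.1 nx
  obtain ⟨c₂, hc₂⟩ := not_not.1 ny
  obtain ⟨c₃, hc₃⟩ := not_not.1 nxy
  have hgen : closure {c₁, c₂, c₃} = (⊤ : Subgroup P) := by
    have k1 : zpowers c₁ ≤ closure {c₁, c₂, c₃} := zpowers_le.2 (subset_closure (Set.mem_insert _ _))
    have k2 : zpowers c₂ ≤ closure {c₁, c₂, c₃} :=
      zpowers_le.2 (subset_closure (Set.mem_insert_of_mem _ (Set.mem_insert _ _)))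
    have k3 : zpowers c₃ ≤ closure {c₁, c₂, c₃} :=
      zpowers_le.2 (subset_closure (Set.mem_insert_of_mem _ (Set.mem_insert_of_mem _ rfl)))
    have e1 : ∀ w : P, x w = w → w ∈ closure {c₁, c₂, c₃} := fun w hw => k1 ((hc₁ w).1 hw)
    have e2 : ∀ w : P, y w = w → w ∈ closure {c₁, c₂, c₃} := fun w hw => k2 ((hc₂ w).1 hw)
    have e3 : ∀ w : P, z w = w → w ∈ closure {c₁, c₂, c₃} := fun w hw => k3 ((hc₃ w).1 hw)
    exact sup_fixed_eq_top (d₁ := x) (d₂ := y) (d₃ := z) hodd (hI x hx) (hI y hy) hz.symm (hcI x hx y hy) _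
      e1 e2 e3
  have hsgn : ∀ {d c}, d ∈ I → (∀ w, d w = w ↔ w ∈ zpowers c) → ∀ T ∈ I, T c = c ∨ T c = c⁻¹ := by
    intro d c hd hdc T hT
    refine fixes_or_inverts hp hp2 hP (hI T hT) ((hdc _).1 ?_)
    rw [← MulAut.mul_apply, hcI d hd T hT, MulAut.mul_apply, (hdc c).2 (mem_zpowers c)]
  let f : I → Bool × Bool × Bool := fun T =>
    (decide ((T : MulAut P) c₁ = c₁), decide ((T : MulAut P) c₂ = c₂), decide ((T : MulAut P) c₃ = c₃))
  have hfinj : Function.Injective f := by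
    rintro ⟨S, hS⟩ ⟨T, hT⟩ h
    simp only [f, Prod.mk.injEq, decide_eq_decide] at h
    obtain ⟨e1, e2, e3⟩ := h
    have key : ∀ {d c}, d ∈ I → (∀ w, d w = w ↔ w ∈ zpowers c) → (S c = c ↔ T c = c) → S c = T c := by
      intro d c hd hdc he
      rcases hsgn hd hdc S hS with h | h <;> rcases hsgn hd hdc T hT with h' | h'
      · rw [h, h']
      · rw [h, he.1 h]
      · rw [h', he.2 h']
      · rw [h, h']
    refine Subtype.ext (MulEquiv.ext fun w => ?_)
    have hle : closure {c₁, c₂, c₃} ≤ (S.toMonoidHom).eqLocus T.toMonoidHom := by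
      rw [closure_le]
      rintro u (rfl | rfl | rfl)
      exacts [key hx hc₁ e1, key hy hc₂ e2, key hzI hc₃ e3]
    exact hle (hgen ▸ mem_top w)
  have hfb : Function.Bijective f := by
    refine hfinj.bijective_of_nat_card_le ?_
    rw [hI8]; simp
  have hget : ∀ q : Bool × Bool × Bool, ∃ T ∈ I, (T c₁ = c₁ ↔ q.1 = true) ∧ (T c₂ = c₂ ↔ q.2.1 = true) ∧
      (T c₃ = c₃ ↔ q.2.2 = true) := fun q => by
    obtain ⟨⟨T, hT⟩, rfl⟩ := hfb.2 q
    exact ⟨T, hT, by simp [f], by simp [f], by simp [f]⟩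
  obtain ⟨T₁, hT₁, a1, a2, a3⟩ := hget (false, true, true)
  obtain ⟨T₂, hT₂, b1, b2, b3⟩ := hget (true, false, true)
  obtain ⟨T₃, hT₃, g1, g2, g3⟩ := hget (true, true, false)
  obtain ⟨m, hm, m1, m2, m3⟩ := hget (false, false, false)
  simp only [Bool.false_eq_true, iff_false, iff_true] at a1 a2 a3 b1 b2 b3 g1 g2 g3 m1 m2 m3
  have hne : ∀ {T : MulAut P} {c : P}, ¬ T c = c → T ≠ 1 := fun {T c} h e => h (by rw [e]; rfl)
  have hT₁1 := hne a1
  have hT₂1 := hne b2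
  have hT₃1 := hne g3
  -- `x` inverts `c₂` and `c₃`, and so on
  have hfixz : ∀ {T : MulAut P} {c w : P}, T c = c → w ∈ zpowers c → T w = w := by
    intro T c w h hw
    obtain ⟨k, rfl⟩ := mem_zpowers_iff.1 hw
    rw [map_zpow, h]
  have hcode : ∀ {d : MulAut P} {c c' : P} {T : MulAut P}, (∀ w, d w = w ↔ w ∈ zpowers c) → T c = c → ¬ T c' = c' →
      ¬ d c' = c' := fun hdc h1 h2 h => h2 (hfixz h1 ((hdc _).1 h))
  have x1 : x c₁ = c₁ := (hc₁ c₁).2 (mem_zpowers c₁)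
  have y2 : y c₂ = c₂ := (hc₂ c₂).2 (mem_zpowers c₂)
  have z3 : z c₃ = c₃ := (hc₃ c₃).2 (mem_zpowers c₃)
  have x2 : ¬ x c₂ = c₂ := hcode hc₁ b1 b2
  have x3 : ¬ x c₃ = c₃ := hcode hc₁ g1 g3
  have y1 : ¬ y c₁ = c₁ := hcode hc₂ a2 a1
  have y3 : ¬ y c₃ = c₃ := hcode hc₂ g2 g3
  have z1' : ¬ z c₁ = c₁ := hcode hc₃ a3 a1
  have z2' : ¬ z c₂ = c₂ := hcode hc₃ b3 b2
  have inv₁ := fun {T} (hT : T ∈ I) (h : ¬ T c₁ = c₁) => (hsgn hx hc₁ T hT).resolve_left h
  have inv₂ := fun {T} (hT : T ∈ I) (h : ¬ T c₂ = c₂) => (hsgn hy hc₂ T hT).resolve_left h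
  have inv₃ := fun {T} (hT : T ∈ I) (h : ¬ T c₃ = c₃) => (hsgn hzI hc₃ T hT).resolve_left h
  -- `P` is abelian
  have hcomm : ∀ u v : P, u * v = v * u := by
    set K : Subgroup P := ⁅_root_.commutator P, (⊤ : Subgroup P)⁆ with hK
    haveI : (_root_.commutator P).Characteristic := inferInstance
    haveI : K.Characteristic := inferInstance
    let π := QuotientGroup.mk' K
    have hcen : ∀ u v g : P, Commute ⁅π u, π v⁆ (π g) := by
      intro u v g
      rw [← map_commutatorElement, commute_iff_eq, ← commutatorElement_eq_one_iff_mul_comm, ← map_commutatorElement]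
      exact (QuotientGroup.eq_one_iff _).2 (commutator_mem_commutator
        (commutator_mem_commutator (mem_top u) (mem_top v)) (mem_top g))
    have hcen' : ∀ u v : P, ∀ g : P ⧸ K, Commute ⁅π u, π v⁆ g := fun u v g =>
      QuotientGroup.induction_on g fun g => hcen u v g
    have step : ∀ {c c' : P} {d T : MulAut P} {cd : P}, d ∈ I → (∀ w, d w = w ↔ w ∈ zpowers cd) →
        d c = c⁻¹ → d c' = c'⁻¹ → T cd = cd → T c = c⁻¹ → T c' = c' → ⁅π c, π c'⁆ = 1 := by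
      intro c c' d T cd hd hdc hdc1 hdc2 hTcd hTc hTc'
      have e1 : π (d ⁅c, c'⁆) = ⁅π c, π c'⁆ := by
        rw [map_commutatorElement, map_commutatorElement, hdc1, hdc2, map_inv, map_inv, (comm_swap (hcen' c c')).2.2]
      have e2 : π (T ⁅c, c'⁆) = ⁅π c, π c'⁆⁻¹ := by
        rw [map_commutatorElement, map_commutatorElement, hTc, hTc', map_inv, (comm_swap (hcen' c c')).1]
      obtain ⟨w, hw, hwK⟩ := exists_fixed_in_coset (hI d hd) hodd K
        (QuotientGroup.eq.1 ((map_commutatorElement π c c').trans e1.symm))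
      have hTw : T w = w := hfixz hTcd ((hdc w).1 hw)
      have e3 : π (T ⁅c, c'⁆) = π w := by
        have : T (⁅c, c'⁆⁻¹ * w) ∈ K :=
          (Subgroup.characteristic_iff_map_eq.1 (inferInstance : K.Characteristic) T) ▸ ⟨_, hwK, rfl⟩
        rw [map_mul, map_inv, hTw] at this
        exact QuotientGroup.eq.2 this
      have e4 : π w = ⁅π c, π c'⁆ := (QuotientGroup.eq.2 hwK).symm.trans (map_commutatorElement π c c')
      rw [e2, e4] at e3
      have hodd' : Odd (Nat.card (P ⧸ K)) := hodd.of_dvd_nat (card_quotient_dvd_card K)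
      have hsq : ⁅π c, π c'⁆ * ⁅π c, π c'⁆ = 1 := by
        nth_rw 1 [← e3]; exact inv_mul_cancel _
      exact Subgroup.mem_bot.1 (mem_of_sq_mem hodd' (H := ⊥) (Subgroup.mem_bot.2 hsq))
    have h12 := step hzI hc₃ (inv₁ hzI z1') (inv₂ hzI z2') a3 (inv₁ hT₁ a1) a2
    have h13 := step hy hc₂ (inv₁ hy y1) (inv₃ hy y3) a2 (inv₁ hT₁ a1) a3
    have h23 := step hx hc₁ (inv₂ hx x2) (inv₃ hx x3) b1 (inv₂ hT₂ b2) b3
    rw [commutatorElement_eq_one_iff_mul_comm] at h12 h13 h23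
    have hab : ∀ u v : P, π u * π v = π v * π u := by
      have hle : closure {c₁, c₂, c₃} ≤ (centralizer ({π c₁, π c₂, π c₃} : Set (P ⧸ K))).comap π := by
        rw [closure_le]
        rintro w (rfl | rfl | rfl) <;> simp only [SetLike.mem_coe, mem_comap, mem_centralizer_iff] <;>
          rintro g (rfl | rfl | rfl) <;> first | rfl | assumption | exact (Eq.symm ‹_›)
      intro u v
      have hu := mem_centralizer_iff.1 (hle (hgen ▸ mem_top u))
      have hle2 : closure {c₁, c₂, c₃} ≤ (centralizer ({π u} : Set (P ⧸ K))).comap π := by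
        rw [closure_le]
        rintro w (rfl | rfl | rfl) <;> simp only [SetLike.mem_coe, mem_comap, mem_centralizer_singleton_iff] <;>
          exact hu _ (by simp)
      exact (mem_centralizer_singleton_iff.1 (hle2 (hgen ▸ mem_top v))).symm
    have hle : _root_.commutator P ≤ K := by
      rw [commutator_def, Subgroup.commutator_le]
      intro u _ v _
      rw [← QuotientGroup.eq_one_iff]
      show π ⁅u, v⁆ = 1
      rw [map_commutatorElement, commutatorElement_eq_one_iff_mul_comm]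
      exact hab u v
    obtain ⟨n, hn⟩ := Subgroup.nilpotent_iff_lowerCentralSeries.1 hnil
    have hall : ∀ n, _root_.commutator P ≤ Subgroup.lowerCentralSeries (⊤ : Subgroup P) n := by
      intro n
      induction n with
      | zero => exact le_top
      | succ n ih =>
        refine hle.trans (Subgroup.commutator_mono ih le_rfl |>.trans ?_)
        exact le_of_eq rfl
    intro u v
    rw [← commutatorElement_eq_one_iff_mul_comm]
    exact Subgroup.mem_bot.1 (hn ▸ hall n (commutator_mem_commutator (mem_top u) (mem_top v)))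
  letI : CommGroup P := { ‹Group P› with mul_comm := hcomm }
  have hsq1 : ∀ w : P, w * w = 1 → w = 1 := fun w hw =>
    Subgroup.mem_bot.1 (mem_of_sq_mem hodd (H := ⊥) (Subgroup.mem_bot.2 hw))
  have hm1' : ∀ w, m w = w⁻¹ := by
    intro w
    have hle : closure {c₁, c₂, c₃} ≤ m.toMonoidHom.eqLocus (invMonoidHom : P →* P) := by
      rw [closure_le]
      rintro u (rfl | rfl | rfl)
      exacts [inv₁ hm m1, inv₂ hm m2, inv₃ hm m3]
    exact hle (hgen ▸ mem_top w)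
  have nm : ¬ Broad m := not_not.2 ⟨1, fun w => by
    rw [hm1', zpowers_one_eq_bot, Subgroup.mem_bot]
    exact ⟨fun h => hsq1 w (by nth_rw 1 [← h]; exact inv_mul_cancel w), fun h => by rw [h, inv_one]⟩⟩
  -- two independent fixed generators give a broad element
  have hbroad : ∀ {T S : MulAut P} {c c' d : P}, T c = c → T c' = c' → S d = d → S ∈ I →
      (d = c ∧ ¬ S c' = c') → (∀ g, (∀ w, T w = w ↔ w ∈ zpowers g) → S g = g ∨ S g = g⁻¹) → c ≠ 1 → False ∨ Broad T := by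
    intro T S c c' d h1 h2 h3 hS hd hsg hc
    obtain ⟨rfl, hS'⟩ := hd
    refine Or.inr fun ⟨g, hg⟩ => ?_
    obtain ⟨i, hi⟩ := mem_zpowers_iff.1 ((hg _).1 h1)
    obtain ⟨j, hj⟩ := mem_zpowers_iff.1 ((hg _).1 h2)
    rcases hsg g hg with e | e
    · exact hS' (by rw [← hj, map_zpow, e])
    · refine hc (hsq1 d ?_)
      have : S d = d⁻¹ := by rw [← hi, map_zpow, e, inv_zpow]
      rw [h3] at this
      nth_rw 1 [this]
      exact inv_mul_cancel d
  have hsgnT : ∀ {T}, T ∈ I → ∀ {S}, S ∈ I → ∀ g, (∀ w, T w = w ↔ w ∈ zpowers g) → S g = g ∨ S g = g⁻¹ :=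
    fun {T} hT {S} hS g hg => hsgn hT hg S hS
  have hne1 : ∀ {T : MulAut P} {c : P}, ¬ T c = c → c ≠ 1 := fun {T c} h e => h (by rw [e, map_one])
  have B1 : Broad T₁ := (hbroad a2 a3 g2 hT₃ ⟨rfl, g3⟩ (hsgnT hT₁ hT₃) (hne1 b2)).resolve_left id
  have B2 : Broad T₂ := (hbroad b1 b3 g1 hT₃ ⟨rfl, g3⟩ (hsgnT hT₂ hT₃) (hne1 a1)).resolve_left id
  have B3 : Broad T₃ := (hbroad g1 g2 b1 hT₂ ⟨rfl, b2⟩ (hsgnT hT₃ hT₂) (hne1 a1)).resolve_left id
  -- the eight elements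
  have hfeq : ∀ {S T : MulAut P} (hS : S ∈ I) (hT : T ∈ I), (S c₁ = c₁ ↔ T c₁ = c₁) → (S c₂ = c₂ ↔ T c₂ = c₂) →
      (S c₃ = c₃ ↔ T c₃ = c₃) → S = T := fun {S T} hS hT e1 e2 e3 =>
    congrArg Subtype.val (hfinj (a₁ := ⟨S, hS⟩) (a₂ := ⟨T, hT⟩) (by simp [f, e1, e2, e3]))
  have hall : ∀ S ∈ I, S = 1 ∨ S = T₁ ∨ S = T₂ ∨ S = T₃ ∨ S = x ∨ S = y ∨ S = z ∨ S = m := by
    intro S hS
    have o1 : ∀ c : P, (1 : MulAut P) c = c := fun c => rfl
    by_cases s1 : S c₁ = c₁ <;> by_cases s2 : S c₂ = c₂ <;> by_cases s3 : S c₃ = c₃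
    · exact Or.inl (hfeq hS (one_mem I) (by simp [s1, o1]) (by simp [s2, o1]) (by simp [s3, o1]))
    · exact Or.inr (Or.inr (Or.inr (Or.inl (hfeq hS hT₃ (by simp [s1, g1]) (by simp [s2, g2]) (by simp [s3, g3])))))
    · exact Or.inr (Or.inr (Or.inl (hfeq hS hT₂ (by simp [s1, b1]) (by simp [s2, b2]) (by simp [s3, b3]))))
    · exact Or.inr (Or.inr (Or.inr (Or.inr (Or.inl (hfeq hS hx (by simp [s1, x1]) (by simp [s2, x2]) (by simp [s3, x3]))))))
    · exact Or.inr (Or.inl (hfeq hS hT₁ (by simp [s1, a1]) (by simp [s2, a2]) (by simp [s3, a3])))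
    · exact Or.inr (Or.inr (Or.inr (Or.inr (Or.inr (Or.inl (hfeq hS hy (by simp [s1, y1]) (by simp [s2, y2]) (by simp [s3, y3])))))))
    · exact Or.inr (Or.inr (Or.inr (Or.inr (Or.inr (Or.inr (Or.inl (hfeq hS hzI (by simp [s1, z1']) (by simp [s2, z2']) (by simp [s3, z3]))))))))
    · exact Or.inr (Or.inr (Or.inr (Or.inr (Or.inr (Or.inr (Or.inr (hfeq hS hm (by simp [s1, m1]) (by simp [s2, m2]) (by simp [s3, m3]))))))))
  have hBd : ∀ S, (S ∈ I ∧ S ≠ 1 ∧ Broad S) ↔ (S = T₁ ∨ S = T₂ ∨ S = T₃) := by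
    intro S
    constructor
    · rintro ⟨hS, hS1, hB⟩
      rcases hall S hS with h | h | h | h | h | h | h | h
      · exact absurd h hS1
      · exact Or.inl h
      · exact Or.inr (Or.inl h)
      · exact Or.inr (Or.inr h)
      · exact absurd hB (h ▸ nx)
      · exact absurd hB (h ▸ ny)
      · exact absurd hB (h ▸ nxy)
      · exact absurd hB (h ▸ nm)
    · rintro (rfl | rfl | rfl)
      exacts [⟨hT₁, hT₁1, B1⟩, ⟨hT₂, hT₂1, B2⟩, ⟨hT₃, hT₃1, B3⟩]
  have n12 : T₁ ≠ T₂ := fun e => a1 (e ▸ b1)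
  have n13 : T₁ ≠ T₃ := fun e => a1 (e ▸ g1)
  have n23 : T₂ ≠ T₃ := fun e => b2 (e ▸ g2)
  -- products
  have hp1 : T₂ * T₃ = x := hfeq (mul_mem hT₂ hT₃) hx
    (by simp [MulAut.mul_apply, g1, b1, x1])
    (by simp [MulAut.mul_apply, g2, b2, x2])
    (by simp [MulAut.mul_apply, inv₃ hT₃ g3, b3, x3, map_inv]
        exact fun h => hne1 g3 (hsq1 _ (by nth_rw 1 [← h]; exact inv_mul_cancel _)))
  have hp2' : T₁ * T₃ = y := hfeq (mul_mem hT₁ hT₃) hy
    (by simp [MulAut.mul_apply, g1, a1, y1])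
    (by simp [MulAut.mul_apply, g2, a2, y2])
    (by simp [MulAut.mul_apply, inv₃ hT₃ g3, a3, y3, map_inv]
        exact fun h => hne1 g3 (hsq1 _ (by nth_rw 1 [← h]; exact inv_mul_cancel _)))
  have hp3 : T₁ * T₂ = z := hfeq (mul_mem hT₁ hT₂) hzI
    (by simp [MulAut.mul_apply, b1, a1, z1'])
    (by simp [MulAut.mul_apply, inv₂ hT₂ b2, a2, z2', map_inv]
        exact fun h => hne1 b2 (hsq1 _ (by nth_rw 1 [← h]; exact inv_mul_cancel _)))
    (by simp [MulAut.mul_apply, b3, a3, z3])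
  refine ⟨⟨⟨hcomm⟩⟩, ⟨c₁, c₂, c₃, hgen⟩, ?_, ?_, ?_, ?_⟩
  · -- not generated by two elements
    rintro ⟨a, b, hab⟩
    let pw : P →* P := powMonoidHom p
    have hsmall : Nat.card pw.ker ≤ p * p := by
      have hidx : pw.range.index = Nat.card pw.ker := by
        refine Nat.eq_of_mul_eq_mul_left (Nat.card_pos (α := pw.range)) ?_
        rw [card_mul_index, ← index_ker pw, mul_comm, card_mul_index]
      rw [← hidx, index_eq_card]
      let g : Fin p × Fin p → P ⧸ pw.range := fun q => ((a ^ (q.1 : ℕ) * b ^ (q.2 : ℕ) : P) : P ⧸ pw.range)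
      have hg : Function.Surjective g := by
        intro w
        induction w using QuotientGroup.induction_on with
        | _ w =>
          obtain ⟨i, j, rfl⟩ := Subgroup.mem_closure_pair.1 (hab ▸ mem_top w : w ∈ closure {a, b})
          have hp0 : (p : ℤ) ≠ 0 := by exact_mod_cast hp.ne_zero
          refine ⟨(⟨(i % p).toNat, by
            have := Int.emod_lt_of_pos i (show (0 : ℤ) < p by exact_mod_cast hp.pos); omega⟩,
            ⟨(j % p).toNat, by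
            have := Int.emod_lt_of_pos j (show (0 : ℤ) < p by exact_mod_cast hp.pos); omega⟩), ?_⟩
          refine QuotientGroup.eq.2 ⟨a ^ (i / p) * b ^ (j / p), ?_⟩
          show (a ^ (i / p) * b ^ (j / p)) ^ p = _
          rw [← zpow_natCast a, ← zpow_natCast b, Int.toNat_of_nonneg (Int.emod_nonneg i hp0),
            Int.toNat_of_nonneg (Int.emod_nonneg j hp0), mul_pow, ← zpow_natCast (a ^ (i / p)),
            ← zpow_natCast (b ^ (j / p)), ← zpow_mul, ← zpow_mul, _root_.mul_inv_rev, ← zpow_neg, ← zpow_neg]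
          rw [show i / ↑p * ↑p = i - i % ↑p by rw [mul_comm]; linarith [Int.mul_ediv_add_emod i p],
            show j / ↑p * ↑p = j - j % ↑p by rw [mul_comm]; linarith [Int.mul_ediv_add_emod j p]]
          rw [zpow_sub, zpow_sub, zpow_neg, zpow_neg]
          ac_rfl
      have := Nat.card_le_card_of_surjective g hg
      simpa using this
    have hord : ∀ {c : P}, c ≠ 1 → ∃ e ∈ zpowers c, e ≠ 1 ∧ e ^ p = 1 := by
      intro c hc
      obtain ⟨k, hk⟩ := IsPGroup.iff_orderOf.1 hP c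
      rcases Nat.eq_zero_or_pos k with rfl | hk0
      · rw [pow_zero, orderOf_eq_one_iff] at hk; exact absurd hk hc
      refine ⟨c ^ p ^ (k - 1), pow_mem (mem_zpowers c) _, fun h => ?_, ?_⟩
      · have h1 := orderOf_dvd_of_pow_eq_one h
        rw [hk] at h1
        have := (Nat.pow_dvd_pow_iff_le_right hp.one_lt).1 h1
        omega
      · rw [← pow_mul, ← pow_succ, Nat.sub_add_cancel hk0, ← hk, pow_orderOf_eq_one]
    obtain ⟨e₁, he₁, he₁1, he₁p⟩ := hord (hne1 a1)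
    obtain ⟨e₂, he₂, he₂1, he₂p⟩ := hord (hne1 b2)
    obtain ⟨e₃, he₃, he₃1, he₃p⟩ := hord (hne1 g3)
    let φ : Fin p × Fin p × Fin p → pw.ker := fun q =>
      ⟨e₁ ^ (q.1 : ℕ) * e₂ ^ (q.2.1 : ℕ) * e₃ ^ (q.2.2 : ℕ), MonoidHom.mem_ker.2 (by
        show (e₁ ^ (q.1 : ℕ) * e₂ ^ (q.2.1 : ℕ) * e₃ ^ (q.2.2 : ℕ)) ^ p = 1
        rw [mul_pow, mul_pow, pow_right_comm e₁, pow_right_comm e₂, pow_right_comm e₃, he₁p, he₂p, he₃p]
        simp)⟩
    have hinvz : ∀ {T : MulAut P} {c w : P}, T c = c⁻¹ → w ∈ zpowers c → T w = w⁻¹ := by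
      intro T c w h hw
      obtain ⟨k, rfl⟩ := mem_zpowers_iff.1 hw
      rw [map_zpow, h, inv_zpow]
    have hsep : ∀ {T : MulAut P} {u v w u' v' w' : P}, T u = u⁻¹ → T u' = u'⁻¹ → T v = v → T v' = v' → T w = w →
        T w' = w' → u * v * w = u' * v' * w' → u = u' := by
      intro T u v w u' v' w' hu hu' hv hv' hw hw' h
      have h2 := congrArg T h
      simp only [map_mul, hu, hu', hv, hv', hw, hw'] at h2
      have h3 : (u * u'⁻¹) * (u * u'⁻¹) = 1 := by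
        have key : ∀ a b c : P, (a * b * c) * (a⁻¹ * b * c)⁻¹ = a * a := fun a b c => by
          rw [← div_eq_mul_inv, mul_assoc, mul_assoc, mul_div_mul_right_eq_div, div_inv_eq_mul]
        rw [mul_mul_mul_comm, ← mul_inv, ← key u v w, ← key u' v' w', h, h2, mul_inv_cancel]
      exact mul_inv_eq_one.1 (hsq1 _ h3)
    have hpinj : ∀ {e : P}, e ≠ 1 → e ^ p = 1 → ∀ i j : Fin p, e ^ (i : ℕ) = e ^ (j : ℕ) → i = j := by
      intro e he hep i j h
      have ho := orderOf_eq_prime hep he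
      exact Fin.ext (pow_injOn_Iio_orderOf (by rw [Set.mem_Iio, ho]; exact i.2) (by rw [Set.mem_Iio, ho]; exact j.2) h)
    have hφ : Function.Injective φ := by
      rintro ⟨i, j, k⟩ ⟨i', j', k'⟩ h
      have h0 : e₁ ^ (i : ℕ) * e₂ ^ (j : ℕ) * e₃ ^ (k : ℕ) = e₁ ^ (i' : ℕ) * e₂ ^ (j' : ℕ) * e₃ ^ (k' : ℕ) :=
        congrArg Subtype.val h
      have z₁ : ∀ n : ℕ, e₁ ^ n ∈ zpowers c₁ := fun n => pow_mem he₁ n
      have z₂ : ∀ n : ℕ, e₂ ^ n ∈ zpowers c₂ := fun n => pow_mem he₂ n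
      have z₃ : ∀ n : ℕ, e₃ ^ n ∈ zpowers c₃ := fun n => pow_mem he₃ n
      have r1 := hsep (hinvz (inv₁ hT₁ a1) (z₁ _)) (hinvz (inv₁ hT₁ a1) (z₁ _)) (hfixz a2 (z₂ _))
        (hfixz a2 (z₂ _)) (hfixz a3 (z₃ _)) (hfixz a3 (z₃ _)) h0
      obtain rfl := hpinj he₁1 he₁p _ _ r1
      rw [mul_assoc, mul_assoc] at h0
      have h0' := mul_left_cancel h0
      have r2 := hsep (T := T₂) (w := 1) (w' := 1) (hinvz (inv₂ hT₂ b2) (z₂ j)) (hinvz (inv₂ hT₂ b2) (z₂ j'))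
        (hfixz b3 (z₃ k)) (hfixz b3 (z₃ k')) (map_one _) (map_one _) (by rw [mul_one, mul_one]; exact h0')
      obtain rfl := hpinj he₂1 he₂p _ _ r2
      obtain rfl := hpinj he₃1 he₃p _ _ (mul_left_cancel h0')
      rfl
    have h3 := (Nat.card_le_card_of_injective φ hφ).trans hsmall
    simp only [Nat.card_prod, Nat.card_fin] at h3
    have := hp.two_le
    nlinarith
  · rw [Nat.card_congr (Equiv.subtypeEquivRight hBd)]
    show Nat.card ↥({T₁, T₂, T₃} : Set (MulAut P)) = 3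
    rw [Nat.card_coe_set_eq, Set.ncard_eq_three]
    exact ⟨T₁, T₂, T₃, n12, n13, n23, rfl⟩
  · refine le_antisymm ((closure_le I).2 fun S hS => hS.1) fun S hS => ?_
    have k1 : T₁ ∈ closure {T : MulAut P | T ∈ I ∧ T ≠ 1 ∧ Broad T} := subset_closure ⟨hT₁, hT₁1, B1⟩
    have k2 : T₂ ∈ closure {T : MulAut P | T ∈ I ∧ T ≠ 1 ∧ Broad T} := subset_closure ⟨hT₂, hT₂1, B2⟩
    have k3 : T₃ ∈ closure {T : MulAut P | T ∈ I ∧ T ≠ 1 ∧ Broad T} := subset_closure ⟨hT₃, hT₃1, B3⟩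
    have hmprod : T₁ * x = m := hfeq (mul_mem hT₁ hx) hm
      (by simp [MulAut.mul_apply, x1, a1, m1])
      (by simp [MulAut.mul_apply, inv₂ hx x2, a2, m2, map_inv]
          exact fun h => hne1 b2 (hsq1 _ (by nth_rw 1 [← h]; exact inv_mul_cancel _)))
      (by simp [MulAut.mul_apply, inv₃ hx x3, a3, m3, map_inv]
          exact fun h => hne1 g3 (hsq1 _ (by nth_rw 1 [← h]; exact inv_mul_cancel _)))
    rcases hall S hS with rfl | rfl | rfl | rfl | rfl | rfl | rfl | rfl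
    exacts [one_mem _, k1, k2, k3, hp1 ▸ mul_mem k2 k3, hp2' ▸ mul_mem k1 k3, hp3 ▸ mul_mem k1 k2,
      hmprod ▸ mul_mem k1 (hp1 ▸ mul_mem k2 k3)]
  · have hxI₀ : x ∈ I₀ := hp1 ▸ hprod T₂ hT₂ T₃ hT₃ hT₂1 hT₃1 B2 B3
    have hyI₀ : y ∈ I₀ := hp2' ▸ hprod T₁ hT₁ T₃ hT₃ hT₁1 hT₃1 B1 B3
    have hzI₀ : z ∈ I₀ := hz ▸ mul_mem hxI₀ hyI₀
    ext S
    constructor
    · intro hS
      rcases hall S (hI₀.le hS) with rfl | rfl | rfl | rfl | rfl | rfl | rfl | rfl
      · exact ⟨T₁, T₁, hT₁, hT₁, hT₁1, hT₁1, B1, B1, (hI _ hT₁).symm⟩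
      · exact absurd B1 (hdisj _ hS hT₁1)
      · exact absurd B2 (hdisj _ hS hT₂1)
      · exact absurd B3 (hdisj _ hS hT₃1)
      · exact ⟨T₂, T₃, hT₂, hT₃, hT₂1, hT₃1, B2, B3, hp1.symm⟩
      · exact ⟨T₁, T₃, hT₁, hT₃, hT₁1, hT₃1, B1, B3, hp2'.symm⟩
      · exact ⟨T₁, T₂, hT₁, hT₂, hT₁1, hT₂1, B1, B2, hp3.symm⟩
      · exfalso
        refine absurd B1 (hdisj _ ?_ hT₁1)
        have : T₁ = S * x := hfeq hT₁ (mul_mem hm hx)
          (by simp [MulAut.mul_apply, x1, a1, m1])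
          (by simp [MulAut.mul_apply, inv₂ hx x2, a2, inv₂ hm m2, map_inv])
          (by simp [MulAut.mul_apply, inv₃ hx x3, a3, inv₃ hm m3, map_inv])
        exact this ▸ mul_mem hS hxI₀
    · rintro ⟨T, T', hT, hT', hT1, hT1', hB, hB', rfl⟩
      exact hprod T hT T' hT' hT1 hT1' hB hB'

end CfsgLib.Pairs.EightAut
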