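import Cfsg.Agent.Lib.Pairs.KernelPairs
import Cfsg.Agent.Lib.Pairs.MaximalCriterion

/-!
# Block induction from subgroups containing the centralizer of a defect group

The induced block is defined, and the centre of a suitable defect group of it lies in the given
defect group.
-/

namespace CfsgLib.Pairs

open Cfsg CfsgLib.Blocks MonoidAlgebra

variable {G : Type*} [Group G] [Fintype G] {p : ℕ} [Fact p.Prime] {M : Ideal AlgInt} [M.IsPrime]
  (hM : IsPModular p M)
include hM

/-- The central character of a block of `H` on restrictions is computed at any pair below it. -/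
theorem omegaBar_resElt_eq_pairVal {H R : Subgroup G} {e : Set (IrrCharacter H)}
    (he : IsPBlock M e) (hR : IsPGroup p R) (hRH : R ≤ H)
    (hCR : Subgroup.centralizer (R : Set G) ≤ H)
    {ξ : IrrCharacter (Subgroup.centralizer (R : Set G))} (hξ : pairVal R (subIdem M H e) ξ = 1)
    {ψ : IrrCharacter H} (hψ : ψ ∈ e) {a : MonoidAlgebra (Res M) G} (ha : IsCentralElt a) :
    omegaBar ψ (resElt H a) = pairVal R a ξ := by
  classical
  set r := resElt H a
  have hrc : IsCentralElt r := isCentralElt_resElt H ha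
  have hec := isCentralElt_blockIdemBar he
  set c := omegaBar ψ r with hc
  have hnil : IsNilpotent ((r - c • 1) * blockIdemBar M e) := by
    refine isNilpotent_of_omegaBar_eq_zero ((hrc.sub (IsCentralElt.one.smul c)).mul hec) fun χ => ?_
    rw [omegaBar_mul χ (hrc.sub (IsCentralElt.one.smul c)) hec, omegaBar_blockIdemBar he]
    split_ifs with hχ
    · rw [omegaBar_sub, omegaBar_smul, omegaBar_one, mul_one, mul_one, hc,
        omegaBar_congr (IsPBlock.sameBlock he hχ hψ), sub_self]
    · rw [mul_zero]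
  have hst : ∀ {X : Subgroup G}, X ≤ H → InvUnder X (subIdem M H e) := fun {X} hX =>
    invUnder_subIdem he fun u hu => stabilizesBlock_of_mem (hX hu)
  have hinv : ∀ {X : Subgroup G}, X ≤ H → InvUnder X (inclElt H r - c • 1) := fun {X} hX =>
    (InvUnder.inclElt (hX.trans Subgroup.le_normalizer) fun u hu k k' hk => by
      rw [show k' = ⟨u, hX hu⟩ * k * ⟨u, hX hu⟩⁻¹ from Subtype.ext hk]
      exact hrc k ⟨u, hX hu⟩).sub ((InvUnder.of_isCentralElt X IsCentralElt.one).smul c)
  have hnil' := hnil.map (inclElt H)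
  rw [map_mul, map_sub, inclElt_smul, map_one] at hnil'
  have h2 := pairVal_eq_zero_of_isNilpotent hM hR ξ ((hinv hRH).mul (hst hRH))
    ((hinv hCR).mul (hst hCR)) hnil'
  have hξ' : pairVal R (subIdem M H e) ξ = 1 := hξ
  rw [pairVal_mul hM hR ξ (hinv hRH) (hst hRH) (hinv hCR) (hst hCR), hξ', mul_one, pairVal_sub,
    pairVal_smul, pairVal_one, mul_one, sub_eq_zero] at h2
  refine h2.symm.trans (congrArg (omegaBar ξ) (MonoidAlgebra.ext (Finsupp.ext fun x => ?_)))
  rw [coeff_resC, coeff_resC]
  exact (coeff_inclElt H _ ⟨(x : G), hCR x.2⟩).trans (coeff_resElt H a ⟨(x : G), hCR x.2⟩)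

omit hM in
/-- The subgroup `D₀` seen in `G`, and its centralizer, for a defect class. -/
theorem coe_mem_centralizer_map {H : Subgroup G} {D₀ : Subgroup H} {c : H}
    (hle : D₀ ≤ Subgroup.centralizer ({c} : Set H)) :
    (c : G) ∈ Subgroup.centralizer ((D₀.map H.subtype : Subgroup G) : Set G) := by
  refine Subgroup.mem_centralizer_iff.2 ?_
  rintro _ ⟨d, hd, rfl⟩
  exact ((mem_centralizer_singleton.1 (hle hd)).map H.subtype).eq

/-- Block induction is defined from subgroups containing the centralizer of a defect group. -/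
theorem inducedBlockDefined_of_centralizer_le {H : Subgroup G} {b : Set (IrrCharacter H)}
    (hb : IsPBlock M b) {D₀ : Subgroup H} (hD₀ : IsDefectGroup p M b D₀)
    (hC : Subgroup.centralizer ((D₀.map H.subtype : Subgroup G) : Set G) ≤ H) :
    InducedBlockDefined M H b := by
  classical
  obtain ⟨c, hc, hle, -⟩ := isDefectGroup_iff.1 hD₀
  have := charP_residueField hM
  have hR := (IsDefectGroup.isPGroup hD₀).map H.subtype
  have hRH : D₀.map H.subtype ≤ H := Subgroup.map_subtype_le D₀
  have hst : ∀ {X : Subgroup G}, X ≤ H → InvUnder X (subIdem M H b) := fun {X} hX =>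
    invUnder_subIdem hb fun u hu => stabilizesBlock_of_mem (hX hu)
  obtain ⟨ξ, hξ⟩ := exists_omegaBar_eq_one (isCentralElt_resC (hst hC))
    (by rw [← resC_mul hR (hst hRH) (hst hRH), subIdem_mul_self hb]) (fun h0 =>
      IsDefectClass.coeff_ne_zero hb hc (by
        rw [← coeff_inclElt H _ c]
        exact (coeff_resC _ _ ⟨(c : G), coe_mem_centralizer_map hle⟩).symm.trans
          (congrArg (fun z => z.coeff ⟨(c : G), coe_mem_centralizer_map hle⟩) h0)))
  obtain ⟨χ, hχ⟩ := exists_omegaBar_eq (M := M) (G := G) (fun a => pairVal (D₀.map H.subtype) a ξ)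
    (pairVal_one _ ξ)
    (fun a a' ha ha' => by
      simp only [pairVal, resC_add, omegaBar_add])
    (fun r a _ => pairVal_smul _ r a ξ)
    (fun a a' ha ha' => pairVal_mul hM hR ξ (InvUnder.of_isCentralElt _ ha)
      (InvUnder.of_isCentralElt _ ha') (InvUnder.of_isCentralElt _ ha) (InvUnder.of_isCentralElt _ ha'))
  obtain ⟨ψ, hψ⟩ := IsPBlock.nonempty hb
  exact ⟨_, isInducedBlock_of_rep hb (isPBlock_blockOf χ) hψ (mem_blockOf_self χ) fun a ha =>
    (omegaBar_resElt_eq_pairVal hM hb hR hRH hC hξ hψ ha).trans (hχ a ha)⟩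

/-- A defect group of the induced block whose centre lies in the given defect group. -/
theorem exists_defectGroup_center_le {H : Subgroup G} {b : Set (IrrCharacter H)}
    {B : Set (IrrCharacter G)} (hind : IsInducedBlock M H b B) {D₀ : Subgroup H}
    (hD₀ : IsDefectGroup p M b D₀)
    (hC : Subgroup.centralizer ((D₀.map H.subtype : Subgroup G) : Set G) ≤ H) :
    ∃ D : Subgroup G, IsDefectGroup p M B D ∧ D₀.map H.subtype ≤ D ∧
      ∀ z ∈ D, (∀ d ∈ D, d * z = z * d) → z ∈ D₀.map H.subtype := by
  classical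
  have := charP_residueField hM
  have hb := hind.1
  obtain ⟨c, hc, hle, -⟩ := isDefectGroup_iff.1 hD₀
  set R := D₀.map H.subtype with hRdef
  have hR : IsPGroup p R := (IsDefectGroup.isPGroup hD₀).map H.subtype
  have hRH : R ≤ H := Subgroup.map_subtype_le D₀
  obtain ⟨ξ, hξ, hpair⟩ := exists_pair_of_induced hM hind hR hRH hC (coe_mem_centralizer_map hle)
    (IsDefectClass.coeff_ne_zero hb hc)
  set f := blockOf M (ξ : Subgroup.centralizer (R : Set G) → ℂ)
  have hf : IsPBlock M f := hpair.1.2
  obtain ⟨P, e, hmax, hleP⟩ := exists_maximal_above hpair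
  have hRP : R ≤ P := le_of_subpairLE hleP
  have hPp : IsPGroup p P := hmax.1.1.1
  refine ⟨P, isDefectGroup_of_maximal hM hmax, hRP, fun z hz hzc => ?_⟩
  -- the pair between
  set S := R ⊔ Subgroup.zpowers z
  have hSP : S ≤ P := sup_le hRP (Subgroup.zpowers_le.2 hz)
  have hzR : z ∈ Subgroup.centralizer (R : Set G) :=
    Subgroup.mem_centralizer_iff.2 fun d hd => hzc d (hRP hd)
  have hSN : S ≤ Subgroup.normalizer (R : Set G) :=
    sup_le Subgroup.le_normalizer (Subgroup.zpowers_le.2 (centralizer_le_normalizer' R hzR))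
  obtain ⟨g, hg, hgP⟩ := exists_below hM (Nat.card P) (by omega) hmax.1.1 hSP
  obtain ⟨f', hf', -⟩ := existsUnique_normalSubpair hM (isBrauerPair_of_subpairLE hgP hmax.1.1)
    le_sup_left hSN
  obtain rfl : f = f' := (unique_below hM (Nat.card P) (by omega) hmax.1.1).2 f f' hleP
    ((Relation.ReflTransGen.single (show NormalSubpairRel p M ⟨R, f'⟩ ⟨S, g⟩ from hf')).trans hgP)
  obtain ⟨-, -, -, -, hst, hval⟩ := isNormalSubpair_iff.1 hf'
  obtain ⟨η, hη⟩ := IsPBlock.nonempty hg
  have hSp : IsPGroup p S := hPp.to_le hSP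
  -- a coefficient of `f` on `C(S)`
  obtain ⟨u, hu, huS⟩ : ∃ u : Subgroup.centralizer (R : Set G),
      (blockIdemBar M f).coeff u ≠ 0 ∧ (u : G) ∈ Subgroup.centralizer (S : Set G) := by
    by_contra hcon
    push Not at hcon
    have h0 : resC S (subIdem M (Subgroup.centralizer (R : Set G)) f) = 0 := by
      refine MonoidAlgebra.ext (Finsupp.ext fun x => ?_)
      rw [coeff_resC, subIdem]
      refine (coeff_inclElt _ _ ⟨(x : G), centralizer_le_of_le le_sup_left x.2⟩).trans ?_
      by_contra hx
      exact hcon _ hx x.2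
    have h1 := hval η hη
    rw [pairVal, h0, omegaBar_zero] at h1
    exact zero_ne_one h1
  -- `z` lies in a defect group of `f`
  obtain ⟨Q, hQ⟩ := exists_isDefectGroup (p := p) hf
  have hzQ := (exists_coeff_ne_zero_centralizer_iff hM hf hQ
    (P := Subgroup.zpowers (⟨z, hzR⟩ : Subgroup.centralizer (R : Set G))) ?_).1
    ⟨u, hu, Subgroup.mem_centralizer_iff.2 fun w hw => ?_⟩
  swap
  · obtain ⟨k, hk⟩ := IsPGroup.iff_orderOf.1 hPp ⟨z, hz⟩
    rw [Subgroup.orderOf_mk] at hk
    exact IsPGroup.of_card (n := k) (by rw [Nat.card_zpowers, Subgroup.orderOf_mk, hk])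
  swap
  · obtain ⟨k, rfl⟩ := Subgroup.mem_zpowers_iff.1 hw
    have hcu : Commute (⟨z, hzR⟩ : Subgroup.centralizer (R : Set G)) u :=
      Subtype.ext (Subgroup.mem_centralizer_iff.1 huS z
        (le_sup_right (a := R) (Subgroup.mem_zpowers z)))
    exact (hcu.zpow_left k).eq
  obtain ⟨x, hx⟩ := hzQ
  -- the defect groups of `f` lie in `R`
  set T := R ⊔ Q.map (Subgroup.centralizer (R : Set G)).subtype
  have hQn : Q.map (Subgroup.centralizer (R : Set G)).subtype ≤ Subgroup.normalizer (R : Set G) :=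
    (Subgroup.map_subtype_le Q).trans (centralizer_le_normalizer' R)
  have hTN : T ≤ Subgroup.normalizer (R : Set G) := sup_le Subgroup.le_normalizer hQn
  have hTp : IsPGroup p T :=
    IsPGroup.to_sup_of_normal_left' hR ((IsDefectGroup.isPGroup hQ).map _) hQn
  have hTH : T ≤ H := sup_le hRH ((Subgroup.map_subtype_le Q).trans hC)
  have hstT : ∀ v ∈ T, StabilizesBlock (Subgroup.centralizer (R : Set G)) f v := by
    intro v hv
    have hle' : T ≤ critStab R f := by
      refine sup_le le_critStab ((Subgroup.map_subtype_le Q).trans centralizer_le_critStab)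
    exact (hle' hv).2
  obtain ⟨q, hq, hqle, -⟩ := isDefectGroup_iff.1 hQ
  have hqT : (q : G) ∈ Subgroup.centralizer (T : Set G) := by
    rw [mem_centralizer_iff_le]
    refine sup_le (fun r hr => ?_) ?_
    · rw [mem_centralizer_singleton]
      exact Subgroup.mem_centralizer_iff.1 q.2 r hr
    · rintro _ ⟨d, hd, rfl⟩
      rw [mem_centralizer_singleton]
      exact (mem_centralizer_singleton.1 (hqle hd)).map (Subgroup.centralizer (R : Set G)).subtype
  have hCT : Subgroup.centralizer (T : Set G) ≤ Subgroup.centralizer (R : Set G) :=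
    centralizer_le_of_le le_sup_left
  have hifT : InvUnder T (subIdem M (Subgroup.centralizer (R : Set G)) f) := invUnder_subIdem hf hstT
  have hifC : InvUnder (Subgroup.centralizer (T : Set G))
      (subIdem M (Subgroup.centralizer (R : Set G)) f) :=
    invUnder_subIdem hf fun v hv => stabilizesBlock_of_mem (hCT hv)
  obtain ⟨θ, hθ⟩ := exists_omegaBar_eq_one (isCentralElt_resC hifC)
    (by rw [← resC_mul hTp hifT hifT, subIdem_mul_self hf]) (fun h0 =>
      IsDefectClass.coeff_ne_zero hf hq (by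
        rw [← coeff_inclElt (Subgroup.centralizer (R : Set G)) _ q]
        exact (coeff_resC _ _ ⟨(q : G), hqT⟩).symm.trans
          (congrArg (fun w => w.coeff ⟨(q : G), hqT⟩) h0)))
  have hbv := pairVal_eq_of_pair hM hTp le_sup_left hTN hf hstT (ξ := θ) hθ (mem_blockOf_self ξ)
    (a := subIdem M H b) (invUnder_subIdem hb fun v hv => stabilizesBlock_of_mem (hTH hv))
    (invUnder_subIdem hb fun v hv => stabilizesBlock_of_mem (hC hv))
  rw [show pairVal R (subIdem M H b) ξ = 1 from hξ] at hbv
  obtain ⟨h, hh, hhT⟩ : ∃ h : H,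
      (blockIdemBar M b).coeff h ≠ 0 ∧ (h : G) ∈ Subgroup.centralizer (T : Set G) := by
    by_contra hcon
    push Not at hcon
    have h0 : resC T (subIdem M H b) = 0 := by
      refine MonoidAlgebra.ext (Finsupp.ext fun w => ?_)
      rw [coeff_resC, subIdem]
      refine (coeff_inclElt _ _ ⟨(w : G), hC (hCT w.2)⟩).trans ?_
      by_contra hw
      exact hcon _ hw w.2
    rw [pairVal, h0, omegaBar_zero] at hbv
    exact zero_ne_one hbv
  have hT0 := (exists_coeff_ne_zero_centralizer_iff hM hb hD₀ (P := T.subgroupOf H)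
    (hTp.comap_of_injective _ H.subtype_injective)).1
    ⟨h, hh, Subgroup.mem_centralizer_iff.2 fun w hw =>
      Subtype.ext (Subgroup.mem_centralizer_iff.1 hhT w (Subgroup.mem_subgroupOf.1 hw))⟩
  have hTR : T = R := by
    refine (Subgroup.eq_of_le_of_card_ge le_sup_left ?_).symm
    have hRc : Nat.card R = Nat.card D₀ := Subgroup.card_map_of_injective H.subtype_injective
    exact ((Nat.card_congr (Subgroup.subgroupOfEquivOfLe hTH).toEquiv).symm.le.trans
      (Nat.le_of_dvd Nat.card_pos hT0.card_dvd)).trans hRc.ge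
  have hxz : (x : G) * z * (x : G)⁻¹ ∈ R := by
    exact hTR.le ((le_sup_right (a := R) : Q.map (Subgroup.centralizer (R : Set G)).subtype ≤ T)
      ⟨_, hx _ (Subgroup.mem_zpowers _), rfl⟩)
  have hfix := Subgroup.mem_centralizer_iff.1 x.2 _ hxz
  rw [show z = (x : G) * z * (x : G)⁻¹ from ?_]
  · exact hxz
  calc z = (x : G)⁻¹ * (((x : G) * z * (x : G)⁻¹) * x) := by group
    _ = (x : G)⁻¹ * ((x : G) * ((x : G) * z * (x : G)⁻¹)) := by rw [hfix]
    _ = (x : G) * z * (x : G)⁻¹ := by group

end CfsgLib.Pairs
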