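import Cfsg.Agent.Lib.Pairs.Maximal
import Cfsg.Agent.Lib.Blocks.Kernel
import Cfsg.Agent.Lib.Components.Radicals

/-!
# Brauer pairs and normal `p'`-subgroups in the kernel of a block

The Brauer map at a `p`-group `R` sends the average of an `R`-invariant `p'`-subgroup `N` to the
average of `N ∩ C(R)`, so triviality of blocks on such subgroups moves along inclusions of pairs.
-/

namespace CfsgLib.Pairs

open Cfsg CfsgLib.Blocks MonoidAlgebra

variable {G : Type*} [Group G] [Fintype G] {p : ℕ} {M : Ideal AlgInt} [M.IsPrime]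

open scoped Classical in
/-- The reduced average of a subgroup. -/
noncomputable def avgBar (M : Ideal AlgInt) [M.IsPrime] (N : Subgroup G) :
    MonoidAlgebra (Res M) G :=
  ofFun fun g => if g ∈ N then ((Nat.card N : Res M))⁻¹ else 0

theorem coeff_avgBar (N : Subgroup G) (g : G) [Decidable (g ∈ N)] :
    (avgBar M N).coeff g = if g ∈ N then ((Nat.card N : Res M))⁻¹ else 0 := by
  simp only [avgBar, coeff_ofFun]
  split_ifs <;> rfl

theorem invUnder_avgBar {N X : Subgroup G} (hX : X ≤ Subgroup.normalizer (N : Set G)) :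
    InvUnder X (avgBar M N) := fun u hu x => by
  classical
  rw [coeff_avgBar, coeff_avgBar]
  exact if_congr (Subgroup.mem_normalizer_iff.1 (hX hu) x).symm rfl rfl

theorem isCentralElt_avgBar (N : Subgroup G) [N.Normal] : IsCentralElt (avgBar M N) := fun g h =>
  invUnder_avgBar (M := M) (Subgroup.le_normalizer_of_normal (H := N) (K := ⊤)) h trivial g

variable [Fact p.Prime] (hM : IsPModular p M)
include hM

theorem natCast_card_ne_zero {N : Subgroup G} (hN : ¬ p ∣ Nat.card N) :
    (Nat.card N : Res M) ≠ 0 := by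
  have := charP_residueField hM
  exact fun h => hN ((CharP.cast_eq_zero_iff (Res M) p _).1 h)

theorem avgBar_mul_self {N : Subgroup G} (hN : ¬ p ∣ Nat.card N) :
    avgBar M N * avgBar M N = avgBar M N := by
  classical
  refine MonoidAlgebra.ext (Finsupp.ext fun g => ?_)
  rw [coeff_mul_eq_sum]
  simp only [coeff_avgBar, mul_ite, ite_mul, mul_zero, zero_mul, ← ite_and]
  rw [← Finset.sum_filter]
  by_cases hg : g ∈ N
  · have hset : (Finset.univ.filter fun x : G => x⁻¹ * g ∈ N ∧ x ∈ N) =
        Finset.univ.filter (· ∈ N) := by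
      ext x
      simp only [Finset.mem_filter, Finset.mem_univ, true_and]
      exact ⟨And.right, fun h => ⟨mul_mem (inv_mem h) hg, h⟩⟩
    rw [hset, if_pos hg, Finset.sum_const, nsmul_eq_mul, ← Fintype.card_subtype,
      ← Nat.card_eq_fintype_card, ← mul_assoc]
    show (Nat.card N : Res M) * _ * _ = _
    rw [mul_inv_cancel₀ (natCast_card_ne_zero hM hN), one_mul]
  · rw [if_neg hg, Finset.sum_eq_zero]
    intro x hx
    obtain ⟨h1, h2⟩ := (Finset.mem_filter.1 hx).2
    exact absurd (by simpa using mul_mem h2 h1) hg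

/-- The values of reduced central characters at the average of a normal `p'`-subgroup. -/
theorem omegaBar_avgBar {N : Subgroup G} [N.Normal] (hN : ¬ p ∣ Nat.card N) (χ : IrrCharacter G) :
    (omegaBar χ (avgBar M N) = 0 ∨ omegaBar χ (avgBar M N) = 1) ∧
    (omegaBar χ (avgBar M N) = 1 ↔ ∀ n ∈ N, (χ : G → ℂ) n = (χ : G → ℂ) 1) := by
  classical
  let a : MonoidAlgebra (localRing M) G :=
    ofFun fun g => if g ∈ N then ⟨_, inv_natCast_mem hM hN⟩ else 0
  have hinc : inc M a = avgElt N := by
    ext g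
    simp only [a, coeff_inc, avgElt, coeff_ofFun]
    split_ifs <;> rfl
  have ha : IsCentralElt a := fun g x => Subtype.ext (by
    have := isCentralElt_avgElt N g x
    rw [← hinc] at this
    simpa [coeff_inc] using this)
  have hred : red M a = avgBar M N := by
    refine MonoidAlgebra.ext (Finsupp.ext fun g => ?_)
    rw [coeff_red, coeff_ofFun, coeff_avgBar]
    split_ifs
    · refine eq_inv_of_mul_eq_one_left ?_
      rw [← map_natCast (resHom M), ← map_mul, ← map_one (resHom M)]
      congr 1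
      refine Subtype.ext ?_
      push_cast
      exact inv_mul_cancel₀ (Nat.cast_ne_zero.2 Nat.card_pos.ne')
    · exact map_zero _
  rw [← hred, omegaBar_red χ ha, ← omega_avgElt_eq_one_iff]
  have hval : ((⟨_, omega_inc_mem χ ha⟩ : localRing M) : ℂ) = omega (χ : G → ℂ) (avgElt N) := by
    rw [← hinc]
  rcases omega_avgElt_eq_or N χ with h | h
  · rw [show (⟨_, omega_inc_mem χ ha⟩ : localRing M) = 0 from Subtype.ext (hval.trans h), map_zero, h]
    simp
  · rw [show (⟨_, omega_inc_mem χ ha⟩ : localRing M) = 1 from Subtype.ext (hval.trans h), map_one, h]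
    simp

/-- The Brauer map on the average of an invariant `p'`-subgroup. -/
theorem resC_avgBar {R N : Subgroup G} (hR : IsPGroup p R)
    (hRN : R ≤ Subgroup.normalizer (N : Set G)) :
    resC R (avgBar M N) = avgBar M (N.subgroupOf (Subgroup.centralizer (R : Set G))) := by
  classical
  have := charP_residueField hM
  refine MonoidAlgebra.ext (Finsupp.ext fun c => ?_)
  rw [coeff_resC, coeff_avgBar, coeff_avgBar]
  refine if_congr Subgroup.mem_subgroupOf.symm ?_ rfl
  congr 1
  let act : MulAction R N :=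
    { smul := fun u n => ⟨(u : G) * n * (u : G)⁻¹, (Subgroup.mem_normalizer_iff.1 (hRN u.2) n).1 n.2⟩
      one_smul := fun n => Subtype.ext (by show ((1 : R) : G) * n * ((1 : R) : G)⁻¹ = n; simp)
      mul_smul := fun a b n => Subtype.ext (by
        show ((a * b : R) : G) * n * ((a * b : R) : G)⁻¹ =
          (a : G) * ((b : G) * n * (b : G)⁻¹) * (a : G)⁻¹
        simp [mul_assoc]) }
  rw [CharP.natCast_eq_natCast (Res M) p]
  refine (hR.card_modEq_card_fixedPoints N).trans ?_
  refine congrArg (fun x : ℕ => x % p) (Nat.card_congr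
    { toFun := fun n => ⟨⟨(n : N), Subgroup.mem_centralizer_iff.2 fun u hu =>
          mul_inv_eq_iff_eq_mul.1 (congrArg Subtype.val (n.2 ⟨u, hu⟩))⟩,
        Subgroup.mem_subgroupOf.2 (n : N).2⟩
      invFun := fun z => ⟨⟨((z : Subgroup.centralizer (R : Set G)) : G),
          Subgroup.mem_subgroupOf.1 z.2⟩, fun u => Subtype.ext (by
        show (u : G) * ((z : Subgroup.centralizer (R : Set G)) : G) * (u : G)⁻¹ = _
        rw [Subgroup.mem_centralizer_iff.1 (z : Subgroup.centralizer (R : Set G)).2 u u.2,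
          mul_inv_cancel_right])⟩
      left_inv := fun n => rfl
      right_inv := fun z => rfl })

omit [Fact p.Prime] hM in
theorem inclElt_avgBar {H N : Subgroup G} (hNH : N ≤ H) :
    inclElt H (avgBar M (N.subgroupOf H)) = avgBar M N := by
  classical
  refine MonoidAlgebra.ext (Finsupp.ext fun g => ?_)
  by_cases hg : g ∈ H
  · rw [coeff_inclElt H _ ⟨g, hg⟩, coeff_avgBar, coeff_avgBar]
    refine if_congr Subgroup.mem_subgroupOf ?_ rfl
    rw [Nat.card_congr (Subgroup.subgroupOfEquivOfLe hNH).toEquiv]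
  · rw [coeff_inclElt_of_notMem H _ hg, coeff_avgBar, if_neg fun h => hg (hNH h)]

/-- A block is trivial on a normal `p'`-subgroup `N` exactly when the blocks occurring in its
Brauer image at `R` are trivial on `N ∩ C(R)`. -/
theorem forall_triv_iff {H N R : Subgroup G} {e : Set (IrrCharacter H)} (he : IsPBlock M e)
    (hR : IsPGroup p R) (hst : ∀ u ∈ R, StabilizesBlock H e u)
    (hCR : Subgroup.centralizer (R : Set G) ≤ H) (hNH : N ≤ H)
    (hHN : H ≤ Subgroup.normalizer (N : Set G)) (hRN : R ≤ Subgroup.normalizer (N : Set G))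
    (hN : ¬ p ∣ Nat.card N) {ξ : IrrCharacter (Subgroup.centralizer (R : Set G))}
    (hξ : pairVal R (subIdem M H e) ξ = 1) :
    (∀ ψ ∈ e, ∀ h : H, (h : G) ∈ N → (ψ : H → ℂ) h = (ψ : H → ℂ) 1) ↔
      ∀ c : Subgroup.centralizer (R : Set G), (c : G) ∈ N →
        (ξ : Subgroup.centralizer (R : Set G) → ℂ) c =
          (ξ : Subgroup.centralizer (R : Set G) → ℂ) 1 := by
  classical
  have hWn : (N.subgroupOf H).Normal := Subgroup.normal_subgroupOf_of_le_normalizer hHN
  have hWc : ¬ p ∣ Nat.card (N.subgroupOf H) := by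
    rwa [Nat.card_congr (Subgroup.subgroupOfEquivOfLe hNH).toEquiv]
  have hVn : (N.subgroupOf (Subgroup.centralizer (R : Set G))).Normal :=
    Subgroup.normal_subgroupOf_of_le_normalizer (hCR.trans hHN)
  have hVc : ¬ p ∣ Nat.card (N.subgroupOf (Subgroup.centralizer (R : Set G))) := fun h =>
    hN (h.trans ((Nat.card_congr (Subgroup.equivMapOfInjective _ _
      (Subgroup.subtype_injective _)).toEquiv).dvd.trans (Subgroup.card_dvd_of_le (by
        rw [Subgroup.map_le_iff_le_comap]; exact le_rfl))))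
  obtain ⟨ψ, hψ⟩ := IsPBlock.nonempty he
  set w := avgBar M (N.subgroupOf H)
  have hwc : IsCentralElt w := isCentralElt_avgBar _
  have hec := isCentralElt_blockIdemBar he
  obtain ⟨hor, hiff⟩ := omegaBar_avgBar hM hWc ψ
  obtain ⟨hor', hiff'⟩ := omegaBar_avgBar hM hVc ξ
  have hkey : omegaBar ψ w = omegaBar ξ (avgBar M (N.subgroupOf (Subgroup.centralizer (R : Set G)))) := by
    have hprod : blockIdemBar M e * w = omegaBar ψ w • blockIdemBar M e := by
      have h2 : (blockIdemBar M e * w) * (blockIdemBar M e * w) = blockIdemBar M e * w := by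
        rw [mul_assoc, ← mul_assoc w, ← (hec.commute w).eq, mul_assoc (blockIdemBar M e) w,
          avgBar_mul_self hM hWc, ← mul_assoc, blockIdemBar_mul_self he]
      have h3 : (omegaBar ψ w • blockIdemBar M e) * (omegaBar ψ w • blockIdemBar M e) =
          omegaBar ψ w • blockIdemBar M e := by
        rw [smul_mul_smul_comm, blockIdemBar_mul_self he]
        rcases hor with h | h <;> rw [h] <;> simp
      refine idem_eq_of_omegaBar_eq (hec.mul hwc) (hec.smul _) h2 h3 fun χ => ?_
      rw [omegaBar_mul χ hec hwc, omegaBar_smul, omegaBar_blockIdemBar he]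
      split_ifs with hχ
      · rw [one_mul, mul_one, omegaBar_congr (IsPBlock.sameBlock he hχ hψ)]
      · rw [zero_mul, mul_zero]
    have hiN : InvUnder (Subgroup.centralizer (R : Set G)) (avgBar M N) :=
      invUnder_avgBar (hCR.trans hHN)
    have hie : InvUnder (Subgroup.centralizer (R : Set G)) (subIdem M H e) :=
      invUnder_subIdem he fun u hu => stabilizesBlock_of_mem (hCR hu)
    have h1 := pairVal_mul hM hR ξ (invUnder_subIdem he hst) (invUnder_avgBar hRN) hie hiN
    rw [hξ, one_mul, ← inclElt_avgBar hNH, subIdem, ← map_mul, hprod, inclElt_smul,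
      pairVal_smul, ← subIdem, hξ, mul_one, inclElt_avgBar hNH, pairVal, resC_avgBar hM hR hRN] at h1
    exact h1
  rw [hkey] at hiff
  constructor
  · intro h c hc
    exact hiff'.1 (hiff.2 fun n hn => h ψ hψ n (Subgroup.mem_subgroupOf.1 hn)) c
      (Subgroup.mem_subgroupOf.2 hc)
  · intro h χ hχ n hn
    exact apply_eq_of_sameBlock _ hM hWc (IsPBlock.sameBlock he hψ hχ)
      (hiff.1 (hiff'.2 fun n hn => h n (Subgroup.mem_subgroupOf.1 hn))) n
      (Subgroup.mem_subgroupOf.2 hn)

/-- A block of a subgroup inducing `B` gives a Brauer pair of `B`. -/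
theorem exists_pair_of_induced {H R : Subgroup G} {e : Set (IrrCharacter H)}
    {B : Set (IrrCharacter G)} (hind : IsInducedBlock M H e B) (hR : IsPGroup p R) (hRH : R ≤ H)
    (hCR : Subgroup.centralizer (R : Set G) ≤ H) {c : H}
    (hc : (c : G) ∈ Subgroup.centralizer (R : Set G)) (hne : (blockIdemBar M e).coeff c ≠ 0) :
    ∃ ξ : IrrCharacter (Subgroup.centralizer (R : Set G)),
      pairVal R (subIdem M H e) ξ = 1 ∧
        IsBrauerPairOf p M B R (blockOf M (ξ : Subgroup.centralizer (R : Set G) → ℂ)) := by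
  classical
  have := charP_residueField hM
  obtain ⟨he, hB, hall⟩ := isInducedBlock_iff.1 hind
  have hst : ∀ {X : Subgroup G}, X ≤ H → InvUnder X (subIdem M H e) := fun {X} hX =>
    invUnder_subIdem he fun u hu => stabilizesBlock_of_mem (hX hu)
  have hee : subIdem M H e * subIdem M H e = subIdem M H e := by
    rw [subIdem, ← map_mul, blockIdemBar_mul_self he]
  obtain ⟨ξ, hξ⟩ := exists_omegaBar_eq_one (isCentralElt_resC (hst hCR))
    (by rw [← resC_mul hR (hst hRH) (hst hRH), hee]) (fun h0 => hne (by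
      rw [← coeff_inclElt H _ c]
      exact (coeff_resC R _ ⟨(c : G), hc⟩).symm.trans (congrArg (fun z => z.coeff ⟨(c : G), hc⟩) h0)))
  refine ⟨ξ, hξ, isBrauerPairOf_iff.2 ⟨⟨hR, isPBlock_blockOf ξ⟩, hB, fun η hη => ?_⟩⟩
  rw [pairVal_congr _ (IsPBlock.sameBlock (isPBlock_blockOf ξ) hη (mem_blockOf_self ξ))]
  set r := resElt H (blockIdemBar M B)
  have hrc : IsCentralElt r := isCentralElt_resElt H (isCentralElt_blockIdemBar hB)
  have hec := isCentralElt_blockIdemBar he
  obtain ⟨χ, hχ⟩ := IsPBlock.nonempty hB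
  have hnil : IsNilpotent (r * blockIdemBar M e - blockIdemBar M e) :=
    isNilpotent_of_omegaBar_eq_zero ((hrc.mul hec).sub hec) fun ψ => by
      rw [omegaBar_sub, omegaBar_mul ψ hrc hec, omegaBar_blockIdemBar he]
      split_ifs with hψ
      · rw [hall ψ hψ χ hχ _ (isCentralElt_blockIdemBar hB), omegaBar_blockIdemBar hB, if_pos hχ,
          mul_one, sub_self]
      · rw [mul_zero, sub_zero]
  have hinv : ∀ {X : Subgroup G}, X ≤ H → InvUnder X (inclElt H r) := fun {X} hX =>
    InvUnder.inclElt (hX.trans Subgroup.le_normalizer) fun u hu k k' hk => by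
      rw [show k' = ⟨u, hX hu⟩ * k * ⟨u, hX hu⟩⁻¹ from Subtype.ext hk]
      exact hrc k ⟨u, hX hu⟩
  have h1 := pairVal_eq_zero_of_isNilpotent hM hR ξ (a := inclElt H r * subIdem M H e - subIdem M H e)
    (((hinv hRH).mul (hst hRH)).sub (hst hRH)) (((hinv hCR).mul (hst hCR)).sub (hst hCR))
    (by rw [subIdem, ← map_mul, ← map_sub]; exact hnil.map _)
  rw [pairVal_sub, pairVal_mul hM hR ξ (hinv hRH) (hst hRH) (hinv hCR) (hst hCR)] at h1
  have hξ' : pairVal R (subIdem M H e) ξ = 1 := hξ
  rw [hξ', mul_one, sub_eq_zero] at h1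
  rw [← h1, pairVal, pairVal]
  congr 1
  refine MonoidAlgebra.ext (Finsupp.ext fun d => ?_)
  rw [coeff_resC, coeff_resC, coeff_inclElt H _ ⟨(d : G), hCR d.2⟩]
  rfl

end CfsgLib.Pairs
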