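import Cfsg.Agent.Lib.Pairs.Sylow
import Cfsg.Agent.Lib.Blocks.Covering

/-!
# Nilpotency passes between a stable block and the block above it, in `p`-power index
-/

namespace CfsgLib.Pairs

open Cfsg CfsgLib.Blocks MonoidAlgebra
open scoped ComplexConjugate

variable {G : Type*} [Group G] [Fintype G] {M : Ideal AlgInt} [M.IsPrime] {p : ℕ} [Fact p.Prime]
  {N : Subgroup G} [N.Normal] {R : Subgroup G}

/-- An element centralizing a normal `p`-subgroup and the quotient of a `p`-group by it, of order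
prime to `p`, centralizes the group. -/
theorem mem_centralizer_of_step {Q R : Subgroup G} (hR : IsPGroup p R) {x : G}
    (hx : IsPRegular p x) (hxR : ∀ r ∈ R, x * r = r * x)
    (hstep : ∀ q ∈ Q, x * q * x⁻¹ * q⁻¹ ∈ R) : x ∈ Subgroup.centralizer (Q : Set G) := by
  refine Subgroup.mem_centralizer_iff.2 fun q hq => ?_
  set r := x * q * x⁻¹ * q⁻¹ with hr
  have hn : ∀ n : ℕ, x ^ n * q * (x ^ n)⁻¹ = r ^ n * q := by
    intro n
    induction n with
    | zero => simp
    | succ n ih =>
      have h2 : x * r ^ n = r ^ n * x :=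
        hxR _ (pow_mem (hstep q hq) n)
      calc x ^ (n + 1) * q * (x ^ (n + 1))⁻¹ = x * (x ^ n * q * (x ^ n)⁻¹) * x⁻¹ := by group
        _ = x * r ^ n * q * x⁻¹ := by rw [ih]; group
        _ = r ^ n * (x * q * x⁻¹ * q⁻¹) * q := by rw [h2]; group
        _ = r ^ (n + 1) * q := by rw [← hr, pow_succ]
  have h1 := hn (orderOf x)
  rw [pow_orderOf_eq_one, one_mul, inv_one, mul_one] at h1
  obtain ⟨k, hk⟩ := hR ⟨r, hstep q hq⟩
  have hr1 : r = 1 := orderOf_eq_one_iff.1 (Nat.eq_one_of_dvd_coprimes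
    ((((Fact.out : p.Prime).coprime_iff_not_dvd.2 hx).pow_left k))
    (orderOf_dvd_of_pow_eq_one (congrArg Subtype.val hk))
    (orderOf_dvd_of_pow_eq_one (mul_eq_right.1 h1.symm)))
  have h3 : x * q * x⁻¹ = q := mul_inv_eq_one.1 (hr ▸ hr1)
  calc q * x = x * q * x⁻¹ * x := by rw [h3]
    _ = x * q := by group

/-- The part of `C(R)` inside `N`. -/
abbrev centIn (N R : Subgroup G) : Subgroup (Subgroup.centralizer (R : Set G)) :=
  N.subgroupOf (Subgroup.centralizer (R : Set G))

/-- The centralizer of `R` inside `N`, in two readings. -/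
def centInEquiv (hR : R ≤ N) :
    Subgroup.centralizer ((R.subgroupOf N : Subgroup N) : Set N) ≃* centIn N R where
  toFun c := ⟨⟨((c : N) : G), Subgroup.mem_centralizer_iff.2 fun r hr =>
    congrArg Subtype.val (Subgroup.mem_centralizer_iff.1 c.2 ⟨r, hR hr⟩ hr)⟩, (c : N).2⟩
  invFun c := ⟨⟨((c : Subgroup.centralizer (R : Set G)) : G), c.2⟩,
    Subgroup.mem_centralizer_iff.2 fun r hr => Subtype.ext
      (Subgroup.mem_centralizer_iff.1 (c : Subgroup.centralizer (R : Set G)).2 _ hr)⟩
  left_inv _ := rfl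
  right_inv _ := rfl
  map_mul' _ _ := rfl

theorem index_centIn_eq {k : ℕ} (hidx : N.index = p ^ k) (R : Subgroup G) :
    ∃ j, (centIn N R).index = p ^ j := by
  obtain ⟨j, -, hj⟩ := (Nat.dvd_prime_pow (Fact.out : p.Prime)).1
    (hidx ▸ Subgroup.relIndex_dvd_index_of_normal (H := N) (K := Subgroup.centralizer (R : Set G)))
  exact ⟨j, hj⟩

/-- Conjugation by an element normalizing `C(R)`, on `C(R) ∩ N`. -/
def centInConj {x : G} (hx : x ∈ Subgroup.normalizer (Subgroup.centralizer (R : Set G) : Set G)) :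
    centIn N R ≃* centIn N R where
  toFun m := ⟨conjEquiv _ _ x (mem_normalizer_conj hx) m,
    show x * ((m : Subgroup.centralizer (R : Set G)) : G) * x⁻¹ ∈ N from
      (‹N.Normal›).conj_mem _ m.2 x⟩
  invFun m := ⟨(conjEquiv _ _ x (mem_normalizer_conj hx)).symm m,
    show x⁻¹ * ((m : Subgroup.centralizer (R : Set G)) : G) * x ∈ N by
      simpa using (‹N.Normal›).conj_mem _ m.2 x⁻¹⟩
  left_inv m := Subtype.ext (MulEquiv.symm_apply_apply _ _)
  right_inv m := Subtype.ext (MulEquiv.apply_symm_apply _ _)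
  map_mul' a b := Subtype.ext (map_mul _ _ _)

theorem classInner_transport {x : G}
    (hx : x ∈ Subgroup.normalizer (Subgroup.centralizer (R : Set G) : Set G))
    (ξ : IrrCharacter (Subgroup.centralizer (R : Set G))) (θ : IrrCharacter (centIn N R)) :
    classInner (fun m : centIn N R =>
        (mapIrr (conjEquiv _ _ x (mem_normalizer_conj hx)).symm ξ).1 (m : Subgroup.centralizer (R : Set G)))
      (mapIrr (centInConj hx).symm θ : centIn N R → ℂ) =
    classInner (fun m : centIn N R => ξ.1 (m : Subgroup.centralizer (R : Set G))) (θ : centIn N R → ℂ) := by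
  simp only [classInner]
  congr 1
  refine Fintype.sum_equiv (centInConj (N := N) hx).symm.toEquiv _ _ fun m => ?_
  simp only [MulEquiv.toEquiv_eq_coe, MulEquiv.coe_toEquiv, mapIrr_apply]
  rfl

variable (hM : IsPModular p M) {k : ℕ} (hidx : N.index = p ^ k) {c : Set (IrrCharacter N)}
  (hc : IsPBlock M c) {B : Set (IrrCharacter G)} (hB : IsPBlock M B)
  (hBc : ∀ g : G, blockCoeff B g = subgroupBlockCoeff N c g)
include hM hidx hc hB hBc

/-- A block over a block of `C(R) ∩ N`: being a pair is seen at either. -/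
theorem pairOf_iff_of_constituent (hR : R ≤ N) (hRp : IsPGroup p R)
    {ξ : IrrCharacter (Subgroup.centralizer (R : Set G))} {θ : IrrCharacter (centIn N R)}
    (h : classInner (fun m : centIn N R => ξ.1 (m : Subgroup.centralizer (R : Set G))) (θ : centIn N R → ℂ) ≠ 0) :
    IsBrauerPairOf p M c (R.subgroupOf N)
        (mapBlock (centInEquiv hR) (blockOf M (θ : centIn N R → ℂ))) ↔
      IsBrauerPairOf p M B R (blockOf M (ξ : Subgroup.centralizer (R : Set G) → ℂ)) := by
  classical
  have hcB := isCentralElt_blockIdemBar (M := M) hB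
  have hcc := isCentralElt_blockIdemBar (M := M) hc
  have hco : ∀ u : N, (blockIdemBar M B).coeff (u : G) = (blockIdemBar M c).coeff u := fun u => by
    have h1 : ((blockIdemO M B).coeff (u : G) : ℂ) = ((blockIdemO M c).coeff u : ℂ) := by
      rw [← coeff_inc, inc_blockIdemO hB, coeff_blockIdem, hBc, ← coeff_inc, inc_blockIdemO hc,
        coeff_blockIdem]
      unfold subgroupBlockCoeff
      rw [dif_pos u.2]
    rw [blockIdemBar, blockIdemBar, coeff_red, coeff_red, Subtype.ext h1]
  have hval : pairVal (R.subgroupOf N) (blockIdemBar M c) (mapIrr (centInEquiv hR) θ) =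
      pairVal R (blockIdemBar M B) ξ := by
    rw [pairVal, pairVal, omegaBar_eq_omegaBar_resElt (centIn N R) h
      (isCentralElt_resC (InvUnder.of_isCentralElt _ hcB)) fun g hg => ?_]
    · refine omegaBar_comp (centInEquiv hR) θ (isCentralElt_resC (InvUnder.of_isCentralElt _ hcc)) _
        fun m => ?_
      rw [coeff_resElt, coeff_resC, coeff_resC]
      exact hco (m : N)
    · rw [coeff_resC]
      have hd : blockCoeff B (g : G) = 0 := by
        rw [hBc]
        unfold subgroupBlockCoeff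
        rw [dif_neg (show (g : G) ∉ N from hg)]
      rw [coeff_blockIdemBar_eq_zero_iff hB, hd]
      exact ⟨0, 1, M.zero_mem, one_notMem, by simp⟩
  rw [isBrauerPairOf_iff, isBrauerPairOf_iff]
  constructor
  · rintro ⟨-, -, hv⟩
    refine ⟨⟨hRp, isPBlock_blockOf ξ⟩, hB, fun η hη =>
      (pairVal_congr _ (mem_blockOf.1 hη)).symm.trans (hval.symm.trans ?_)⟩
    exact hv _ ⟨θ, mem_blockOf_self θ, rfl⟩
  · rintro ⟨-, -, hv⟩
    refine ⟨⟨hRp.comap_of_injective _ N.subtype_injective,
      isPBlock_mapBlock _ (isPBlock_blockOf θ)⟩, hc, ?_⟩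
    rintro _ ⟨θ', hθ', rfl⟩
    exact (pairVal_congr _ ((sameBlock_mapIrr (centInEquiv hR)).2 (mem_blockOf.1 hθ'))).symm.trans
      (hval.trans (hv ξ (mem_blockOf_self ξ)))

theorem nilpotent_down (hnil : IsNilpotentBlock p M B) : IsNilpotentBlock p M c := by
  classical
  refine ⟨hc, fun R' e hRe x hxN hxst hxreg => ?_⟩
  set R := R'.map N.subtype with hRdef
  have hR : R ≤ N := Subgroup.map_subtype_le R'
  have hR' : R.subgroupOf N = R' := Subgroup.comap_map_eq_self_of_injective N.subtype_injective R'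
  clear_value R
  subst hR'
  have hRp : IsPGroup p R := hRdef ▸ hRe.1.1.map _
  obtain ⟨θ₀, hθ₀⟩ := IsPBlock.nonempty hRe.1.2
  set θ := mapIrr (centInEquiv hR).symm θ₀ with hθdef
  have hθe : mapBlock (centInEquiv hR) (blockOf M (θ : centIn N R → ℂ)) = e := by
    rw [mapBlock_blockOf, hθdef, mapIrr_symm, ← IsPBlock.eq_blockOf hRe.1.2 hθ₀]
  obtain ⟨ξ, hξ⟩ := exists_irr_over (centIn N R) θ
  have hpair := (pairOf_iff_of_constituent hM hidx hc hB hBc hR hRp hξ).1 (hθe ▸ hRe)
  have hxR : (x : G) ∈ Subgroup.normalizer (R : Set G) := by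
    rw [Subgroup.mem_normalizer_iff_map_conj_eq]
    have h1 := congrArg (Subgroup.map N.subtype) (Subgroup.mem_normalizer_iff_map_conj_eq.1 hxN)
    rw [Subgroup.map_subgroupOf_eq_of_le hR, Subgroup.map_map] at h1
    rw [show N.subtype.comp (MulAut.conj x : N →* N) =
      (MulAut.conj (x : G) : G →* G).comp N.subtype from rfl, ← Subgroup.map_map,
      Subgroup.map_subgroupOf_eq_of_le hR] at h1
    exact h1
  have hxC := normalizer_le_normalizer_centralizer R hxR
  obtain ⟨j, hj⟩ := index_centIn_eq hidx R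
  have hxst' : StabilizesBlock (Subgroup.centralizer (R : Set G))
      (blockOf M (ξ : Subgroup.centralizer (R : Set G) → ℂ)) (x : G) := by
    refine stabilizesBlock_iff.2 ⟨hxC, ?_⟩
    obtain ⟨hx₀, hst⟩ := stabilizesBlock_iff.1 hxst
    have hθ' : mapIrr (centInConj hxC).symm θ ∈ blockOf M (θ : centIn N R → ℂ) := by
      have h1 : mapIrr (centInEquiv hR) (mapIrr (centInConj hxC).symm θ) ∈ e := by
        rw [← hst]
        refine ⟨θ₀, hθ₀, Char.irr_ext fun m => ?_⟩
        simp only [hθdef, mapIrr_apply]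
        exact congrArg _ (Subtype.ext (Subtype.ext rfl))
      rw [← hθe] at h1
      obtain ⟨θ', hθ', heq⟩ := h1
      rwa [mapIrr_injective _ heq] at hθ'
    rw [conjSelf, mapBlock_blockOf]
    refine (IsPBlock.eq_blockOf (isPBlock_blockOf ξ) ?_).symm
    have hs := sameBlock_of_constituent (centIn N R) hM hj hξ
      (h' := by rw [classInner_transport hxC]; exact hξ) (mem_blockOf.1 hθ')
    exact hs
  have hreg : IsPRegular p (x : G) := by
    unfold IsPRegular at hxreg ⊢
    rwa [Subgroup.orderOf_coe]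
  have hxcen := hnil.2 R _ hpair (x : G) hxR hxst' hreg
  exact Subgroup.mem_centralizer_iff.2 fun r hr =>
    Subtype.ext (Subgroup.mem_centralizer_iff.1 hxcen _ hr)

/-- For a `q`-element stabilizing a pair: some pair of `c` below is stabilized. -/
theorem centralizes_inf (hnil : IsNilpotentBlock p M c) (hR : R ≤ N) (hRp : IsPGroup p R)
    {f : Set (IrrCharacter (Subgroup.centralizer (R : Set G)))}
    (hRf : IsBrauerPairOf p M B R f) {x : G} (hxN : x ∈ N)
    (hxR : x ∈ Subgroup.normalizer (R : Set G))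
    (hst : StabilizesBlock (Subgroup.centralizer (R : Set G)) f x) {q : ℕ} [Fact q.Prime]
    (hq : q ≠ p) {m : ℕ} (hord : orderOf x = q ^ m) :
    x ∈ Subgroup.centralizer (R : Set G) := by
  classical
  obtain ⟨ξ, hξ⟩ := IsPBlock.nonempty hRf.1.2
  have hfeq := IsPBlock.eq_blockOf hRf.1.2 hξ
  obtain ⟨θ₀, hθ₀⟩ := exists_constituent (centIn N R) ξ
  set U := Subgroup.zpowers x with hUdef
  have hUp : IsPGroup q U := IsPGroup.of_card (n := m) (by rw [Nat.card_zpowers, hord])
  have hUst : U ≤ pairStab R f := Subgroup.zpowers_le.2 ⟨hxR, hst⟩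
  let Ω := {b : Set (IrrCharacter (centIn N R)) // ∃ ξ' ∈ f, ∃ θ : IrrCharacter (centIn N R),
    classInner (fun m : centIn N R => ξ'.1 (m : Subgroup.centralizer (R : Set G))) (θ : centIn N R → ℂ) ≠ 0 ∧
      b = blockOf M (θ : centIn N R → ℂ)}
  let act : MulAction U Ω :=
    { smul := fun u b => ⟨mapBlock (centInConj (hUst u.2).2.1).symm b.1, by
        obtain ⟨ξ', hξ', θ, hne, hb⟩ := b.2
        obtain ⟨hx, hx'⟩ := stabilizesBlock_iff.1 (hUst u.2).2
        refine ⟨mapIrr (conjEquiv _ _ (u : G) (mem_normalizer_conj hx)).symm ξ', ?_,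
          mapIrr (centInConj hx).symm θ, ?_, ?_⟩
        · rw [← hx']
          exact ⟨ξ', hξ', rfl⟩
        · rw [classInner_transport hx]
          exact hne
        · rw [hb, mapBlock_blockOf]⟩
      one_smul := fun b => Subtype.ext (by
        refine (Set.image_congr fun θ _ => ?_).trans (Set.image_id _)
        refine Char.irr_ext fun y => ?_
        rw [mapIrr_apply]
        exact congrArg _ (Subtype.ext (Subtype.ext (show (1 : G)⁻¹ * y.1.1 * 1 = y.1.1 by simp))))
      mul_smul := fun u v b => Subtype.ext (by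
        show mapBlock _ b.1 = mapBlock _ (mapBlock _ b.1)
        rw [mapBlock_mapBlock]
        refine congrArg (fun ψ => mapBlock ψ b.1) (MulEquiv.ext fun y => Subtype.ext (Subtype.ext ?_))
        show ((u : G) * v)⁻¹ * y.1.1 * ((u : G) * v) = (v : G)⁻¹ * ((u : G)⁻¹ * y.1.1 * u) * v
        group) }
  obtain ⟨j, hj⟩ := index_centIn_eq hidx R
  -- the blocks below form one orbit of `C(R)`, of `p`-power length
  let act' : MulAction (Subgroup.centralizer (R : Set G)) (Set (IrrCharacter (centIn N R))) :=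
    { smul := fun g b => mapBlock (MulAut.conjNormal g⁻¹ : centIn N R ≃* centIn N R) b
      one_smul := fun b => by
        show mapBlock _ b = b
        refine (Set.image_congr fun θ _ => ?_).trans (Set.image_id _)
        refine Char.irr_ext fun y => ?_
        rw [mapIrr_apply]
        exact congrArg _ (Subtype.ext (by simp))
      mul_smul := fun g h b => by
        show mapBlock _ b = mapBlock _ (mapBlock _ b)
        rw [mapBlock_mapBlock]
        refine congrArg (fun ψ => mapBlock ψ b) (MulEquiv.ext fun y => Subtype.ext ?_)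
        simp [mul_assoc] }
  set O := MulAction.orbit (Subgroup.centralizer (R : Set G))
    (blockOf M (θ₀ : centIn N R → ℂ)) with hO
  have horb : ∀ b : Set (IrrCharacter (centIn N R)), (∃ ξ' ∈ f, ∃ θ : IrrCharacter (centIn N R),
      classInner (fun m : centIn N R => ξ'.1 (m : Subgroup.centralizer (R : Set G))) (θ : centIn N R → ℂ) ≠ 0 ∧
        b = blockOf M (θ : centIn N R → ℂ)) ↔ b ∈ O := by
    intro b
    constructor
    · rintro ⟨ξ', hξ', θ, hne, rfl⟩
      obtain ⟨g, hg⟩ := exists_conj_of_sameBlock (centIn N R)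
        (IsPBlock.sameBlock hRf.1.2 hξ hξ') hθ₀ hne
      refine ⟨g⁻¹, ?_⟩
      show mapBlock _ _ = _
      rw [inv_inv, mapBlock_blockOf]
      exact IsPBlock.eq_blockOf (isPBlock_blockOf _) hg
    · rintro ⟨g, rfl⟩
      refine ⟨ξ, hξ, conjIrr (centIn N R) g⁻¹ θ₀, ?_, ?_⟩
      · rw [classInner_conjIrr]
        exact hθ₀
      · show mapBlock _ _ = _
        rw [mapBlock_blockOf]
        rfl
  have hcard : ¬ q ∣ Nat.card Ω := by
    rw [show Nat.card Ω = Nat.card O from Nat.card_congr (Equiv.subtypeEquivRight horb)]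
    have h1 : Nat.card O = (MulAction.stabilizer (Subgroup.centralizer (R : Set G))
        (blockOf M (θ₀ : centIn N R → ℂ))).index :=
      Nat.card_congr (MulAction.orbitEquivQuotientStabilizer _ _)
    have h2 : centIn N R ≤ MulAction.stabilizer (Subgroup.centralizer (R : Set G))
        (blockOf M (θ₀ : centIn N R → ℂ)) := fun n hn => by
      show mapBlock _ _ = _
      refine (Set.image_congr fun θ _ => ?_).trans (Set.image_id _)
      refine Char.irr_ext fun y => ?_
      rw [mapIrr_apply]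
      have h3 := Char.IsIrr.isClassFunction θ.2 y (⟨n, hn⟩⁻¹)
      refine Eq.trans (congrArg _ (Subtype.ext ?_)) h3
      simp [mul_assoc]
    obtain ⟨i, -, hi⟩ := (Nat.dvd_prime_pow (Fact.out : p.Prime)).1
      (hj ▸ Subgroup.index_dvd_of_le h2)
    rw [h1, hi]
    exact fun h => hq ((Nat.prime_dvd_prime_iff_eq Fact.out Fact.out).1
      ((Fact.out : q.Prime).dvd_of_dvd_pow h))
  obtain ⟨⟨b, hb'⟩, hb⟩ := hUp.nonempty_fixed_point_of_prime_not_dvd_card Ω hcard
  have hfix := congrArg Subtype.val (hb ⟨x, Subgroup.mem_zpowers x⟩)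
  obtain ⟨ξ', hξ', θ, hne, hbθ⟩ := hb'
  have hf' := IsPBlock.eq_blockOf hRf.1.2 hξ'
  have hpair := (pairOf_iff_of_constituent hM hidx hc hB hBc hR hRp hne).2 (hf' ▸ hRf)
  rw [← hbθ] at hpair
  set x' : N := ⟨x, hxN⟩
  have hxR' : x' ∈ Subgroup.normalizer ((R.subgroupOf N : Subgroup N) : Set N) := by
    refine Subgroup.mem_normalizer_iff.2 fun r => ?_
    exact Subgroup.mem_normalizer_iff.1 hxR (r : G)
  have hst' : StabilizesBlock (Subgroup.centralizer ((R.subgroupOf N : Subgroup N) : Set N))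
      (mapBlock (centInEquiv hR) b) x' := by
    refine ⟨normalizer_le_normalizer_centralizer _ hxR', ?_⟩
    rintro _ ⟨η, hη, rfl⟩
    have hη' : mapIrr (centInConj (hUst (Subgroup.mem_zpowers x)).2.1).symm η ∈ b := by
      have h4 : mapBlock (centInConj (hUst (Subgroup.mem_zpowers x)).2.1).symm b = b := hfix
      exact h4.subset ⟨η, hη, rfl⟩
    refine ⟨_, ⟨_, hη', rfl⟩, fun y y' hy => ?_⟩
    rw [mapIrr_apply, mapIrr_apply, mapIrr_apply]
    refine congrArg _ (Subtype.ext (Subtype.ext ?_))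
    show x⁻¹ * ((y' : N) : G) * x = ((y : N) : G)
    rw [hy]
    simp [x', mul_assoc]
  have hreg : IsPRegular p x' := by
    unfold IsPRegular
    rw [← Subgroup.orderOf_coe, show ((x' : N) : G) = x from rfl, hord]
    exact fun h => hq ((Nat.prime_dvd_prime_iff_eq Fact.out Fact.out).1
      ((Fact.out : p.Prime).dvd_of_dvd_pow h)).symm
  have hcen := hnil.2 _ _ hpair x' hxR' hst' hreg
  exact Subgroup.mem_centralizer_iff.2 fun r hr =>
    congrArg Subtype.val (Subgroup.mem_centralizer_iff.1 hcen ⟨r, hR hr⟩ hr)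

omit hM hidx hc hB hBc in
/-- An element is in a subgroup as soon as its prime power parts are. -/
theorem mem_of_primary {H : Subgroup G} {x : G}
    (h : ∀ q : ℕ, q.Prime → q ∣ orderOf x → ∀ n : ℕ,
      (∃ m, orderOf (x ^ n) = q ^ m) → x ^ n ∈ H) : x ∈ H := by
  induction hn : orderOf x using Nat.strong_induction_on generalizing x with
  | _ n ih =>
    rcases eq_or_ne n 1 with h1 | h1
    · rw [orderOf_eq_one_iff.1 (hn.trans h1)]
      exact H.one_mem
    · obtain ⟨q, hq, hqn⟩ := Nat.exists_prime_and_dvd h1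
      have hn0 : n ≠ 0 := hn ▸ (orderOf_pos x).ne'
      set a := q ^ n.factorization q
      set b := n / a with hb
      have hab : a * b = n := Nat.mul_div_cancel' (Nat.ordProj_dvd n q)
      have ha : 1 < a := Nat.one_lt_pow (hq.factorization_pos_of_dvd hn0 hqn).ne' hq.one_lt
      have hb0 : b ≠ 0 := fun e => hn0 (by rw [← hab, e, mul_zero])
      have hoa : orderOf (x ^ b) = a := by
        rw [orderOf_pow_of_dvd hb0 (hn ▸ ⟨a, by rw [← hab, mul_comm]⟩), hn, ← hab,
          Nat.mul_div_cancel _ (Nat.pos_of_ne_zero hb0)]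
      have hob : orderOf (x ^ a) = b := by
        rw [orderOf_pow_of_dvd (by omega) (hn ▸ ⟨b, hab.symm⟩), hn, ← hab,
          Nat.mul_div_cancel_left _ (by omega)]
      have hxb : x ^ b ∈ H := h q hq (hn ▸ hqn) b ⟨_, hoa⟩
      have hblt : b < n := by
        rw [← hab]
        exact lt_mul_of_one_lt_left (Nat.pos_of_ne_zero hb0) ha
      have hxa : x ^ a ∈ H := ih b hblt (fun r hr hrb m hm => by
        rw [← pow_mul] at hm ⊢
        exact h r hr (hrb.trans ⟨a, by rw [hob, hn, ← hab, mul_comm]⟩) _ ⟨_, hm.choose_spec⟩) hob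
      have hcop : a.Coprime b :=
        (Nat.coprime_pow_left_iff (hq.factorization_pos_of_dvd hn0 hqn) _ _).2
          (hq.coprime_iff_not_dvd.2 (Nat.not_dvd_ordCompl hq hn0))
      have hgcd := Nat.gcd_eq_gcd_ab a b
      rw [hcop.gcd_eq_one] at hgcd
      have hx1 : x = (x ^ a) ^ Nat.gcdA a b * (x ^ b) ^ Nat.gcdB a b := by
        rw [← zpow_natCast x a, ← zpow_natCast x b, ← zpow_mul, ← zpow_mul, ← zpow_add, ← hgcd]
        simp
      rw [hx1]
      exact H.mul_mem (H.zpow_mem hxa _) (H.zpow_mem hxb _)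

theorem nilpotent_up (hnil : IsNilpotentBlock p M c) : IsNilpotentBlock p M B := by
  classical
  refine ⟨hB, fun Q e hQe x hxQ hxst hxreg => ?_⟩
  refine mem_of_primary fun q hq hqx n ⟨m, hm⟩ => ?_
  have : Fact q.Prime := ⟨hq⟩
  have hqp : q ≠ p := by
    rintro rfl
    exact hxreg hqx
  set y := x ^ n
  have hy : y ∈ pairStab Q e := (pow_mem (show x ∈ pairStab Q e from ⟨hxQ, hxst⟩) n)
  have hyreg : IsPRegular p y := fun h => hxreg (h.trans (orderOf_pow_dvd n))
  have hyN : y ∈ N := by
    refine (QuotientGroup.eq_one_iff y).1 (orderOf_eq_one_iff.1 ?_)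
    exact Nat.eq_one_of_dvd_coprimes
      (((Nat.Prime.coprime_iff_not_dvd hM.1).2 hyreg).pow_left k)
      (hidx ▸ orderOf_dvd_natCard (y : G ⧸ N)) (orderOf_map_dvd (QuotientGroup.mk' N) y)
  set R := Q ⊓ N
  have hRQ : R ≤ Q := inf_le_left
  have hQN : Q ≤ Subgroup.normalizer (R : Set G) := by
    intro u hu
    refine Subgroup.mem_normalizer_iff.2 fun r => ⟨fun hr => ?_, fun hr => ?_⟩
    · exact ⟨mul_mem (mul_mem hu hr.1) (Q.inv_mem hu), (‹N.Normal›).conj_mem r hr.2 u⟩
    · refine ⟨?_, ?_⟩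
      · have := mul_mem (mul_mem (Q.inv_mem hu) hr.1) hu
        simpa [mul_assoc] using this
      · have := Subgroup.Normal.conj_mem ‹N.Normal› _ hr.2 u⁻¹
        simpa [mul_assoc] using this
  obtain ⟨f, hf, huni⟩ := existsUnique_normalSubpair hM hQe.1 hRQ hQN
  have hRf : IsBrauerPairOf p M B R f := (normalSubpair_pairOf_iff hM hf B).1 hQe
  have hyR : y ∈ Subgroup.normalizer (R : Set G) := by
    refine Subgroup.mem_normalizer_iff.2 fun r => ?_
    have h1 := Subgroup.mem_normalizer_iff.1 hy.1 r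
    have h2 : r ∈ N ↔ y * r * y⁻¹ ∈ N := ⟨fun h => (‹N.Normal›).conj_mem r h y, fun h => by
      have := Subgroup.Normal.conj_mem ‹N.Normal› _ h y⁻¹
      simpa [mul_assoc] using this⟩
    exact and_congr h1 h2
  have hyst : StabilizesBlock (Subgroup.centralizer (R : Set G)) f y := by
    have hnC := normalizer_le_normalizer_centralizer R hyR
    refine stabilizesBlock_iff.2 ⟨hnC, huni _ ?_⟩
    obtain ⟨hyC, hye⟩ := stabilizesBlock_iff.1 hy.2
    have h3 := normalSubpairRel_conjPair y (a := ⟨R, f⟩) (b := ⟨Q, e⟩) hf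
    rw [conjPair_self hyR hnC, conjPair_self hy.1 hyC, hye] at h3
    exact h3
  have hcenR := centralizes_inf hM hidx hc hB hBc hnil inf_le_right (hQe.1.1.to_le hRQ) hRf hyN hyR
    hyst hqp hm
  refine mem_centralizer_of_step (hQe.1.1.to_le hRQ) hyreg
    (fun r hr => (Subgroup.mem_centralizer_iff.1 hcenR r hr).symm) fun u hu => ⟨?_, ?_⟩
  · exact mul_mem ((Subgroup.mem_normalizer_iff.1 hy.1 u).1 hu) (Q.inv_mem hu)
  · have := mul_mem hyN (Subgroup.Normal.conj_mem ‹N.Normal› _ (inv_mem hyN) u)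
    simpa [mul_assoc] using this

end CfsgLib.Pairs
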