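import Mathlib

/-!
Faithful irreducible modules over two elements of the group `3² : D₈`.
-/

set_option autoImplicit false
set_option linter.style.haveILetI false

namespace CfsgLib.Pairs.NineByDihedral

open Subgroup

variable {S : Type*} [Group S] [Finite S] {M : Type*} [AddCommGroup M] [Module (ZMod 2) M]
  (ρ : Representation (ZMod 2) S M)

omit [Finite S] in
theorem mul_apply (g h : S) (m : M) : ρ (g * h) m = ρ g (ρ h m) := by rw [map_mul]; rfl

omit [Finite S] in
theorem one_apply (m : M) : ρ (1 : S) m = m := by rw [map_one]; rfl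

/-- the fixed space of an element -/
def fix (g : S) : Submodule (ZMod 2) M where
  carrier := {m | ρ g m = m}
  zero_mem' := map_zero _
  add_mem' := fun {a b} ha hb => by
    show ρ g (a + b) = a + b
    rw [map_add, show ρ g a = a from ha, show ρ g b = b from hb]
  smul_mem' := fun c m hm => by
    show ρ g (c • m) = c • m
    rw [map_smul, show ρ g m = m from hm]

omit [Finite S] in
theorem fix_conj (g h : S) {m : M} (hm : m ∈ fix ρ h) : ρ g m ∈ fix ρ (g * h * g⁻¹) := by
  show ρ (g * h * g⁻¹) (ρ g m) = ρ g m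
  rw [← mul_apply, inv_mul_cancel_right, mul_apply, show ρ h m = m from hm]

theorem mem_of_zpowers_sup {a b : S} (St : Submonoid S) (ha : a ∈ St) (hb : b ∈ St) {c : S}
    (hc : c ∈ zpowers a ⊔ zpowers b) : c ∈ St := by
  let G' : Subgroup S :=
    { St with
      inv_mem' := fun {g} hg => by
        have h1 : g⁻¹ = g ^ (orderOf g - 1) := inv_eq_of_mul_eq_one_right (by
          rw [← pow_succ', Nat.sub_add_cancel (orderOf_pos g), pow_orderOf_eq_one])
        exact h1 ▸ pow_mem (show g ∈ St from hg) _ }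
  exact sup_le (zpowers_le.2 (show a ∈ G' from ha)) (zpowers_le.2 (show b ∈ G' from hb)) hc

omit [Finite S] in
theorem char_two (m : M) : m + m = 0 := by
  rw [← two_smul (ZMod 2) m, show (2 : ZMod 2) = 0 from rfl, zero_smul]

/-- Coordinates: an involution of `X` fixing a given line `⟨a⟩` of `A`. -/
theorem main (A : Subgroup S) [hAn : A.Normal] (hAc : ∀ a ∈ A, ∀ b ∈ A, a * b = b * a) (hA3 : ∀ a ∈ A, a ^ 3 = 1)
    (hA9 : Nat.card A = 9) (hAC : centralizer (A : Set S) = A) (X : Subgroup S) (e : X ≃* DihedralGroup 4)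
    (hAX : A ⊔ X = ⊤) (hfaith : Function.Injective ρ)
    (hirr : ∀ N : Submodule (ZMod 2) M, (∀ s : S, ∀ m ∈ N, ρ s m ∈ N) → N = ⊥ ∨ N = ⊤) [Finite M] [Nontrivial M] :
    Nat.card M = 16 ∧
      ∃! B : Subgroup S, B ≤ X ∧ Nat.card ↥B = 4 ∧ (∀ b ∈ B, b ^ 2 = 1) ∧
        Nat.card {m : M // ∀ b ∈ B, ρ b m = m} = 2 := by
  classical
  let R : ZMod 4 → S := fun i => (e.symm (DihedralGroup.r i) : S)
  let T : ZMod 4 → S := fun i => (e.symm (DihedralGroup.sr i) : S)
  have hRR : ∀ i j, R i * R j = R (i + j) := fun i j => by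
    simp only [R, ← Subgroup.coe_mul, ← map_mul, DihedralGroup.r_mul_r]
  have hRT : ∀ i j, R i * T j = T (j - i) := fun i j => by
    simp only [R, T, ← Subgroup.coe_mul, ← map_mul, DihedralGroup.r_mul_sr]
  have hTR : ∀ i j, T i * R j = T (i + j) := fun i j => by
    simp only [R, T, ← Subgroup.coe_mul, ← map_mul, DihedralGroup.sr_mul_r]
  have hTT : ∀ i j, T i * T j = R (j - i) := fun i j => by
    simp only [R, T, ← Subgroup.coe_mul, ← map_mul, DihedralGroup.sr_mul_sr]
  have hR0 : R 0 = 1 := by simp [R]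
  have hRmem : ∀ i, R i ∈ X := fun i => (e.symm (DihedralGroup.r i)).2
  have hTmem : ∀ i, T i ∈ X := fun i => (e.symm (DihedralGroup.sr i)).2
  have hinj : Function.Injective fun x => ((e.symm x : X) : S) := Subtype.val_injective.comp e.symm.injective
  have hcov : ∀ x ∈ X, (∃ i, x = R i) ∨ ∃ i, x = T i := fun x hx => by
    rcases h : e ⟨x, hx⟩ with i | i
    · exact Or.inl ⟨i, (congrArg Subtype.val (show e.symm (DihedralGroup.r i) = ⟨x, hx⟩ by
        rw [← h, e.symm_apply_apply])).symm⟩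
    · exact Or.inr ⟨i, (congrArg Subtype.val (show e.symm (DihedralGroup.sr i) = ⟨x, hx⟩ by
        rw [← h, e.symm_apply_apply])).symm⟩
  have hXc : Nat.card X = 8 := by rw [Nat.card_congr e.toEquiv, DihedralGroup.nat_card]
  have hdisj : ∀ x ∈ X, x ∈ A → x = 1 := fun x hx hxA => Subgroup.mem_bot.1
    ((inf_eq_bot_of_coprime (by rw [hXc, hA9]; norm_num : (Nat.card X).Coprime (Nat.card A))).le ⟨hx, hxA⟩)
  have hnc : ∀ x ∈ X, x ≠ 1 → ∃ a ∈ A, x * a * x⁻¹ ≠ a := by
    intro x hx hx1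
    by_contra! h
    exact hx1 (hdisj x hx (hAC ▸ mem_centralizer_iff.2 fun a ha => (mul_inv_eq_iff_eq_mul.1 (h a ha)).symm))
  -- the action of `X` on `A`
  have hT2 : ∀ i, T i * T i = 1 := fun i => by rw [hTT, sub_self, hR0]
  have hTne : ∀ i, T i ≠ 1 := fun i h => by
    have := hinj (a₁ := DihedralGroup.sr i) (a₂ := 1) (by simpa [T] using h)
    rw [DihedralGroup.one_def] at this
    cases this
  have hR2ne : R 2 ≠ 1 := fun h => by
    have := hinj (a₁ := DihedralGroup.r 2) (a₂ := 1) (by simpa [R] using h)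
    rw [DihedralGroup.one_def] at this
    exact absurd (DihedralGroup.r.inj this) (by decide)
  have hinvol : ∀ {u : S}, u * u = 1 → ∀ a ∈ A,
      u * (a * (u * a * u⁻¹)) * u⁻¹ = a * (u * a * u⁻¹) ∧
      u * (a * (u * a * u⁻¹)⁻¹) * u⁻¹ = (a * (u * a * u⁻¹)⁻¹)⁻¹ := by
    intro u hu a ha
    have hui : u⁻¹ = u := inv_eq_of_mul_eq_one_right hu
    have hb : u * a * u⁻¹ ∈ A := hAn.conj_mem a ha u
    have hb2 : u * (u * a * u⁻¹) * u⁻¹ = a := by
      calc u * (u * a * u⁻¹) * u⁻¹ = (u * u) * a * (u⁻¹ * u⁻¹) := by group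
        _ = a := by rw [hui, hu, one_mul, mul_one]
    constructor
    · rw [show u * (a * (u * a * u⁻¹)) * u⁻¹ = (u * a * u⁻¹) * (u * (u * a * u⁻¹) * u⁻¹) by group, hb2,
        hAc _ hb _ ha]
    · rw [show u * (a * (u * a * u⁻¹)⁻¹) * u⁻¹ = (u * a * u⁻¹) * (u * (u * a * u⁻¹) * u⁻¹)⁻¹ by group, hb2,
        _root_.mul_inv_rev, _root_.inv_inv]
  have hcube : ∀ {a : S}, a ∈ A → a * a = 1 → a = 1 := fun {a} ha h => by
    have := hA3 a ha
    rwa [pow_succ, pow_two, h, one_mul] at this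
  -- `R 2` inverts `A`
  have hz : ∀ a ∈ A, R 2 * a * (R 2)⁻¹ = a⁻¹ := by
    -- a fixed nontrivial element of `R 2` would be an eigenvector for the whole of `X`
    have hzfix : ∀ a ∈ A, R 2 * a * (R 2)⁻¹ = a → a = 1 := by
      intro a ha hza
      by_contra ha1
      obtain ⟨c, hc, hcne⟩ := hnc _ (hRmem 2) hR2ne
      have hR22 : R 2 * R 2 = 1 := by rw [hRR]; exact (congrArg R (by decide : (2 + 2 : ZMod 4) = 0)).trans hR0
      have hFc : ∀ d ∈ A, R 2 * d * (R 2)⁻¹ = d → d ∈ zpowers a := by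
        intro d hd hdd
        by_contra hdn
        refine hcne ?_
        have hle : A ≤ zpowers a ⊔ zpowers d := by
          have h1 : zpowers a ⊔ zpowers d ≤ A := sup_le (zpowers_le.2 ha) (zpowers_le.2 hd)
          refine (eq_of_le_of_card_ge h1 ?_).ge
          obtain ⟨j, hj, hje⟩ := (Nat.dvd_prime_pow Nat.prime_three).1
            (show Nat.card ↥(zpowers a ⊔ zpowers d) ∣ 3 ^ 2 from (card_dvd_of_le h1).trans (hA9.trans (by norm_num)).dvd)
          rw [hA9, hje]
          rcases (show j ≤ 1 ∨ j = 2 by omega) with h | rfl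
          · exfalso
            refine hdn ?_
            have h2 := eq_of_le_of_card_ge (le_sup_left : zpowers a ≤ zpowers a ⊔ zpowers d) (by
              haveI : Fact (Nat.Prime 3) := ⟨Nat.prime_three⟩
              rw [hje, Nat.card_zpowers, orderOf_eq_prime (hA3 a ha) ha1]
              exact (Nat.pow_le_pow_right (by norm_num) h).trans (by norm_num))
            exact h2 ▸ mem_sup_right (mem_zpowers d)
          · norm_num
        have : A ≤ centralizer ({R 2} : Set S) := hle.trans (sup_le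
          (zpowers_le.2 (mem_centralizer_singleton_iff.2 (mul_inv_eq_iff_eq_mul.1 hza).symm))
          (zpowers_le.2 (mem_centralizer_singleton_iff.2 (mul_inv_eq_iff_eq_mul.1 hdd).symm)))
        rw [← mem_centralizer_singleton_iff.1 (this hc), mul_inv_cancel_right]
      -- hence the fixed line of `R 2` is invariant under `X`, and `T 0`, `T 1` act on it and its complement
      set d₀ := c * (R 2 * c * (R 2)⁻¹)⁻¹ with hd₀
      have hd₀A : d₀ ∈ A := mul_mem hc (inv_mem (hAn.conj_mem c hc _))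
      have hd₀i : R 2 * d₀ * (R 2)⁻¹ = d₀⁻¹ := (hinvol hR22 c hc).2
      have hd₀1 : d₀ ≠ 1 := fun h => hcne (mul_inv_eq_one.1 h).symm
      have hIc : ∀ d ∈ A, R 2 * d * (R 2)⁻¹ = d⁻¹ → d ∈ zpowers d₀ := by
        intro d hd hdi
        by_contra hdn
        refine ha1 (hcube ha ?_)
        have h1 : zpowers d₀ ⊔ zpowers d ≤ A := sup_le (zpowers_le.2 hd₀A) (zpowers_le.2 hd)
        let I : Subgroup S :=
          { carrier := {u | u ∈ A ∧ R 2 * u * (R 2)⁻¹ = u⁻¹}
            one_mem' := ⟨one_mem A, by simp⟩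
            mul_mem' := fun {u v} hu hv => ⟨mul_mem hu.1 hv.1, by
              rw [show R 2 * (u * v) * (R 2)⁻¹ = (R 2 * u * (R 2)⁻¹) * (R 2 * v * (R 2)⁻¹) by group, hu.2, hv.2,
                _root_.mul_inv_rev, hAc _ (inv_mem hu.1) _ (inv_mem hv.1)]⟩
            inv_mem' := fun {u} hu => ⟨inv_mem hu.1, by
              rw [show R 2 * u⁻¹ * (R 2)⁻¹ = (R 2 * u * (R 2)⁻¹)⁻¹ by group, hu.2]⟩ }
        have hle : A ≤ zpowers d₀ ⊔ zpowers d := by
          refine (eq_of_le_of_card_ge h1 ?_).ge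
          obtain ⟨j, hj, hje⟩ := (Nat.dvd_prime_pow Nat.prime_three).1
            (show Nat.card ↥(zpowers d₀ ⊔ zpowers d) ∣ 3 ^ 2 from (card_dvd_of_le h1).trans (hA9.trans (by norm_num)).dvd)
          rw [hA9, hje]
          rcases (show j ≤ 1 ∨ j = 2 by omega) with h | rfl
          · exfalso
            refine hdn ?_
            have h2 := eq_of_le_of_card_ge (le_sup_left : zpowers d₀ ≤ zpowers d₀ ⊔ zpowers d) (by
              haveI : Fact (Nat.Prime 3) := ⟨Nat.prime_three⟩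
              rw [hje, Nat.card_zpowers, orderOf_eq_prime (hA3 d₀ hd₀A) hd₀1]
              exact (Nat.pow_le_pow_right (by norm_num) h).trans (by norm_num))
            exact h2 ▸ mem_sup_right (mem_zpowers d)
          · norm_num
        have h2 := (hle.trans (sup_le (zpowers_le.2 (show d₀ ∈ I from ⟨hd₀A, hd₀i⟩))
          (zpowers_le.2 (show d ∈ I from ⟨hd, hdi⟩)))) ha
        rw [h2.2] at hza
        calc a * a = a * a⁻¹ := by rw [hza]
          _ = 1 := mul_inv_cancel a
      have hcomm : ∀ i, T i * R 2 = R 2 * T i := fun i => by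
        rw [hTR, hRT]; congr 1; rw [sub_eq_add_neg]; congr 1
      have hline : ∀ i, (T i * a * (T i)⁻¹ = a ∨ T i * a * (T i)⁻¹ = a⁻¹) ∧
          (T i * d₀ * (T i)⁻¹ = d₀ ∨ T i * d₀ * (T i)⁻¹ = d₀⁻¹) := by
        intro i
        have key : ∀ {l : S}, l ∈ A → l ≠ 1 → ∀ {d : S}, d ∈ zpowers l → d = 1 ∨ d = l ∨ d = l⁻¹ := by
          intro l hl hl1 d hd
          obtain ⟨k, rfl⟩ := mem_zpowers_iff.1 hd
          have h3 : l ^ k = l ^ (k % 3) := zpow_eq_zpow_emod k (by exact_mod_cast hA3 l hl)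
          rcases (show k % 3 = 0 ∨ k % 3 = 1 ∨ k % 3 = 2 by omega) with h | h | h <;> rw [h3, h]
          · exact Or.inl (zpow_zero l)
          · exact Or.inr (Or.inl (zpow_one l))
          · refine Or.inr (Or.inr (eq_inv_of_mul_eq_one_left ?_))
            rw [← zpow_add_one]; norm_num; exact_mod_cast hA3 l hl
        have hsw : ∀ l : S, R 2 * (T i * l * (T i)⁻¹) * (R 2)⁻¹ = T i * (R 2 * l * (R 2)⁻¹) * (T i)⁻¹ := fun l => by
          calc R 2 * (T i * l * (T i)⁻¹) * (R 2)⁻¹ = (R 2 * T i) * l * (R 2 * T i)⁻¹ := by group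
            _ = (T i * R 2) * l * (T i * R 2)⁻¹ := by rw [hcomm i]
            _ = _ := by group
        constructor
        · rcases key ha ha1 (hFc _ (hAn.conj_mem a ha (T i)) (by rw [hsw, hza])) with h | h | h
          · exact absurd (conj_eq_one_iff.1 h) ha1
          · exact Or.inl h
          · exact Or.inr h
        · rcases key hd₀A hd₀1 (hIc _ (hAn.conj_mem d₀ hd₀A (T i)) (by rw [hsw, hd₀i, conj_inv])) with h | h | h
          · exact absurd (conj_eq_one_iff.1 h) hd₀1
          · exact Or.inl h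
          · exact Or.inr h
      -- so `R 1` acts with square `1`
      have hR2 : R 2 = (T 0 * T 1) * (T 0 * T 1) := by
        rw [hTT, hRR]; congr 1
      refine hd₀1 (hcube hd₀A ?_)
      have hsq : R 2 * d₀ * (R 2)⁻¹ = d₀ := by
        rw [hR2]
        obtain ⟨-, h0⟩ := hline 0
        obtain ⟨-, h1⟩ := hline 1
        have e1 : ∀ u v : S, (u * v * (u * v)) * d₀ * (u * v * (u * v))⁻¹ =
            u * (v * (u * (v * d₀ * v⁻¹) * u⁻¹) * v⁻¹) * u⁻¹ := fun u v => by group
        rw [e1]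
        rcases h0 with h0 | h0 <;> rcases h1 with h1 | h1 <;>
          simp only [h0, h1, ← conj_inv, _root_.inv_inv]
      rw [hd₀i] at hsq
      calc d₀ * d₀ = d₀⁻¹ * d₀ := by rw [hsq]
        _ = 1 := inv_mul_cancel d₀
    intro a ha
    have hR22 : R 2 * R 2 = 1 := by rw [hRR]; exact (congrArg R (by decide : (2 + 2 : ZMod 4) = 0)).trans hR0
    have := hzfix _ (mul_mem ha (hAn.conj_mem a ha _)) (hinvol hR22 a ha).1
    exact eq_inv_of_mul_eq_one_right this
  have hTne2 : ∀ i, ∀ j : ZMod 4, T i = T j → i = j := fun i j h =>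
    DihedralGroup.sr.inj (hinj (a₁ := DihedralGroup.sr i) (a₂ := DihedralGroup.sr j) h)
  -- each `T i` has a fixed line
  have hTfix : ∀ i, ∃ a ∈ A, a ≠ 1 ∧ T i * a * (T i)⁻¹ = a := by
    intro i
    by_contra! h
    obtain ⟨c, hc, hcne⟩ := hnc _ (hTmem (i + 2)) (hTne _)
    refine hcne ?_
    have hci : T i * c * (T i)⁻¹ = c⁻¹ := by
      have := h _ (mul_mem hc (hAn.conj_mem c hc (T i)))
      by_cases h1 : c * (T i * c * (T i)⁻¹) = 1
      · exact eq_inv_of_mul_eq_one_right h1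
      · exact absurd (hinvol (hT2 i) c hc).1 (this h1)
    calc T (i + 2) * c * (T (i + 2))⁻¹ = R 2 * (T i * c * (T i)⁻¹) * (R 2)⁻¹ := by
          rw [show T (i + 2) = R 2 * T i by rw [hRT]; congr 1; rw [sub_eq_add_neg]; congr 1]; group
      _ = c := by rw [hci, hz _ (inv_mem hc), _root_.inv_inv]
  choose p hpA hp1 hpfix using hTfix
  -- the lines of distinct involutions differ
  have hline : ∀ i j, ∀ a ∈ A, a ≠ 1 → T i * a * (T i)⁻¹ = a → T j * a * (T j)⁻¹ = a → i = j := by
    intro i j a ha ha1 h1 h2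
    by_contra hij
    have hd : R (j - i) * a * (R (j - i))⁻¹ = a := by
      rw [← hTT, show T i * T j * a * (T i * T j)⁻¹ = T i * (T j * a * (T j)⁻¹) * (T i)⁻¹ by group, h2, h1]
    have hne : j - i ≠ 0 := sub_ne_zero.2 (Ne.symm hij)
    have hz' : R 2 * a * (R 2)⁻¹ = a := by
      rcases (show j - i = 2 ∨ 2 * (j - i) = 2 by revert hne; generalize j - i = k; revert k; decide) with h | h
      · rwa [h] at hd
      · rw [show R 2 = R (j - i) * R (j - i) by rw [hRR, ← two_mul, h],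
          show R (j - i) * R (j - i) * a * (R (j - i) * R (j - i))⁻¹ =
            R (j - i) * (R (j - i) * a * (R (j - i))⁻¹) * (R (j - i))⁻¹ by group, hd, hd]
    rw [hz a ha] at hz'
    exact ha1 (hcube ha (by nth_rw 1 [← hz']; exact inv_mul_cancel a))
  have hAgen : ∀ {a b : S}, a ∈ A → b ∈ A → a ≠ 1 → b ∉ zpowers a → A = zpowers a ⊔ zpowers b := by
    intro a b ha hb ha1 hbn
    have h1 : zpowers a ⊔ zpowers b ≤ A := sup_le (zpowers_le.2 ha) (zpowers_le.2 hb)
    refine (eq_of_le_of_card_ge h1 ?_).symm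
    obtain ⟨j, hj, hje⟩ := (Nat.dvd_prime_pow Nat.prime_three).1
      (show Nat.card ↥(zpowers a ⊔ zpowers b) ∣ 3 ^ 2 from (card_dvd_of_le h1).trans (hA9.trans (by norm_num)).dvd)
    rw [hA9, hje]
    rcases (show j ≤ 1 ∨ j = 2 by omega) with h | rfl
    · exfalso
      refine hbn ?_
      have h2 := eq_of_le_of_card_ge (le_sup_left : zpowers a ≤ zpowers a ⊔ zpowers b) (by
        haveI : Fact (Nat.Prime 3) := ⟨Nat.prime_three⟩
        rw [hje, Nat.card_zpowers, orderOf_eq_prime (hA3 a ha) ha1]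
        exact (Nat.pow_le_pow_right (by norm_num) h).trans (by norm_num))
      exact h2 ▸ mem_sup_right (mem_zpowers b)
    · norm_num
  have hfixA : ∀ m : M, (∀ a ∈ A, ρ a m = m) → m = 0 := by
    intro m hm
    rcases hirr (⨅ a : A, fix ρ (a : S)) (fun g v hv => by
      rw [Submodule.mem_iInf] at hv ⊢
      intro a
      have := fix_conj ρ g _ (hv ⟨g⁻¹ * a * g, by simpa using hAn.conj_mem a a.2 g⁻¹⟩)
      simpa [mul_assoc] using this) with h | h
    · exact (Submodule.mem_bot (ZMod 2)).1 (h ▸ (Submodule.mem_iInf _).2 fun a => hm a a.2)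
    · exfalso
      refine hp1 0 (hfaith ?_)
      rw [map_one]
      refine LinearMap.ext fun v => ?_
      exact (Submodule.mem_iInf _).1 (h ▸ Submodule.mem_top : v ∈ ⨅ a : A, fix ρ (a : S)) ⟨p 0, hpA 0⟩
  have hfixgen : ∀ {a b : S}, a ∈ A → b ∈ A → a ≠ 1 → b ∉ zpowers a → ∀ m, ρ a m = m → ρ b m = m → m = 0 := by
    intro a b ha hb ha1 hbn m h1 h2
    refine hfixA m fun c hc => ?_
    let St : Subgroup S :=
      { carrier := {g | ρ g m = m}
        one_mem' := one_apply ρ m
        mul_mem' := fun {g h} hg hh => by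
          show ρ (g * h) m = m
          rw [mul_apply, show ρ h m = m from hh, show ρ g m = m from hg]
        inv_mem' := fun {g} hg => by
          show ρ g⁻¹ m = m
          conv_lhs => rw [← show ρ g m = m from hg]
          rw [← mul_apply, inv_mul_cancel, one_apply] }
    exact (sup_le (zpowers_le.2 (show a ∈ St from h1)) (zpowers_le.2 (show b ∈ St from h2)))
      ((hAgen ha hb ha1 hbn).le hc)
  -- the fixed line of `T (i + 2)` is the image of that of `T i`
  have hq : ∀ i, R 1 * p i * (R 1)⁻¹ ∈ A ∧ R 1 * p i * (R 1)⁻¹ ∉ zpowers (p i) ∧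
      T i * (R 1 * p i * (R 1)⁻¹) * (T i)⁻¹ = (R 1 * p i * (R 1)⁻¹)⁻¹ := by
    intro i
    set b := R 1 * p i * (R 1)⁻¹ with hb
    have hbA : b ∈ A := hAn.conj_mem _ (hpA i) _
    have h1 : T (i + 2) * b * (T (i + 2))⁻¹ = b := by
      have e1 : T (i + 2) * R 1 = R 1 * T i * (R 2 * R 2) := by
        rw [hTR, hRT, hRR, hTR]; congr 1
        generalize i = k; revert k; decide
      rw [hb, show T (i + 2) * (R 1 * p i * (R 1)⁻¹) * (T (i + 2))⁻¹ =
        (T (i + 2) * R 1) * p i * (T (i + 2) * R 1)⁻¹ by group, e1, hRR,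
        show (2 + 2 : ZMod 4) = 0 by decide, hR0, mul_one,
        show R 1 * T i * p i * (R 1 * T i)⁻¹ = R 1 * (T i * p i * (T i)⁻¹) * (R 1)⁻¹ by group, hpfix]
    refine ⟨hbA, fun hm => ?_, ?_⟩
    · refine absurd (hline i (i + 2) b hbA (mt conj_eq_one_iff.1 (hp1 i)) ?_ h1)
        (by generalize i = k; revert k; decide)
      obtain ⟨k, hk⟩ := mem_zpowers_iff.1 hm
      rw [← hk, ← conj_zpow, hpfix]
    · rw [show T i = R 2 * T (i + 2) by rw [hRT]; congr 1; ring,
        show R 2 * T (i + 2) * b * (R 2 * T (i + 2))⁻¹ = R 2 * (T (i + 2) * b * (T (i + 2))⁻¹) * (R 2)⁻¹ by group,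
        h1, hz b hbA]
  have hsum0 : ∀ {g : S}, g ^ 3 = 1 → ∀ m, ρ g (m + ρ g m + ρ g (ρ g m)) = m + ρ g m + ρ g (ρ g m) := by
    intro g hg m
    rw [map_add, map_add, show ρ g (ρ g (ρ g m)) = m by
      rw [← mul_apply, ← mul_apply, show g * g * g = 1 by rw [← hg, pow_succ, pow_two], one_apply]]
    abel
  -- some line has fixed points
  obtain ⟨k, v₀, hv₀0, hv₀⟩ : ∃ (k : ZMod 4) (v : M), v ≠ 0 ∧ ρ (p k) v = v := by
    by_contra! hno
    obtain ⟨hbA, hbn, -⟩ := hq 0
    set a := p 0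
    set b := R 1 * a * (R 1)⁻¹
    -- each nontrivial element of `A` generates one of the four lines
    have hfpf : ∀ c ∈ A, c ≠ 1 → ∀ m, ρ c m = m → m = 0 := by
      intro c hc hc1 m hm
      by_contra hm0
      have hinjp : Function.Injective fun i : ZMod 4 => zpowers (p i) := by
        intro i j h
        refine hline i j (p i) (hpA i) (hp1 i) (hpfix i) ?_
        obtain ⟨l, hl⟩ := mem_zpowers_iff.1 ((show zpowers (p i) = zpowers (p j) from h) ▸ mem_zpowers (p i))
        rw [← hl, ← conj_zpow, hpfix]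
      -- the union of the four lines is `A`
      let s : Finset S := Finset.univ.biUnion fun i : ZMod 4 => ({p i, (p i)⁻¹} : Finset S)
      have hs : s.card = 8 := by
        rw [Finset.card_biUnion]
        · rw [Finset.sum_congr rfl fun i _ => Finset.card_pair fun h => hp1 i (hcube (hpA i)
            (by nth_rw 2 [h]; exact mul_inv_cancel _))]
          rfl
        · intro i _ j _ hij
          rw [Function.onFun, Finset.disjoint_left]
          intro u hu hu'
          refine hij (hinjp ?_)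
          simp only [Finset.mem_insert, Finset.mem_singleton] at hu hu'
          have e1 : zpowers u = zpowers (p i) := by rcases hu with rfl | rfl <;> simp
          have e2 : zpowers u = zpowers (p j) := by rcases hu' with rfl | rfl <;> simp
          exact e1.symm.trans e2
      have hsub : s ⊆ (Set.toFinite (A : Set S)).toFinset.erase 1 := by
        intro u hu
        simp only [s, Finset.mem_biUnion, Finset.mem_univ, true_and, Finset.mem_insert, Finset.mem_singleton] at hu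
        obtain ⟨i, rfl | rfl⟩ := hu <;> simp [hp1 i, hpA i]
      have heq : s = (Set.toFinite (A : Set S)).toFinset.erase 1 := Finset.eq_of_subset_of_card_le hsub (by
        rw [hs, Finset.card_erase_of_mem (by simp), ← Set.ncard_eq_toFinset_card, ← Nat.card_coe_set_eq]
        exact Nat.sub_le_iff_le_add.2 hA9.le)
      have hcs : c ∈ s := by rw [heq]; simp [hc, hc1]
      simp only [s, Finset.mem_biUnion, Finset.mem_univ, true_and, Finset.mem_insert, Finset.mem_singleton] at hcs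
      obtain ⟨i, rfl | rfl⟩ := hcs
      · exact hno i m hm0 hm
      · refine hno i m hm0 ?_
        conv_lhs => rw [← hm]
        rw [← mul_apply, mul_inv_cancel, one_apply]
    have hs3 : ∀ c ∈ A, c ≠ 1 → ∀ m, m + ρ c m + ρ c (ρ c m) = 0 := fun c hc hc1 m =>
      hfpf c hc hc1 _ (hsum0 (hA3 c hc) m)
    obtain ⟨v, hv⟩ := exists_ne (0 : M)
    refine hv ?_
    have ha : a ∈ A := hpA 0
    have hb1 : b ≠ 1 := fun h => hbn (h ▸ one_mem _)
    have hab : a * b ≠ 1 := fun h => hbn (by rw [eq_inv_of_mul_eq_one_right h]; exact inv_mem (mem_zpowers a))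
    have haab : a * a * b ≠ 1 := fun h => hbn (by
      rw [eq_inv_of_mul_eq_one_right h]
      exact inv_mem (mul_mem (mem_zpowers a) (mem_zpowers a)))
    have hc : a * b = b * a := hAc a ha b hbA
    have e1 := hs3 b hbA hb1 v
    have e2 := hs3 (a * b) (mul_mem ha hbA) hab v
    have e3 := hs3 (a * a * b) (mul_mem (mul_mem ha ha) hbA) haab v
    have e4 := hs3 a ha (hp1 0) (ρ b v)
    have e5 := hs3 a ha (hp1 0) (ρ b (ρ b v))
    simp only [← mul_apply] at e1 e2 e3 e4 e5
    have h3 : a * a * a = 1 := by rw [← hA3 a ha, pow_succ, pow_two]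
    have q1 : a * b * (a * b) = a * a * (b * b) := by
      calc a * b * (a * b) = a * (b * a) * b := by group
        _ = _ := by rw [← hc]; group
    have q2 : a * a * b * (a * a * b) = a * (b * b) := by
      calc a * a * b * (a * a * b) = a * a * (b * a) * (a * b) := by group
        _ = a * a * (a * b) * (a * b) := by rw [← hc]
        _ = (a * a * a) * (b * a) * b := by group
        _ = _ := by rw [h3, ← hc, one_mul]; group
    rw [q1] at e2
    rw [q2] at e3
    simp only [mul_assoc] at e1 e2 e3 e4 e5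
    have key : v + v + v + (ρ b v + ρ (a * b) v + ρ (a * (a * b)) v) +
        (ρ (b * b) v + ρ (a * (b * b)) v + ρ (a * (a * (b * b))) v) = 0 := by
      have := congrArg₂ (· + ·) (congrArg₂ (· + ·) e1 e2) e3
      simp only [add_zero] at this
      rw [← this]; abel
    rw [e4, e5, add_zero, add_zero, char_two, zero_add] at key
    exact key
  obtain ⟨hbA, hbn, hsb⟩ := hq k
  set a := p k with hadef
  set b := R 1 * a * (R 1)⁻¹ with hbdef
  set s := T k with hsdef
  set z := R 2 with hzdef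
  set r := R 1 with hrdef
  have ha := hpA k
  have ha1 : a ≠ 1 := hp1 k
  have hb1 : b ≠ 1 := fun h => hbn (h ▸ one_mem _)
  have hrb : r * b * r⁻¹ = a⁻¹ := by
    rw [hbdef, show r * (r * a * r⁻¹) * r⁻¹ = (r * r) * a * (r * r)⁻¹ by group, hrdef, hRR,
      show (1 + 1 : ZMod 4) = 2 by decide, hz a ha]
  set W := fix ρ a with hW
  set W' := fix ρ b with hW'
  have hWW' : ∀ m, m ∈ W → m ∈ W' → m = 0 := fun m h1 h2 => hfixgen ha hbA ha1 hbn m h1 h2
  have hfixinv : ∀ {c : S} {m : M}, m ∈ fix ρ c⁻¹ → m ∈ fix ρ c := fun {c m} h => by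
    show ρ c m = m
    conv_lhs => rw [← show ρ c⁻¹ m = m from h]
    rw [← mul_apply, mul_inv_cancel, one_apply]
  have hzinv : ∀ {c : S}, c ∈ A → ∀ {m}, m ∈ fix ρ c → ρ z m ∈ fix ρ c := fun {c} hc {m} hm => by
    refine hfixinv ?_
    rw [← hz c hc]; exact fix_conj ρ z c hm
  have hsW : ∀ m ∈ W, ρ s m ∈ W := fun m hm => by
    have := fix_conj ρ s a hm
    rwa [hpfix k] at this
  have hsW' : ∀ m ∈ W', ρ s m ∈ W' := fun m hm => by
    have := fix_conj ρ s b hm
    rw [hsb] at this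
    exact hfixinv this
  have hrW : ∀ m ∈ W, ρ r m ∈ W' := fun m hm => fix_conj ρ r a hm
  have hrW' : ∀ m ∈ W', ρ r m ∈ W := fun m hm => hfixinv (by have := fix_conj ρ r b hm; rwa [hrb] at this)
  have hAfix : ∀ c ∈ A, ∀ d ∈ A, ∀ m ∈ fix ρ d, ρ c m ∈ fix ρ d := fun c hc d hd m hm => by
    have := fix_conj ρ c d hm
    rwa [hAc c hc d hd, mul_inv_cancel_right] at this
  -- a criterion for invariance
  have hgen : ∀ N : Submodule (ZMod 2) M, (∀ c ∈ A, ∀ m ∈ N, ρ c m ∈ N) → (∀ m ∈ N, ρ r m ∈ N) →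
      (∀ m ∈ N, ρ s m ∈ N) → ∀ g : S, ∀ m ∈ N, ρ g m ∈ N := by
    intro N hNA hNr hNs g
    let St : Submonoid S :=
      { carrier := {g | ∀ m ∈ N, ρ g m ∈ N}
        one_mem' := fun m hm => by rw [one_apply]; exact hm
        mul_mem' := fun {g h} hg hh m hm => by rw [mul_apply]; exact hg _ (hh m hm) }
    have hRn : ∀ n : ℕ, R (n : ZMod 4) = r ^ n := by
      intro n
      induction n with
      | zero => simp [hR0]
      | succ n ih => rw [pow_succ, ← ih, hrdef, hRR]; push_cast; rfl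
    have hSR : ∀ i, R i ∈ St := fun i => by
      rw [← ZMod.natCast_zmod_val i, hRn]
      exact pow_mem (show r ∈ St from hNr) _
    have hX : ∀ x ∈ X, x ∈ St := by
      intro x hx
      rcases hcov x hx with ⟨i, rfl⟩ | ⟨i, rfl⟩
      · exact hSR i
      · rw [show T i = s * R (i - k) by rw [hsdef, hTR, add_sub_cancel]]
        exact mul_mem (show s ∈ St from hNs) (hSR _)
    have hg : g ∈ A ⊔ X := hAX ▸ mem_top g
    rw [← SetLike.mem_coe, Subgroup.normal_mul] at hg
    obtain ⟨c, hc, x, hx, rfl⟩ := hg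
    exact mul_mem (show c ∈ St from hNA c hc) (hX x hx)
  have hsr : s * r = r * (s * z) := by
    rw [hsdef, hrdef, hzdef, hTR, hTR, hRT]; congr 1
    generalize k = i; revert i; decide
  have hzr : z * r = r * z := by rw [hzdef, hrdef, hRR, hRR, add_comm]
  have hzz : z * z = 1 := by rw [hzdef, hRR]; exact (congrArg R (by decide : (2 + 2 : ZMod 4) = 0)).trans hR0
  have hsz : s * z = z * s := by
    rw [hsdef, hzdef, hTR, hRT]; congr 1; generalize k = i; revert i; decide
  have hrr : r * r = z := by rw [hrdef, hRR]; rfl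
  -- a subspace of `W` invariant under `A`, `s`, `z` is trivial or all of `W`
  have hWmin : ∀ U : Submodule (ZMod 2) M, U ≤ W → U ≠ ⊥ → (∀ c ∈ A, ∀ m ∈ U, ρ c m ∈ U) →
      (∀ m ∈ U, ρ s m ∈ U) → (∀ m ∈ U, ρ z m ∈ U) →
      U = W ∧ U ⊔ U.map (ρ r) = ⊤ := by
    intro U hUW hU hUA hUs hUz
    have htop : U ⊔ U.map (ρ r) = ⊤ := by
      refine (hirr _ (hgen _ ?_ ?_ ?_)).resolve_left fun h => hU (eq_bot_iff.2 (h ▸ le_sup_left))
      · intro c hc m hm
        obtain ⟨u, hu, w, ⟨w', hw', rfl⟩, rfl⟩ := Submodule.mem_sup.1 hm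
        rw [map_add]
        refine Submodule.add_mem_sup (hUA c hc u hu) ⟨ρ (r⁻¹ * c * r) w', hUA _ (by simpa using hAn.conj_mem c hc r⁻¹) w' hw', ?_⟩
        rw [← mul_apply, ← mul_apply]; group
      · intro m hm
        obtain ⟨u, hu, w, ⟨w', hw', rfl⟩, rfl⟩ := Submodule.mem_sup.1 hm
        rw [map_add, add_comm]
        refine Submodule.add_mem_sup ?_ ⟨u, hu, rfl⟩
        rw [← mul_apply, hrr]; exact hUz _ hw'
      · intro m hm
        obtain ⟨u, hu, w, ⟨w', hw', rfl⟩, rfl⟩ := Submodule.mem_sup.1 hm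
        rw [map_add]
        refine Submodule.add_mem_sup (hUs u hu) ⟨ρ (s * z) w', by rw [mul_apply]; exact hUs _ (hUz _ hw'), ?_⟩
        rw [← mul_apply, ← mul_apply, hsr]
    refine ⟨le_antisymm hUW fun m hm => ?_, htop⟩
    obtain ⟨u, hu, w, ⟨w', hw', rfl⟩, e⟩ := Submodule.mem_sup.1 (htop ▸ Submodule.mem_top : m ∈ U ⊔ U.map (ρ r))
    have h1 : ρ r w' ∈ W := by
      rw [show ρ r w' = m - u by rw [← e]; abel]
      exact sub_mem hm (hUW hu)
    rw [← e, hWW' _ h1 (hrW _ (hUW hw')), add_zero]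
    exact hu
  have hWne : W ≠ ⊥ := fun h => hv₀0 ((Submodule.mem_bot (ZMod 2)).1 (h ▸ (hv₀ : v₀ ∈ W)))
  -- `s z` is trivial on `W`
  have hszW : ∀ m ∈ W, ρ s m = ρ z m := by
    let U : Submodule (ZMod 2) M := W ⊓ fix ρ (s * z)
    have hne : U ≠ ⊥ := by
      intro h
      have h2 : ρ (s * z) v₀ + v₀ ∈ U := by
        refine ⟨add_mem (by rw [mul_apply]; exact hsW _ (hzinv ha hv₀)) hv₀, ?_⟩
        show ρ (s * z) (ρ (s * z) v₀ + v₀) = _
        rw [map_add, ← mul_apply, show s * z * (s * z) = 1 by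
          rw [show s * z * (s * z) = s * (z * s) * z by group, ← hsz,
            show s * (s * z) * z = (s * s) * (z * z) by group, hzz, hsdef, hT2, mul_one], one_apply, add_comm]
      rw [h, Submodule.mem_bot] at h2
      have h3 : v₀ ∈ U := ⟨hv₀, by
        show ρ (s * z) v₀ = v₀
        rw [eq_neg_of_add_eq_zero_left h2, neg_eq_of_add_eq_zero_left (char_two v₀)]⟩
      exact hv₀0 ((Submodule.mem_bot (ZMod 2)).1 (h ▸ h3))
    have hconjA : ∀ c ∈ A, ∀ m ∈ U, ρ c m ∈ U := by
      intro c hc m hm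
      refine ⟨hAfix c hc a ha m hm.1, ?_⟩
      -- modulo the kernel `⟨a⟩`, `s z` centralises `A`
      have hb' : ∀ m ∈ W, ρ (s * z) (ρ b m) = ρ b (ρ (s * z) m) := fun m _ => by
        rw [← mul_apply, ← mul_apply]
        congr 2
        have : s * z * b * (s * z)⁻¹ = b := by
          rw [show s * z * b * (s * z)⁻¹ = s * (z * b * z⁻¹) * s⁻¹ by group, hz b hbA,
            show s * b⁻¹ * s⁻¹ = (s * b * s⁻¹)⁻¹ by group, hsb, _root_.inv_inv]
        exact mul_inv_eq_iff_eq_mul.1 this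
      let St : Submonoid S :=
        { carrier := {c | c ∈ A ∧ ∀ m ∈ U, ρ c m ∈ U}
          one_mem' := ⟨one_mem A, fun m hm => by rw [one_apply]; exact hm⟩
          mul_mem' := fun {g h} hg hh => ⟨mul_mem hg.1 hh.1, fun m hm => by rw [mul_apply]; exact hg.2 _ (hh.2 m hm)⟩ }
      have haS : a ∈ St := ⟨ha, fun m hm => by rw [show ρ a m = m from hm.1]; exact hm⟩
      have hbS : b ∈ St := ⟨hbA, fun m hm => ⟨hAfix b hbA a ha m hm.1, by
        show ρ (s * z) (ρ b m) = ρ b m
        rw [hb' m hm.1, show ρ (s * z) m = m from hm.2]⟩⟩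
      exact ((mem_of_zpowers_sup St haS hbS ((hAgen ha hbA ha1 hbn).le hc)).2 m hm).2
    have hUs : ∀ m ∈ U, ρ s m ∈ U := fun m hm => ⟨hsW _ hm.1, by
      have := fix_conj ρ s (s * z) hm.2
      rwa [show s * (s * z) * s⁻¹ = s * z from
        (congrArg (fun t => s * t * s⁻¹) hsz).trans (by group)] at this⟩
    have hUz : ∀ m ∈ U, ρ z m ∈ U := fun m hm => ⟨hzinv ha hm.1, by
      have := fix_conj ρ z (s * z) hm.2
      rwa [show z * (s * z) * z⁻¹ = s * z from (by group : z * (s * z) * z⁻¹ = z * s).trans hsz.symm] at this⟩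
    obtain ⟨hU, -⟩ := hWmin U inf_le_left hne hconjA hUs hUz
    intro m hm
    have h1 : ρ (s * z) m = m := (hU ▸ hm : m ∈ U).2
    calc ρ s m = ρ s (ρ (s * z) m) := by rw [h1]
      _ = ρ z m := by rw [← mul_apply, ← mul_assoc, hsdef, hT2, one_mul]
  -- a fixed point of `z` in `W`
  obtain ⟨v, hvW, hvz, hv0⟩ : ∃ v, v ∈ W ∧ ρ z v = v ∧ v ≠ 0 := by
    by_cases h : ρ z v₀ + v₀ = 0
    · exact ⟨v₀, hv₀, by rw [eq_neg_of_add_eq_zero_left h, neg_eq_of_add_eq_zero_left (char_two v₀)], hv₀0⟩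
    · exact ⟨_, add_mem (hzinv ha hv₀) hv₀, by rw [map_add, ← mul_apply, hzz, one_apply, add_comm], h⟩
  have hb3 : ∀ m ∈ W, m + ρ b m + ρ b (ρ b m) = 0 := fun m hm =>
    hWW' _ (add_mem (add_mem hm (hAfix b hbA a ha m hm)) (hAfix b hbA a ha _ (hAfix b hbA a ha m hm)))
      (hsum0 (hA3 b hbA) m)
  have hbv : ρ z (ρ b v) = ρ b (ρ b v) := by
    rw [← mul_apply, show z * b = b⁻¹ * z by rw [← hz b hbA]; group, mul_apply, hvz,
      show b⁻¹ = b * b from inv_eq_of_mul_eq_one_right (by rw [← mul_assoc, ← pow_two, ← pow_succ]; exact hA3 b hbA), mul_apply]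
  have hbbv : ρ b (ρ b v) = v + ρ b v := by
    have := hb3 v hvW
    rw [← neg_eq_of_add_eq_zero_left (char_two (ρ b (ρ b v)))]
    exact (eq_neg_of_add_eq_zero_left this).symm
  let U : Submodule (ZMod 2) M := Submodule.span (ZMod 2) {v, ρ b v}
  have hUW : U ≤ W := Submodule.span_le.2 (Set.insert_subset hvW (Set.singleton_subset_iff.2 (hAfix b hbA a ha v hvW)))
  have hUmem : ∀ m ∈ U, ∃ i j : ZMod 2, i • v + j • ρ b v = m := fun m hm => Submodule.mem_span_pair.1 hm
  have hvU : v ∈ U := Submodule.subset_span (Set.mem_insert _ _)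
  have hbvU : ρ b v ∈ U := Submodule.subset_span (Set.mem_insert_of_mem _ rfl)
  have hUinv : ∀ g : S, ρ g v ∈ U → ρ g (ρ b v) ∈ U → ∀ m ∈ U, ρ g m ∈ U := by
    intro g h1 h2 m hm
    obtain ⟨i, j, rfl⟩ := hUmem m hm
    rw [map_add, map_smul, map_smul]
    exact add_mem (U.smul_mem i h1) (U.smul_mem j h2)
  have hUA : ∀ c ∈ A, ∀ m ∈ U, ρ c m ∈ U := by
    let St : Submonoid S :=
      { carrier := {c | ∀ m ∈ U, ρ c m ∈ U}
        one_mem' := fun m hm => by rw [one_apply]; exact hm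
        mul_mem' := fun {g h} hg hh m hm => by rw [mul_apply]; exact hg _ (hh m hm) }
    have haS : a ∈ St := fun m hm => by rw [show ρ a m = m from hUW hm]; exact hm
    have hbS : b ∈ St := hUinv b hbvU (by rw [hbbv]; exact add_mem hvU hbvU)
    intro c hc
    exact mem_of_zpowers_sup St haS hbS ((hAgen ha hbA ha1 hbn).le hc)
  have hUz : ∀ m ∈ U, ρ z m ∈ U :=
    hUinv z (by rw [hvz]; exact hvU) (by rw [hbv, hbbv]; exact add_mem hvU hbvU)
  have hUne : U ≠ ⊥ := fun h => hv0 ((Submodule.mem_bot (ZMod 2)).1 (h ▸ hvU))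
  obtain ⟨hUeq, htop⟩ := hWmin U hUW hUne hUA (fun m hm => by rw [hszW m (hUW hm)]; exact hUz m hm) hUz
  -- coordinates
  set w := ρ r v with hw
  have hbv_ne : ρ b v ≠ v := fun h => hv0 (hWW' v hvW h)
  have hzero : ∀ (g : S) {m : M}, ρ g m = 0 → m = 0 := fun g {m} h => by
    rw [← one_apply ρ m, ← inv_mul_cancel g, mul_apply, h, map_zero]
  have hindep : ∀ i j : ZMod 2, i • v + j • ρ b v = 0 → i = 0 ∧ j = 0 := by
    intro i j h
    have hor : ∀ x : ZMod 2, x = 0 ∨ x = 1 := by decide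
    rcases hor i with rfl | rfl <;> rcases hor j with rfl | rfl <;>
      simp only [zero_smul, one_smul, zero_add, add_zero] at h
    · exact ⟨rfl, rfl⟩
    · exact absurd (hzero b h) hv0
    · exact absurd h hv0
    · exact absurd (by rw [eq_neg_of_add_eq_zero_right h, neg_eq_of_add_eq_zero_left (char_two v)]) hbv_ne
  let φ : (ZMod 2 × ZMod 2) × (ZMod 2 × ZMod 2) → M := fun q =>
    (q.1.1 • v + q.1.2 • ρ b v) + ρ r (q.2.1 • v + q.2.2 • ρ b v)
  have hφ : Function.Bijective φ := by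
    constructor
    · rintro ⟨⟨i, j⟩, i', j'⟩ ⟨⟨k', l⟩, m', n'⟩ h
      simp only [φ] at h
      have h0 : ((i - k') • v + (j - l) • ρ b v) + ρ r ((i' - m') • v + (j' - n') • ρ b v) = 0 := by
        have := sub_eq_zero.2 h
        rw [← this]
        simp only [sub_smul, map_add, map_sub]
        abel
      have hu : (i - k') • v + (j - l) • ρ b v ∈ U := add_mem (U.smul_mem _ hvU) (U.smul_mem _ hbvU)
      have hu' : (i' - m') • v + (j' - n') • ρ b v ∈ U := add_mem (U.smul_mem _ hvU) (U.smul_mem _ hbvU)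
      have h1 : ρ r ((i' - m') • v + (j' - n') • ρ b v) = 0 :=
        hWW' _ (by rw [eq_neg_of_add_eq_zero_right h0]; exact neg_mem (hUW hu)) (hrW _ (hUW hu'))
      rw [h1, add_zero] at h0
      obtain ⟨e1, e2⟩ := hindep _ _ h0
      obtain ⟨e3, e4⟩ := hindep _ _ (hzero r h1)
      rw [sub_eq_zero] at e1 e2 e3 e4
      rw [e1, e2, e3, e4]
    · intro m
      obtain ⟨u, hu, _, ⟨u', hu', rfl⟩, rfl⟩ := Submodule.mem_sup.1 (htop ▸ Submodule.mem_top : m ∈ U ⊔ U.map (ρ r))
      obtain ⟨i, j, rfl⟩ := hUmem u hu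
      obtain ⟨i', j', rfl⟩ := hUmem u' hu'
      exact ⟨((i, j), (i', j')), rfl⟩
  refine ⟨by rw [← Nat.card_eq_of_bijective φ hφ]; simp, ?_⟩
  -- fixed points of `z`, `s` and `s r`
  have hsw : ρ s w = w := by
    rw [hw, ← mul_apply, hsr, mul_apply, mul_apply, hvz, hszW v hvW, hvz]
  have hzw : ρ z w = w := by rw [hw, ← mul_apply, hzr, mul_apply, hvz]
  have hsv : ρ s v = v := by rw [hszW v hvW, hvz]
  have hzr' : ∀ m, ρ z (ρ r m) = ρ r (ρ z m) := fun m => by rw [← mul_apply, hzr, mul_apply]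
  have hzfix : ∀ m, ρ z m = m → ∃ i i' : ZMod 2, i • v + i' • w = m := by
    intro m hm
    obtain ⟨⟨⟨i, j⟩, i', j'⟩, rfl⟩ := hφ.2 m
    have h1 : ρ z (φ ((i, j), (i', j'))) = φ ((i + j, j), (i' + j', j')) := by
      simp only [φ, map_add, map_smul, hvz, hbv, hbbv]
      simp only [hzr', hvz, hbv, hbbv, map_add]
      simp only [add_smul, smul_add]
      abel
    rw [hm] at h1
    obtain ⟨e1, e2⟩ := Prod.mk.inj (hφ.1 h1)
    have hj : j = 0 := by have := (Prod.mk.inj e1).1; linear_combination -this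
    have hj' : j' = 0 := by have := (Prod.mk.inj e2).1; linear_combination -this
    exact ⟨i, i', by simp [φ, hj, hj', hw]⟩
  -- the two four-groups
  let F : ZMod 4 → Subgroup S := fun l =>
    { carrier := {x | x = R 0 ∨ x = R 2 ∨ x = T l ∨ x = T (l + 2)}
      one_mem' := Or.inl hR0.symm
      mul_mem' := by
        have f1 : (2 + 2 : ZMod 4) = 0 := by decide
        have f2 : ∀ l : ZMod 4, l - 2 = l + 2 := by decide
        have f3 : ∀ l : ZMod 4, l - (l + 2) = 2 := by decide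
        have f4 : l + 2 + 2 = l := by rw [add_assoc, f1, add_zero]
        rintro x y (rfl | rfl | rfl | rfl) (rfl | rfl | rfl | rfl) <;>
          simp only [Set.mem_setOf_eq, hRR, hRT, hTR, hTT, sub_zero, add_zero, zero_add, sub_self, f1, f2, f3, f4,
            add_sub_cancel_left, true_or, or_true]
      inv_mem' := by
        rintro x (rfl | rfl | rfl | rfl)
        · exact Or.inl (by rw [hR0, inv_one])
        · exact Or.inr (Or.inl (inv_eq_of_mul_eq_one_right hzz))
        · exact Or.inr (Or.inr (Or.inl (inv_eq_of_mul_eq_one_right (hT2 _))))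
        · exact Or.inr (Or.inr (Or.inr (inv_eq_of_mul_eq_one_right (hT2 _)))) }
  have hFX : ∀ l, F l ≤ X := by
    rintro l x (rfl | rfl | rfl | rfl)
    exacts [hRmem _, hRmem _, hTmem _, hTmem _]
  have hFsq : ∀ l, ∀ x ∈ F l, x ^ 2 = 1 := by
    rintro l x (rfl | rfl | rfl | rfl) <;> rw [pow_two]
    · rw [hR0, one_mul]
    · exact hzz
    · exact hT2 _
    · exact hT2 _
  have hFcard : ∀ l, Nat.card (F l) = 4 := by
    intro l
    let ds : Finset (DihedralGroup 4) := {.r 0, .r 2, .sr l, .sr (l + 2)}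
    have hds : ds.card = 4 := by revert l; decide
    rw [show Nat.card (F l) = ((ds : Set (DihedralGroup 4)).image fun x => ((e.symm x : X) : S)).ncard from ?_,
      Set.ncard_image_of_injective _ hinj, Set.ncard_coe_finset, hds]
    rw [← Nat.card_coe_set_eq]
    refine Nat.card_congr (Equiv.setCongr ?_)
    ext x
    simp [ds, F, R, T, eq_comm]
  have hclass : ∀ B : Subgroup S, B ≤ X → Nat.card B = 4 → (∀ b ∈ B, b ^ 2 = 1) → ∃ l, B = F l := by
    intro B hBX hB4 hB2
    have hcov' : ∀ x ∈ B, x = R 0 ∨ x = R 2 ∨ ∃ l, x = T l := by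
      intro x hx
      rcases hcov x (hBX hx) with ⟨i, rfl⟩ | ⟨l, rfl⟩
      · have h2 := hB2 _ hx
        rw [pow_two, hRR, ← hR0] at h2
        have := DihedralGroup.r.inj (hinj (a₁ := DihedralGroup.r (i + i)) (a₂ := DihedralGroup.r 0) h2)
        have hi : i = 0 ∨ i = 2 := by revert this; generalize i = q; revert q; decide
        rcases hi with rfl | rfl
        exacts [Or.inl rfl, Or.inr (Or.inl rfl)]
      · exact Or.inr (Or.inr ⟨l, rfl⟩)
    obtain ⟨l, hl⟩ : ∃ l, T l ∈ B := by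
      by_contra! h
      have hsub : (B : Set S) ⊆ {R 0, R 2} := fun x hx => by
        rcases hcov' x hx with rfl | rfl | ⟨l, rfl⟩
        · exact Set.mem_insert _ _
        · exact Set.mem_insert_of_mem _ rfl
        · exact absurd hx (h l)
      have := (Set.ncard_le_ncard hsub).trans (Set.ncard_insert_le _ _)
      rw [← Nat.card_coe_set_eq, SetLike.coe_sort_coe, hB4, Set.ncard_singleton] at this
      omega
    refine ⟨l, eq_of_le_of_card_ge (fun x hx => ?_) (by rw [hFcard, hB4])⟩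
    rcases hcov' x hx with rfl | rfl | ⟨l', rfl⟩
    · exact Or.inl rfl
    · exact Or.inr (Or.inl rfl)
    · have h2 := hB2 _ (mul_mem hl hx)
      rw [pow_two, hTT, hRR, ← hR0] at h2
      have := DihedralGroup.r.inj (hinj (a₁ := DihedralGroup.r (l' - l + (l' - l))) (a₂ := DihedralGroup.r 0) h2)
      have hl' : l' = l ∨ l' = l + 2 := by
        revert this; generalize l' = q; generalize l = q'; revert q q'; decide
      rcases hl' with rfl | rfl
      exacts [Or.inr (Or.inr (Or.inl rfl)), Or.inr (Or.inr (Or.inr rfl))]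
  have hFswap : ∀ l, F (l + 2) = F l := by
    intro l
    ext x
    have : l + 2 + 2 = l := by rw [add_assoc, show (2 + 2 : ZMod 4) = 0 by decide, add_zero]
    show (x = R 0 ∨ x = R 2 ∨ x = T (l + 2) ∨ x = T (l + 2 + 2)) ↔ (x = R 0 ∨ x = R 2 ∨ x = T l ∨ x = T (l + 2))
    rw [this]; tauto
  have hTk1 : T (k + 1) = s * r := by rw [hsdef, hrdef, hTR]
  have hFfix : ∀ l m, (∀ x ∈ F l, ρ x m = m) ↔ ρ z m = m ∧ ρ (T l) m = m := by
    intro l m
    refine ⟨fun h => ⟨h _ (Or.inr (Or.inl rfl)), h _ (Or.inr (Or.inr (Or.inl rfl)))⟩, fun ⟨h1, h2⟩ => ?_⟩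
    rintro x (rfl | rfl | rfl | rfl)
    · rw [hR0, one_apply]
    · exact h1
    · exact h2
    · rw [← hTR, mul_apply, show ρ (R 2) m = m from h1, h2]
  have hvw : ∀ i i' : ZMod 2, i • v + i' • w = φ ((i, 0), (i', 0)) := fun i i' => by simp [φ, hw]
  have hgood : Nat.card {m : M // ∀ x ∈ F (k + 1), ρ x m = m} = 2 := by
    have hsrv : ρ (s * r) v = w := by rw [mul_apply, ← hw, hsw]
    have hsrw : ρ (s * r) w = v := by rw [hw, ← mul_apply, mul_assoc, hrr, mul_apply, hvz, hsv]
    let g : ZMod 2 → {m : M // ∀ x ∈ F (k + 1), ρ x m = m} := fun i =>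
      ⟨i • v + i • w, (hFfix _ _).2 ⟨by rw [map_add, map_smul, map_smul, hvz, hzw],
        by rw [hTk1, map_add, map_smul, map_smul, hsrv, hsrw, add_comm]⟩⟩
    have hgb : Function.Bijective g := by
      refine ⟨fun i j h => ?_, ?_⟩
      have h' := congrArg Subtype.val h
      simp only [g, hvw] at h'
      exact (Prod.mk.inj (Prod.mk.inj (hφ.1 h')).1).1
      rintro ⟨m, hm⟩
      obtain ⟨h1, h2⟩ := (hFfix _ _).1 hm
      obtain ⟨i, i', rfl⟩ := hzfix m h1
      rw [hTk1, map_add, map_smul, map_smul, hsrv, hsrw, add_comm, hvw, hvw] at h2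
      obtain rfl : i' = i := (Prod.mk.inj (Prod.mk.inj (hφ.1 h2)).1).1
      exact ⟨i', rfl⟩
    rw [← Nat.card_eq_of_bijective g hgb, Nat.card_zmod]
  have hbad : Nat.card {m : M // ∀ x ∈ F k, ρ x m = m} = 4 := by
    let g : ZMod 2 × ZMod 2 → {m : M // ∀ x ∈ F k, ρ x m = m} := fun q =>
      ⟨q.1 • v + q.2 • w, (hFfix _ _).2 ⟨by rw [map_add, map_smul, map_smul, hvz, hzw],
        by rw [← hsdef, map_add, map_smul, map_smul, hsv, hsw]⟩⟩
    have hgb : Function.Bijective g := by
      refine ⟨fun q q' h => ?_, ?_⟩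
      have h' := congrArg Subtype.val h
      simp only [g, hvw] at h'
      obtain ⟨e1, e2⟩ := Prod.mk.inj (hφ.1 h')
      exact Prod.ext (Prod.mk.inj e1).1 (Prod.mk.inj e2).1
      rintro ⟨m, hm⟩
      obtain ⟨i, i', rfl⟩ := hzfix m ((hFfix _ _).1 hm).1
      exact ⟨(i, i'), rfl⟩
    rw [← Nat.card_eq_of_bijective g hgb]
    simp
  refine ⟨F (k + 1), ⟨hFX _, hFcard _, hFsq _, hgood⟩, ?_⟩
  rintro B ⟨hBX, hB4, hB2, hBfix⟩
  obtain ⟨l, rfl⟩ := hclass B hBX hB4 hB2
  rcases (show l = k ∨ l = k + 2 ∨ l = k + 1 ∨ l = k + 1 + 2 by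
    generalize l = q; generalize k = q'; revert q q'; decide) with rfl | rfl | rfl | rfl
  · rw [hbad] at hBfix; omega
  · rw [hFswap, hbad] at hBfix; omega
  · rfl
  · exact hFswap _

end CfsgLib.Pairs.NineByDihedral
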