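import Cfsg.Agent.Lib.Pairs.KernelPairs

/-!
# Brauer pairs and `O_π'` of centralizers
-/

namespace CfsgLib.Pairs

open Cfsg CfsgLib.Blocks MonoidAlgebra

variable {G : Type*} [Group G] [Fintype G] {p : ℕ} [Fact p.Prime] {M : Ideal AlgInt} [M.IsPrime]
  {π : Set ℕ}

/-- `O_π'` of a subgroup, inside the group. -/
def coreIn (π : Set ℕ) (H : Subgroup G) : Subgroup G :=
  (piCore {q | q ∉ π} H).map H.subtype

omit [Fintype G] in
theorem coreIn_le (H : Subgroup G) : coreIn π H ≤ H := Subgroup.map_subtype_le _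

omit [Fintype G] in
theorem mem_coreIn {H : Subgroup G} {h : H} :
    (h : G) ∈ coreIn π H ↔ h ∈ piCore {q | q ∉ π} H :=
  Subgroup.mem_map_iff_mem H.subtype_injective

theorem isPiSubgroup_coreIn (H : Subgroup G) : Components.IsPiSubgroup {q | q ∉ π} (coreIn π H) :=
  fun q hq hd => Components.piCore_isPiSubgroup (G := H) {q | q ∉ π} q hq
    (by rwa [coreIn, Subgroup.card_map_of_injective H.subtype_injective] at hd)

theorem not_dvd_card_coreIn (hpπ : p ∈ π) (H : Subgroup G) : ¬ p ∣ Nat.card (coreIn π H) :=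
  fun h => isPiSubgroup_coreIn H p Fact.out h hpπ

theorem le_normalizer_coreIn {H : Subgroup G} {x : G}
    (hx : x ∈ Subgroup.normalizer (H : Set G)) :
    ∀ n ∈ coreIn π H, x * n * x⁻¹ ∈ coreIn π H := by
  rintro _ ⟨n, hn, rfl⟩
  let φ : H ≃* H := conjEquiv H H x (mem_normalizer_conj hx)
  have h1 : (piCore {q | q ∉ π} H).map φ.toMonoidHom ≤ piCore {q | q ∉ π} H := by
    refine Components.le_piCore ((piCore_normal _ _).map _ φ.surjective) fun q hq hd => ?_
    rw [Subgroup.card_map_of_injective (f := φ.toMonoidHom) φ.injective] at hd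
    exact Components.piCore_isPiSubgroup (G := H) {q | q ∉ π} q hq hd
  exact ⟨φ n, h1 (Subgroup.mem_map_of_mem _ hn), rfl⟩

theorem normalizer_le_normalizer_coreIn (H : Subgroup G) :
    Subgroup.normalizer (H : Set G) ≤ Subgroup.normalizer (coreIn π H : Set G) := by
  intro x hx
  refine Subgroup.mem_normalizer_iff.2 fun n => ⟨le_normalizer_coreIn hx n, fun h => ?_⟩
  have h2 := le_normalizer_coreIn (inv_mem hx) _ h
  rwa [show x⁻¹ * (x * n * x⁻¹) * x⁻¹⁻¹ = n by group] at h2

/-- A `π'`-subgroup normalized by `K` meets `K` inside `O_π'(K)`. -/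
theorem mem_coreIn_of_mem {N K : Subgroup G} (hN : Components.IsPiSubgroup {q | q ∉ π} N)
    (hK : K ≤ Subgroup.normalizer (N : Set G)) {g : G} (hg : g ∈ N) (hgK : g ∈ K) :
    g ∈ coreIn π K := by
  have h1 : N.subgroupOf K ≤ piCore {q | q ∉ π} K :=
    Components.le_piCore (Subgroup.normal_subgroupOf_of_le_normalizer hK) fun q hq hd =>
      hN q hq (hd.trans ((Nat.card_congr (Subgroup.equivMapOfInjective _ _
        K.subtype_injective).toEquiv).dvd.trans (Subgroup.card_dvd_of_le (by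
          rw [Subgroup.map_le_iff_le_comap]; exact le_rfl))))
  exact mem_coreIn.2 (h1 (Subgroup.mem_subgroupOf.2 (show ((⟨g, hgK⟩ : K) : G) ∈ N from hg)))

/-- The pair is trivial on `O_π'` of the centralizer. -/
def PiTriv (π : Set ℕ) (a : BrauerPairIdx G) : Prop :=
  ∀ ξ ∈ a.2, ∀ c : Subgroup.centralizer (a.1 : Set G),
    c ∈ piCore {q | q ∉ π} (Subgroup.centralizer (a.1 : Set G)) →
      (ξ : Subgroup.centralizer (a.1 : Set G) → ℂ) c =
        (ξ : Subgroup.centralizer (a.1 : Set G) → ℂ) 1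

/-- The centralizer has a normal Hall `π'`-subgroup. -/
def PiHall (π : Set ℕ) (Q : Subgroup G) : Prop :=
  ∀ x : G, x ∈ Subgroup.centralizer (Q : Set G) →
    (∀ q : ℕ, q.Prime → q ∣ orderOf x → q ∉ π) → x ∈ coreIn π (Subgroup.centralizer (Q : Set G))

variable (hM : IsPModular p M)
include hM

/-- Triviality moves down along inclusions. -/
theorem piTriv_of_normalSubpair (hpπ : p ∈ π) {a b : BrauerPairIdx G}
    (h : NormalSubpairRel p M a b) (hb : PiTriv π b) : PiTriv π a := by
  obtain ⟨ha, hb', hQR, hRN, hst, hv⟩ := isNormalSubpair_iff.1 h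
  obtain ⟨ξ, hξ⟩ := IsPBlock.nonempty hb'.2
  have hCR := centralizer_le_of_le hQR
  have hiff := forall_triv_iff hM ha.2 hb'.1 hst hCR (coreIn_le (π := π) _)
    (Subgroup.le_normalizer.trans (normalizer_le_normalizer_coreIn _))
    (hRN.trans ((normalizer_le_normalizer_centralizer _).trans (normalizer_le_normalizer_coreIn _)))
    (not_dvd_card_coreIn hpπ _) (hv ξ hξ)
  intro ψ hψ c hc
  refine hiff.2 (fun d hd => hb ξ hξ d (mem_coreIn.1 ?_)) ψ hψ c (mem_coreIn.2 hc)
  exact mem_coreIn_of_mem (isPiSubgroup_coreIn _)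
    (hCR.trans (Subgroup.le_normalizer.trans (normalizer_le_normalizer_coreIn _))) hd d.2

/-- With normal Hall `π'`-subgroups triviality moves up as well. -/
theorem piTriv_piHall_up (hpπ : p ∈ π) {a b : BrauerPairIdx G}
    (h : NormalSubpairRel p M a b) (ha' : PiTriv π a ∧ PiHall π a.1) :
    PiTriv π b ∧ PiHall π b.1 := by
  obtain ⟨ha, hb', hQR, hRN, hst, hv⟩ := isNormalSubpair_iff.1 h
  have hCR := centralizer_le_of_le hQR
  obtain ⟨h1, h2⟩ := ha'
  have hnorm : Subgroup.centralizer (b.1 : Set G) ≤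
      Subgroup.normalizer (coreIn π (Subgroup.centralizer (a.1 : Set G)) : Set G) :=
    hCR.trans (Subgroup.le_normalizer.trans (normalizer_le_normalizer_coreIn _))
  refine ⟨fun ξ hξ c hc => ?_, fun x hx hxo =>
    mem_coreIn_of_mem (isPiSubgroup_coreIn _) hnorm (h2 x (hCR hx) hxo) hx⟩
  have hiff := forall_triv_iff hM ha.2 hb'.1 hst hCR (coreIn_le (π := π) _)
    (Subgroup.le_normalizer.trans (normalizer_le_normalizer_coreIn _))
    (hRN.trans ((normalizer_le_normalizer_centralizer _).trans (normalizer_le_normalizer_coreIn _)))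
    (not_dvd_card_coreIn hpπ _) (hv ξ hξ)
  refine hiff.1 (fun ψ hψ d hd => h1 ψ hψ d (mem_coreIn.1 hd)) c (h2 c (hCR c.2) fun q hq hd => ?_)
  refine Components.piCore_isPiSubgroup (G := Subgroup.centralizer (b.1 : Set G)) {q | q ∉ π} q hq ?_
  refine hd.trans ?_
  rw [Subgroup.orderOf_coe]
  exact Subgroup.orderOf_dvd_natCard _ hc

omit hM in
theorem piTriv_conjPair (x : G) {a : BrauerPairIdx G} (h : PiTriv π a) :
    PiTriv π (conjPair x a) := by
  obtain ⟨Q, f⟩ := a
  show ∀ ξ' ∈ conjBlock Q x f, ∀ c : Subgroup.centralizer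
      ((Q.map (MulAut.conj x).toMonoidHom : Subgroup G) : Set G),
    c ∈ piCore {q | q ∉ π} (Subgroup.centralizer
      ((Q.map (MulAut.conj x).toMonoidHom : Subgroup G) : Set G)) →
      (ξ' : Subgroup.centralizer ((Q.map (MulAut.conj x).toMonoidHom : Subgroup G) : Set G) → ℂ) c =
        (ξ' : Subgroup.centralizer ((Q.map (MulAut.conj x).toMonoidHom : Subgroup G) : Set G) → ℂ) 1
  intro ξ' hξ' c hc
  let φ := centEquiv Q x
  have h1 := h _ (mapIrr_mem_of_mem_conjBlock hξ') (φ.symm c) ?_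
  · rw [mapIrr_apply, mapIrr_apply, MulEquiv.apply_symm_apply, map_one] at h1
    exact h1
  · have hle : (piCore {q | q ∉ π} (Subgroup.centralizer
        ((Q.map (MulAut.conj x).toMonoidHom : Subgroup G) : Set G))).map φ.symm.toMonoidHom ≤
          piCore {q | q ∉ π} (Subgroup.centralizer (Q : Set G)) := by
      refine Components.le_piCore ((piCore_normal _ _).map _ φ.symm.surjective) fun q hq hd => ?_
      refine Components.piCore_isPiSubgroup
        (G := Subgroup.centralizer ((Q.map (MulAut.conj x).toMonoidHom : Subgroup G) : Set G))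
        {q | q ∉ π} q hq (hd.trans (Subgroup.card_map_dvd _ _))
    exact hle (Subgroup.mem_map_of_mem _ hc)

omit hM in
theorem piHall_conj (x : G) {Q : Subgroup G} (h : PiHall π Q) :
    PiHall π (Q.map (MulAut.conj x).toMonoidHom) := by
  intro z hz hzo
  let φ := centEquiv Q x
  have h1 := h (φ.symm ⟨z, hz⟩ : G) (φ.symm ⟨z, hz⟩).2 fun q hq hd => hzo q hq (by
    rwa [Subgroup.orderOf_coe, MulEquiv.orderOf_eq, Subgroup.orderOf_mk] at hd)
  have hle : (piCore {q | q ∉ π} (Subgroup.centralizer (Q : Set G))).map φ.toMonoidHom ≤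
      piCore {q | q ∉ π} (Subgroup.centralizer
        ((Q.map (MulAut.conj x).toMonoidHom : Subgroup G) : Set G)) := by
    refine Components.le_piCore ((piCore_normal _ _).map _ φ.surjective) fun q hq hd => ?_
    exact Components.piCore_isPiSubgroup (G := Subgroup.centralizer (Q : Set G))
      {q | q ∉ π} q hq (hd.trans (Subgroup.card_map_dvd _ _))
  have h2 := hle (Subgroup.mem_map_of_mem _ (mem_coreIn.1 h1))
  exact ⟨⟨z, hz⟩, φ.apply_symm_apply ⟨z, hz⟩ ▸ h2, rfl⟩

/-- A pair of `B` on a defect group is maximal. -/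
theorem isMaximalPair_of_defectGroup {B : Set (IrrCharacter G)} {D : Subgroup G}
    (hD : IsDefectGroup p M B D) {f : Set (IrrCharacter (Subgroup.centralizer (D : Set G)))}
    (hf : IsBrauerPairOf p M B D f) : IsMaximalBrauerPair p M B D f := by
  refine ⟨hf, fun R g hR hle => ?_⟩
  obtain ⟨R₂, g₂, hmax, hle₂⟩ := exists_maximal_above hR
  obtain ⟨x, hx⟩ := IsDefectGroup.exists_conj hM hf.2.1 hD (isDefectGroup_of_maximal hM hmax)
  have hcard : Nat.card R₂ = Nat.card D := by rw [← hx, card_map_conj]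
  refine (Subgroup.eq_of_le_of_card_ge (le_of_subpairLE hle) ?_).symm
  rw [← hcard]
  exact Nat.le_of_dvd Nat.card_pos (Subgroup.card_dvd_of_le (le_of_subpairLE hle₂))

variable {B : Set (IrrCharacter G)} {D : Subgroup G} (hBD : IsDefectGroup p M B D)
  {B₁ : Set (IrrCharacter ↥(Subgroup.normalizer (D : Set G)))}
  (hB₁ : IsInducedBlock M (Subgroup.normalizer (D : Set G)) B₁ B)
  (hB₁D : IsDefectGroup p M B₁ (D.subgroupOf (Subgroup.normalizer (D : Set G))))
include hBD hB₁ hB₁D

/-- A maximal pair covered by the Brauer correspondent. -/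
theorem exists_maximal_covered : ∃ ξ : IrrCharacter (Subgroup.centralizer (D : Set G)),
    pairVal D (subIdem M (Subgroup.normalizer (D : Set G)) B₁) ξ = 1 ∧
      IsMaximalBrauerPair p M B D (blockOf M (ξ : Subgroup.centralizer (D : Set G) → ℂ)) := by
  classical
  obtain ⟨c, hc, hle, -⟩ := isDefectGroup_iff.1 hB₁D
  obtain ⟨ξ, hξ, hpair⟩ := exists_pair_of_induced hM hB₁ (IsDefectGroup.isPGroup hBD)
    Subgroup.le_normalizer (centralizer_le_normalizer' D) (c := c) (by
      refine Subgroup.mem_centralizer_iff.2 fun d hd => ?_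
      exact ((mem_centralizer_singleton.1
        (hle (Subgroup.mem_subgroupOf.2 (show ((⟨d, Subgroup.le_normalizer hd⟩ :
          Subgroup.normalizer (D : Set G)) : G) ∈ D from hd)))).map
        (Subgroup.normalizer (D : Set G)).subtype).eq)
    (IsDefectClass.coeff_ne_zero hB₁.1 hc)
  exact ⟨ξ, hξ, isMaximalPair_of_defectGroup hM hBD hpair⟩

theorem piTriv_of_kernel (hpπ : p ∈ π)
    (hker : ∀ n : ↥(Subgroup.normalizer (D : Set G)),
      n ∈ piCore {q | q ∉ π} ↥(Subgroup.normalizer (D : Set G)) → n ∈ blockKer B₁)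
    {a : BrauerPairIdx G} (ha : IsBrauerPairOf p M B a.1 a.2) : PiTriv π a := by
  classical
  obtain ⟨ξ, hξ, hmax⟩ := exists_maximal_covered hM hBD hB₁ hB₁D
  have htop : PiTriv π (⟨D, blockOf M (ξ : Subgroup.centralizer (D : Set G) → ℂ)⟩ : BrauerPairIdx G) := by
    have hiff := forall_triv_iff hM hB₁.1 (IsDefectGroup.isPGroup hBD)
      (fun u hu => stabilizesBlock_of_mem (Subgroup.le_normalizer hu)) (centralizer_le_normalizer' D)
      (coreIn_le (π := π) (Subgroup.normalizer (D : Set G)))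
      (Subgroup.le_normalizer.trans (normalizer_le_normalizer_coreIn _))
      (Subgroup.le_normalizer.trans (Subgroup.le_normalizer.trans
        (normalizer_le_normalizer_coreIn _)))
      (not_dvd_card_coreIn hpπ _) hξ
    have h1 := hiff.1 fun ψ hψ n hn => hker n (mem_coreIn.1 hn) ψ hψ
    intro η hη c hc
    have hsub : ∀ d : Subgroup.centralizer (D : Set G),
        d ∈ piCore {q | q ∉ π} (Subgroup.centralizer (D : Set G)) →
          (d : G) ∈ coreIn π (Subgroup.normalizer (D : Set G)) := fun d hd =>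
      mem_coreIn_of_mem (isPiSubgroup_coreIn (π := π) (Subgroup.centralizer (D : Set G)))
        ((normalizer_le_normalizer_centralizer D).trans (normalizer_le_normalizer_coreIn _))
        (mem_coreIn.2 hd) (centralizer_le_normalizer' D d.2)
    exact apply_eq_of_sameBlock _ hM (fun h =>
        Components.piCore_isPiSubgroup (G := Subgroup.centralizer (D : Set G)) {q | q ∉ π} p Fact.out h hpπ)
      (IsPBlock.sameBlock (isPBlock_blockOf ξ) (mem_blockOf_self ξ) hη)
      (fun d hd => h1 d (hsub d hd)) c hc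
  obtain ⟨x, hx⟩ := exists_conj_le hM hmax ha
  have hconj : PiTriv π (conjPair x a) := by
    revert hx
    generalize conjPair x a = a'
    intro hx
    induction hx using Relation.ReflTransGen.head_induction_on with
    | refl => exact htop
    | head h1 _ ih => exact piTriv_of_normalSubpair hM hpπ h1 ih
  have h3 := piTriv_conjPair x⁻¹ hconj
  rwa [← conjPair_mul, inv_mul_cancel, conjPair_one] at h3

/-- Triviality for blocks of subgroups inducing `B`. -/
theorem kernel_of_induced (hpπ : p ∈ π)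
    (hker : ∀ n : ↥(Subgroup.normalizer (D : Set G)),
      n ∈ piCore {q | q ∉ π} ↥(Subgroup.normalizer (D : Set G)) → n ∈ blockKer B₁)
    {G₀ : Subgroup G} {B₀ : Set (IrrCharacter ↥G₀)} (hB₀ : IsInducedBlock M G₀ B₀ B)
    {D₀ : Subgroup ↥G₀} (hD₀ : IsDefectGroup p M B₀ D₀)
    (hC : Subgroup.centralizer ((D₀.map G₀.subtype : Subgroup G) : Set G) ≤ G₀) :
    ∀ x : ↥G₀, x ∈ piCore {q | q ∉ π} ↥G₀ → x ∈ blockKer B₀ := by
  classical
  obtain ⟨c, hc, hle, -⟩ := isDefectGroup_iff.1 hD₀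
  obtain ⟨ξ, hξ, hpair⟩ := exists_pair_of_induced hM hB₀ ((IsDefectGroup.isPGroup hD₀).map _)
    (Subgroup.map_subtype_le D₀) hC (c := c) (by
      refine Subgroup.mem_centralizer_iff.2 ?_
      rintro _ ⟨d, hd, rfl⟩
      exact ((mem_centralizer_singleton.1 (hle hd)).map G₀.subtype).eq)
    (IsDefectClass.coeff_ne_zero hB₀.1 hc)
  have hp := piTriv_of_kernel hM hBD hB₁ hB₁D hpπ hker
    (a := ⟨D₀.map G₀.subtype, blockOf M (ξ : _ → ℂ)⟩) hpair
  have hiff := forall_triv_iff hM hB₀.1 ((IsDefectGroup.isPGroup hD₀).map G₀.subtype)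
    (fun u hu => stabilizesBlock_of_mem (Subgroup.map_subtype_le D₀ hu)) hC (coreIn_le (π := π) G₀)
    (Subgroup.le_normalizer.trans (normalizer_le_normalizer_coreIn _))
    ((Subgroup.map_subtype_le D₀).trans
      (Subgroup.le_normalizer.trans (normalizer_le_normalizer_coreIn _)))
    (not_dvd_card_coreIn hpπ _) hξ
  intro x hx ψ hψ
  refine hiff.2 (fun d hd => hp ξ (mem_blockOf_self ξ) d (mem_coreIn.1 ?_)) ψ hψ x (mem_coreIn.2 hx)
  exact mem_coreIn_of_mem (isPiSubgroup_coreIn G₀)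
    (hC.trans (Subgroup.le_normalizer.trans (normalizer_le_normalizer_coreIn _))) hd d.2

/-- Triviality at a local block gives triviality of the Brauer correspondent. -/
theorem kernel_of_local (hpπ : p ∈ π) {D₀ H₀ : Subgroup G} (hD₀ : IsPGroup p D₀)
    (hH₀ : H₀ = D₀ ⊔ Subgroup.centralizer (D₀ : Set G)) {b : Set (IrrCharacter ↥H₀)}
    (hb : IsInducedBlock M H₀ b B) (hhall : PiHall π D₀)
    (hkerb : ∀ θ ∈ b, ∀ h : H₀, (h : G) ∈ coreIn π (Subgroup.centralizer (D₀ : Set G)) →
      (θ : H₀ → ℂ) h = (θ : H₀ → ℂ) 1) :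
    ∀ n : ↥(Subgroup.normalizer (D : Set G)),
      n ∈ piCore {q | q ∉ π} ↥(Subgroup.normalizer (D : Set G)) → n ∈ blockKer B₁ := by
  classical
  have hD₀H : D₀ ≤ H₀ := hH₀ ▸ le_sup_left
  have hCH : Subgroup.centralizer (D₀ : Set G) ≤ H₀ := hH₀ ▸ le_sup_right
  have hH₀N : H₀ ≤ Subgroup.normalizer (D₀ : Set G) :=
    hH₀ ▸ sup_le Subgroup.le_normalizer (centralizer_le_normalizer' D₀)
  have hn : (D₀.subgroupOf H₀).Normal := Subgroup.normal_subgroupOf_of_le_normalizer hH₀N
  obtain ⟨Dd, hDd⟩ := exists_isDefectGroup (p := p) hb.1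
  have hle := IsDefectGroup.normal_le hM hb.1 hDd (P := D₀.subgroupOf H₀)
    (hD₀.comap_subtype)
  obtain ⟨c, hc, hlec, -⟩ := isDefectGroup_iff.1 hDd
  obtain ⟨η, hη, hpair⟩ := exists_pair_of_induced hM hb hD₀ hD₀H hCH (c := c) (by
      refine Subgroup.mem_centralizer_iff.2 fun d hd => ?_
      exact ((mem_centralizer_singleton.1
        (hlec (hle (Subgroup.mem_subgroupOf.2 (show ((⟨d, hD₀H hd⟩ : H₀) : G) ∈ D₀ from hd))))).map
          H₀.subtype).eq)
    (IsDefectClass.coeff_ne_zero hb.1 hc)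
  have hCN : H₀ ≤ Subgroup.normalizer
      (coreIn π (Subgroup.centralizer (D₀ : Set G)) : Set G) :=
    hH₀N.trans ((normalizer_le_normalizer_centralizer _).trans (normalizer_le_normalizer_coreIn _))
  have hbot := (forall_triv_iff hM hb.1 hD₀ (fun u hu => stabilizesBlock_of_mem (hD₀H hu)) hCH
    ((coreIn_le (π := π) _).trans hCH) hCN (hD₀H.trans hCN) (not_dvd_card_coreIn hpπ _) hη).1 hkerb
  have ha : PiTriv π (⟨D₀, blockOf M (η : Subgroup.centralizer (D₀ : Set G) → ℂ)⟩ :
      BrauerPairIdx G) := fun ψ hψ c hc =>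
    apply_eq_of_sameBlock _ hM (fun h =>
        Components.piCore_isPiSubgroup (G := Subgroup.centralizer (D₀ : Set G))
          {q | q ∉ π} p Fact.out h hpπ)
      (IsPBlock.sameBlock (isPBlock_blockOf η) (mem_blockOf_self η) hψ)
      (fun d hd => hbot d (mem_coreIn.2 hd)) c hc
  obtain ⟨ξ, hξ, hmax⟩ := exists_maximal_covered hM hBD hB₁ hB₁D
  obtain ⟨x, hx⟩ := exists_conj_le hM hmax hpair
  have h0 : PiTriv π (conjPair x ⟨D₀, blockOf M (η : Subgroup.centralizer (D₀ : Set G) → ℂ)⟩) ∧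
      PiHall π (conjPair x ⟨D₀, blockOf M (η : Subgroup.centralizer (D₀ : Set G) → ℂ)⟩).1 :=
    ⟨piTriv_conjPair x ha, piHall_conj x hhall⟩
  have htop : PiTriv π (⟨D, blockOf M (ξ : Subgroup.centralizer (D : Set G) → ℂ)⟩ :
      BrauerPairIdx G) ∧ PiHall π D := by
    revert hx h0
    generalize conjPair x ⟨D₀, blockOf M (η : Subgroup.centralizer (D₀ : Set G) → ℂ)⟩ = a'
    intro hx h0
    have : ∀ z, Relation.ReflTransGen (NormalSubpairRel p M) a' z → PiTriv π z ∧ PiHall π z.1 := by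
      intro z hz
      induction hz with
      | refl => exact h0
      | tail _ h1 ih => exact piTriv_piHall_up hM hpπ h1 ih
    exact this _ hx
  intro n hn ψ hψ
  refine (forall_triv_iff hM hB₁.1 (IsDefectGroup.isPGroup hBD)
    (fun u hu => stabilizesBlock_of_mem (Subgroup.le_normalizer hu)) (centralizer_le_normalizer' D)
    (coreIn_le (π := π) _) (Subgroup.le_normalizer.trans (normalizer_le_normalizer_coreIn _))
    (Subgroup.le_normalizer.trans (Subgroup.le_normalizer.trans (normalizer_le_normalizer_coreIn _)))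
    (not_dvd_card_coreIn hpπ _) hξ).2 (fun d hd => htop.1 ξ (mem_blockOf_self ξ) d (mem_coreIn.1 ?_))
    ψ hψ n (mem_coreIn.2 hn)
  exact mem_coreIn_of_mem (isPiSubgroup_coreIn _)
    ((centralizer_le_normalizer' D).trans
      (Subgroup.le_normalizer.trans (normalizer_le_normalizer_coreIn _))) hd d.2

end CfsgLib.Pairs
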