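import Mathlib

/-!
An element of order three with a four-group as commutator space on a module over the field with two elements:
abelian subgroups and `p`-subgroups it normalizes mostly centralize that four-group.
-/

set_option autoImplicit false
set_option linter.style.haveILetI false
set_option linter.unusedSectionVars false

namespace CfsgLib.Pairs.SmallComm

open Subgroup

instance factTwo : Fact (Nat.Prime 2) := ⟨Nat.prime_two⟩

variable {G : Type*} [Group G] [Finite G] {V : Type*} [AddCommGroup V] [Module (ZMod 2) V] [Finite V]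
variable {ρ : Representation (ZMod 2) G V}

theorem rep_mul (g k : G) (v : V) : ρ g (ρ k v) = ρ (g * k) v := by rw [map_mul]; rfl

theorem rep_one (v : V) : ρ 1 v = v := by rw [map_one]; rfl

theorem rep_inv_apply (g : G) (v : V) : ρ g⁻¹ (ρ g v) = v := by rw [rep_mul, inv_mul_cancel, rep_one]

theorem rep_apply_inv (g : G) (v : V) : ρ g (ρ g⁻¹ v) = v := by rw [rep_mul, mul_inv_cancel, rep_one]

theorem rep_injective (g : G) : Function.Injective (ρ g) := fun v w h => by
  rw [← rep_inv_apply (ρ := ρ) g v, h, rep_inv_apply]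

theorem add_self (v : V) : v + v = 0 := by
  rw [← one_smul (ZMod 2) v, ← add_smul, show (1 : ZMod 2) + 1 = 0 by decide, zero_smul]

theorem sub_eq_add' (v w : V) : v - w = v + w := by
  rw [sub_eq_add_neg, neg_eq_of_add_eq_zero_left (add_self w)]

theorem ext_apply {a c : G} (h : ∀ v, ρ a v = ρ c v) : ρ a = ρ c := LinearMap.ext h

/-- kernel of the representation -/
theorem conj_kernel {a : G} (g : G) (h : ρ a = 1) : ρ (g * a * g⁻¹) = 1 := by
  rw [map_mul, map_mul, h, mul_one, ← map_mul, mul_inv_cancel, map_one]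

/-- counting fixed points -/
theorem fixed_modEq (g : G) {r k : ℕ} [Fact r.Prime] (hg : ∀ v, ρ (g ^ r ^ k) v = v)
    (U : Submodule (ZMod 2) V) (hU : ∀ u ∈ U, ρ g u ∈ U) :
    ∃ K : Submodule (ZMod 2) U, (∀ u : U, u ∈ K ↔ ρ g u = u) ∧
      2 ^ Module.finrank (ZMod 2) U ≡ 2 ^ Module.finrank (ZMod 2) K [MOD r] := by
  let f : Function.End U := fun u => ⟨ρ g u, hU u u.2⟩
  have hiter : ∀ (n : ℕ) (u : U), ((f^[n]) u : V) = ρ (g ^ n) u := by
    intro n
    induction n with
    | zero => intro u; rw [pow_zero, rep_one]; rfl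
    | succ n ih =>
      intro u
      rw [Function.iterate_succ_apply', pow_succ', ← rep_mul, ← ih]
  let K : Submodule (ZMod 2) U :=
    { carrier := {u | ρ g u = u}
      add_mem' := fun {a c} ha hc => by
        show ρ g ((a : V) + c) = (a : V) + c
        rw [map_add, show ρ g (a : V) = a from ha, show ρ g (c : V) = c from hc]
      zero_mem' := map_zero _
      smul_mem' := fun t {a} ha => by
        show ρ g (t • (a : V)) = t • (a : V)
        rw [map_smul, show ρ g (a : V) = a from ha] }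
  refine ⟨K, fun u => Iff.rfl, ?_⟩
  have hper : f ^ r ^ k = (1 : Function.End U) := by
    funext u
    refine Subtype.ext ?_
    have e : ∀ n : ℕ, (f ^ n : Function.End U) = f^[n] := by
      intro n
      induction n with
      | zero => rfl
      | succ n ih => rw [pow_succ, ih, Function.iterate_succ]; rfl
    rw [e, hiter, hg]
    rfl
  classical
  letI : Fintype U := Fintype.ofFinite U
  let σ : Equiv.Perm U :=
    Equiv.ofBijective f (Finite.injective_iff_bijective.1 fun a c e => Subtype.ext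
      (rep_injective g (congrArg Subtype.val e)))
  have hσ : σ ^ r ^ k = 1 := by
    refine Equiv.ext fun u => ?_
    have e : ∀ n : ℕ, ∀ u, (σ ^ n) u = (f^[n]) u := by
      intro n
      induction n with
      | zero => intro u; rfl
      | succ n ih => intro u; rw [pow_succ', Equiv.Perm.mul_apply, ih, Function.iterate_succ_apply']; rfl
    rw [e]
    refine Subtype.ext ?_
    rw [hiter, hg]; rfl
  have hP : IsPGroup r (zpowers σ) := by
    obtain ⟨j, -, hj⟩ := (Nat.dvd_prime_pow (Fact.out : r.Prime)).1 (orderOf_dvd_of_pow_eq_one hσ)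
    exact IsPGroup.of_card (n := j) (by rw [Nat.card_zpowers, hj])
  have h := hP.card_modEq_card_fixedPoints U
  have hfix : MulAction.fixedPoints (zpowers σ) U = {u : U | u ∈ K} := by
    ext u
    constructor
    · intro h'; exact congrArg Subtype.val (h' ⟨σ, mem_zpowers σ⟩)
    · intro h' x
      obtain ⟨m, hm⟩ := mem_zpowers_iff.1 x.2
      show (x : Equiv.Perm U) u = u
      rw [← hm]
      exact Equiv.Perm.zpow_apply_eq_self_of_apply_eq_self (Subtype.ext h' : σ u = u) m
  rw [hfix] at h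
  have e1 : Nat.card U = 2 ^ Module.finrank (ZMod 2) U := by
    rw [Module.natCard_eq_pow_finrank (K := ZMod 2), Nat.card_zmod]
  have e2 : Nat.card {u : U | u ∈ K} = 2 ^ Module.finrank (ZMod 2) K := by
    show Nat.card K = _
    rw [Module.natCard_eq_pow_finrank (K := ZMod 2), Nat.card_zmod]
  rwa [e1, e2] at h

/-- the hypothesis -/
structure Small (ρ : Representation (ZMod 2) G V) (q : G) : Prop where
  cube : ρ q * ρ q * ρ q = 1
  rank : Module.finrank (ZMod 2) (LinearMap.range (ρ q - 1)) = 2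

variable {q : G}

theorem Small.cube_apply (h : Small ρ q) (v : V) : ρ q (ρ q (ρ q v)) = v := by
  have := LinearMap.congr_fun h.cube v
  simpa using this

theorem mem_W {v : V} : ρ q v - v ∈ LinearMap.range (ρ q - 1) := ⟨v, rfl⟩

theorem W_invariant {w : V} (hw : w ∈ LinearMap.range (ρ q - 1)) : ρ q w ∈ LinearMap.range (ρ q - 1) := by
  obtain ⟨v, rfl⟩ := hw
  refine ⟨ρ q v, ?_⟩
  simp [map_sub]

theorem Small.sum_eq_zero (h : Small ρ q) {w : V} (hw : w ∈ LinearMap.range (ρ q - 1)) :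
    w + ρ q w + ρ q (ρ q w) = 0 := by
  obtain ⟨v, rfl⟩ := hw
  simp only [LinearMap.sub_apply, Module.End.one_apply, map_sub, h.cube_apply]
  abel

theorem Small.fixed_zero (h : Small ρ q) {w : V} (hw : w ∈ LinearMap.range (ρ q - 1)) (hf : ρ q w = w) : w = 0 := by
  have h3 := h.sum_eq_zero hw
  rwa [hf, hf, add_self, zero_add] at h3

theorem Small.exists_ne (h : Small ρ q) : ∃ w ∈ LinearMap.range (ρ q - 1), w ≠ 0 := by
  refine (Submodule.ne_bot_iff _).1 fun e => ?_
  have := h.rank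
  rw [e, finrank_bot] at this
  omega

theorem Small.span_orbit (h : Small ρ q) {x : V} (hx : x ∈ LinearMap.range (ρ q - 1)) (hx0 : x ≠ 0) :
    LinearMap.range (ρ q - 1) = Submodule.span (ZMod 2) {x, ρ q x} := by
  have hli : LinearIndependent (ZMod 2) ![x, ρ q x] := by
    rw [LinearIndependent.pair_iff]
    intro s t e
    rcases (show ∀ y : ZMod 2, y = 0 ∨ y = 1 by decide) s with rfl | rfl <;>
      rcases (show ∀ y : ZMod 2, y = 0 ∨ y = 1 by decide) t with rfl | rfl
    · exact ⟨rfl, rfl⟩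
    · rw [zero_smul, zero_add, one_smul] at e
      exact absurd (rep_injective q (e.trans (map_zero _).symm)) hx0
    · rw [zero_smul, add_zero, one_smul] at e; exact absurd e hx0
    · rw [one_smul, one_smul, ← sub_eq_add', sub_eq_zero] at e
      exact absurd (h.fixed_zero hx e.symm) hx0
  symm
  refine Submodule.eq_of_le_of_finrank_le (Submodule.span_le.2 ?_) ?_
  · simp [Set.insert_subset_iff, hx, W_invariant hx]
  · rw [h.rank, show ({x, ρ q x} : Set V) = Set.range ![x, ρ q x] by simp [Matrix.range_cons, Set.pair_comm],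
      finrank_span_eq_card hli, Fintype.card_fin]

theorem Small.le_of_inf_ne (h : Small ρ q) {U : Submodule (ZMod 2) V} (hU : ∀ u ∈ U, ρ q u ∈ U)
    (hne : LinearMap.range (ρ q - 1) ⊓ U ≠ ⊥) : LinearMap.range (ρ q - 1) ≤ U := by
  obtain ⟨x, hx, hx0⟩ := (Submodule.ne_bot_iff _).1 hne
  rw [h.span_orbit hx.1 hx0, Submodule.span_le]
  simp [Set.insert_subset_iff, hx.2, hU x hx.2]

theorem Small.trivial_or (h : Small ρ q) {U : Submodule (ZMod 2) V} (hU : ∀ u ∈ U, ρ q u ∈ U) :
    LinearMap.range (ρ q - 1) ≤ U ∨ ∀ u ∈ U, ρ q u = u := by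
  by_cases hne : LinearMap.range (ρ q - 1) ⊓ U = ⊥
  · refine Or.inr fun u hu => sub_eq_zero.1 ?_
    rw [← Submodule.mem_bot (ZMod 2), ← hne]
    exact ⟨mem_W, sub_mem (hU u hu) hu⟩
  · exact Or.inl (h.le_of_inf_ne hU hne)

theorem Small.points (h : Small ρ q) {x w : V} (hx : x ∈ LinearMap.range (ρ q - 1)) (hx0 : x ≠ 0)
    (hw : w ∈ LinearMap.range (ρ q - 1)) (hw0 : w ≠ 0) : w = x ∨ w = ρ q x ∨ w = ρ q (ρ q x) := by
  have h3 := h.sum_eq_zero hx
  rw [h.span_orbit hx hx0, Submodule.mem_span_pair] at hw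
  obtain ⟨s, t, rfl⟩ := hw
  rcases (show ∀ y : ZMod 2, y = 0 ∨ y = 1 by decide) s with rfl | rfl <;>
    rcases (show ∀ y : ZMod 2, y = 0 ∨ y = 1 by decide) t with rfl | rfl
  · exact absurd (by simp) hw0
  · exact Or.inr (Or.inl (by simp))
  · exact Or.inl (by simp)
  · refine Or.inr (Or.inr ?_)
    rw [one_smul, one_smul]
    rw [← sub_eq_zero, sub_eq_add']
    exact h3

/-- an element of exponent dividing three preserving the four-group commutes with `q` there -/
theorem Small.commute_on (h : Small ρ q) {g : G} (hg : ∀ v, ρ g (ρ g (ρ g v)) = v)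
    (hgW : ∀ w ∈ LinearMap.range (ρ q - 1), ρ g w ∈ LinearMap.range (ρ q - 1)) :
    ∀ w ∈ LinearMap.range (ρ q - 1), ρ g (ρ q w) = ρ q (ρ g w) := by
  have hne : ∀ (k : G) {y : V}, y ≠ 0 → ρ k y ≠ 0 := fun k {y} hy e => hy (rep_injective k (e.trans (map_zero _).symm))
  have inj := rep_injective (ρ := ρ) g
  -- a fixed vector makes `g` trivial
  have hfixed : ∀ y ∈ LinearMap.range (ρ q - 1), y ≠ 0 → ρ g y = y → ρ g (ρ q y) = ρ q y := by
    intro y hy hy0 hgy
    have m₁ := W_invariant hy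
    have m₂ := W_invariant m₁
    have d₁ : ρ q y ≠ y := fun e => hy0 (h.fixed_zero hy e)
    have d₂ : ρ q (ρ q y) ≠ ρ q y := fun e => hne q hy0 (h.fixed_zero m₁ e)
    rcases h.points hy hy0 (hgW _ m₁) (hne g (hne q hy0)) with c | c | c
    · exact absurd (inj (c.trans hgy.symm)) d₁
    · exact c
    · exfalso
      rcases h.points hy hy0 (hgW _ m₂) (hne g (hne q (hne q hy0))) with e | e | e
      · have d₃ := inj (e.trans hgy.symm)
        have t := congrArg (ρ q) d₃
        rw [h.cube_apply] at t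
        exact d₁ t.symm
      · have t := hg (ρ q y)
        rw [c, e, c] at t
        exact d₂ t
      · exact d₂ (inj (e.trans c.symm))
  intro w hw
  rcases eq_or_ne w 0 with rfl | hw0
  · simp
  have m₁ := W_invariant hw
  have d₁ : ρ q w ≠ w := fun e => hw0 (h.fixed_zero hw e)
  rcases h.points hw hw0 (hgW _ hw) (hne g hw0) with a | a | a
  · rw [a]; exact hfixed w hw hw0 a
  · rcases h.points hw hw0 (hgW _ m₁) (hne g (hne q hw0)) with c | c | c
    · exfalso
      have t := hg w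
      rw [a, c, a] at t
      exact d₁ t
    · exact absurd (inj (c.trans a.symm)) d₁
    · rw [a]; exact c
  · rcases h.points hw hw0 (hgW _ m₁) (hne g (hne q hw0)) with c | c | c
    · rw [a, h.cube_apply]; exact c
    · exfalso
      have t := hfixed _ m₁ (hne q hw0) c
      have t' := hfixed _ (W_invariant m₁) (hne q (hne q hw0)) t
      rw [h.cube_apply] at t'
      rw [a] at t'
      have := congrArg (ρ q) t'
      rw [h.cube_apply] at this
      exact d₁ this.symm
    · exact absurd (inj (c.trans a.symm)) d₁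

/-- an element trivial on a space and modulo it, with cube one, is trivial -/
theorem eq_one_of_unipotent {u : G} {U : Submodule (ZMod 2) V} {n : ℕ} (hn : Odd n)
    (hu : ∀ v, ρ (u ^ n) v = v) (hmod : ∀ v, ρ u v - v ∈ U) (hfix : ∀ x ∈ U, ρ u x = x) : ρ u = 1 := by
  refine LinearMap.ext fun v => ?_
  have hiter : ∀ m : ℕ, ρ (u ^ m) v = v + (m : ZMod 2) • (ρ u v - v) := by
    intro m
    induction m with
    | zero => rw [pow_zero, rep_one, Nat.cast_zero, zero_smul, add_zero]
    | succ m ih =>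
      rw [pow_succ', ← rep_mul, ih, map_add, map_smul, hfix _ (hmod v), Nat.cast_succ, add_smul, one_smul]
      abel
  have h0 := hiter n
  rw [hu, left_eq_add] at h0
  have hne : (n : ZMod 2) = 1 := by
    obtain ⟨k, rfl⟩ := hn
    push_cast
    rw [show (2 : ZMod 2) = 0 by decide, zero_mul, zero_add]
  rw [hne, one_smul, sub_eq_zero] at h0
  exact h0

/-- step in the abelian case -/
theorem Small.commute_step (h : Small ρ q) {f : G} (hf : ∀ v, ρ f (ρ f (ρ f v)) = v)
    (hfu : Commute (ρ f) (ρ (f * q * f⁻¹ * q⁻¹))) (hqu : Commute (ρ q) (ρ (f * q * f⁻¹ * q⁻¹))) :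
    ρ (f * q * f⁻¹ * q⁻¹) = 1 := by
  set u := f * q * f⁻¹ * q⁻¹ with hu
  set q' := f * q * f⁻¹ with hq'
  set W := LinearMap.range (ρ q - 1) with hW
  have hq'u : ρ q' = ρ u * ρ q := by rw [← map_mul, hu, inv_mul_cancel_right]
  have hqq' : Commute (ρ q') (ρ q) := by
    rw [hq'u]
    exact (Commute.mul_left hqu.symm (Commute.refl _))
  have hswap : ∀ v, ρ q' (ρ q v) = ρ q (ρ q' v) := fun v => by
    have := LinearMap.congr_fun hqq'.eq v
    simpa using this
  have hW'mem : ∀ {v : V}, v ∈ W → ρ q' v ∈ W := by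
    rintro _ ⟨v, rfl⟩
    refine ⟨ρ q' v, ?_⟩
    simp only [LinearMap.sub_apply, Module.End.one_apply, map_sub, hswap]
  have hufv : ∀ v, ρ u (ρ f v) = ρ f (ρ u v) := fun v => by
    have := LinearMap.congr_fun hfu.eq v
    simpa using this.symm
  have hq'v : ∀ v, ρ q' v = ρ f (ρ q (ρ f⁻¹ v)) := fun v => by rw [hq', rep_mul, rep_mul]
  have hu3 : ∀ v, ρ u (ρ u (ρ u v)) = v := by
    have hc3 : ρ q' * ρ q' * ρ q' = 1 := by
      refine LinearMap.ext fun v => ?_
      simp only [Module.End.mul_apply, hq'v, rep_inv_apply, h.cube_apply, rep_apply_inv, Module.End.one_apply]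
    have e : ρ u * ρ u * ρ u = 1 := by
      have h1 : (ρ u * ρ q) ^ 3 = 1 := by rw [← hq'u, pow_succ, pow_two]; exact hc3
      rw [hqu.symm.mul_pow, pow_succ (ρ q), pow_two (ρ q), h.cube, mul_one, pow_succ, pow_two] at h1
      exact h1
    intro v
    simpa using LinearMap.congr_fun e v
  have hu3' : ∀ v, ρ (u ^ 3) v = v := fun v => by
    rw [pow_succ, pow_two, ← rep_mul, ← rep_mul]; exact hu3 v
  have hq'mem : ∀ v, ρ q' v - v ∈ Submodule.map (ρ f) W := fun v => by
    refine ⟨ρ q (ρ f⁻¹ v) - ρ f⁻¹ v, mem_W, ?_⟩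
    rw [map_sub, rep_apply_inv, ← hq'v]
  -- either the two spaces agree
  by_cases hfW : Submodule.map (ρ f) W = W
  · have hfW' : ∀ w ∈ W, ρ f w ∈ W := fun w hw => by
      conv => arg 1; rw [← hfW]
      exact Submodule.mem_map_of_mem hw
    have hfinv : ∀ w ∈ W, ρ f⁻¹ w ∈ W := fun w hw => by
      obtain ⟨y, hy, rfl⟩ := (hfW.symm ▸ hw : w ∈ Submodule.map (ρ f) W)
      rwa [rep_inv_apply]
    refine eq_one_of_unipotent (U := W) (n := 3) (by decide) hu3' (fun v => ?_) fun w hw => ?_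
    · have e1 : ρ u v - v = (ρ q' (ρ q⁻¹ v) - ρ q⁻¹ v) - (ρ q (ρ q⁻¹ v) - ρ q⁻¹ v) := by
        rw [rep_apply_inv, rep_mul, hu]
        abel
      rw [e1]
      have := hq'mem (ρ q⁻¹ v)
      rw [hfW] at this
      exact sub_mem this mem_W
    · have hqw : ρ q' w = ρ q w := by
        rw [hq'v, h.commute_on hf hfW' _ (hfinv w hw), rep_apply_inv]
      have := LinearMap.congr_fun hq'u w
      rw [Module.End.mul_apply, hqw] at this
      obtain ⟨y, hy⟩ : ∃ y ∈ W, ρ q y = w := ⟨ρ q (ρ q w), W_invariant (W_invariant hw), h.cube_apply w⟩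
      have := LinearMap.congr_fun hq'u y
      rw [Module.End.mul_apply] at this
      have hqy : ρ q' y = ρ q y := by
        rw [hq'v, h.commute_on hf hfW' _ (hfinv y hy.1), rep_apply_inv]
      rw [hqy, hy.2] at this
      exact this.symm
  -- otherwise they are disjoint
  exfalso
  have hfqW : ∀ y ∈ Submodule.map (ρ f) W, ρ q y ∈ Submodule.map (ρ f) W := by
    rintro _ ⟨w, hw, rfl⟩
    -- `q` commutes with `f q f⁻¹`, hence preserves its commutator space
    obtain ⟨v, rfl⟩ := hw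
    refine ⟨ρ q (ρ f⁻¹ (ρ q (ρ f v))) - ρ f⁻¹ (ρ q (ρ f v)), mem_W, ?_⟩
    simp only [LinearMap.sub_apply, Module.End.one_apply, map_sub, rep_apply_inv]
    rw [show ρ f (ρ q (ρ f⁻¹ (ρ q (ρ f v)))) = ρ q' (ρ q (ρ f v)) by rw [hq'v], hswap, hq'v, rep_inv_apply]
  rcases h.trivial_or hfqW with hle | htriv
  · refine hfW (Submodule.eq_of_le_of_finrank_le hle ?_).symm
    exact Submodule.finrank_map_le _ _
  obtain ⟨w, hw, hw0⟩ := h.exists_ne
  -- `q'` is trivial on `W`
  have hq'W : ρ q' w = w := by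
    refine sub_eq_zero.1 ?_
    have hboth : ρ q' w - w ∈ W := sub_mem (hW'mem hw) hw
    by_contra hne
    refine hfW (Submodule.eq_of_le_of_finrank_le ?_ (Submodule.finrank_map_le _ _)).symm
    exact h.le_of_inf_ne hfqW ((Submodule.ne_bot_iff _).2 ⟨_, ⟨hboth, hq'mem w⟩, hne⟩)
  -- `u` inverts on one side and rotates on the other
  obtain ⟨y, hy, hyw⟩ : ∃ y ∈ W, ρ q y = w := ⟨ρ q (ρ q w), W_invariant (W_invariant hw), h.cube_apply w⟩
  have hu1 : ρ u w = ρ q (ρ q w) := by
    have hq'y : ρ q' y = y := by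
      refine sub_eq_zero.1 ?_
      have hboth : ρ q' y - y ∈ W := sub_mem (hW'mem hy) hy
      by_contra hne
      refine hfW (Submodule.eq_of_le_of_finrank_le ?_ (Submodule.finrank_map_le _ _)).symm
      exact h.le_of_inf_ne hfqW ((Submodule.ne_bot_iff _).2 ⟨_, ⟨hboth, hq'mem y⟩, hne⟩)
    have := LinearMap.congr_fun hq'u y
    rw [Module.End.mul_apply, hyw, hq'y] at this
    rw [← this, ← hyw, h.cube_apply]
  have hu2 : ρ u (ρ f w) = ρ f (ρ q w) := by
    have := LinearMap.congr_fun hq'u (ρ f w)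
    rw [Module.End.mul_apply, htriv _ (Submodule.mem_map_of_mem hw), hq'v, rep_inv_apply] at this
    exact this.symm
  rw [hufv, hu1] at hu2
  exact hw0 (h.fixed_zero hw (rep_injective q (rep_injective f hu2)))

/-- an abelian subgroup of exponent three normalized by `q` commutes with it -/
theorem Small.commute_abelian (h : Small ρ q) {F : Subgroup G} (hF3 : ∀ f ∈ F, f * f * f = 1)
    (hFc : ∀ a ∈ F, ∀ c ∈ F, a * c = c * a) (hqF : ∀ f ∈ F, q * f * q⁻¹ ∈ F) :
    ∀ f ∈ F, Commute (ρ q) (ρ f) := by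
  let D : G → G := fun a => a * q * a⁻¹ * q⁻¹
  have hD : ∀ a ∈ F, D a ∈ F := fun a ha => by
    show a * q * a⁻¹ * q⁻¹ ∈ F
    rw [show a * q * a⁻¹ * q⁻¹ = a * (q * a⁻¹ * q⁻¹) by group]
    exact mul_mem ha (hqF _ (inv_mem ha))
  have hcomm : ∀ a, ρ (D a) = 1 → Commute (ρ q) (ρ a) := by
    intro a e
    show ρ q * ρ a = ρ a * ρ q
    have : a * q = D a * (q * a) := by simp only [D]; group
    rw [← map_mul, ← map_mul, this, map_mul ρ (D a), e, one_mul]
  have hstep : ∀ a ∈ F, Commute (ρ q) (ρ (D a)) → Commute (ρ q) (ρ a) := by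
    intro a ha hc
    refine hcomm a (h.commute_step (fun v => ?_) ?_ hc)
    · rw [rep_mul, rep_mul, hF3 a ha, rep_one]
    · exact (show Commute a (D a) from hFc a ha _ (hD a ha)).map ρ
  intro f hf
  refine hstep f hf (hstep _ (hD f hf) (hcomm _ ?_))
  -- the third commutator is trivial
  letI : CommGroup F := { (inferInstance : Group F) with mul_comm := fun a c => Subtype.ext (hFc a a.2 c c.2) }
  let σ : F →* F :=
    { toFun := fun a => ⟨q * a * q⁻¹, hqF a a.2⟩
      map_one' := Subtype.ext (by show q * 1 * q⁻¹ = 1; group)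
      map_mul' := fun a c => Subtype.ext (by show q * (a * c) * q⁻¹ = (q * a * q⁻¹) * (q * c * q⁻¹); group) }
  have hDσ : ∀ a : F, D a = ((a * (σ a)⁻¹ : F) : G) := fun a => by
    show (a : G) * q * (a : G)⁻¹ * q⁻¹ = (a : G) * (q * a * q⁻¹)⁻¹
    group
  have e3 : ρ ((σ (σ (σ ⟨f, hf⟩)) : F) : G) = ρ f := by
    show ρ (q * (q * (q * f * q⁻¹) * q⁻¹) * q⁻¹) = ρ f
    rw [show q * (q * (q * f * q⁻¹) * q⁻¹) * q⁻¹ = (q * q * q) * f * (q * q * q)⁻¹ by group, map_mul, map_mul]
    have hc : ρ (q * q * q) = 1 := by rw [map_mul, map_mul, h.cube]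
    have hc' : ρ (q * q * q)⁻¹ = 1 := by
      have := congrArg (fun A => A * ρ (q * q * q)⁻¹) hc
      simp only [← map_mul, mul_inv_cancel, map_one, one_mul] at this
      exact this.symm
    rw [hc, hc', one_mul, mul_one]
  rw [show D (D (D f)) = D (D (D ((⟨f, hf⟩ : F) : G))) from rfl, hDσ, hDσ, hDσ]
  set a : F := ⟨f, hf⟩
  have key : a * (σ a)⁻¹ * (σ (a * (σ a)⁻¹))⁻¹ * (σ (a * (σ a)⁻¹ * (σ (a * (σ a)⁻¹))⁻¹))⁻¹
      = a * (σ (σ (σ a)))⁻¹ * ((σ a * σ a * σ a)⁻¹ * (σ (σ a) * σ (σ a) * σ (σ a))) := by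
    refine Additive.ofMul.injective ?_
    simp only [map_mul, map_inv, ofMul_mul, ofMul_inv]
    abel
  rw [key, show σ a * σ a * σ a = 1 from Subtype.ext (hF3 _ (σ a).2),
    show σ (σ a) * σ (σ a) * σ (σ a) = 1 from Subtype.ext (hF3 _ (σ (σ a)).2), inv_one, one_mul, mul_one,
    Subgroup.coe_mul, Subgroup.coe_inv, map_mul]
  have h0 : ρ (f : G) * ρ (((σ (σ (σ a)) : F) : G))⁻¹ = 1 := by
    have e4 : ρ ((σ (σ (σ a)) : F) : G) * ρ (((σ (σ (σ a)) : F) : G))⁻¹ = 1 := by
      rw [← map_mul, mul_inv_cancel, map_one]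
    rwa [e3] at e4
  exact h0

/-- elements commuting with `q` rotate the four-group -/
theorem Small.rotate (h : Small ρ q) {g : G} (hc : Commute (ρ q) (ρ g)) :
    ∀ w ∈ LinearMap.range (ρ q - 1), ρ g w ∈ LinearMap.range (ρ q - 1) := by
  rintro _ ⟨v, rfl⟩
  refine ⟨ρ g v, ?_⟩
  have e : ρ g (ρ q v) = ρ q (ρ g v) := (LinearMap.congr_fun hc.eq v).symm
  simp only [LinearMap.sub_apply, Module.End.one_apply, map_sub, e]

theorem Small.fix_all (h : Small ρ q) {g : G} (hc : Commute (ρ q) (ρ g)) {x : V}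
    (hx : x ∈ LinearMap.range (ρ q - 1)) (hx0 : x ≠ 0) (hgx : ρ g x = x) :
    ∀ w ∈ LinearMap.range (ρ q - 1), ρ g w = w := by
  intro w hw
  rw [h.span_orbit hx hx0, Submodule.mem_span_pair] at hw
  obtain ⟨s, t, rfl⟩ := hw
  rw [map_add, map_smul, map_smul, hgx, show ρ g (ρ q x) = ρ q (ρ g x) from (LinearMap.congr_fun hc.eq x).symm, hgx]

/-- elements of order prime to three commuting with `q` fix the four-group -/
theorem Small.fix_of_order (h : Small ρ q) {g : G} (hc : Commute (ρ q) (ρ g)) {n : ℕ} (hn : ¬ 3 ∣ n)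
    (hgn : ∀ v, ρ (g ^ n) v = v) : ∀ w ∈ LinearMap.range (ρ q - 1), ρ g w = w := by
  obtain ⟨x, hx, hx0⟩ := h.exists_ne
  refine h.fix_all hc hx hx0 ?_
  have hsw : ∀ v, ρ g (ρ q v) = ρ q (ρ g v) := fun v => (LinearMap.congr_fun hc.eq v).symm
  have hgx0 : ρ g x ≠ 0 := fun e => hx0 (rep_injective g (e.trans (map_zero _).symm))
  -- `g x = q ^ i x`
  obtain ⟨i, hi, hgi⟩ : ∃ i < 3, ρ g x = ρ (q ^ i) x := by
    rcases h.points hx hx0 (h.rotate hc x hx) hgx0 with e | e | e
    · exact ⟨0, by norm_num, by rw [e, pow_zero, rep_one]⟩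
    · exact ⟨1, by norm_num, by rw [e, pow_one]⟩
    · exact ⟨2, by norm_num, by rw [e, pow_two, ← rep_mul]⟩
  have hswi : ∀ (j : ℕ) v, ρ g (ρ (q ^ j) v) = ρ (q ^ j) (ρ g v) := by
    intro j
    induction j with
    | zero => intro v; rw [pow_zero, rep_one, rep_one]
    | succ j ih => intro v; rw [pow_succ', ← rep_mul, hsw, ih, rep_mul]
  have hpow : ∀ m : ℕ, ρ (g ^ m) x = ρ (q ^ (i * m)) x := by
    intro m
    induction m with
    | zero => rw [pow_zero, mul_zero, pow_zero]
    | succ m ih => rw [pow_succ', ← rep_mul, ih, hswi, hgi, rep_mul, ← pow_add, Nat.mul_succ]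
  have h3 : ∀ m : ℕ, ρ (q ^ (3 * m)) x = x := by
    intro m
    induction m with
    | zero => rw [mul_zero, pow_zero, rep_one]
    | succ m ih =>
      rw [Nat.mul_succ, pow_add, ← rep_mul, show q ^ 3 = q * q * q by rw [pow_succ, pow_two], ← rep_mul, ← rep_mul,
        h.cube_apply, ih]
  have hmod : ∀ m : ℕ, ρ (q ^ m) x = ρ (q ^ (m % 3)) x := by
    intro m
    conv_lhs => rw [← Nat.mod_add_div m 3, pow_add, ← rep_mul, h3]
  have hfix : ρ (q ^ (i * n % 3)) x = x := by rw [← hmod, ← hpow, hgn]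
  have hi0 : i = 0 := by
    by_contra hne
    have hr : i * n % 3 = 1 ∨ i * n % 3 = 2 := by
      have : ¬ 3 ∣ i * n := fun d => ((Nat.Prime.dvd_mul Nat.prime_three).1 d).elim
        (fun d' => by have := Nat.le_of_dvd (Nat.pos_of_ne_zero hne) d'; omega) hn
      omega
    rcases hr with e | e <;> rw [e] at hfix
    · rw [pow_one] at hfix; exact hx0 (h.fixed_zero hx hfix)
    · rw [pow_two, ← rep_mul] at hfix
      have := h.cube_apply x
      rw [hfix] at this
      exact hx0 (h.fixed_zero hx this)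
  rw [hgi, hi0, pow_zero, rep_one]

/-- the abelian case, counted -/
theorem Small.abelian_bound (h : Small ρ q) {F : Subgroup G} (hF3 : ∀ f ∈ F, f * f * f = 1)
    (hFc : ∀ a ∈ F, ∀ c ∈ F, a * c = c * a) (hqF : ∀ f ∈ F, q * f * q⁻¹ ∈ F) :
    ∃ φ : F → Fin 3, ∀ a c, φ a = φ c → ∀ w ∈ LinearMap.range (ρ q - 1), ρ ((a : G)⁻¹ * c) w = w := by
  classical
  have hc := h.commute_abelian hF3 hFc hqF
  obtain ⟨x, hx, hx0⟩ := h.exists_ne
  have hp : ∀ a : F, ∃ i : Fin 3, ρ (a : G) x = ρ (q ^ (i : ℕ)) x := fun a => by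
    rcases h.points hx hx0 (h.rotate (hc _ a.2) x hx)
      (fun e => hx0 (rep_injective (a : G) (e.trans (map_zero _).symm))) with e | e | e
    · exact ⟨0, by rw [e, Fin.val_zero, pow_zero, rep_one]⟩
    · exact ⟨1, by rw [e, Fin.val_one, pow_one]⟩
    · exact ⟨2, by rw [e, Fin.val_two, pow_two, ← rep_mul]⟩
  choose φ hφ using hp
  refine ⟨φ, fun a c e => ?_⟩
  refine h.fix_all (hc _ (mul_mem (inv_mem a.2) c.2)) hx hx0 ?_
  have heq : ρ (a : G) x = ρ (c : G) x := by rw [hφ a, hφ c, e]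
  rw [← rep_mul, ← heq, rep_inv_apply]

/-- the order of a linear group of degree at most four over two elements -/
theorem card_units_dvd (U : Submodule (ZMod 2) V) (hU : Module.finrank (ZMod 2) U ≤ 4) :
    Nat.card (Module.End (ZMod 2) U)ˣ ∣ 20160 := by
  let bU := Module.finBasis (ZMod 2) U
  let e : (Module.End (ZMod 2) U)ˣ ≃* GL (Fin (Module.finrank (ZMod 2) U)) (ZMod 2) :=
    Units.mapEquiv (LinearMap.toMatrixAlgEquiv bU).toMulEquiv
  rw [Nat.card_congr e.toEquiv, Matrix.card_GL_field, ZMod.card]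
  generalize hn : Module.finrank (ZMod 2) U = n at hU ⊢
  interval_cases n <;> norm_num [Fin.prod_univ_succ]

/-- the action on a small space of the elements moving everything into it -/
theorem cyclic_step {p : ℕ} [Fact p.Prime] (hp5 : 5 ≤ p) {P : Subgroup G} (hP : IsPGroup p P)
    (U : Submodule (ZMod 2) V) (hU : Module.finrank (ZMod 2) U ≤ 4) {u u' : G} (hu : u ∈ P) (hu' : u' ∈ P)
    (h1 : ∀ v, ρ u v - v ∈ U) (h2 : ∀ v, ρ u' v - v ∈ U) :
    (p = 5 ∨ p = 7 ∨ ρ u = 1) ∧ ρ (u ^ p) = 1 ∧ (ρ u ≠ 1 → ∃ j < p, ρ u' = ρ (u ^ j)) := by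
  classical
  let J : Subgroup G :=
    { carrier := {y | y ∈ P ∧ ∀ v, ρ y v - v ∈ U}
      one_mem' := ⟨one_mem P, fun v => by rw [rep_one, sub_self]; exact zero_mem U⟩
      mul_mem' := fun {a c} ha hc => ⟨mul_mem ha.1 hc.1, fun v => by
        rw [← rep_mul, ← sub_add_sub_cancel _ (ρ c v)]
        exact add_mem (ha.2 _) (hc.2 _)⟩
      inv_mem' := fun {a} ha => ⟨inv_mem ha.1, fun v => by
        have := ha.2 (ρ a⁻¹ v)
        rw [rep_apply_inv] at this
        rw [← neg_sub]; exact neg_mem this⟩ }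
  have hJU : ∀ (y : J) (x : V), x ∈ U → ρ (y : G) x ∈ U := fun y x hx => by
    have := add_mem (y.2.2 x) hx
    rwa [sub_add_cancel] at this
  let ψ₀ : J →* Module.End (ZMod 2) U :=
    { toFun := fun y => (ρ (y : G)).restrict (hJU y)
      map_one' := LinearMap.ext fun v => Subtype.ext (rep_one (v : V))
      map_mul' := fun a c => LinearMap.ext fun v => Subtype.ext (rep_mul (a : G) c (v : V)).symm }
  let ψ := ψ₀.toHomUnits
  haveI : Finite (Module.End (ZMod 2) U) := Finite.of_injective (fun f => (f : U → U)) DFunLike.coe_injective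
  have hJp : IsPGroup p J := hP.to_le fun y hy => hy.1
  have hker : ∀ y : J, ψ y = 1 → ρ (y : G) = 1 := by
    intro y e
    obtain ⟨k, hk⟩ := hJp y
    have hodd : Odd (p ^ k) := ((Fact.out : p.Prime).odd_of_ne_two (by omega)).pow
    refine eq_one_of_unipotent (U := U) hodd (fun v => ?_) y.2.2 fun x hx => ?_
    · rw [show (y : G) ^ p ^ k = 1 from congrArg Subtype.val hk, rep_one]
    · have e' : ψ₀ y = 1 := congrArg Units.val e
      exact congrArg Subtype.val (LinearMap.congr_fun e' ⟨x, hx⟩)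
  obtain ⟨j, hj⟩ := IsPGroup.iff_card.1 (hJp.of_surjective ψ.rangeRestrict ψ.rangeRestrict_surjective)
  have hdvd : p ^ j ∣ 20160 := hj ▸ (ψ.range.card_subgroup_dvd_card.trans (card_units_dvd U hU))
  have hp' : p.Prime := Fact.out
  have hj1 : j ≤ 1 := by
    by_contra hge
    have h2 : p ^ 2 ∣ 20160 := (pow_dvd_pow p (by omega)).trans hdvd
    have hle : p ≤ 142 := by
      by_contra hlt
      have := Nat.le_of_dvd (by norm_num) h2
      have : 143 ^ 2 ≤ p ^ 2 := Nat.pow_le_pow_left (by omega) 2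
      omega
    interval_cases p <;> first | (norm_num at h2; done) | norm_num at hp'
  have hcases : j = 0 ∨ (j = 1 ∧ (p = 5 ∨ p = 7)) := by
    rcases (show j = 0 ∨ j = 1 by omega) with e | e
    · exact Or.inl e
    refine Or.inr ⟨e, ?_⟩
    rw [e, pow_one, show (20160 : ℕ) = 2 ^ 6 * (3 ^ 2 * (5 * 7)) by norm_num] at hdvd
    rcases hp'.dvd_mul.1 hdvd with d | d
    · have := (Nat.prime_dvd_prime_iff_eq hp' Nat.prime_two).1 (hp'.dvd_of_dvd_pow d); omega
    rcases hp'.dvd_mul.1 d with d | d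
    · have := (Nat.prime_dvd_prime_iff_eq hp' Nat.prime_three).1 (hp'.dvd_of_dvd_pow d); omega
    rcases hp'.dvd_mul.1 d with d | d
    · exact Or.inl ((Nat.prime_dvd_prime_iff_eq hp' (by norm_num)).1 d)
    · exact Or.inr ((Nat.prime_dvd_prime_iff_eq hp' (by norm_num)).1 d)
  have hcard : Nat.card ψ.range ∣ p := by
    rcases hcases with e | e
    · rw [hj, e, pow_zero]; exact one_dvd p
    · rw [hj, e.1, pow_one]
  let a : J := ⟨u, hu, h1⟩
  let c : J := ⟨u', hu', h2⟩
  have hap : ψ a ^ p = 1 := by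
    have h' : (⟨ψ a, ⟨a, rfl⟩⟩ : ψ.range) ^ p = 1 := by
      obtain ⟨m, hm⟩ := hcard
      rw [hm, pow_mul, pow_card_eq_one', one_pow]
    exact congrArg Subtype.val h'
  refine ⟨?_, hker (a ^ p) (by rw [map_pow, hap]), fun hne => ?_⟩
  · rcases hcases with e | ⟨-, e | e⟩
    · refine Or.inr (Or.inr (hker a ?_))
      rw [e, pow_zero] at hj
      have : ψ.range = ⊥ := card_eq_one.1 hj
      exact mem_bot.1 (this ▸ (⟨a, rfl⟩ : ψ a ∈ ψ.range))
    · exact Or.inl e
    · exact Or.inr (Or.inl e)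
  have ha1 : ψ a ≠ 1 := fun e => hne (hker a e)
  have ho : orderOf (ψ a) = p := orderOf_eq_prime hap ha1
  have hz : zpowers (ψ a) = ψ.range := by
    refine eq_of_le_of_card_ge (zpowers_le.2 ⟨a, rfl⟩) ?_
    rw [Nat.card_zpowers, ho]
    exact Nat.le_of_dvd hp'.pos hcard
  have hc : ψ c ∈ zpowers (ψ a) := hz ▸ ⟨c, rfl⟩
  obtain ⟨k, hk, hk'⟩ : ∃ k < p, ψ a ^ k = ψ c := by
    obtain ⟨m, hm⟩ := ((isOfFinOrder_of_finite (ψ a)).mem_powers_iff_mem_zpowers).2 hc
    exact ⟨m % p, Nat.mod_lt _ hp'.pos, by rw [← ho, pow_mod_orderOf]; exact hm⟩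
  refine ⟨k, hk, ?_⟩
  have h3 := hker ((a ^ k)⁻¹ * c) (by rw [map_mul, map_inv, map_pow, hk', inv_mul_cancel])
  have e : ρ (u ^ k) * ρ ((u ^ k)⁻¹ * u') = ρ u' := by rw [← map_mul, mul_inv_cancel_left]
  rw [← e]
  show ρ (u ^ k) * ρ (((a ^ k)⁻¹ * c : J) : G) = _
  rw [h3, mul_one]

/-- a subgroup containing `u ^ p` and `u⁻¹ * u ^ j` for `j ≢ 1` contains `u` -/
theorem mem_of_powers {p : ℕ} (hp : p.Prime) {H : Subgroup G} {u : G} {j : ℕ} (hj : j < p) (hj1 : j ≠ 1)
    (h1 : u ^ p ∈ H) (h2 : u⁻¹ * u ^ j ∈ H) : u ∈ H := by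
  have hco : IsCoprime ((j : ℤ) - 1) (p : ℤ) := by
    refine ((Nat.prime_iff_prime_int.1 hp).coprime_iff_not_dvd.2 fun d => ?_).symm
    rcases Nat.eq_zero_or_pos j with rfl | hj0
    · rw [Nat.cast_zero, zero_sub, dvd_neg] at d
      exact hp.not_dvd_one (Int.natCast_dvd_natCast.1 (by simpa using d))
    · have hd : (p : ℤ) ∣ ((j - 1 : ℕ) : ℤ) := by rwa [Nat.cast_sub hj0, Nat.cast_one]
      have := Nat.le_of_dvd (by omega) (Int.natCast_dvd_natCast.1 hd)
      omega
  obtain ⟨a, c, e⟩ := hco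
  have h3 : u ^ ((j : ℤ) - 1) ∈ H := by
    rw [zpow_sub, zpow_natCast, zpow_one]
    convert h2 using 1
    rw [← zpow_natCast, ← zpow_neg_one, ← zpow_add, ← zpow_add, add_comm]
  have h4 : u ^ (1 : ℤ) ∈ H := by
    rw [← e, zpow_add, mul_comm a, mul_comm c, zpow_mul, zpow_mul, zpow_natCast]
    exact mul_mem (zpow_mem h3 a) (zpow_mem h1 c)
  rwa [zpow_one] at h4

/-- the case of a `p`-group, counted -/
theorem Small.pgroup_bound (h : Small ρ q) {p : ℕ} [Fact p.Prime] (hp5 : 5 ≤ p) {P : Subgroup G}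
    (hP : IsPGroup p P) (hqP : ∀ y ∈ P, q * y * q⁻¹ ∈ P) :
    ∃ φ : P → Fin p, ∀ a c, φ a = φ c → ∀ w ∈ LinearMap.range (ρ q - 1), ρ ((a : G)⁻¹ * c) w = w := by
  classical
  set W := LinearMap.range (ρ q - 1) with hW
  have hp' : p.Prime := Fact.out
  obtain ⟨u, hu_def⟩ : ∃ u : P → G, ∀ x : P, u x = (x : G) * q * (x : G)⁻¹ * q⁻¹ := ⟨_, fun _ => rfl⟩
  have huP : ∀ x : P, u x ∈ P := fun x => by
    rw [hu_def]
    rw [show (x : G) * q * (x : G)⁻¹ * q⁻¹ = (x : G) * (q * (x : G)⁻¹ * q⁻¹) by group]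
    exact mul_mem x.2 (hqP _ (inv_mem x.2))
  let T : P → Submodule (ZMod 2) V := fun x => W ⊔ W.map (ρ (x : G))
  have hTdim : ∀ x, Module.finrank (ZMod 2) (T x) ≤ 4 := fun x => by
    have := Submodule.finrank_add_le_finrank_add_finrank W (W.map (ρ (x : G)))
    have := Submodule.finrank_map_le (ρ (x : G)) W
    have := h.rank
    show Module.finrank (ZMod 2) ↥(W ⊔ W.map (ρ (x : G))) ≤ 4
    rw [← hW] at this
    omega
  have hTu : ∀ x v, ρ (u x) v - v ∈ T x := fun x v => by
    set w := ρ q⁻¹ v with hw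
    have e : ρ (u x) v - v = ρ (x : G) (ρ q (ρ (x : G)⁻¹ w) - ρ (x : G)⁻¹ w) + -(ρ q w - w) := by
      rw [map_sub, rep_apply_inv, hw, rep_apply_inv]
      simp only [hu_def, rep_mul, mul_assoc]
      abel
    rw [e]
    exact add_mem (Submodule.mem_sup_right (Submodule.mem_map_of_mem mem_W))
      (neg_mem (Submodule.mem_sup_left mem_W))
  have hTq : ∀ x, ∀ y ∈ T x, ρ q y ∈ T x := fun x y hy => by
    have := add_mem (Submodule.mem_sup_left (mem_W (ρ := ρ) (q := q) (v := y)) : ρ q y - y ∈ T x) hy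
    rwa [sub_add_cancel] at this
  have hTq' : ∀ x, ∀ y ∈ T x, ρ q⁻¹ y ∈ T x := fun x y hy => by
    have h1 : ρ q (ρ q⁻¹ y) - ρ q⁻¹ y ∈ T x := Submodule.mem_sup_left mem_W
    rw [rep_apply_inv] at h1
    have := sub_mem hy h1
    rwa [sub_sub_cancel] at this
  -- `q` acts on the cyclic image
  have hqu : ∀ x, ρ (u x) ≠ 1 → ∃ j < p, ρ (q * u x * q⁻¹) = ρ (u x ^ j) := by
    intro x hx
    refine (cyclic_step hp5 hP (T x) (hTdim x) (huP x) (hqP _ (huP x)) (hTu x) fun v => ?_).2.2 hx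
    have := hTq x _ (hTu x (ρ q⁻¹ v))
    rw [map_sub, rep_apply_inv] at this
    rw [mul_assoc, ← rep_mul, ← rep_mul]
    exact this
  have hnc : ∀ x, Commute (ρ q) (ρ (u x)) → ρ (u x) = 1 := by
    intro x hc
    have hup : ρ (u x ^ p) = 1 := (cyclic_step hp5 hP (T x) (hTdim x) (huP x) (huP x) (hTu x) (hTu x)).2.1
    have hq' : ρ ((x : G) * q * (x : G)⁻¹) = ρ (u x) * ρ q := by
      rw [← map_mul]; simp only [hu_def, inv_mul_cancel_right]
    have h3 : ρ ((x : G) * q * (x : G)⁻¹) ^ 3 = 1 := by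
      rw [← map_pow, conj_pow]
      exact conj_kernel _ (by rw [map_pow, pow_succ, pow_two, h.cube])
    rw [hq', hc.symm.mul_pow, show ρ q ^ 3 = 1 by rw [pow_succ, pow_two, h.cube], mul_one] at h3
    rw [map_pow] at hup
    have hcop : Nat.Coprime 3 p := (Nat.coprime_primes Nat.prime_three hp').2 (by omega)
    have := pow_gcd_eq_one.2 ⟨h3, hup⟩
    rwa [hcop.gcd_eq_one, pow_one] at this
  have h7 : ∀ x, ρ (u x) ≠ 1 → p = 7 := by
    intro x hx
    rcases (cyclic_step hp5 hP (T x) (hTdim x) (huP x) (huP x) (hTu x) (hTu x)).1 with h5 | e | e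
    · exfalso
      subst h5
      refine hx (hnc x ?_)
      obtain ⟨j, hj, hj'⟩ := hqu x hx
      have hup : ρ (u x ^ 5) = 1 := (cyclic_step hp5 hP (T x) (hTdim x) (huP x) (huP x) (hTu x) (hTu x)).2.1
      have hcj : ∀ {a c : G}, ρ a = ρ c → ρ (q * a * q⁻¹) = ρ (q * c * q⁻¹) := fun e => by
        simp only [map_mul, e]
      have hstep : ∀ m, ρ (q * u x ^ m * q⁻¹) = ρ (u x ^ (j * m)) := fun m => by
        rw [← conj_pow, map_pow, hj', ← map_pow, ← pow_mul]
      have hiter : ρ (u x) = ρ (u x ^ (j * (j * j))) := by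
        rw [← hstep (j * j)]
        have e2 : ρ (q * (q * u x * q⁻¹) * q⁻¹) = ρ (u x ^ (j * j)) := (hcj hj').trans (hstep j)
        rw [← hcj e2, show q * (q * (q * u x * q⁻¹) * q⁻¹) * q⁻¹ = (q * q * q) * u x * (q * q * q)⁻¹ by group,
          map_mul, map_mul]
        have hc : ρ (q * q * q) = 1 := by rw [map_mul, map_mul, h.cube]
        have hc' : ρ (q * q * q)⁻¹ = 1 := by
          have := congrArg (fun A => A * ρ (q * q * q)⁻¹) hc
          simp only [← map_mul, mul_inv_cancel, map_one, one_mul] at this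
          exact this.symm
        rw [hc, hc', one_mul, mul_one]
      have hker : ∀ {g : G}, g ∈ (ρ.toHomUnits).ker ↔ ρ g = 1 := fun {g} =>
        ⟨fun e => congrArg Units.val e, fun e => Units.ext e⟩
      have hj1 : j = 1 := by
        by_contra hne
        refine hx (hker.1 (mem_of_powers (by norm_num : Nat.Prime 5) (j := (j * (j * j)) % 5)
          (Nat.mod_lt _ (by norm_num)) ?_ (hker.2 hup) (hker.2 ?_)))
        · interval_cases j <;> simp_all
        · have hred : ρ (u x ^ (j * (j * j))) = ρ (u x ^ ((j * (j * j)) % 5)) := by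
            conv_lhs => rw [← Nat.mod_add_div (j * (j * j)) 5, pow_add, pow_mul, map_mul, map_pow ρ (u x ^ 5), hup,
              one_pow, mul_one]
          rw [map_mul, ← hred, ← hiter, ← map_mul, inv_mul_cancel, map_one]
      rw [hj1, pow_one] at hj'
      show ρ q * ρ (u x) = ρ (u x) * ρ q
      rw [← map_mul, show q * u x = q * u x * q⁻¹ * q by group, map_mul, hj']
    · exact e
    · exact absurd e hx
  have hconj : ∀ x : P, ρ (u x) = 1 → Commute (ρ q) (ρ (x : G)) := fun x e => by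
    show ρ q * ρ (x : G) = ρ (x : G) * ρ q
    rw [← map_mul, ← map_mul, show (x : G) * q = u x * (q * x) by simp only [hu_def]; group, map_mul ρ (u x), e, one_mul]
  -- the invariant: conjugates of `q`
  have hsame : ∀ a c : P, ρ (u a) = ρ (u c) → ∀ w ∈ W, ρ ((a : G)⁻¹ * c) w = w := by
    intro a c e
    have e1 : ρ ((a : G) * q * (a : G)⁻¹) = ρ ((c : G) * q * (c : G)⁻¹) := by
      have := congrArg (fun A => A * ρ q) e
      simp only [hu_def, ← map_mul, inv_mul_cancel_right] at this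
      exact this
    have hcm : Commute (ρ q) (ρ ((a : G)⁻¹ * c)) := by
      show ρ q * ρ ((a : G)⁻¹ * c) = ρ ((a : G)⁻¹ * c) * ρ q
      have := congrArg (fun A => ρ (a : G)⁻¹ * A * ρ (c : G)) e1
      simp only [← map_mul] at this
      rw [show (a : G)⁻¹ * (a * q * (a : G)⁻¹) * c = q * ((a : G)⁻¹ * c) by group,
        show (a : G)⁻¹ * (c * q * (c : G)⁻¹) * c = (a : G)⁻¹ * c * q by group] at this
      rw [← map_mul, ← map_mul]; exact this
    obtain ⟨k, hk⟩ := hP (a⁻¹ * c)
    refine h.fix_of_order hcm (n := p ^ k) (fun d => ?_) fun v => ?_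
    · have := (Nat.prime_dvd_prime_iff_eq Nat.prime_three hp').1 (Nat.prime_three.dvd_of_dvd_pow d)
      omega
    · have e2 : ((a : G)⁻¹ * c) ^ p ^ k = 1 := congrArg Subtype.val hk
      rw [e2, rep_one]
  by_cases hall : ∀ x, ρ (u x) = 1
  · exact ⟨fun _ => ⟨0, hp'.pos⟩, fun a c _ => hsame a c ((hall a).trans (hall c).symm)⟩
  push Not at hall
  obtain ⟨x₀, hx₀⟩ := hall
  -- a three-dimensional space containing `W` for each nontrivial displacement
  have hspace : ∀ x, ρ (u x) ≠ 1 → ∃ U : Submodule (ZMod 2) V, Module.finrank (ZMod 2) U ≤ 3 ∧ W ≤ U ∧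
      ∀ v, ρ (u x) v - v ∈ U := by
    intro x hx
    set U := LinearMap.range (ρ (u x) - 1) with hU
    obtain ⟨k, hk⟩ := hP ⟨u x, huP x⟩
    have hk' : u x ^ p ^ k = 1 := congrArg Subtype.val hk
    have hodd : Odd (p ^ k) := (hp'.odd_of_ne_two (by omega)).pow
    have hUT : U ≤ T x := by rintro _ ⟨v, rfl⟩; exact hTu x v
    -- `(u - 1) U = U`
    have hinj : ∀ y ∈ U, ρ (u x) y = y → y = 0 := by
      rintro _ ⟨v, rfl⟩ hy
      simp only [LinearMap.sub_apply, Module.End.one_apply] at hy ⊢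
      have hiter : ∀ m : ℕ, ρ (u x ^ m) v = v + (m : ZMod 2) • (ρ (u x) v - v) := by
        intro m
        induction m with
        | zero => rw [pow_zero, rep_one, Nat.cast_zero, zero_smul, add_zero]
        | succ m ih =>
          rw [pow_succ', ← rep_mul, ih, map_add, map_smul, hy, Nat.cast_succ, add_smul, one_smul]
          abel
      have h0 := hiter (p ^ k)
      rw [hk', rep_one, left_eq_add] at h0
      obtain ⟨m, hm⟩ := hodd
      rwa [hm, Nat.cast_add, Nat.cast_mul, Nat.cast_one, show ((2 : ℕ) : ZMod 2) = 0 by decide, zero_mul, zero_add, one_smul] at h0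
    refine ⟨U, ?_, ?_, fun v => ⟨v, rfl⟩⟩
    · by_contra hge
      have h4 : U = T x := Submodule.eq_of_le_of_finrank_le hUT ((hTdim x).trans (by omega))
      obtain ⟨K, hK, hmod⟩ := fixed_modEq (ρ := ρ) (u x) (r := p) (k := k) (fun v => by rw [hk', rep_one]) U
        (fun y hy => by
          have := add_mem (show ρ (u x) y - y ∈ U from ⟨y, rfl⟩) hy
          rwa [sub_add_cancel] at this)
      have hK0 : K = ⊥ := (Submodule.eq_bot_iff _).2 fun y hy => Subtype.ext (hinj y y.2 ((hK y).1 hy))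
      have hdim : Module.finrank (ZMod 2) U = 4 := by
        have := hTdim x
        rw [← h4] at this
        omega
      rw [hdim, hK0, finrank_bot, h7 x hx] at hmod
      exact absurd hmod (by decide)
    · obtain ⟨j, hj, hj'⟩ := hqu x hx
      have hUq : ∀ y ∈ U, ρ q y ∈ U := by
        rintro _ ⟨v, rfl⟩
        have hmemj : ∀ (m : ℕ) (y : V), ρ (u x ^ m) y - y ∈ U := by
          intro m
          induction m with
          | zero => intro y; rw [pow_zero, rep_one, sub_self]; exact zero_mem _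
          | succ m ih =>
            intro y
            rw [pow_succ', ← rep_mul, ← sub_add_sub_cancel _ (ρ (u x ^ m) y)]
            exact add_mem ⟨_, rfl⟩ (ih y)
        have := hmemj j (ρ q v)
        rw [← hj', rep_mul, inv_mul_cancel_right, ← rep_mul] at this
        simpa only [LinearMap.sub_apply, Module.End.one_apply, map_sub] using this
      refine (h.trivial_or hUq).resolve_right fun htriv => hx (hnc x ?_)
      have hj1 : j = 1 := by
        by_contra hne
        -- otherwise `u` would be trivial on its displacement space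
        have hfixU : ∀ y ∈ U, ρ (u x) y = y := by
          intro y hy
          let H : Subgroup G :=
            { carrier := {g | ρ g y = y}
              one_mem' := rep_one y
              mul_mem' := fun {a c} ha hc => by
                show ρ (a * c) y = y
                rw [← rep_mul, show ρ c y = y from hc]; exact ha
              inv_mem' := fun {a} ha => by
                show ρ a⁻¹ y = y
                conv_lhs => rw [← show ρ a y = y from ha]
                rw [rep_inv_apply] }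
          refine mem_of_powers hp' hj hne (show u x ^ p ∈ H from ?_) (show (u x)⁻¹ * u x ^ j ∈ H from ?_)
          · show ρ (u x ^ p) y = y
            rw [(cyclic_step hp5 hP (T x) (hTdim x) (huP x) (huP x) (hTu x) (hTu x)).2.1, Module.End.one_apply]
          · show ρ ((u x)⁻¹ * u x ^ j) y = y
            have hqy : ρ q⁻¹ y = y := by
              conv_lhs => rw [← htriv y hy]
              rw [rep_inv_apply]
            have huy : ρ (u x) y ∈ U := by
              have := add_mem (show ρ (u x) y - y ∈ U from ⟨y, rfl⟩) hy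
              rwa [sub_add_cancel] at this
            rw [← rep_mul, ← hj', ← rep_mul, ← rep_mul, hqy, htriv _ huy, rep_inv_apply]
        refine hx (LinearMap.ext fun v => ?_)
        exact sub_eq_zero.1 (hinj _ ⟨v, rfl⟩ (hfixU _ ⟨v, rfl⟩))
      rw [hj1, pow_one] at hj'
      show ρ q * ρ (u x) = ρ (u x) * ρ q
      rw [← map_mul, show q * u x = q * u x * q⁻¹ * q by group, map_mul, hj']
  obtain ⟨U₀, hU₀, hWU₀, hmem₀⟩ := hspace x₀ hx₀
  have hkey : ∀ x : P, ∃ j : Fin p, ρ (u x) = ρ (u x₀ ^ (j : ℕ)) := by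
    intro x
    rcases em (ρ (u x) = 1) with e | e
    · exact ⟨⟨0, hp'.pos⟩, by rw [e, pow_zero, map_one]⟩
    obtain ⟨U, hU, hWU, hmem⟩ := hspace x e
    have hdim : Module.finrank (ZMod 2) ↥(U₀ ⊔ U) ≤ 4 := by
      have h1 := Submodule.finrank_sup_add_finrank_inf_eq U₀ U
      have h2 : Module.finrank (ZMod 2) W ≤ Module.finrank (ZMod 2) ↥(U₀ ⊓ U) :=
        Submodule.finrank_mono (le_inf hWU₀ hWU)
      have := h.rank
      rw [← hW] at this
      omega
    obtain ⟨j, hj, e'⟩ := (cyclic_step hp5 hP (U₀ ⊔ U) hdim (huP x₀) (huP x)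
      (fun v => Submodule.mem_sup_left (hmem₀ v)) (fun v => Submodule.mem_sup_right (hmem v))).2.2 hx₀
    exact ⟨⟨j, hj⟩, e'⟩
  choose φ hφ using hkey
  exact ⟨φ, fun a c e => hsame a c ((hφ a).trans ((congrArg (fun j : Fin p => ρ (u x₀ ^ (j : ℕ))) e).trans (hφ c).symm))⟩

end CfsgLib.Pairs.SmallComm
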