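import Cfsg.Prelude.Def_Transfer
import Cfsg.Prelude.Def_CaseTheorems
import Cfsg.Agent.Lib.Pairs.SmallCommutator
import Cfsg.Agent.Lib.OddLocal.RankThree
import Cfsg.Agent.Lib.OddLocal.RankTwoSolvable
import Cfsg.Agent.Lib.Core.Hall
import Cfsg.Agent.S1450

/-!
A cyclic `3`-group with a four-group as commutator with a normal elementary abelian `2`-group, in a solvable group
with an elementary abelian subgroup of order `p³`.
-/

set_option autoImplicit false
set_option linter.style.haveILetI false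
set_option linter.unusedSectionVars false

namespace CfsgLib.Pairs.SmallComm

open Subgroup
open scoped commutatorElement Pointwise

variable {S : Type*} [Group S] [Finite S]

/-- counting with a map to a small set -/
theorem card_le_of_fibres {F C : Subgroup S} {n : ℕ} (φ : F → Fin n)
    (h : ∀ a c, φ a = φ c → (a : S)⁻¹ * c ∈ C) : Nat.card F ≤ n * Nat.card (F ⊓ C : Subgroup S) := by
  classical
  by_cases hn : ∃ a : F, True
  swap
  · exact absurd ⟨1, trivial⟩ hn
  let rep : Fin n → F := fun i => if hi : ∃ a, φ a = i then hi.choose else 1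
  have hrep : ∀ a, φ (rep (φ a)) = φ a := fun a => by
    simp only [rep, dif_pos (show ∃ c, φ c = φ a from ⟨a, rfl⟩)]
    exact (show ∃ c, φ c = φ a from ⟨a, rfl⟩).choose_spec
  let g : F → Fin n × (F ⊓ C : Subgroup S) := fun a =>
    (φ a, ⟨((rep (φ a) : F) : S)⁻¹ * a, mem_inf.2 ⟨mul_mem (inv_mem (rep (φ a)).2) a.2, h _ _ (hrep a)⟩⟩)
  have hg : Function.Injective g := by
    intro a c e
    have e1 : φ a = φ c := congrArg Prod.fst e
    have e2 : ((rep (φ a) : F) : S)⁻¹ * a = ((rep (φ c) : F) : S)⁻¹ * c :=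
      congrArg (fun x : Fin n × (F ⊓ C : Subgroup S) => (x.2 : S)) e
    rw [e1] at e2
    exact Subtype.ext (mul_left_cancel e2)
  refine (Nat.card_le_card_of_injective g hg).trans ?_
  rw [Nat.card_prod, Nat.card_fin]

theorem conj_comm {A : Subgroup S} (hA : IsMulCommutative A) {g x y : S} (hx : x ∈ MulAut.conj g • A)
    (hy : y ∈ MulAut.conj g • A) : x * y = y * x := by
  rw [CfsgLib.Core.mem_conj_smul_iff] at hx hy
  have e : (g⁻¹ * x * g) * (g⁻¹ * y * g) = (g⁻¹ * y * g) * (g⁻¹ * x * g) :=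
    congrArg Subtype.val (hA.is_comm.comm ⟨_, hx⟩ ⟨_, hy⟩)
  calc x * y = g * ((g⁻¹ * x * g) * (g⁻¹ * y * g)) * g⁻¹ := by group
    _ = g * ((g⁻¹ * y * g) * (g⁻¹ * x * g)) * g⁻¹ := by rw [e]
    _ = y * x := by group

theorem conj_pow_eq_one {A : Subgroup S} {n : ℕ} (hA : ∀ a ∈ A, a ^ n = 1) {g x : S}
    (hx : x ∈ MulAut.conj g • A) : x ^ n = 1 := by
  rw [CfsgLib.Core.mem_conj_smul_iff] at hx
  have e : x = g * (g⁻¹ * x * g) * g⁻¹ := by group
  rw [e, conj_pow, hA _ hx, mul_one, mul_inv_cancel]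

theorem not_cyclic_of_card {r : ℕ} {D : Subgroup S} (hr : r.Prime) (hexp : ∀ x ∈ D, x ^ r = 1)
    (hcard : r < Nat.card D) : ¬ IsCyclic D := by
  intro hc
  obtain ⟨g, hg⟩ := hc.exists_generator
  have h1 : orderOf g ∣ r := orderOf_dvd_of_pow_eq_one (Subtype.ext (hexp g g.2))
  rw [orderOf_eq_card_of_forall_mem_zpowers hg] at h1
  exact absurd (Nat.le_of_dvd hr.pos h1) (by omega)

theorem main [Group.IsSolvable S] (M : Subgroup S) [M.Normal] (hM : Cfsg.IsElementaryAbelian 2 M)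
    (p : ℕ) (hp : p.Prime) (hp2 : p ≠ 2) (E : Subgroup S) (hE : Cfsg.IsElementaryAbelian p E)
    (hE3 : Nat.card E = p ^ 3) (Q : Subgroup S) (hQc : IsCyclic Q) (hQ3 : IsPGroup 3 Q)
    (hQ1 : ∀ x ∈ Q, x ^ 3 ∈ centralizer (M : Set S)) (hQM : Nat.card ↥⁅Q, M⁆ = 4) :
    ∃ (r : ℕ) (F : Subgroup S), r.Prime ∧ r ≠ 2 ∧ Cfsg.IsElementaryAbelian r F ∧ Nat.card F = r ^ 3 ∧
      ¬ IsCyclic ↥(F ⊓ centralizer ((⁅Q, M⁆ : Subgroup S) : Set S)) := by
  classical
  letI : CommGroup M :=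
    { (inferInstance : Group M) with mul_comm := fun a c => hM.1.is_comm.comm a c }
  letI : Module (ZMod 2) (Additive M) := AddCommGroup.zmodModule fun x => by
    rw [two_nsmul]
    refine Additive.toMul.injective ?_
    show x.toMul * x.toMul = 1
    rw [← pow_two]
    exact Subtype.ext (hM.2 _ x.toMul.2)
  have hn : ∀ (g : S) (x : M), g * x * g⁻¹ ∈ M := fun g x => Normal.conj_mem inferInstance (x : S) x.2 g
  let cj : S → M →* M := fun g =>
    { toFun := fun x => ⟨g * x * g⁻¹, hn g x⟩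
      map_one' := Subtype.ext (by show g * 1 * g⁻¹ = 1; group)
      map_mul' := fun x y => Subtype.ext (by show g * (x * y) * g⁻¹ = g * x * g⁻¹ * (g * y * g⁻¹); group) }
  let ρ : Representation (ZMod 2) S (Additive M) :=
    { toFun := fun g => (MonoidHom.toAdditive (cj g)).toZModLinearMap 2
      map_one' := LinearMap.ext fun x => by
        refine Additive.toMul.injective (Subtype.ext ?_)
        show (1 : S) * (x.toMul : S) * 1⁻¹ = x.toMul
        group
      map_mul' := fun g k => LinearMap.ext fun x => by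
        refine Additive.toMul.injective (Subtype.ext ?_)
        show g * k * (x.toMul : S) * (g * k)⁻¹ = g * (k * x.toMul * k⁻¹) * g⁻¹
        group }
  let ι : Additive M → S := fun x => (x.toMul : S)
  have hι : Function.Injective ι := fun x y e => Additive.toMul.injective (Subtype.ext e)
  have hρ : ∀ g x, ι (ρ g x) = g * ι x * g⁻¹ := fun _ _ => rfl
  have hιadd : ∀ x y, ι (x + y) = ι x * ι y := fun _ _ => rfl
  have hιsub : ∀ x y, ι (x - y) = ι x * (ι y)⁻¹ := fun x y => by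
    rw [sub_eq_add_neg]; rfl
  obtain ⟨⟨q, hq⟩, hqgen⟩ := IsCyclic.exists_generator (α := Q)
  set W := LinearMap.range (ρ q - 1) with hW
  -- the commutator subgroup is the commutator space
  let Wg : Subgroup S :=
    { carrier := {s | ∃ v ∈ W, ι v = s}
      one_mem' := ⟨0, zero_mem W, rfl⟩
      mul_mem' := fun {a c} ha hc => by
        obtain ⟨v, hv, rfl⟩ := ha
        obtain ⟨w, hw, rfl⟩ := hc
        exact ⟨v + w, add_mem hv hw, hιadd v w⟩
      inv_mem' := fun {a} ha => by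
        obtain ⟨v, hv, rfl⟩ := ha
        exact ⟨-v, neg_mem hv, rfl⟩ }
  have hWg : ⁅Q, M⁆ = Wg := by
    refine le_antisymm ?_ ?_
    · rw [commutator_le]
      intro a ha m hm
      obtain ⟨n, hn'⟩ : ∃ n : ℕ, q ^ n = a := by
        obtain ⟨n, hn'⟩ := ((isOfFinOrder_of_finite (⟨q, hq⟩ : Q)).mem_powers_iff_mem_zpowers).2 (hqgen ⟨a, ha⟩)
        exact ⟨n, congrArg Subtype.val hn'⟩
      have hmem : ∀ (n : ℕ) v, ρ (q ^ n) v - v ∈ W := by
        intro n
        induction n with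
        | zero => intro v; rw [pow_zero, rep_one, sub_self]; exact zero_mem W
        | succ n ih =>
          intro v
          rw [pow_succ', ← rep_mul, ← sub_add_sub_cancel _ (ρ (q ^ n) v)]
          exact add_mem mem_W (ih v)
      refine ⟨_, hmem n (Additive.ofMul ⟨m, hm⟩), ?_⟩
      rw [hιsub, hρ, hn', commutatorElement_def]
      rfl
    · rintro _ ⟨_, ⟨v, rfl⟩, rfl⟩
      rw [LinearMap.sub_apply, Module.End.one_apply, hιsub, hρ, ← commutatorElement_def]
      exact commutator_mem_commutator hq (v.toMul : M).2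
  have hsmall : Small ρ q := by
    constructor
    · refine LinearMap.ext fun v => hι ?_
      show ι (ρ q (ρ q (ρ q v))) = ι v
      rw [hρ, hρ, hρ]
      have hc := mem_centralizer_iff.1 (hQ1 q hq) (ι v) (v.toMul : M).2
      calc q * (q * (q * ι v * q⁻¹) * q⁻¹) * q⁻¹ = q ^ 3 * ι v * (q ^ 3)⁻¹ := by rw [pow_succ, pow_two]; group
        _ = ι v := by rw [← hc, mul_inv_cancel_right]
    · have h4 : Nat.card W = 4 := by
        rw [← hQM, hWg]
        exact Nat.card_congr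
          (Equiv.ofBijective (fun v : W => (⟨ι v, v, v.2, rfl⟩ : Wg))
            ⟨fun v w e => Subtype.ext (hι (congrArg (fun s : Wg => (s : S)) e)),
              fun ⟨s, v, hv, e⟩ => ⟨⟨v, hv⟩, Subtype.ext e⟩⟩)
      rw [Module.natCard_eq_pow_finrank (K := ZMod 2), Nat.card_zmod] at h4
      exact Nat.pow_right_injective (le_refl 2) (h4.trans (by norm_num : (4 : ℕ) = 2 ^ 2))
  have hcen : ∀ g : S, (∀ w ∈ W, ρ g w = w) → g ∈ centralizer ((⁅Q, M⁆ : Subgroup S) : Set S) := by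
    intro g hg
    rw [hWg, mem_centralizer_iff]
    rintro _ ⟨v, hv, rfl⟩
    have := congrArg ι (hg v hv)
    rw [hρ] at this
    exact (mul_inv_eq_iff_eq_mul.1 this).symm
  have hfinal : ∀ {r : ℕ} {F : Subgroup S}, r.Prime → r ≠ 2 → Cfsg.IsElementaryAbelian r F → Nat.card F = r ^ 3 →
      ∀ φ : F → Fin r, (∀ a c, φ a = φ c → ∀ w ∈ W, ρ ((a : S)⁻¹ * c) w = w) →
      ∃ (r : ℕ) (F : Subgroup S), r.Prime ∧ r ≠ 2 ∧ Cfsg.IsElementaryAbelian r F ∧ Nat.card F = r ^ 3 ∧
        ¬ IsCyclic ↥(F ⊓ centralizer ((⁅Q, M⁆ : Subgroup S) : Set S)) := by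
    intro r F hr hr2 hF hF3 φ hφ
    refine ⟨r, F, hr, hr2, hF, hF3, not_cyclic_of_card hr (fun x hx => hF.2 x (mem_inf.1 hx).1) ?_⟩
    have hle := card_le_of_fibres φ fun a c e => hcen _ (hφ a c e)
    rw [hF3] at hle
    by_contra hge
    have h1 : r ^ 3 ≤ r * r := hle.trans (Nat.mul_le_mul_left r (not_lt.1 hge))
    have h2 : r ^ 2 < r ^ 3 := Nat.pow_lt_pow_right hr.one_lt (by norm_num)
    rw [pow_two] at h2
    omega
  haveI : Fact (Nat.Prime 3) := ⟨Nat.prime_three⟩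
  have hqn : ∀ {K : Subgroup S} {P₃ : Subgroup S} (hK : K ≤ P₃), (K.subgroupOf P₃).Normal → q ∈ P₃ →
      ∀ f ∈ K, q * f * q⁻¹ ∈ K := fun {K P₃} hK hKn hqP f hf =>
    mem_subgroupOf.1 (hKn.conj_mem ⟨f, hK hf⟩ (mem_subgroupOf.2 hf) ⟨q, hqP⟩)
  by_cases h3 : Cfsg.PRankLE 3 2 S
  swap
  · -- a normal elementary subgroup of order `27` in a Sylow `3`-subgroup
    obtain ⟨P₃, hP₃⟩ := hQ3.exists_le_sylow
    have hrk : ¬ Cfsg.PRankLE 3 2 (P₃ : Subgroup S) := by
      intro hle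
      refine h3 fun A hA hAe => ?_
      have hA3 : IsPGroup 3 A := fun a => ⟨1, Subtype.ext (by rw [pow_one]; exact hAe a a.2)⟩
      obtain ⟨P', hP'⟩ := hA3.exists_le_sylow
      obtain ⟨g, hg⟩ := MulAction.exists_smul_eq S P' P₃
      have hle' : MulAut.conj g • A ≤ (P₃ : Subgroup S) := by
        rw [← hg, Sylow.coe_subgroup_smul]
        exact pointwise_smul_le_pointwise_smul_iff.2 hP'
      have h1 := hle ((MulAut.conj g • A).subgroupOf P₃)
        ⟨⟨fun x y => Subtype.ext (Subtype.ext (conj_comm hA (mem_subgroupOf.1 x.2) (mem_subgroupOf.1 y.2)))⟩⟩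
        (fun x hx => Subtype.ext (conj_pow_eq_one hAe (mem_subgroupOf.1 hx)))
      rw [Nat.card_congr (subgroupOfEquivOfLe hle').toEquiv] at h1
      rwa [Nat.card_congr (Subgroup.equivSMul (MulAut.conj g) A).toEquiv]
    obtain ⟨B, hBn, hB, hB3⟩ := CfsgLib.OddLocal.RankThree.exists_normal_cube (p := 3) (by norm_num) P₃.2 hrk
    set F := B.map (P₃ : Subgroup S).subtype with hFdef
    have hF : Cfsg.IsElementaryAbelian 3 F := by
      refine ⟨⟨⟨fun a c => Subtype.ext ?_⟩⟩, ?_⟩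
      · obtain ⟨a', ha', ea⟩ := a.2
        obtain ⟨c', hc', ec⟩ := c.2
        show (a : S) * c = c * a
        rw [← ea, ← ec]
        exact congrArg (fun x : B => ((x : (P₃ : Subgroup S)) : S)) (hB.1.is_comm.comm ⟨a', ha'⟩ ⟨c', hc'⟩)
      · rintro _ ⟨x, hx, rfl⟩
        exact congrArg Subtype.val (hB.2 x hx)
    have hF3 : Nat.card F = 3 ^ 3 := by
      rw [← Nat.card_congr (B.equivMapOfInjective _ (P₃ : Subgroup S).subtype_injective).toEquiv, hB3]
    have hFn : (F.subgroupOf (P₃ : Subgroup S)).Normal := by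
      show ((B.map (P₃ : Subgroup S).subtype).comap (P₃ : Subgroup S).subtype).Normal
      rwa [comap_map_eq_self_of_injective (P₃ : Subgroup S).subtype_injective]
    obtain ⟨φ, hφ⟩ := hsmall.abelian_bound (F := F) (fun f hf => by rw [← hF.2 f hf, pow_succ, pow_two])
      (fun a ha c hc => congrArg Subtype.val (hF.1.is_comm.comm ⟨a, ha⟩ ⟨c, hc⟩))
      (hqn (map_subtype_le B) hFn (hP₃ hq))
    exact hfinal Nat.prime_three (by norm_num) hF hF3 φ hφ
  -- now `p ≥ 5`
  have hp3 : p ≠ 3 := by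
    rintro rfl
    have := h3 E hE.1 hE.2
    rw [hE3] at this
    norm_num at this
  haveI := Fact.mk hp
  have hp5 : 5 ≤ p := by
    have := hp.two_le
    have : p ≠ 4 := fun e => by subst e; norm_num at hp
    omega
  obtain ⟨H, hH, hQH⟩ := CfsgLib.Core.exists_piHall_ge (π := ({3, p} : Set ℕ)) (K := Q) fun l hl hd => by
    obtain ⟨k, hk⟩ := IsPGroup.iff_card.1 hQ3
    rw [hk] at hd
    exact Or.inl ((Nat.prime_dvd_prime_iff_eq hl Nat.prime_three).1 (hl.dvd_of_dvd_pow hd))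
  obtain ⟨g, hg⟩ := CfsgLib.Core.exists_conj_le_piHall hH (K := E) fun l hl hd => by
    rw [hE3] at hd
    exact Or.inr ((Nat.prime_dvd_prime_iff_eq hl hp).1 (hl.dvd_of_dvd_pow hd))
  set E' := MulAut.conj g • E with hE'
  have hE'3 : Nat.card E' = p ^ 3 := by
    rw [hE', ← Nat.card_congr (Subgroup.equivSMul (MulAut.conj g) E).toEquiv, hE3]
  have hE'e : Cfsg.IsElementaryAbelian p E' := by
    exact ⟨⟨⟨fun x y => Subtype.ext (conj_comm hE.1 x.2 y.2)⟩⟩, fun x hx => conj_pow_eq_one hE.2 hx⟩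
  have hodd : Odd (Nat.card H) := by
    rw [Nat.odd_iff, ← Nat.two_dvd_ne_zero]
    intro h2
    rcases hH.1 2 Nat.prime_two h2 with e | e
    · norm_num at e
    · exact hp2 (Set.mem_singleton_iff.1 e).symm
  have hQne : Q ≠ ⊥ := by
    rintro rfl
    rw [commutator_bot_left, card_bot] at hQM
    norm_num at hQM
  have h3H : 3 ∣ Nat.card H := by
    obtain ⟨k, hk⟩ := IsPGroup.iff_card.1 hQ3
    refine (dvd_trans ?_ (card_dvd_of_le hQH))
    rw [hk]
    exact dvd_pow_self 3 fun e => hQne (card_eq_one.1 (by rw [hk, e, pow_zero]))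
  have hrkH : Cfsg.PRankLE 3 2 H := by
    intro A hA hAe
    haveI := hA
    have h1 := h3 (A.map H.subtype) inferInstance (by
      rintro _ ⟨a, ha, rfl⟩
      rw [← map_pow, hAe a ha, map_one])
    rwa [← Nat.card_congr (A.equivMapOfInjective _ H.subtype_injective).toEquiv] at h1
  obtain ⟨P₃, N, hNn, hNc⟩ := (Cfsg.Agent.S1450.result (G := H) hodd 3 h3H hrkH).2.1 (Or.inl rfl)
  have hcopN : (Nat.card N).Coprime 3 := by
    have h1 := hNc.card_mul
    have h2 : ¬ 3 ∣ (P₃ : Subgroup H).index := P₃.not_dvd_index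
    have h3' : (P₃ : Subgroup H).index = Nat.card N := by
      refine Nat.eq_of_mul_eq_mul_left (Nat.card_pos (α := (P₃ : Subgroup H))) ?_
      rw [card_mul_index, mul_comm, h1]
    rw [h3'] at h2
    exact ((Nat.prime_three.coprime_iff_not_dvd).2 h2).symm
  have hNp : IsPGroup p N := by
    refine IsPGroup.of_card (Nat.eq_prime_pow_of_unique_prime_dvd (p := p) Nat.card_pos.ne' fun {l} hl hd => ?_)
    rcases hH.1 l hl (hd.trans N.card_subgroup_dvd_card) with e | e
    · subst e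
      exact absurd hd (Nat.prime_three.coprime_iff_not_dvd.1 hcopN.symm)
    · exact e
  have hEN : E'.subgroupOf H ≤ N := by
    intro x hx
    have hxp : x ^ p = 1 := Subtype.ext (hE'e.2 _ (mem_subgroupOf.1 hx))
    obtain ⟨k, hk⟩ := IsPGroup.iff_card.1 P₃.2
    have hidx : N.index = 3 ^ k := by
      refine Nat.eq_of_mul_eq_mul_left (Nat.card_pos (α := N)) ?_
      rw [card_mul_index, ← hk, hNc.card_mul]
    have d1 : orderOf (QuotientGroup.mk' N x) ∣ 3 ^ k := by
      rw [← hidx]; exact _root_.orderOf_dvd_natCard _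
    have d2 : orderOf (QuotientGroup.mk' N x) ∣ p := (orderOf_map_dvd _ x).trans (orderOf_dvd_of_pow_eq_one hxp)
    have hco : Nat.Coprime (3 ^ k) p := ((Nat.coprime_primes Nat.prime_three hp).2 (Ne.symm hp3)).pow_left k
    exact (QuotientGroup.eq_one_iff x).1 (orderOf_eq_one_iff.1 (Nat.eq_one_of_dvd_coprimes hco d1 d2))
  set P := N.map H.subtype with hPdef
  have hEP : E' ≤ P := fun x hx => ⟨⟨x, hg hx⟩, hEN (mem_subgroupOf.2 hx), rfl⟩
  obtain ⟨φ, hφ⟩ := hsmall.pgroup_bound hp5 (hNp.map H.subtype) (by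
    rintro _ ⟨y, hy, rfl⟩
    exact ⟨⟨q, hQH hq⟩ * y * ⟨q, hQH hq⟩⁻¹, hNn.conj_mem y hy _, rfl⟩)
  exact hfinal hp hp2 hE'e hE'3 (fun a => φ ⟨a, hEP a.2⟩) fun a c e => hφ ⟨a, hEP a.2⟩ ⟨c, hEP c.2⟩ e

end CfsgLib.Pairs.SmallComm
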