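import Cfsg.Agent.Lib.Pairs.Restrict
import Cfsg.Agent.Lib.Pairs.Basic
import Cfsg.Agent.Lib.Blocks.Covering
import Cfsg.Agent.Lib.Blocks.Union
import Cfsg.Agent.Lib.CharAction.DefectCount

/-!
# A stable block of a normal subgroup of `p`-power index
-/

namespace CfsgLib.Pairs

open Cfsg CfsgLib.Blocks MonoidAlgebra

variable {G : Type*} [Group G] [Fintype G] {M : Ideal AlgInt} [M.IsPrime] {p : ℕ}
  {N : Subgroup G} [N.Normal] [Fintype N] {k : ℕ} {c : Set (IrrCharacter N)}

omit [Fintype G] [Fintype N] in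
theorem blockCoeff_eq_of_conj (hc : IsPBlock M c) [Finite G] {x : G}
    (hst : StabilizesBlock N c x) (u : N) :
    blockCoeff c (MulAut.conjNormal x u) = blockCoeff c u := by
  obtain ⟨hx, hx'⟩ := stabilizesBlock_iff.1 hst
  have := blockCoeff_conjSelf hx c u (MulAut.conjNormal x u) rfl
  rwa [hx'] at this

theorem centralCharBar_conj_of_stable (hc : IsPBlock M c) {x : G} (hst : StabilizesBlock N c x)
    {θ : IrrCharacter N} (hθ : θ ∈ c) (u : N) :
    centralCharBar M θ (MulAut.conjNormal x u) = centralCharBar M θ u := by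
  obtain ⟨hx, hx'⟩ := stabilizesBlock_iff.1 hst
  let φ := conjEquiv N N x (mem_normalizer_conj hx)
  have hφ : mapIrr φ.symm θ ∈ c := by
    rw [← hx']
    exact ⟨θ, hθ, rfl⟩
  rw [← sameBlock_iff.1 (IsPBlock.sameBlock hc hφ hθ) (MulAut.conjNormal x u)]
  refine congrArg (resHom M) (Subtype.ext ?_)
  show centralChar (mapIrr φ.symm θ : N → ℂ) (φ u) = centralChar (θ : N → ℂ) u
  rw [centralChar_mapIrr, MulEquiv.symm_apply_apply]

variable (hM : IsPModular p M) (hidx : N.index = p ^ k) (hc : IsPBlock M c)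
  (hst : ∀ x : G, StabilizesBlock N c x)
include hM hidx hc hst

theorem exists_block_of_stable :
    ∃ B : Set (IrrCharacter G), IsPBlock M B ∧
      ∀ g : G, blockCoeff B g = subgroupBlockCoeff N c g := by
  classical
  set a := inclElt N (blockIdemO M c) with ha
  have hca : IsCentralElt a := fun g t =>
    invUnder_blockIdemO_incl hc (P := ⊤) (fun u _ => hst u) t (Subgroup.mem_top _) g
  have haa : a * a = a := by rw [ha, ← map_mul, blockIdemO_mul_self hc]
  let A : Set (IrrCharacter G) := {χ | omega (χ : G → ℂ) (inc M a) = 1}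
  have hidem : ∀ χ : IrrCharacter G, omega (χ : G → ℂ) (inc M a) = 0 ∨
      omega (χ : G → ℂ) (inc M a) = 1 := fun χ => by
    have h := omega_mul χ (a := inc M a) (isCentralElt_inc hca) (inc M a)
    rw [← map_mul, haa] at h
    exact (mul_right_eq_self₀.1 h.symm).symm
  have hA : inc M a = blockIdem A := by
    refine eq_of_omega_eq (isCentralElt_inc hca) (isCentralElt_blockIdem A) fun χ => ?_
    rw [omega_blockIdem]
    split_ifs with h
    · exact h
    · exact (hidem χ).resolve_right h
  have hcoef : ∀ g, blockCoeff A g = subgroupBlockCoeff N c g := fun g => by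
    rw [subgroupBlockCoeff_eq hc, ← coeff_blockIdem, ← hA, coeff_inc]
    congr!
  have hmem : ∀ g, blockCoeff A g ∈ localRing M := fun g => by
    rw [hcoef, subgroupBlockCoeff_eq hc]
    exact SetLike.coe_mem _
  have hne : A.Nonempty := by
    rw [Set.nonempty_iff_ne_empty]
    intro h
    obtain ⟨θ, hθ⟩ := IsPBlock.nonempty hc
    rw [h, blockIdem_empty] at hA
    have h1 : blockIdemBar M c = 0 := by
      rw [blockIdemBar, ← resElt_inclElt N (blockIdemO M c), ← ha,
        inc_injective (hA.trans (map_zero _).symm)]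
      ext u
      simp
    have h2 := omegaBar_blockIdemBar (M := M) hc θ
    rw [h1, omegaBar_zero, if_pos hθ] at h2
    exact zero_ne_one h2
  -- constituents of the members lie in `c`
  have hcons : ∀ χ ∈ A, ∀ θ : IrrCharacter N,
      classInner (fun n : N => (χ : G → ℂ) n) (θ : N → ℂ) ≠ 0 → θ ∈ c := by
    intro χ hχ θ hθ
    have h1 : omegaBar χ (red M a) = 1 := by
      rw [omegaBar_red χ hca, ← map_one (resHom M)]
      exact congrArg (resHom M) (Subtype.ext hχ)
    rw [omegaBar_eq_omegaBar_resElt N hθ (isCentralElt_red hca) fun g hg => by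
      rw [coeff_red, ha, coeff_inclElt_of_notMem N _ hg, map_zero]] at h1
    rw [ha, red_inclElt, resElt_inclElt] at h1
    rw [show red M (blockIdemO M c) = blockIdemBar M c from rfl, omegaBar_blockIdemBar hc] at h1
    by_contra h
    rw [if_neg h] at h1
    exact zero_ne_one h1
  obtain ⟨χ, hχ⟩ := hne
  have hblock : A = blockOf M (χ : G → ℂ) := by
    ext ψ
    refine ⟨fun hψ => ?_, fun h => mem_of_sameBlock_of_blockCoeff_mem hmem hχ h⟩
    obtain ⟨θ, hθ⟩ := exists_constituent N χ
    obtain ⟨θ', hθ'⟩ := exists_constituent N ψ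
    exact sameBlock_of_constituent N hM hidx hθ hθ'
      (IsPBlock.sameBlock hc (hcons χ hχ θ hθ) (hcons ψ hψ θ' hθ'))
  exact ⟨A, hblock ▸ isPBlock_blockOf χ, hcoef⟩

variable [Fact p.Prime]

theorem defectGroup_of_stable {B : Set (IrrCharacter G)} (hB : IsPBlock M B)
    (hBc : ∀ g : G, blockCoeff B g = subgroupBlockCoeff N c g) {P : Subgroup G}
    (hP : IsDefectGroup p M B P) :
    N ⊔ P = ⊤ ∧ IsDefectGroup p M c ((P ⊓ N).subgroupOf N) := by
  classical
  have := charP_residueField hM
  obtain ⟨g, hg, hle, hs⟩ := isDefectGroup_iff.1 hP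
  have hPp := IsDefectGroup.isPGroup hP
  have hgN : g ∈ N := by
    by_contra h
    refine hg.2.1 ?_
    rw [hBc]
    unfold subgroupBlockCoeff
    rw [dif_neg h]
    exact ⟨0, 1, M.zero_mem, one_notMem, by simp⟩
  obtain ⟨χ, hχ⟩ := IsPBlock.nonempty hB
  obtain ⟨θ, hθ⟩ := exists_constituent N χ
  have hbar : blockIdemBar M B = red M (inclElt N (blockIdemO M c)) := by
    refine congrArg (red M) (inc_injective ?_)
    refine MonoidAlgebra.ext (Finsupp.ext fun x => ?_)
    rw [inc_blockIdemO hB, coeff_blockIdem, hBc, subgroupBlockCoeff_eq hc, coeff_inc]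
    congr!
  have hθc : θ ∈ c := by
    have h1 := omegaBar_blockIdemBar (M := M) hB χ
    rw [if_pos hχ, omegaBar_eq_omegaBar_resElt N hθ (isCentralElt_blockIdemBar hB) fun x hx => by
      rw [hbar, coeff_red, coeff_inclElt_of_notMem N _ hx, map_zero], hbar, red_inclElt,
      resElt_inclElt, show red M (blockIdemO M c) = blockIdemBar M c from rfl,
      omegaBar_blockIdemBar hc] at h1
    by_contra h
    rw [if_neg h] at h1
    exact zero_ne_one h1
  set u : N := ⟨g, hgN⟩
  let act : MulAction G (ConjClasses N) :=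
    { smul := fun x C => ConjClasses.map (MulAut.conjNormal x).toMonoidHom C
      one_smul := fun C => by
        obtain ⟨v, rfl⟩ := ConjClasses.mk_surjective C
        exact congrArg ConjClasses.mk (Subtype.ext (by simp))
      mul_smul := fun x y C => by
        obtain ⟨v, rfl⟩ := ConjClasses.mk_surjective C
        exact congrArg ConjClasses.mk (Subtype.ext (by simp [mul_assoc])) }
  set O := MulAction.orbit G (ConjClasses.mk u)
  have hO : ∀ v : N, ConjClasses.mk v ∈ O ↔ IsConj g (v : G) := by
    intro v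
    constructor
    · rintro ⟨x, hx⟩
      obtain ⟨n, hn⟩ := isConj_iff.1 (ConjClasses.mk_eq_mk_iff_isConj.1 hx)
      refine isConj_iff.2 ⟨(n : G) * x, ?_⟩
      rw [← hn]
      show (n : G) * x * g * ((n : G) * x)⁻¹ = (n : G) * (x * g * x⁻¹) * (n : G)⁻¹
      group
    · intro h
      obtain ⟨x, hx⟩ := isConj_iff.1 h
      exact ⟨x, congrArg ConjClasses.mk (Subtype.ext hx)⟩
  have hval : omegaBar θ (resElt N (classSum (Res M) g)) =
      (Nat.card O : Res M) * centralCharBar M θ u := by
    have key : ∀ C : ConjClasses N, (resElt N (classSum (Res M) g)).coeff (Quotient.out C) *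
        centralCharBar M θ (Quotient.out C) = if C ∈ O then centralCharBar M θ u else 0 := by
      intro C
      have hC : ConjClasses.mk (Quotient.out C) = C := Quotient.out_eq C
      rw [coeff_resElt, coeff_classSum]
      by_cases h : C ∈ O
      · rw [if_pos h, if_pos ((hO _).1 (by rwa [hC])), one_mul]
        obtain ⟨x, hx⟩ := h
        rw [← hC] at hx
        rw [← CfsgLib.CharAction.centralCharBar_of_isConj θ (ConjClasses.mk_eq_mk_iff_isConj.1 hx)]
        exact centralCharBar_conj_of_stable hc (hst x) hθc u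
      · rw [if_neg h, if_neg fun h' => h (hC ▸ (hO _).2 h'), zero_mul]
    unfold omegaBar
    rw [Finset.sum_congr rfl fun C _ => key C, ← Finset.sum_filter, Finset.sum_const, nsmul_eq_mul,
      Nat.card_eq_fintype_card, ← Set.toFinset_card]
    congr 3
    ext C
    simp
  have hw := IsDefectClass.centralCharBar_ne_zero hg hχ
  rw [← omegaBar_classSum, omegaBar_eq_omegaBar_resElt N hθ (isCentralElt_classSum _ g) fun x hx => by
    rw [coeff_classSum, if_neg]
    intro h
    obtain ⟨y, hy⟩ := isConj_iff.1 h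
    exact hx (hy ▸ Subgroup.Normal.conj_mem ‹_› g hgN y), hval] at hw
  have hcard : Nat.card O = 1 := by
    have h1 : Nat.card O = (MulAction.stabilizer G (ConjClasses.mk u)).index :=
      (Nat.card_congr (MulAction.orbitEquivQuotientStabilizer G (ConjClasses.mk u)))
    have h2 : N ≤ MulAction.stabilizer G (ConjClasses.mk u) := fun n hn =>
      ConjClasses.mk_eq_mk_iff_isConj.2
        (isConj_iff.2 ⟨(⟨n, hn⟩ : N)⁻¹, Subtype.ext (by simp [mul_assoc, u])⟩)
    obtain ⟨j, -, hj⟩ := (Nat.dvd_prime_pow (Fact.out : p.Prime)).1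
      (hidx ▸ Subgroup.index_dvd_of_le h2)
    rcases Nat.eq_zero_or_pos j with rfl | hj0
    · rw [h1, hj, pow_zero]
    · exfalso
      apply left_ne_zero_of_mul hw
      rw [h1, hj, Nat.cast_pow, CharP.cast_eq_zero, zero_pow hj0.ne']
  have hgen : ∀ x : G, ∃ n ∈ N, ∃ z ∈ Subgroup.centralizer ({g} : Set G), n * z = x := by
    intro x
    obtain ⟨C₀, hC₀⟩ := Nat.card_eq_one_iff_exists.1 hcard
    have e : (x • ConjClasses.mk u : ConjClasses N) = ConjClasses.mk u :=
      congrArg Subtype.val ((hC₀ ⟨_, MulAction.mem_orbit _ x⟩).trans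
        (hC₀ ⟨_, MulAction.mem_orbit_self _⟩).symm)
    obtain ⟨n, hn⟩ := isConj_iff.1 (ConjClasses.mk_eq_mk_iff_isConj.1 e)
    refine ⟨(n : G)⁻¹, inv_mem n.2, n * x, ?_, inv_mul_cancel_left _ _⟩
    rw [Subgroup.mem_centralizer_singleton_iff]
    have h2 : (n : G) * (x * g * x⁻¹) * (n : G)⁻¹ = g := congrArg Subtype.val hn
    calc (n : G) * x * g = ((n : G) * (x * g * x⁻¹) * (n : G)⁻¹) * ((n : G) * x) := by group
      _ = g * ((n : G) * x) := by rw [h2]
  constructor
  · let f : Subgroup.centralizer ({g} : Set G) →* G ⧸ N :=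
      (QuotientGroup.mk' N).comp (Subgroup.centralizer ({g} : Set G)).subtype
    have hf : Function.Surjective f := by
      intro q
      obtain ⟨x, rfl⟩ := QuotientGroup.mk_surjective q
      obtain ⟨n, hn, z, hz, rfl⟩ := hgen x
      refine ⟨⟨z, hz⟩, ?_⟩
      show (z : G ⧸ N) = ((n * z : G) : G ⧸ N)
      rw [QuotientGroup.mk_mul, (QuotientGroup.eq_one_iff n).2 hn, one_mul]
    obtain ⟨R, hR⟩ := hs
    have hGN : IsPGroup p (G ⧸ N) := IsPGroup.of_card (n := k) hidx
    have htop : ((R.mapSurjective hf : Sylow p (G ⧸ N)) : Subgroup (G ⧸ N)) = ⊤ :=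
      ((R.mapSurjective hf).is_maximal' (hGN.to_subgroup ⊤) le_top).symm
    rw [Sylow.coe_mapSurjective, hR, ← Subgroup.map_map,
      Subgroup.map_subgroupOf_eq_of_le hle] at htop
    have h4 := Subgroup.comap_map_eq (QuotientGroup.mk' N) P
    rw [htop, Subgroup.comap_top, QuotientGroup.ker_mk', sup_comm] at h4
    exact h4.symm
  · refine isDefectGroup_iff.2 ⟨u, ⟨blockCoeff_mem hc u, ?_, fun θ' hθ' => ?_⟩, fun v hv => ?_, ?_⟩
    · have := hg.2.1
      rw [hBc] at this
      unfold subgroupBlockCoeff at this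
      rwa [dif_pos hgN] at this
    · rw [← centralCharBar_eq_zero_iff, sameBlock_iff.1 (IsPBlock.sameBlock hc hθ' hθc)]
      exact right_ne_zero_of_mul hw
    · rw [Subgroup.mem_centralizer_singleton_iff]
      exact Subtype.ext (Subgroup.mem_centralizer_singleton_iff.1 (hle hv.1))
    · set Cu := Subgroup.centralizer ({u} : Set N)
      obtain ⟨T, hDT, hTC, hTp, hT⟩ := CfsgLib.Fusion.exists_isSylowIn_ge (p := p)
        (X := (P ⊓ N).subgroupOf N) (K := Cu) (fun v hv => by
          rw [Subgroup.mem_centralizer_singleton_iff]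
          exact Subtype.ext (Subgroup.mem_centralizer_singleton_iff.1 (hle hv.1)))
        ((hPp.to_le inf_le_left).comap_of_injective _ N.subtype_injective)
      have hTg : T.map N.subtype ≤ Subgroup.centralizer ({g} : Set G) := by
        rintro _ ⟨v, hv, rfl⟩
        rw [Subgroup.mem_centralizer_singleton_iff]
        exact congrArg Subtype.val (Subgroup.mem_centralizer_singleton_iff.1 (hTC hv))
      obtain ⟨z, -, hz⟩ := hs.exists_conj_mem hTg (hTp.map _)
      have hcard : Nat.card T ≤ Nat.card ((P ⊓ N).subgroupOf N) := by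
        rw [CfsgLib.Fusion.card_subgroupOf_eq inf_le_right,
          ← Subgroup.card_map_of_injective (f := N.subtype) N.subtype_injective,
          ← card_map_conj z (T.map N.subtype)]
        refine Subgroup.card_le_of_le ?_
        rintro _ ⟨w, hw, rfl⟩
        have hwP := hz w hw
        obtain ⟨v, -, rfl⟩ := hw
        exact ⟨hwP, Subgroup.Normal.conj_mem ‹_› _ v.2 z⟩
      rwa [Subgroup.eq_of_le_of_card_ge hDT hcard]

end CfsgLib.Pairs
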