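import Cfsg.Prelude.Def_Solvable
import Cfsg.Agent.Lib.Pairs.ThinTwoGroups
import Cfsg.Agent.Lib.Core.Basic
import Cfsg.Agent.Lib.Core.Cores
import Cfsg.Agent.Lib.Core.Hall
import Cfsg.Agent.Lib.Core.SolvableStruct

/-!
Solvable groups minimal with a noncyclic abelian subgroup of order eight.
-/

set_option autoImplicit false
set_option linter.style.haveILetI false
set_option linter.unusedSectionVars false

namespace CfsgLib.Pairs.Thin

open Subgroup
open scoped commutatorElement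

variable {S : Type*} [Group S] [Finite S]

theorem not_thin_of_small_exponent {K B : Subgroup S} [IsMulCommutative B] (hK : IsPGroup 2 K) (hBK : B ≤ K)
    (h8 : 8 ≤ Nat.card B) (h4 : ∀ x ∈ B, x ^ 4 = 1) : ¬ Thin K := by
  intro h
  rcases abelian_cases (hK.to_le hBK) (h.mono hBK) with hc | ⟨hc, -⟩
  · haveI := hc
    have := card_le_of_cyclic_of_pow (show 0 < 4 by norm_num) h4
    omega
  · omega

theorem isMulCommutative_sup {B C : Subgroup S} [IsMulCommutative B] [IsMulCommutative C]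
    (h : B ≤ centralizer (C : Set S)) : IsMulCommutative ↥(B ⊔ C) := by
  refine le_centralizer_iff_isMulCommutative.1 ?_
  refine sup_le (le_centralizer_iff.1 (sup_le ?_ ?_)) (le_centralizer_iff.1 (sup_le ?_ ?_))
  · exact le_centralizer_iff_isMulCommutative.2 inferInstance
  · exact le_centralizer_iff.1 h
  · exact h
  · exact le_centralizer_iff_isMulCommutative.2 inferInstance

theorem pow_four_sup {B C : Subgroup S} [IsMulCommutative ↥(B ⊔ C)] (hB : ∀ x ∈ B, x ^ 4 = 1)
    (hC : ∀ x ∈ C, x ^ 4 = 1) : ∀ x ∈ B ⊔ C, x ^ 4 = 1 := by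
  let K : Subgroup S :=
    { carrier := {x | x ∈ B ⊔ C ∧ x ^ 4 = 1}
      one_mem' := ⟨one_mem _, one_pow 4⟩
      mul_mem' := fun {a b} ha hb => ⟨mul_mem ha.1 hb.1, by
        rw [(show Commute a b from congrArg Subtype.val
          (mul_comm' (⟨a, ha.1⟩ : ↥(B ⊔ C)) ⟨b, hb.1⟩)).mul_pow, ha.2, hb.2, one_mul]⟩
      inv_mem' := fun {a} ha => ⟨inv_mem ha.1, by rw [inv_pow, ha.2, inv_one]⟩ }
  have hle : B ⊔ C ≤ K := sup_le (fun x hx => ⟨mem_sup_left hx, hB x hx⟩) fun x hx => ⟨mem_sup_right hx, hC x hx⟩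
  exact fun x hx => (hle hx).2

theorem relIndex_le_two_of {A K : Subgroup S} (hKA : K ≤ A) (h : ∀ a ∈ A, ∀ b ∈ A, a ∉ K → b ∉ K → b⁻¹ * a ∈ K) :
    Nat.card A ≤ 2 * Nat.card K := by
  classical
  by_cases hne : ∃ b, b ∈ A ∧ b ∉ K
  · obtain ⟨b, hb, hbK⟩ := hne
    let f : A → K × Bool := fun a =>
      if ha : (a : S) ∈ K then (⟨a, ha⟩, true) else (⟨b⁻¹ * a, h a a.2 b hb ha hbK⟩, false)
    have hf : Function.Injective f := by
      intro a a' e
      simp only [f] at e
      by_cases ha : (a : S) ∈ K <;> by_cases ha' : (a' : S) ∈ K <;> simp [ha, ha'] at e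
      all_goals first
        | exact e
        | exact Subtype.ext e
    have := Nat.card_le_card_of_injective f hf
    rw [Nat.card_prod, Nat.card_eq_fintype_card (α := Bool), Fintype.card_bool] at this
    omega
  · push Not at hne
    have := card_le_of_le hne
    omega

/-- what is used of a four-group or a quaternion group of order eight -/
structure SmallData (Y Z H : Subgroup S) : Prop where
  le : Z ≤ Y
  card : Nat.card Y = 4 * Nat.card Z
  cardZ : Nat.card Z ≤ 2
  centY : Z ≤ centralizer (Y : Set S)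
  sq : ∀ x ∈ Y, x * x ∈ Z
  sqne : ∀ x ∈ Y, x ∉ Z → Nat.card Z = 2 → x * x ≠ 1
  fixed : ∀ y ∈ Y, (∀ h ∈ H, h * y * h⁻¹ = y) → y ∈ Z
  fixedZ : H ≤ centralizer (Z : Set S)
  normal : ∀ g ∈ normalizer (Y : Set S), ∀ z ∈ Z, g * z * g⁻¹ ∈ Z

theorem SmallData.central {Y Z H : Subgroup S} (d : SmallData Y Z H) {T : Subgroup S}
    (hT : T ≤ normalizer (Y : Set S)) : Z ≤ centralizer (T : Set S) := by
  intro z hz
  refine mem_centralizer_iff.2 fun t ht => ?_
  rcases (show Nat.card Z = 1 ∨ Nat.card Z = 2 by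
    have := d.cardZ; have := Nat.card_pos (α := Z); omega) with e | e
  · rw [card_eq_one.1 e, mem_bot] at hz
    rw [hz, mul_one, one_mul]
  · exact mul_inv_eq_iff_eq_mul.1 (fixed_of_card_two e
      (H := T) (le_normalizer_iff.2 fun g hg v hv => d.normal g (hT hg) v hv) t ht z hz)

/-- the two kinds of perfect thin groups -/
theorem small_data {Y H : Subgroup S} (hY : IsPGroup 2 Y) (hH : Odd (Nat.card H)) (hfull : ⁅Y, H⁆ = Y)
    (hHY : H ≤ normalizer (Y : Set S)) (hne : Y ≠ ⊥) (hthin : Thin Y) :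
    ∃ Z : Subgroup S, SmallData Y Z H ∧
      (Z = ⊥ ∨ (Nat.card Z = 2 ∧ Nonempty (Y ≃* QuaternionGroup 2) ∧ ¬ IsMulCommutative Y)) := by
  rcases perfect_thin hY hH hfull hHY hne hthin with ⟨h4, h2, hfix⟩ | ⟨h8, ⟨e⟩, hz2, hE⟩
  · refine ⟨⊥, ⟨bot_le, ?_, ?_, bot_le, fun x hx => mem_bot.2 (h2 x hx), ?_, fun y hy hf => mem_bot.2 (hfix y hy hf),
      ?_, fun g _ z hz => ?_⟩, Or.inl rfl⟩
    · rw [card_bot, h4]
    · rw [card_bot]; norm_num
    · intro x _ _ h
      rw [card_bot] at h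
      exact absurd h (by norm_num)
    · exact fun h _ => mem_centralizer_iff.2 fun v hv => by rw [mem_bot.1 hv, one_mul, mul_one]
    · rw [mem_bot.1 hz, mul_one, mul_inv_cancel]
      exact one_mem _
  · have hcard : Nat.card ((center Y).map Y.subtype) = 2 := by
      rw [← Nat.card_congr ((center Y).equivMapOfInjective _ Y.subtype_injective).toEquiv, hz2]
    refine ⟨(center Y).map Y.subtype, ⟨map_subtype_le _, ?_, hcard.le, ?_, ?_, ?_, ?_, ?_,
      fun g hg z hz => conj_mem_char _ hg hz⟩, Or.inr ⟨hcard, ⟨e⟩, CfsgLib.PGroups.IsExtraspecial.not_comm hE⟩⟩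
    · rw [hcard, h8]
    · rintro _ ⟨v, hv, rfl⟩
      exact mem_centralizer_iff.2 fun y hy => congrArg Subtype.val (mem_center_iff.1 hv ⟨y, hy⟩)
    · intro x hx
      exact ⟨⟨x, hx⟩ * ⟨x, hx⟩, by
        rw [SetLike.mem_coe, ← pow_two]
        exact CfsgLib.PGroups.IsExtraspecial.pow_mem_center hE _, rfl⟩
    · intro x hx hxZ _ hsq
      refine hxZ ⟨⟨x, hx⟩, ?_, rfl⟩
      have key : ∀ a : QuaternionGroup 2, a * a = 1 → ∀ b, a * b = b * a := by decide +kernel
      refine mem_center_iff.2 fun y => e.injective ?_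
      rw [map_mul, map_mul]
      exact (key _ (by rw [← map_mul, show (⟨x, hx⟩ : Y) * ⟨x, hx⟩ = 1 from Subtype.ext hsq, map_one]) _).symm
    · intro y hy hf
      exact ⟨⟨y, hy⟩, hE.1.2.1 ▸ fixed_le_frattini hY hH hfull hHY (c := ⟨y, hy⟩) hf, rfl⟩
    · intro h hh
      refine mem_centralizer_iff.2 fun z hz => ?_
      exact (mul_inv_eq_iff_eq_mul.1 (fixed_of_card_two hcard (le_normalizer_char _ hHY) h hh z hz)).symm

theorem exists_central_mod {T Y Z : Subgroup S} (hT : IsPGroup 2 T) (hYT : Y ≤ T) (hTY : T ≤ normalizer (Y : Set S))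
    (hZT : Z ≤ centralizer (T : Set S)) (hlt : Z < Y) :
    ∃ y ∈ Y, y ∉ Z ∧ ∀ t ∈ T, t * y * t⁻¹ * y⁻¹ ∈ Z := by
  haveI : (Z.subgroupOf T).Normal := ⟨fun z hz g => by
    rw [mem_subgroupOf] at hz ⊢
    rw [Subgroup.coe_mul, Subgroup.coe_mul, Subgroup.coe_inv, mem_centralizer_iff.1 (hZT hz) g g.2,
      mul_inv_cancel_right]
    exact hz⟩
  let π := QuotientGroup.mk' (Z.subgroupOf T)
  haveI : (Y.subgroupOf T).Normal := (normal_subgroupOf_iff_le_normalizer hYT).2 hTY
  haveI : ((Y.subgroupOf T).map π).Normal := Subgroup.Normal.map inferInstance π (QuotientGroup.mk'_surjective _)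
  have hne : (Y.subgroupOf T).map π ≠ ⊥ := fun h => hlt.not_ge fun y hy => by
    have := (map_eq_bot_iff (Y.subgroupOf T)).1 h
    rw [QuotientGroup.ker_mk'] at this
    exact mem_subgroupOf.1 (this (x := ⟨y, hYT hy⟩) (mem_subgroupOf.2 hy))
  obtain ⟨⟨d, hd⟩, hd1⟩ := ne_bot_iff_exists_ne_one.1 (CfsgLib.PGroups.inf_center_ne_bot (hT.to_quotient _) hne)
  obtain ⟨⟨y, hy, rfl⟩, hdc⟩ := mem_inf.1 hd
  refine ⟨y, mem_subgroupOf.1 hy, fun h => hd1 (Subtype.ext ((QuotientGroup.eq_one_iff y).2 (mem_subgroupOf.2 h))),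
    fun t ht => ?_⟩
  have h1 : π (⟨t, ht⟩ * y * ⟨t, ht⟩⁻¹ * y⁻¹) = 1 := by
    rw [map_mul, map_mul, map_mul, map_inv, map_inv, mem_center_iff.1 hdc (π ⟨t, ht⟩), mul_inv_cancel_right,
      mul_inv_cancel]
  exact mem_subgroupOf.1 ((QuotientGroup.eq_one_iff _).1 h1)

/-- the fixed points commute with the commutator -/
theorem split {X Y Z H : Subgroup S} (hX : IsPGroup 2 X) (hH : Odd (Nat.card H))
    (hHX : H ≤ normalizer (X : Set S)) (hYdef : ⁅X, H⁆ = Y) (d : SmallData Y Z H) :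
    X ⊓ centralizer (H : Set S) ≤ centralizer (Y : Set S) ∧ Y ⊓ centralizer (H : Set S) = Z ∧
      Y ⊔ (X ⊓ centralizer (H : Set S)) = X := by
  haveI : Group.IsNilpotent X := hX.isNilpotent
  have hsol : Group.IsSolvable X := inferInstance
  have hcop : (Nat.card H).Coprime (Nat.card X) := by
    obtain ⟨n, hn⟩ := IsPGroup.iff_card.1 hX
    rw [hn]; exact (Nat.coprime_two_right.2 hH).pow_right n
  have hsup := CfsgLib.Core.commutator_sup_centralizer hHX hcop (Or.inr hsol)
  have hfull : ⁅Y, H⁆ = Y := by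
    rw [← hYdef]
    exact CfsgLib.Core.commutator_commutator_eq hHX hcop (Or.inr hsol)
  rw [hYdef] at hsup
  have hYX : Y ≤ X := hYdef ▸ CfsgLib.Core.commutator_le_of_normalizes hHX
  have hnorm : X ⊔ H ≤ normalizer (Y : Set S) := hYdef ▸ CfsgLib.Core.le_normalizer_commutator_self H X
  have hXY : X ≤ normalizer (Y : Set S) := le_sup_left.trans hnorm
  have hHY : H ≤ normalizer (Y : Set S) := le_sup_right.trans hnorm
  have hZX := d.central hXY
  have hfixZ : ∀ h ∈ H, ∀ z ∈ Z, h * z * h⁻¹ = z := fun h hh z hz =>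
    mul_inv_eq_iff_eq_mul.2 (mem_centralizer_iff.1 (d.fixedZ hh) z hz).symm
  have hzc : ∀ z ∈ Z, ∀ x ∈ X, x * z = z * x := fun z hz x hx => mem_centralizer_iff.1 (hZX hz) x hx
  -- elements of `Y` centralized modulo `Z`
  let Q : Subgroup S :=
    { carrier := {y | y ∈ Y ∧ ∀ x ∈ X, x * y * x⁻¹ * y⁻¹ ∈ Z}
      one_mem' := ⟨one_mem _, fun x _ => by simp [one_mem]⟩
      mul_mem' := fun {a b} ha hb => ⟨mul_mem ha.1 hb.1, fun x hx => by
        have e : x * (a * b) * x⁻¹ * (a * b)⁻¹ = (x * a * x⁻¹ * a⁻¹) * (a * (x * b * x⁻¹ * b⁻¹) * a⁻¹) := by group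
        rw [e, hzc _ (hb.2 x hx) a (hYX ha.1), mul_inv_cancel_right]
        exact mul_mem (ha.2 x hx) (hb.2 x hx)⟩
      inv_mem' := fun {a} ha => ⟨inv_mem ha.1, fun x hx => by
        have e : x * a⁻¹ * x⁻¹ * a⁻¹⁻¹ = a⁻¹ * (x * a * x⁻¹ * a⁻¹)⁻¹ * a⁻¹⁻¹ := by group
        rw [e, hzc _ (inv_mem (ha.2 x hx)) a⁻¹ (inv_mem (hYX ha.1)), mul_inv_cancel_right]
        exact inv_mem (ha.2 x hx)⟩ }
  have hQY : Q ≤ Y := fun y hy => hy.1
  have hZQ : Z ≤ Q := fun z hz => ⟨d.le hz, fun x hx => by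
    rw [hzc z hz x hx, mul_inv_cancel_right, mul_inv_cancel]; exact one_mem _⟩
  have hZY : Z < Y := lt_of_le_of_ne d.le fun e => by
    have := d.card
    rw [e] at this
    have := Nat.card_pos (α := Y)
    omega
  have hHQ : H ≤ normalizer (Q : Set S) := by
    rw [le_normalizer_iff]
    intro h hh y hy
    refine ⟨(mem_normalizer_iff.1 (hHY hh) y).1 hy.1, fun x hx => ?_⟩
    have hx' : h⁻¹ * x * h ∈ X := by simpa using (mem_normalizer_iff.1 (inv_mem (hHX hh)) x).1 hx
    have hz := hy.2 _ hx'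
    have e : x * (h * y * h⁻¹) * x⁻¹ * (h * y * h⁻¹)⁻¹ =
        h * (h⁻¹ * x * h * y * (h⁻¹ * x * h)⁻¹ * y⁻¹) * h⁻¹ := by group
    rw [e, hfixZ h hh _ hz]
    exact hz
  have hQ : Q = Y := by
    by_contra hne
    obtain ⟨y, hy, hyZ, hyc⟩ := exists_central_mod hX hYX hXY hZX hZY
    have hyQ : y ∈ Q := ⟨hy, hyc⟩
    have hidx : (Z.subgroupOf Q).index = 2 := by
      have h1 := (Z.subgroupOf Q).card_mul_index
      rw [Nat.card_congr (subgroupOfEquivOfLe hZQ).toEquiv] at h1
      have h2 : (Z.subgroupOf Q).index ≠ 1 := fun e => hyZ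
        (mem_subgroupOf.1 ((index_eq_one.1 e).symm ▸ mem_top (⟨y, hyQ⟩ : Q)))
      have h3 : Nat.card Q ∣ Nat.card Y := card_dvd_of_le hQY
      have h4 : Nat.card Q ≠ Nat.card Y := fun e => hne (eq_of_le_of_card_ge hQY e.ge)
      rw [← h1, d.card, mul_comm 4] at h3
      have h5 := Nat.dvd_of_mul_dvd_mul_left Nat.card_pos h3
      rw [← h1, d.card, mul_comm 4] at h4
      have h6 : (Z.subgroupOf Q).index ≠ 4 := fun e => h4 (by rw [e])
      have h7 := Nat.le_of_dvd (by norm_num) h5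
      have h8 : (Z.subgroupOf Q).index ≠ 0 := Subgroup.index_ne_zero_of_finite
      rcases (show (Z.subgroupOf Q).index = 2 ∨ (Z.subgroupOf Q).index = 3 by omega) with e | e
      · exact e
      · rw [e] at h5; norm_num at h5
    have hall : ∀ h ∈ H, y⁻¹ * (h * y * h⁻¹) ∈ Z := by
      intro h hh
      have hn : h * y * h⁻¹ ∉ Z := fun hz => hyZ (by
        have := hfixZ h⁻¹ (inv_mem hh) _ hz
        rw [show y = h * y * h⁻¹ by rw [← this]; group]
        exact hz)
      have := (Subgroup.mul_mem_iff_of_index_two hidx (a := (⟨y, hyQ⟩ : Q)⁻¹)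
        (b := ⟨h * y * h⁻¹, (mem_normalizer_iff.1 (hHQ hh) y).1 hyQ⟩)).2
        ⟨fun hm => absurd (inv_mem_iff.1 (mem_subgroupOf.1 hm)) hyZ, fun hm => absurd (mem_subgroupOf.1 hm) hn⟩
      exact mem_subgroupOf.1 this
    obtain ⟨n, hn, hcen⟩ := CfsgLib.Core.exists_centralizing_in_coset (A := H) (N := Z)
      (le_normalizer_iff.2 fun h hh z hz => (hfixZ h hh z hz).symm ▸ hz)
      (hcop.coprime_dvd_right (card_dvd_of_le (d.le.trans hYX)))
      (Or.inr (CfsgLib.Core.isSolvable_of_le (G := S) hsol (d.le.trans hYX))) (k := y) hall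
    refine hyZ ?_
    have hyn : y * n ∈ Z := d.fixed _ (mul_mem hy (d.le hn)) fun h hh =>
      mul_inv_eq_iff_eq_mul.2 (mem_centralizer_iff.1 hcen h hh)
    exact (mul_mem_cancel_right hn).1 hyn
  refine ⟨fun c hc => mem_centralizer_iff.2 fun y hy => ?_, ?_, hsup⟩
  · -- `c` centralizes `Y`
    obtain ⟨hcX, hcH⟩ := mem_inf.1 hc
    have hval : ∀ v ∈ Y, c * v * c⁻¹ * v⁻¹ ∈ Z := fun v hv => (hQ.symm ▸ hv : v ∈ Q).2 c hcX
    have hmul : ∀ a ∈ Y, ∀ b ∈ Y, c * (a * b) * c⁻¹ * (a * b)⁻¹ = (c * a * c⁻¹ * a⁻¹) * (c * b * c⁻¹ * b⁻¹) := by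
      intro a ha b hb
      have e : c * (a * b) * c⁻¹ * (a * b)⁻¹ = (c * a * c⁻¹ * a⁻¹) * (a * (c * b * c⁻¹ * b⁻¹) * a⁻¹) := by group
      rw [e, hzc _ (hval b hb) a (hYX ha), mul_inv_cancel_right]
    have hle : Y ≤ centralizer {c} := by
      conv_lhs => rw [← hfull]
      rw [commutator_le]
      intro v hv h hh
      have hhc : h * c = c * h := mem_centralizer_iff.1 hcH h hh
      have hv' : h * v⁻¹ * h⁻¹ ∈ Y := (mem_normalizer_iff.1 (hHY hh) _).1 (inv_mem hv)
      have e1 := hmul v hv _ hv'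
      have e2 : c * (h * v⁻¹ * h⁻¹) * c⁻¹ * (h * v⁻¹ * h⁻¹)⁻¹ = c * v⁻¹ * c⁻¹ * v⁻¹⁻¹ := by
        have e3 := hfixZ h hh _ (hval v⁻¹ (inv_mem hv))
        rw [← e3]
        calc c * (h * v⁻¹ * h⁻¹) * c⁻¹ * (h * v⁻¹ * h⁻¹)⁻¹ = (c * h) * v⁻¹ * (c * h)⁻¹ * (h * v⁻¹⁻¹ * h⁻¹) := by group
          _ = (h * c) * v⁻¹ * (h * c)⁻¹ * (h * v⁻¹⁻¹ * h⁻¹) := by rw [hhc]
          _ = _ := by group
      have e4 := hmul v hv v⁻¹ (inv_mem hv)
      rw [mul_inv_cancel, mul_one, mul_inv_cancel, inv_one, mul_one] at e4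
      rw [e2, ← e4] at e1
      refine mem_centralizer_singleton_iff.2 ?_
      rw [commutatorElement_def]
      have e5 : v * (h * v⁻¹ * h⁻¹) = v * h * v⁻¹ * h⁻¹ := by group
      rw [e5, mul_inv_eq_one] at e1
      exact (mul_inv_eq_iff_eq_mul.1 e1).symm
    exact mem_centralizer_singleton_iff.1 (hle hy)
  · refine le_antisymm (fun y hy => d.fixed y (mem_inf.1 hy).1 fun h hh =>
      mul_inv_eq_iff_eq_mul.2 (mem_centralizer_iff.1 (mem_inf.1 hy).2 h hh)) ?_
    exact le_inf d.le (le_centralizer_iff.1 d.fixedZ)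

/-- a nontrivial fixed group spoils thinness -/
theorem exists_big {X Y Z H : Subgroup S} (hX : IsPGroup 2 X) (hYX : Y ≤ X) (d : SmallData Y Z H)
    (hC : X ⊓ centralizer (H : Set S) ≤ centralizer (Y : Set S))
    (hYC : Y ⊓ centralizer (H : Set S) = Z) (hcase : Z = ⊥ ∨ Nat.card Z = 2)
    (hnot : ¬ X ⊓ centralizer (H : Set S) ≤ Y) :
    ∃ D : Subgroup S, D ≤ X ⊓ centralizer (H : Set S) ∧ Nat.card D = 2 * Nat.card Z ∧ Z ≤ D ∧ ¬ Thin (Y ⊔ D) := by
  set C := X ⊓ centralizer (H : Set S) with hCdef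
  have hZC : Z ≤ C := le_inf (d.le.trans hYX) (hYC ▸ inf_le_right)
  have hCY : ∀ x, x ∈ C → x ∈ Y → x ∈ Z := fun x hxC hxY => hYC ▸ mem_inf.2 ⟨hxY, (mem_inf.1 hxC).2⟩
  obtain ⟨a, ha, haZ⟩ : ∃ a ∈ Y, a ∉ Z := by
    by_contra! h
    have := card_le_of_le (show Y ≤ Z from h)
    have := d.card
    have := Nat.card_pos (α := Z)
    omega
  obtain ⟨m, hm⟩ : ∃ m, Nat.card Z = 2 ^ m := by
    rcases hcase with h | h
    · exact ⟨0, by rw [h, card_bot]; norm_num⟩
    · exact ⟨1, by rw [h]; norm_num⟩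
  obtain ⟨n, hn⟩ := IsPGroup.iff_card.1 (hX.to_le (inf_le_left : C ≤ X))
  have hlt : m < n := by
    by_contra! h
    refine hnot ?_
    rw [← eq_of_le_of_card_ge hZC (by rw [hn, hm]; exact Nat.pow_le_pow_right (by norm_num) h)]
    exact d.le
  obtain ⟨D₀, hD₀, hZD⟩ := Sylow.exists_subgroup_card_pow_prime_le (G := C) 2 (m := m + 1)
    (by rw [hn]; exact pow_dvd_pow 2 hlt) (Z.subgroupOf C)
    (by rw [Nat.card_congr (subgroupOfEquivOfLe hZC).toEquiv, hm]) (Nat.le_succ m)
  let D := D₀.map C.subtype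
  have hD : Nat.card D = 2 * Nat.card Z := by
    rw [← Nat.card_congr (D₀.equivMapOfInjective _ C.subtype_injective).toEquiv, hD₀, hm, pow_succ']
  have hDC : D ≤ C := map_subtype_le _
  refine ⟨D, hDC, hD, fun z hz => ⟨⟨z, hZC hz⟩, hZD (mem_subgroupOf.2 hz), rfl⟩, ?_⟩
  haveI hDab : IsMulCommutative D := by
    have hD4 : Nat.card D = 2 ∨ Nat.card D = 4 := by
      rcases hcase with h | h
      · exact Or.inl (by rw [hD, h, card_bot])
      · exact Or.inr (by rw [hD, h])
    rcases hD4 with h | h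
    · haveI : IsCyclic D := isCyclic_of_prime_card h
      exact IsCyclic.commutative
    · exact ⟨⟨fun x y => IsPGroup.commutative_of_card_eq_prime_sq (p := 2) (h.trans (by norm_num)) x y⟩⟩
  obtain ⟨B₀, hB₀Y, hB₀ab, hB₀card, hB₀exp⟩ : ∃ B₀ : Subgroup S, B₀ ≤ Y ∧ IsMulCommutative B₀ ∧
      Nat.card B₀ = 4 ∧ ∀ x ∈ B₀, x ^ 4 = 1 := by
    rcases hcase with h | h
    · refine ⟨Y, le_rfl, ⟨⟨fun x y => ?_⟩⟩, by rw [d.card, h, card_bot], fun x hx => ?_⟩
      · exact IsPGroup.commutative_of_card_eq_prime_sq (p := 2) (by rw [d.card, h, card_bot]; norm_num) x y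
      · have := d.sq x hx
        rw [h, mem_bot, ← pow_two] at this
        rw [show (4 : ℕ) = 2 * 2 by norm_num, pow_mul, this, one_pow]
    · refine ⟨zpowers a, zpowers_le.2 ha, inferInstance, ?_, fun x hx => ?_⟩
      · rw [Nat.card_zpowers]
        refine orderOf_eq_prime_pow (p := 2) (n := 1) ?_ ?_
        · rw [pow_one, pow_two]; exact d.sqne a ha haZ h
        · have := pow_card_eq_one' (x := (⟨a * a, d.sq a ha⟩ : Z))
          rw [h] at this
          have e := congrArg Subtype.val this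
          rw [show (2 : ℕ) ^ (1 + 1) = 2 * 2 by norm_num, pow_mul, pow_two a]
          exact e
      · have e := d.sq x (zpowers_le.2 ha hx)
        have := pow_card_eq_one' (x := (⟨x * x, e⟩ : Z))
        rw [h] at this
        rw [show (4 : ℕ) = 2 * 2 by norm_num, pow_mul, pow_two x]
        exact congrArg Subtype.val this
  haveI := hB₀ab
  haveI : IsMulCommutative ↥(B₀ ⊔ D) :=
    isMulCommutative_sup ((le_centralizer_iff.1 (hDC.trans hC)).trans' hB₀Y)
  have hexp : ∀ x ∈ B₀ ⊔ D, x ^ 4 = 1 := pow_four_sup hB₀exp fun x hx => by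
    have := pow_card_eq_one' (x := (⟨x, hx⟩ : D))
    have e : x ^ Nat.card D = 1 := congrArg Subtype.val this
    rcases hcase with h | h
    · rw [hD, h, card_bot] at e
      rw [show (4 : ℕ) = 2 * 1 * 2 by norm_num, pow_mul, e, one_pow]
    · rw [hD, h] at e
      exact e
  have hlt' : B₀ < B₀ ⊔ D := lt_of_le_of_ne le_sup_left fun e => by
    have hle : D ≤ Z := fun x hx => hCY x (hDC hx) (hB₀Y (e.symm ▸ mem_sup_right hx))
    have := card_le_of_le hle
    have := Nat.card_pos (α := Z)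
    omega
  have h8 : 8 ≤ Nat.card ↥(B₀ ⊔ D) := by
    have hd := card_dvd_of_le hlt'.le
    have hne : Nat.card ↥(B₀ ⊔ D) ≠ 4 := fun e => hlt'.ne (eq_of_le_of_card_ge hlt'.le (by rw [e, hB₀card]))
    rw [hB₀card] at hd
    obtain ⟨k, hk⟩ := hd
    have := Nat.card_pos (α := ↥(B₀ ⊔ D))
    omega
  have hX2 : IsPGroup 2 ↥(Y ⊔ D) := hX.to_le (sup_le hYX (hDC.trans inf_le_left))
  exact not_thin_of_small_exponent hX2 (sup_le_sup_right hB₀Y D) h8 hexp

/-- a self-centralizing four-group or quaternion group leaves no room -/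
theorem no_abelian_eight {F Z H : Subgroup S} [F.Normal] (hF : IsPGroup 2 F) (d : SmallData F Z H)
    (hcase : Z = ⊥ ∨ (Nat.card Z = 2 ∧ ¬ IsMulCommutative F)) (hC : centralizer (F : Set S) ≤ F)
    (A : Subgroup S) [IsMulCommutative A] (hA : ¬ IsCyclic A) (h8 : Nat.card A = 8) : False := by
  classical
  have hNF : ∀ g : S, g ∈ normalizer (F : Set S) := fun g =>
    (le_normalizer_of_normal (H := F) (K := ⊤)) (mem_top g)
  have hconjF : ∀ g : S, ∀ x ∈ F, g * x * g⁻¹ ∈ F := fun g x hx => Normal.conj_mem ‹_› x hx g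
  have hA2 : IsPGroup 2 A := IsPGroup.of_card (n := 3) (h8.trans (by norm_num))
  let T : Subgroup S := F ⊔ A
  have hT : IsPGroup 2 T := hF.to_sup_of_normal_left' hA2 (le_normalizer_of_normal)
  have hZT : Z ≤ centralizer (T : Set S) := d.central fun g _ => hNF g
  have hZlt : Z < F := lt_of_le_of_ne d.le fun e => by
    have := d.card
    rw [e] at this
    have := Nat.card_pos (α := F)
    omega
  obtain ⟨i, hi, hiZ, hic⟩ := exists_central_mod hT le_sup_left (fun g _ => hNF g) hZT hZlt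
  have hI : Nat.card ↥(zpowers i ⊔ Z) = 2 * Nat.card Z := by
    have hle : zpowers i ⊔ Z ≤ F := sup_le (zpowers_le.2 hi) d.le
    have hd := card_dvd_of_le hle
    rw [d.card] at hd
    have h2 : Nat.card ↥(zpowers i ⊔ Z) ≤ 2 * Nat.card Z := by
      have hn : zpowers i ≤ normalizer (Z : Set S) := le_normalizer_iff.2 fun g _ z hz => d.normal g (hNF g) z hz
      have hinf := CfsgLib.Core.card_sup_mul_card_inf (zpowers i) Z hn
      rcases hcase with h | ⟨h, -⟩
      · have h1 : orderOf i ≤ 2 := Nat.le_of_dvd (by norm_num) (orderOf_dvd_of_pow_eq_one (by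
          have := d.sq i hi
          rw [h, mem_bot] at this
          rw [pow_two, this]))
        rw [h, card_bot, inf_bot_eq, card_bot, mul_one, mul_one, Nat.card_zpowers] at hinf
        rw [h, card_bot, mul_one]
        omega
      · have ho : orderOf i = 2 ^ (1 + 1) := by
          refine orderOf_eq_prime_pow (p := 2) (n := 1) ?_ ?_
          · rw [pow_one, pow_two]; exact d.sqne i hi hiZ h
          · have := congrArg Subtype.val (pow_card_eq_one' (x := (⟨i * i, d.sq i hi⟩ : Z)))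
            rw [h] at this
            rw [show (2 : ℕ) ^ (1 + 1) = 2 * 2 by norm_num, pow_mul, pow_two i]
            exact this
        have hle' : Z ≤ zpowers i := by
          intro z hz
          by_cases hz1 : z = 1
          · rw [hz1]; exact one_mem _
          have hii : i * i ≠ 1 := d.sqne i hi hiZ h
          obtain ⟨a, b, hab, hset⟩ := Nat.card_eq_two_iff.1 h
          have hm : ∀ x : Z, x = a ∨ x = b := fun x => by
            have : x ∈ ({a, b} : Set Z) := hset ▸ Set.mem_univ _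
            simpa using this
          have key : z = i * i := by
            rcases hm ⟨1, one_mem _⟩ with e1 | e1 <;> rcases hm ⟨z, hz⟩ with e2 | e2 <;>
              rcases hm ⟨i * i, d.sq i hi⟩ with e3 | e3
            all_goals first
              | exact absurd (congrArg Subtype.val (e2.trans e1.symm)) hz1
              | exact absurd (congrArg Subtype.val (e3.trans e1.symm)) hii
              | exact congrArg Subtype.val (e2.trans e3.symm)
          rw [key]; exact mul_mem (mem_zpowers i) (mem_zpowers i)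
        rw [sup_eq_left.2 hle', Nat.card_zpowers, ho, h]
        norm_num
    have hgt : Nat.card Z < Nat.card ↥(zpowers i ⊔ Z) := by
      by_contra! h
      exact hiZ ((eq_of_le_of_card_ge le_sup_right h).symm ▸ mem_sup_left (mem_zpowers i))
    obtain ⟨k, hk⟩ := card_dvd_of_le (show Z ≤ zpowers i ⊔ Z from le_sup_right)
    rw [hk] at h2 hgt ⊢
    have hZ0 := Nat.card_pos (α := Z)
    have : k ≤ 2 := by nlinarith
    have : 1 < k := by nlinarith
    obtain rfl : k = 2 := by omega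
    ring
  set I := zpowers i ⊔ Z with hIdef
  have hIF : I ≤ F := sup_le (zpowers_le.2 hi) d.le
  obtain ⟨j, hj, hjI⟩ : ∃ j ∈ F, j ∉ I := by
    by_contra! h
    have := card_le_of_le (show F ≤ I from h)
    have := d.card
    have := Nat.card_pos (α := Z)
    omega
  -- the two cosets outside the fixed one
  have hIidx : (I.subgroupOf F).index = 2 := by
    have h1 := (I.subgroupOf F).card_mul_index
    rw [Nat.card_congr (subgroupOfEquivOfLe hIF).toEquiv, hI, d.card] at h1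
    have hZ0 := Nat.card_pos (α := Z)
    nlinarith
  have hmulI : ∀ x ∈ F, ∀ y ∈ F, x ∉ I → y ∉ I → x * y ∈ I := fun x hx y hy hx' hy' =>
    mem_subgroupOf.1 ((Subgroup.mul_mem_iff_of_index_two hIidx (a := (⟨x, hx⟩ : F)) (b := ⟨y, hy⟩)).2
      ⟨fun h => absurd (mem_subgroupOf.1 h) hx', fun h => absurd (mem_subgroupOf.1 h) hy'⟩)
  have hiA : ∀ a ∈ A, a * i * a⁻¹ * i⁻¹ ∈ Z := fun a ha => hic a (mem_sup_right ha)
  have hAI : ∀ a ∈ A, ∀ x ∈ I, a * x * a⁻¹ ∈ I := by
    intro a ha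
    have hle : I ≤ I.comap (MulAut.conj a).toMonoidHom := by
      refine sup_le (zpowers_le.2 ?_) fun z hz => mem_sup_right (d.normal a (hNF a) z hz)
      show a * i * a⁻¹ ∈ I
      have h : a * i * a⁻¹ = (a * i * a⁻¹ * i⁻¹) * i := by group
      rw [h]
      exact mul_mem (mem_sup_right (hiA a ha)) (mem_sup_left (mem_zpowers i))
    exact fun x hx => hle hx
  have hjA : ∀ a ∈ A, a * j * a⁻¹ ∉ I := fun a ha h => hjI (by
    have := hAI a⁻¹ (inv_mem ha) _ h
    simpa [mul_assoc] using this)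
  let K : Subgroup S :=
    { carrier := {a | a ∈ A ∧ j⁻¹ * (a * j * a⁻¹) ∈ Z}
      one_mem' := ⟨one_mem _, by simp [one_mem]⟩
      mul_mem' := fun {a b} ha hb => ⟨mul_mem ha.1 hb.1, by
        have hz := mem_centralizer_iff.1 (hZT hb.2) a (mem_sup_right ha.1)
        have e : j⁻¹ * (a * b * j * (a * b)⁻¹) = j⁻¹ * (a * j * a⁻¹) * (a * (j⁻¹ * (b * j * b⁻¹)) * a⁻¹) := by group
        rw [e, hz, mul_inv_cancel_right]
        exact mul_mem ha.2 hb.2⟩
      inv_mem' := fun {a} ha => ⟨inv_mem ha.1, by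
        have hz := mem_centralizer_iff.1 (hZT (inv_mem ha.2)) a⁻¹ (inv_mem (mem_sup_right ha.1))
        have e : j⁻¹ * (a⁻¹ * j * a⁻¹⁻¹) = a⁻¹ * (j⁻¹ * (a * j * a⁻¹))⁻¹ * a⁻¹⁻¹ := by group
        rw [e, hz, mul_inv_cancel_right]
        exact inv_mem ha.2⟩ }
  have hKA : K ≤ A := fun a ha => ha.1
  -- the quotient of two moved images of `j`
  have hdiff : ∀ x ∈ F, x ∉ I → ∀ y ∈ F, y ∉ I → x * j⁻¹ ∉ Z → y * j⁻¹ ∉ Z → y⁻¹ * x ∈ Z := by
    intro x hx hxI y hy hyI hxj hyj
    have h1 : x * j⁻¹ ∈ I := hmulI x hx _ (inv_mem hj) hxI fun h => hjI (inv_mem_iff.1 h)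
    have h2 : y * j⁻¹ ∈ I := hmulI y hy _ (inv_mem hj) hyI fun h => hjI (inv_mem_iff.1 h)
    have hIZ : ((Z).subgroupOf I).index = 2 := by
      have e := (Z.subgroupOf I).card_mul_index
      rw [Nat.card_congr (subgroupOfEquivOfLe (show Z ≤ I from le_sup_right)).toEquiv, hI] at e
      exact Nat.eq_of_mul_eq_mul_left Nat.card_pos (e.trans (mul_comm _ _))
    have h3 : (y * j⁻¹)⁻¹ * (x * j⁻¹) ∈ Z := mem_subgroupOf.1
      ((Subgroup.mul_mem_iff_of_index_two hIZ (a := (⟨y * j⁻¹, h2⟩ : I)⁻¹) (b := ⟨x * j⁻¹, h1⟩)).2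
        ⟨fun h => absurd (inv_mem_iff.1 (mem_subgroupOf.1 h)) hyj, fun h => absurd (mem_subgroupOf.1 h) hxj⟩)
    have hz := mem_centralizer_iff.1 (hZT h3) j⁻¹ (mem_sup_left (inv_mem hj))
    have e : y⁻¹ * x = j⁻¹ * ((y * j⁻¹)⁻¹ * (x * j⁻¹)) * j := by group
    rw [e, hz, inv_mul_cancel_right]
    exact h3
  have hnotK : ∀ a ∈ A, a ∉ K → a * j * a⁻¹ * j⁻¹ ∉ Z := fun a ha haK h => haK ⟨ha, by
    have hz := mem_centralizer_iff.1 (hZT h) j (mem_sup_left hj)
    have e : j⁻¹ * (a * j * a⁻¹) = j⁻¹ * ((a * j * a⁻¹ * j⁻¹) * j) := by group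
    rw [e, ← hz, inv_mul_cancel_left]
    exact h⟩
  have hK4 : 4 ≤ Nat.card K := by
    have := relIndex_le_two_of hKA fun a ha b hb haK hbK => by
      refine ⟨mul_mem (inv_mem hb) ha, ?_⟩
      have hz := hdiff _ (hconjF a j hj) (hjA a ha) _ (hconjF b j hj) (hjA b hb) (hnotK a ha haK) (hnotK b hb hbK)
      have hc := mem_centralizer_iff.1 (hZT hz) b⁻¹ (mem_sup_right (inv_mem hb))
      have e : j⁻¹ * (b⁻¹ * a * j * (b⁻¹ * a)⁻¹) = b⁻¹ * ((b * j * b⁻¹)⁻¹ * (a * j * a⁻¹)) * b⁻¹⁻¹ := by group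
      rw [e, hc, mul_inv_cancel_right]
      exact hz
    omega
  -- `F` is generated by `i`, `j` and `Z`
  have hgen : ∀ D : Subgroup S, i ∈ D → j ∈ D → Z ≤ D → F ≤ D := by
    intro D h1 h2 h3
    have hle : I ≤ D := sup_le (zpowers_le.2 h1) h3
    intro x hx
    by_cases hxI : x ∈ I
    · exact hle hxI
    have := hle (hmulI x hx j⁻¹ (inv_mem hj) hxI fun h => hjI (inv_mem_iff.1 h))
    exact (mul_mem_cancel_right (inv_mem h2)).1 this
  have hKF : K ≤ F := by
    intro k hk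
    have hk1 := hiA k hk.1
    have hk2 := hk.2
    -- an element of `F` acting as `k`
    obtain ⟨f, hf, hfi, hfj⟩ : ∃ f ∈ F, f * i * f⁻¹ = k * i * k⁻¹ ∧ f * j * f⁻¹ = k * j * k⁻¹ := by
      rcases hcase with h | ⟨h, hna⟩
      · rw [h, mem_bot] at hk1 hk2
        refine ⟨1, one_mem F, ?_, ?_⟩
        · rw [one_mul, inv_one, mul_one, mul_inv_eq_one.1 hk1]
        · rw [one_mul, inv_one, mul_one, ← inv_mul_eq_one.1 hk2]
      · have hZ2 : ∀ x ∈ Z, ∀ y ∈ Z, x ≠ 1 → y ≠ 1 → x = y := by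
          intro x hx y hy hx1 hy1
          obtain ⟨a, b, hab, hset⟩ := Nat.card_eq_two_iff.1 h
          have hm : ∀ x : Z, x = a ∨ x = b := fun x => by
            have : x ∈ ({a, b} : Set Z) := hset ▸ Set.mem_univ _
            simpa using this
          rcases hm ⟨1, one_mem _⟩ with e1 | e1 <;> rcases hm ⟨x, hx⟩ with e2 | e2 <;>
            rcases hm ⟨y, hy⟩ with e3 | e3
          all_goals first
            | exact absurd (congrArg Subtype.val (e2.trans e1.symm)) hx1
            | exact absurd (congrArg Subtype.val (e3.trans e1.symm)) hy1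
            | exact congrArg Subtype.val (e2.trans e3.symm)
        have hij : i * j ≠ j * i := fun e => hna (by
          refine le_centralizer_iff_isMulCommutative.1 ?_
          have hz : Z ≤ centralizer (F : Set S) := d.centY
          have h1 : F ≤ centralizer {i} := hgen _ (mem_centralizer_singleton_iff.2 rfl)
            (mem_centralizer_singleton_iff.2 e.symm) fun z hzz =>
              mem_centralizer_singleton_iff.2 (mem_centralizer_iff.1 (hz hzz) i hi).symm
          have h2 : F ≤ centralizer {j} := hgen _ (mem_centralizer_singleton_iff.2 e)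
            (mem_centralizer_singleton_iff.2 rfl) fun z hzz =>
              mem_centralizer_singleton_iff.2 (mem_centralizer_iff.1 (hz hzz) j hj).symm
          refine hgen _ ?_ ?_ hz
          · exact mem_centralizer_iff.2 fun x hx => mem_centralizer_singleton_iff.1 (h1 hx)
          · exact mem_centralizer_iff.2 fun x hx => mem_centralizer_singleton_iff.1 (h2 hx))
        have hcz : ∀ x ∈ F, ∀ y ∈ F, x * y * x⁻¹ * y⁻¹ ∈ Z := by
          intro x hx y hy
          have hz : Z ≤ centralizer (F : Set S) := d.centY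
          have h1 := d.sq _ (mul_mem hx hy)
          have h3 : y⁻¹ * (x * x)⁻¹ * y ∈ Z := by
            rw [mem_centralizer_iff.1 (hz (inv_mem (d.sq x hx))) y⁻¹ (inv_mem hy), inv_mul_cancel_right]
            exact inv_mem (d.sq x hx)
          have hxy : x * y * x⁻¹ * y⁻¹ = (x * y) * (x * y) * (y⁻¹ * (x * x)⁻¹ * y) * (y * y)⁻¹ := by group
          rw [hxy]
          exact mul_mem (mul_mem h1 h3) (inv_mem (d.sq y hy))
        set c := i * j * i⁻¹ * j⁻¹ with hc
        have hcZ : c ∈ Z := hcz i hi j hj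
        have hc1 : c ≠ 1 := fun e => hij (mul_inv_eq_iff_eq_mul.1 (mul_inv_eq_one.1 e))
        have ej : i * j * i⁻¹ = c * j := by rw [hc]; group
        have ei : j * i * j⁻¹ = c * i := by
          have hcc : c * c = 1 := by
            have := congrArg Subtype.val (pow_card_eq_one' (x := (⟨c, hcZ⟩ : Z)))
            rw [h] at this
            rw [← pow_two]; exact this
          have : (c * (j * i * j⁻¹ * i⁻¹)) = 1 := by rw [hc]; group
          have e' : j * i * j⁻¹ * i⁻¹ = c := (eq_inv_of_mul_eq_one_right this).trans (inv_eq_of_mul_eq_one_right hcc)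
          rw [← e']; group
        have hci : c * i = i * c := (mem_centralizer_iff.1 (d.centY hcZ) i hi).symm
        have hcj : c * j = j * c := (mem_centralizer_iff.1 (d.centY hcZ) j hj).symm
        by_cases w1 : k * i * k⁻¹ * i⁻¹ = 1 <;> by_cases w2 : j⁻¹ * (k * j * k⁻¹) = 1
        · refine ⟨1, one_mem F, ?_, ?_⟩
          · rw [one_mul, inv_one, mul_one, mul_inv_eq_one.1 w1]
          · rw [one_mul, inv_one, mul_one, ← inv_mul_eq_one.1 w2]
        · refine ⟨i, hi, ?_, ?_⟩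
          · rw [mul_inv_cancel_right, mul_inv_eq_one.1 w1]
          · rw [ej, hcj, ← hZ2 _ hk2 c hcZ w2 hc1, mul_inv_cancel_left]
        · refine ⟨j, hj, ?_, ?_⟩
          · rw [ei, ← hZ2 _ hk1 c hcZ w1 hc1, inv_mul_cancel_right]
          · rw [mul_inv_cancel_right, ← inv_mul_eq_one.1 w2]
        · refine ⟨i * j, mul_mem hi hj, ?_, ?_⟩
          · calc i * j * i * (i * j)⁻¹ = i * (j * i * j⁻¹) * i⁻¹ := by group
              _ = c * i := by rw [ei, ← mul_assoc, mul_inv_cancel_right, ← hci]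
              _ = _ := by rw [← hZ2 _ hk1 c hcZ w1 hc1, inv_mul_cancel_right]
          · calc i * j * j * (i * j)⁻¹ = i * j * i⁻¹ := by group
              _ = j * c := by rw [ej, hcj]
              _ = _ := by rw [← hZ2 _ hk2 c hcZ w2 hc1, mul_inv_cancel_left]
    have hle : F ≤ centralizer {f⁻¹ * k} := by
      have aux : ∀ x : S, f * x * f⁻¹ = k * x * k⁻¹ → x ∈ centralizer {f⁻¹ * k} := fun x e => by
        rw [mem_centralizer_singleton_iff]
        calc x * (f⁻¹ * k) = f⁻¹ * (f * x * f⁻¹) * k := by group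
          _ = f⁻¹ * (k * x * k⁻¹) * k := by rw [e]
          _ = _ := by group
      refine hgen _ (aux i hfi) (aux j hfj) fun z hz => aux z ?_
      rw [mem_centralizer_iff.1 (hZT hz) f (mem_sup_left hf), mem_centralizer_iff.1 (hZT hz) k
        (mem_sup_right hk.1), mul_inv_cancel_right, mul_inv_cancel_right]
    have := hC (mem_centralizer_iff.2 fun x hx => mem_centralizer_singleton_iff.1 (hle hx))
    exact (mul_mem_cancel_left (inv_mem hf)).1 this
  -- finish
  rcases hcase with h | ⟨h, hna⟩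
  · have hFK : F = K := (eq_of_le_of_card_ge hKF (by rw [d.card, h, card_bot]; exact hK4)).symm
    have hAF : A ≤ F := fun a ha => hC (mem_centralizer_iff.2 fun x hx =>
      congrArg Subtype.val (mul_comm' (⟨x, hKA (hFK ▸ hx)⟩ : A) ⟨a, ha⟩))
    have := card_le_of_le hAF
    rw [h8, d.card, h, card_bot] at this
    omega
  · haveI : IsMulCommutative K := ⟨⟨fun x y => Subtype.ext
      (show (x : S) * y = y * x from congrArg Subtype.val (mul_comm' (⟨x, hKA x.2⟩ : A) ⟨y, hKA y.2⟩))⟩⟩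
    have hKcard : Nat.card K ≤ 4 := by
      by_contra! hlt
      have hd := card_dvd_of_le hKF
      rw [d.card, h] at hd
      have h1 := Nat.le_of_dvd (by norm_num) hd
      have h' : Nat.card K = 8 := by
        rcases (show Nat.card K = 5 ∨ Nat.card K = 6 ∨ Nat.card K = 7 ∨ Nat.card K = 8 by omega) with e | e | e | e
        all_goals first
          | exact e
          | (rw [e] at hd; norm_num at hd)
      exact hna (eq_of_le_of_card_ge hKF (by rw [h', d.card, h]) ▸ ‹IsMulCommutative K›)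
    obtain ⟨a, ha, haK⟩ : ∃ a ∈ A, a ∉ K := by
      by_contra! hh
      have := card_le_of_le (show A ≤ K from hh)
      omega
    -- `a` squared is a non-central element of `F`
    have haa : a * a ∈ F := by
      refine hKF ?_
      have hidx : (K.subgroupOf A).index = 2 := by
        have e := (K.subgroupOf A).card_mul_index
        rw [Nat.card_congr (subgroupOfEquivOfLe hKA).toEquiv, h8, show Nat.card K = 4 by omega] at e
        omega
      exact mem_subgroupOf.1 (Subgroup.mul_self_mem_of_index_two hidx (⟨a, ha⟩ : A))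
    have haaZ : a * a ∉ Z := by
      intro hzz
      have h0 : a * a * j * (a * a)⁻¹ = j := by
        rw [← mem_centralizer_iff.1 (hZT hzz) j (mem_sup_left hj), mul_inv_cancel_right]
      -- `K` centralizes `i` and `j` modulo `Z` and has order four
      have hKI : K = I := by
        have hle : I ≤ F := hIF
        refine eq_of_le_of_card_ge ?_ (by rw [hI, h]; omega)
        intro k hk
        by_contra hkI
        have hkF := hKF hk
        have hci : a * k * a⁻¹ = k := by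
          rw [show a * k = k * a from congrArg Subtype.val (mul_comm' (⟨a, ha⟩ : A) ⟨k, hk.1⟩), mul_inv_cancel_right]
        have h1 : k * j⁻¹ ∈ I := hmulI k hkF _ (inv_mem hj) hkI fun hh => hjI (inv_mem_iff.1 hh)
        have h2 := hAI a ha _ h1
        have h3 : (a * (k * j⁻¹) * a⁻¹)⁻¹ * k = a * j * a⁻¹ := by
          rw [show a * (k * j⁻¹) * a⁻¹ = (a * k * a⁻¹) * (a * j * a⁻¹)⁻¹ by group, hci]; group
        have hkj : k * j⁻¹ ∈ Z ∨ k * j⁻¹ ∉ Z := em _
        rcases hkj with hz | hz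
        · refine hnotK a ha haK ?_
          have e : a * j * a⁻¹ * j⁻¹ = (a * (k * j⁻¹) * a⁻¹)⁻¹ * (k * j⁻¹) := by rw [← h3]; group
          rw [e]
          exact mul_mem (inv_mem (d.normal a (hNF a) _ hz)) hz
        · refine hnotK a ha haK ?_
          have hIZ : (Z.subgroupOf I).index = 2 := by
            have e := (Z.subgroupOf I).card_mul_index
            rw [Nat.card_congr (subgroupOfEquivOfLe (show Z ≤ I from le_sup_right)).toEquiv, hI] at e
            exact Nat.eq_of_mul_eq_mul_left Nat.card_pos (e.trans (mul_comm _ _))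
          have hz' : a * (k * j⁻¹) * a⁻¹ ∉ Z := fun hh => hz (by
            have := d.normal a⁻¹ (hNF _) _ hh
            simpa [mul_assoc] using this)
          have e : a * j * a⁻¹ * j⁻¹ = (a * (k * j⁻¹) * a⁻¹)⁻¹ * (k * j⁻¹) := by rw [← h3]; group
          rw [e]
          exact mem_subgroupOf.1 ((Subgroup.mul_mem_iff_of_index_two hIZ (a := (⟨_, h2⟩ : I)⁻¹) (b := ⟨_, h1⟩)).2
            ⟨fun hm => absurd (inv_mem_iff.1 (mem_subgroupOf.1 hm)) hz', fun hm => absurd (mem_subgroupOf.1 hm) hz⟩)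
      have hai : a * i * a⁻¹ = i := by
        have hiK : i ∈ K := hKI ▸ mem_sup_left (mem_zpowers i)
        rw [show a * i = i * a from congrArg Subtype.val (mul_comm' (⟨a, ha⟩ : A) ⟨i, hiK.1⟩), mul_inv_cancel_right]
      obtain ⟨u, hu, huu⟩ : ∃ u ∈ I, a * j * a⁻¹ = u * j :=
        ⟨a * j * a⁻¹ * j⁻¹, hmulI _ (hconjF a j hj) _ (inv_mem hj) (hjA a ha) fun hh => hjI (inv_mem_iff.1 hh), by group⟩
      have huZ : u ∉ Z := fun hh => hnotK a ha haK (by rw [huu, mul_inv_cancel_right]; exact hh)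
      have hau : a * u * a⁻¹ = u := by
        have huK : u ∈ K := hKI ▸ hu
        rw [show a * u = u * a from congrArg Subtype.val (mul_comm' (⟨a, ha⟩ : A) ⟨u, huK.1⟩), mul_inv_cancel_right]
      have h1 : u * u * j = j := by
        calc u * u * j = u * (u * j) := mul_assoc _ _ _
          _ = (a * u * a⁻¹) * (a * j * a⁻¹) := by rw [hau, huu]
          _ = a * (u * j) * a⁻¹ := by group
          _ = a * (a * j * a⁻¹) * a⁻¹ := by rw [huu]
          _ = a * a * j * (a * a)⁻¹ := by group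
          _ = j := h0
      exact d.sqne u (hIF hu) huZ h (mul_eq_right.1 h1)
    have h4 : a ^ 4 ≠ 1 := by
      rw [show (4 : ℕ) = 2 * 2 by norm_num, pow_mul, pow_two a, pow_two (a * a)]
      exact d.sqne _ haa haaZ h
    refine hA (isCyclic_of_orderOf_eq_card (⟨a, ha⟩ : A) ?_)
    rw [Subgroup.orderOf_mk, h8]
    refine orderOf_eq_prime_pow (p := 2) (n := 2) h4 ?_
    have e := congrArg Subtype.val (pow_card_eq_one' (x := (⟨a, ha⟩ : A)))
    rw [h8] at e
    exact e

theorem main [Group.IsSolvable S] (hO : Cfsg.pPrimeCore 2 S = ⊥)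
    (h8 : ∃ A : Subgroup S, IsMulCommutative A ∧ ¬ IsCyclic A ∧ Nat.card A = 8)
    (hmin : ∀ R : Subgroup S, R ≠ ⊤ → (∃ k : ℕ, R.index = 2 ^ k) → Thin R) (X : Sylow 2 S) :
    (X : Subgroup S).Normal ∧
      (IsMulCommutative (X : Subgroup S) ∨
        (Cfsg.IsExtraspecial 2 (X : Subgroup S) ∧ 32 ≤ Nat.card (X : Subgroup S)) ∨
        (∃ (X₀ : Subgroup S) (k : ℕ), X₀ ≤ (X : Subgroup S) ∧ X₀.relIndex (X : Subgroup S) = 2 ∧
          Nonempty (X₀ ≃* QuaternionGroup (2 ^ (k + 1))) ∧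
          X₀ ⊔ ((X : Subgroup S) ⊓ centralizer (X₀ : Set S)) = (X : Subgroup S)) ∨
        (Cfsg.IsSpecial 2 (X : Subgroup S) ∧ Nat.card (center (X : Subgroup S)) = 4)) := by
  obtain ⟨A, hAc, hAn, hA8⟩ := h8
  haveI := hAc
  have hnt : ∀ R : Subgroup S, A ≤ R → ¬ Thin R := fun R hR h => h ⟨A, hR, hAc, hAn, hA8⟩
  obtain ⟨H, hH⟩ := CfsgLib.Core.exists_piHall (G := S) ({2}ᶜ : Set ℕ)
  have hHodd : Odd (Nat.card H) := Nat.not_even_iff_odd.1 fun h => hH.1 2 Nat.prime_two h.two_dvd rfl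
  obtain ⟨m, hHidx⟩ : ∃ m, H.index = 2 ^ m :=
    ⟨_, Nat.eq_prime_pow_of_unique_prime_dvd Subgroup.index_ne_zero_of_finite fun {q} hq hd =>
      by_contra fun hne => hH.2 q hq (by simpa using hne) hd⟩
  have hkey : ∀ R : Subgroup S, H ≤ R → ¬ Thin R → R = ⊤ := by
    intro R hR hnR
    by_contra hne
    obtain ⟨k, -, hk⟩ := (Nat.dvd_prime_pow Nat.prime_two).1 (hHidx ▸ index_dvd_of_le hR)
    exact hnR (hmin R hne ⟨k, hk⟩)
  set F := Cfsg.pCore 2 S with hFdef
  have hF : IsPGroup 2 F := CfsgLib.Core.isPGroup_pCore 2 S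
  haveI : F.Normal := by
    rw [hFdef, Cfsg.pCore]
    exact sSup_normal _ fun N hN => hN.1
  have hC : centralizer (F : Set S) ≤ F := CfsgLib.Core.centralizer_pCore_le_of_pPrimeCore_eq_bot hO
  have hHF : H ≤ normalizer (F : Set S) := le_normalizer_of_normal
  have hHinf : ∀ {K : Subgroup S}, IsPGroup 2 K → ∀ x ∈ H, x ∈ K → x = 1 := by
    intro K hK x hxH hxK
    obtain ⟨n, hn⟩ := IsPGroup.iff_card.1 hK
    exact orderOf_eq_one_iff.1 (Nat.eq_one_of_dvd_coprimes
      ((Nat.coprime_two_right.2 hHodd).pow_right n) (H.orderOf_dvd_natCard hxH) (hn ▸ K.orderOf_dvd_natCard hxK))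
  have hcop : ∀ {K : Subgroup S}, IsPGroup 2 K → (Nat.card H).Coprime (Nat.card K) := fun {K} hK => by
    obtain ⟨n, hn⟩ := IsPGroup.iff_card.1 hK
    rw [hn]; exact (Nat.coprime_two_right.2 hHodd).pow_right n
  have hsol : Group.IsSolvable F := by haveI := hF.isNilpotent; infer_instance
  -- if `H` centralizes a normal `2`-subgroup containing its centralizer then `S` is a `2`-group
  have hHbot : ⁅F, H⁆ = ⊥ → H = ⊥ := fun h => (eq_bot_iff_forall _).2 fun x hx =>
    hHinf hF x hx (hC (le_centralizer_iff.1 (commutator_eq_bot_iff_le_centralizer.1 h) hx))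
  have hSbot : H = ⊥ → IsPGroup 2 (⊤ : Subgroup S) := fun h => by
    rw [h, index_bot] at hHidx
    exact IsPGroup.of_card (n := m) (by rw [Subgroup.card_top, hHidx])
  -- data of the commutator
  have hYdata : ⁅F, H⁆ ≠ ⊥ → Thin ⁅F, H⁆ → ∃ Z, SmallData ⁅F, H⁆ Z H ∧
      (Z = ⊥ ∨ (Nat.card Z = 2 ∧ Nonempty (↥⁅F, H⁆ ≃* QuaternionGroup 2) ∧ ¬ IsMulCommutative ↥⁅F, H⁆)) := by
    intro hne hth
    exact small_data (hF.to_le (CfsgLib.Core.commutator_le_of_normalizes hHF)) hHodd
      (CfsgLib.Core.commutator_commutator_eq hHF (hcop hF) (Or.inr hsol))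
      (le_sup_right.trans (CfsgLib.Core.le_normalizer_commutator_self H F)) hne hth
  have hYF : ⁅F, H⁆ ≤ F := CfsgLib.Core.commutator_le_of_normalizes hHF
  have hnF : ¬ Thin F := by
    intro hthin
    by_cases hY : ⁅F, H⁆ = ⊥
    · have hle : (⊤ : Subgroup S) ≤ F := by
        haveI : (⊤ : Subgroup S).Normal := inferInstance
        exact CfsgLib.Core.le_pCore (hSbot (hHbot hY))
      exact hnt F (le_top.trans hle) hthin
    obtain ⟨Z, d, hcase⟩ := hYdata hY (hthin.mono hYF)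
    obtain ⟨hCY, hYC, hsup⟩ := split hF hHodd hHF rfl d
    have hFY : F = ⁅F, H⁆ := by
      by_contra hne
      obtain ⟨D, hD, -, -, hbig⟩ := exists_big hF hYF d hCY hYC (hcase.imp id fun h => h.1) fun hle =>
        hne (le_antisymm (hsup.ge.trans (sup_le le_rfl hle)) hYF)
      exact hbig (hthin.mono (sup_le hYF (hD.trans inf_le_left)))
    rw [← hFY] at d hcase
    exact no_abelian_eight hF d (hcase.imp id fun h => ⟨h.1, h.2.2⟩) hC A hAn hA8
  have htop : F ⊔ H = ⊤ := hkey _ le_sup_right fun h => hnF (h.mono le_sup_left)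
  have hXF : (X : Subgroup S) = F := by
    refine le_antisymm (fun x hx => ?_) (CfsgLib.Core.pCore_le_sylow X)
    obtain ⟨h, hh, f, hf, e⟩ := (CfsgLib.Core.mem_sup_iff_mul hHF).1
      (show x ∈ H ⊔ F from (sup_comm F H ▸ htop) ▸ mem_top x)
    have hhX : h ∈ (X : Subgroup S) := by
      rw [eq_mul_inv_of_mul_eq e.symm]
      exact mul_mem hx (inv_mem (CfsgLib.Core.pCore_le_sylow X hf))
    rw [hHinf X.isPGroup' h hh hhX, one_mul] at e
    exact e ▸ hf
  rw [hXF]
  refine ⟨inferInstance, ?_⟩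
  have hsub : ∀ K : Subgroup S, K ≤ F → H ≤ normalizer (K : Set S) → K ≠ F → Thin K := by
    intro K hKF hHK hne
    by_contra hK
    have h := hkey (K ⊔ H) le_sup_right fun h => hK (h.mono le_sup_left)
    refine hne (le_antisymm hKF fun x hx => ?_)
    obtain ⟨h', hh, k, hk, e⟩ := (CfsgLib.Core.mem_sup_iff_mul hHK).1
      (show x ∈ H ⊔ K from (sup_comm K H ▸ h) ▸ mem_top x)
    have hhF : h' ∈ F := by
      rw [eq_mul_inv_of_mul_eq e.symm]
      exact mul_mem hx (inv_mem (hKF hk))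
    rw [hHinf hF h' hh hhF, one_mul] at e
    exact e ▸ hk
  by_cases hab : IsMulCommutative F
  · exact Or.inl hab
  right
  have hY : ⁅F, H⁆ ≠ ⊥ := by
    intro hY
    have h2 := hSbot (hHbot hY)
    obtain ⟨n, hn⟩ := IsPGroup.iff_card.1 h2
    have hA : A = ⊤ := by
      by_contra hne
      obtain ⟨k, -, hk⟩ := (Nat.dvd_prime_pow Nat.prime_two).1
        (show A.index ∣ 2 ^ n from hn ▸ Subgroup.card_top (G := S) ▸ A.index_dvd_card)
      exact hnt A le_rfl (hmin A hne ⟨k, hk⟩)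
    refine hab ⟨⟨fun x y => Subtype.ext ?_⟩⟩
    show (x : S) * y = y * x
    exact congrArg Subtype.val (mul_comm' (⟨x, hA ▸ mem_top _⟩ : A) ⟨y, hA ▸ mem_top _⟩)
  by_cases hfull : ⁅F, H⁆ = F
  · have hcharK : ∀ C : Subgroup F, C.Characteristic → C ≠ ⊤ → Thin (C.map F.subtype) := by
      intro C hC hne
      haveI := hC
      refine hsub _ (map_subtype_le _) (le_normalizer_char C hHF) fun e => hne ?_
      refine Subgroup.map_injective F.subtype_injective ?_
      rw [e, ← MonoidHom.range_eq_map, range_subtype]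
    haveI : Nontrivial F := (Subgroup.nontrivial_iff_ne_bot F).2 fun h => hab (by
      haveI : IsCyclic F := by rw [h]; infer_instance
      exact IsCyclic.commutative)
    obtain ⟨hsp, hz⟩ := special_of_full hF hHodd hfull hHF hab
      (hcharK _ inferInstance CfsgLib.PGroups.frattini_ne_top)
      (hcharK _ inferInstance fun h => hab ⟨⟨fun x y => (mem_center_iff.1 (h ▸ mem_top x) y).symm⟩⟩)
    rcases hz with hz | hz
    · left
      refine ⟨⟨hsp, hz⟩, ?_⟩
      obtain ⟨n, hn, hc, -⟩ := CfsgLib.PGroups.IsExtraspecial.exists_card (p := 2) (E := F) ⟨hsp, hz⟩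
      rcases (show n = 1 ∨ 2 ≤ n by omega) with rfl | h
      · exfalso
        refine hnF fun ⟨B, hBF, hBc, _, hB8⟩ => hab ?_
        exact (eq_of_le_of_card_ge hBF (by rw [hc, hB8]; norm_num)) ▸ hBc
      · rw [hc]
        exact le_trans (by norm_num) (Nat.pow_le_pow_right (show 0 < 2 by norm_num) (show 5 ≤ 2 * n + 1 by omega))
    · exact Or.inr (Or.inr ⟨hsp, hz⟩)
  -- proper commutator
  have hnormY := CfsgLib.Core.le_normalizer_commutator_self H F
  have hthY : Thin ⁅F, H⁆ := hsub _ hYF (le_sup_right.trans hnormY) hfull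
  obtain ⟨Z, d, hcase⟩ := hYdata hY hthY
  obtain ⟨hCY, hYC, hsup⟩ := split hF hHodd hHF rfl d
  have hnle : ¬ F ⊓ centralizer (H : Set S) ≤ ⁅F, H⁆ := fun hle =>
    hfull (le_antisymm hYF (hsup.ge.trans (sup_le le_rfl hle)))
  obtain ⟨D, hD, hDcard, hZD, hbig⟩ := exists_big hF hYF d hCY hYC (hcase.imp id fun h => h.1) hnle
  have hDC : ⁅F, H⁆ ⊔ D = F := by
    by_contra hne
    refine hbig (hsub _ (sup_le hYF (hD.trans inf_le_left)) ?_ hne)
    refine le_trans (le_inf (le_sup_right.trans hnormY) (le_normalizer_iff.2 fun h hh v hv => ?_))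
      (normalizer_inf_normalizer_le_normalizer_sup _ _)
    rw [mem_centralizer_iff.1 (mem_inf.1 (hD hv)).2 h hh, mul_inv_cancel_right]
    exact hv
  rcases hcase with hZ | ⟨hZ2, ⟨e⟩, -⟩
  · exfalso
    -- the four-group and the fixed points are central
    refine hab ?_
    haveI : IsMulCommutative ↥⁅F, H⁆ := ⟨⟨fun x y =>
      IsPGroup.commutative_of_card_eq_prime_sq (p := 2) (by rw [d.card, hZ, card_bot]; norm_num) x y⟩⟩
    haveI : IsMulCommutative D := by
      haveI : IsCyclic D := isCyclic_of_prime_card (p := 2) (by rw [hDcard, hZ, card_bot])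
      exact IsCyclic.commutative
    have := isMulCommutative_sup (B := ⁅F, H⁆) (C := D) (le_centralizer_iff.1 (hD.trans hCY))
    rwa [hDC] at this
  · right; left
    refine ⟨⁅F, H⁆, 0, hYF, ?_, ⟨e⟩, ?_⟩
    · have hn : D ≤ normalizer ((⁅F, H⁆ : Subgroup S) : Set S) := hD.trans (inf_le_left.trans (le_sup_left.trans hnormY))
      have h := CfsgLib.Core.card_sup_mul_card_inf D ⁅F, H⁆ hn
      have hinf : D ⊓ ⁅F, H⁆ = Z := le_antisymm
        (fun x hx => hYC ▸ mem_inf.2 ⟨(mem_inf.1 hx).2, (mem_inf.1 (hD (mem_inf.1 hx).1)).2⟩) (le_inf hZD d.le)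
      rw [hinf, hDcard, d.card, hZ2, sup_comm, hDC] at h
      have hmul := relIndex_mul_relIndex ⊥ ⁅F, H⁆ F bot_le hYF
      rw [relIndex_bot_left, relIndex_bot_left, d.card, hZ2] at hmul
      omega
    · refine le_antisymm (sup_le hYF inf_le_left) ?_
      conv_lhs => rw [← hDC]
      exact sup_le le_sup_left (le_trans (le_inf (hD.trans inf_le_left) (hD.trans hCY)) le_sup_right)

end CfsgLib.Pairs.Thin
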