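import Cfsg.Agent.Lib.Blocks.Defect
import Cfsg.Prelude.Def_BlockLocal

/-!
# Transport of characters and blocks along isomorphisms
-/

namespace CfsgLib.Pairs

open Cfsg CfsgLib.Blocks
open scoped ComplexConjugate

variable {H K : Type*} [Group H] [Group K]

/-- A character pulled back along an isomorphism. -/
noncomputable def mapIrr (φ : K ≃* H) (χ : IrrCharacter H) : IrrCharacter K :=
  ⟨fun k => (χ : H → ℂ) (φ k), Char.IsIrr.comp_surjective φ.toMonoidHom φ.surjective χ.2⟩

@[simp]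
theorem mapIrr_apply (φ : K ≃* H) (χ : IrrCharacter H) (k : K) :
    (mapIrr φ χ : K → ℂ) k = (χ : H → ℂ) (φ k) := rfl

theorem mapIrr_symm (φ : K ≃* H) (χ : IrrCharacter K) : mapIrr φ (mapIrr φ.symm χ) = χ :=
  Char.irr_ext fun k => by simp

theorem mapIrr_symm' (φ : K ≃* H) (χ : IrrCharacter H) : mapIrr φ.symm (mapIrr φ χ) = χ :=
  Char.irr_ext fun k => by simp

theorem mapIrr_injective (φ : K ≃* H) : Function.Injective (mapIrr φ) := fun χ ψ h => by
  rw [← mapIrr_symm' φ χ, h, mapIrr_symm']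

theorem index_centralizer_comp (φ : K ≃* H) (k : K) :
    (Subgroup.centralizer ({k} : Set K)).index = (Subgroup.centralizer ({φ k} : Set H)).index := by
  have h : Subgroup.centralizer ({k} : Set K) =
      (Subgroup.centralizer ({φ k} : Set H)).comap φ.toMonoidHom := by
    ext x
    simp [Subgroup.mem_centralizer_singleton_iff, ← map_mul, φ.injective.eq_iff]
  rw [h, Subgroup.index_comap_of_surjective _ φ.surjective]

theorem centralChar_mapIrr (φ : K ≃* H) (χ : IrrCharacter H) (k : K) :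
    centralChar (mapIrr φ χ : K → ℂ) k = centralChar (χ : H → ℂ) (φ k) := by
  simp [centralChar, index_centralizer_comp φ k]

theorem sameBlock_mapIrr {M : Ideal AlgInt} (φ : K ≃* H) {χ ψ : IrrCharacter H} :
    SameBlock M (mapIrr φ χ : K → ℂ) (mapIrr φ ψ : K → ℂ) ↔
      SameBlock M (χ : H → ℂ) (ψ : H → ℂ) := by
  refine ⟨fun h g => ?_, fun h k => by rw [centralChar_mapIrr, centralChar_mapIrr]; exact h _⟩
  have := h (φ.symm g)
  rwa [centralChar_mapIrr, centralChar_mapIrr, MulEquiv.apply_symm_apply] at this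

/-- A set of characters pulled back along an isomorphism. -/
noncomputable def mapBlock (φ : K ≃* H) (B : Set (IrrCharacter H)) : Set (IrrCharacter K) :=
  mapIrr φ '' B

theorem mem_mapBlock {φ : K ≃* H} {B : Set (IrrCharacter H)} {χ : IrrCharacter K} :
    χ ∈ mapBlock φ B ↔ mapIrr φ.symm χ ∈ B := by
  constructor
  · rintro ⟨ψ, hψ, rfl⟩
    rwa [mapIrr_symm']
  · exact fun h => ⟨_, h, mapIrr_symm φ χ⟩

theorem mapBlock_blockOf {M : Ideal AlgInt} (φ : K ≃* H) (χ : IrrCharacter H) :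
    mapBlock φ (blockOf M (χ : H → ℂ)) = blockOf M (mapIrr φ χ : K → ℂ) := by
  ext ψ
  rw [mem_mapBlock]
  show SameBlock M _ _ ↔ SameBlock M _ _
  conv_rhs => rw [← mapIrr_symm φ ψ, sameBlock_mapIrr]

theorem isPBlock_mapBlock {M : Ideal AlgInt} (φ : K ≃* H) {B : Set (IrrCharacter H)}
    (hB : IsPBlock M B) : IsPBlock M (mapBlock φ B) := by
  obtain ⟨χ, rfl⟩ := hB
  exact ⟨mapIrr φ χ, mapBlock_blockOf φ χ⟩

theorem mapBlock_principalBlock {M : Ideal AlgInt} (φ : K ≃* H) :
    mapBlock φ (principalBlock M H) = principalBlock M K := by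
  have := mapBlock_blockOf (M := M) φ (Char.trivChar H)
  exact this

theorem mapBlock_mapBlock {L : Type*} [Group L] (φ : K ≃* H) (ψ : L ≃* K)
    (B : Set (IrrCharacter H)) : mapBlock ψ (mapBlock φ B) = mapBlock (ψ.trans φ) B := by
  rw [mapBlock, mapBlock, Set.image_image]
  rfl

theorem mapBlock_symm (φ : K ≃* H) (B : Set (IrrCharacter H)) :
    mapBlock φ.symm (mapBlock φ B) = B := by
  rw [mapBlock, mapBlock, Set.image_image]
  simp [mapIrr_symm']

theorem blockCoeff_mapBlock (φ : K ≃* H) (B : Set (IrrCharacter H)) (k : K) :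
    blockCoeff (mapBlock φ B) k = blockCoeff B (φ k) := by
  rw [blockCoeff, blockCoeff, Nat.card_congr φ.toEquiv, mapBlock,
    finsum_mem_image (mapIrr_injective φ).injOn]
  simp

variable {G : Type*} [Group G]

/-- Conjugation by `x` as an isomorphism between subgroups. -/
def conjEquiv (H K : Subgroup G) (x : G) (h : ∀ g, g ∈ H ↔ x * g * x⁻¹ ∈ K) : H ≃* K where
  toFun g := ⟨x * g * x⁻¹, (h g).1 g.2⟩
  invFun g := ⟨x⁻¹ * g * x, (h _).2 (by simp [mul_assoc])⟩
  left_inv g := Subtype.ext (by simp [mul_assoc])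
  right_inv g := Subtype.ext (by simp [mul_assoc])
  map_mul' a b := Subtype.ext (by simp [mul_assoc])

@[simp]
theorem conjEquiv_apply (H K : Subgroup G) (x : G) (h : ∀ g, g ∈ H ↔ x * g * x⁻¹ ∈ K) (g : H) :
    ((conjEquiv H K x h g : K) : G) = x * g * x⁻¹ := rfl

@[simp]
theorem conjEquiv_symm_apply (H K : Subgroup G) (x : G) (h : ∀ g, g ∈ H ↔ x * g * x⁻¹ ∈ K)
    (g : K) : (((conjEquiv H K x h).symm g : H) : G) = x⁻¹ * g * x := rfl

theorem mem_normalizer_conj {K : Subgroup G} {x : G} (hx : x ∈ Subgroup.normalizer (K : Set G))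
    (g : G) : g ∈ K ↔ x * g * x⁻¹ ∈ K :=
  Subgroup.mem_normalizer_iff.1 hx g

/-- The conjugate of a set of characters of a normalized subgroup. -/
noncomputable def conjSelf {K : Subgroup G} {x : G} (hx : x ∈ Subgroup.normalizer (K : Set G))
    (e : Set (IrrCharacter K)) : Set (IrrCharacter K) :=
  mapBlock (conjEquiv K K x (mem_normalizer_conj hx)).symm e

theorem isConjCharOf_iff {K : Subgroup G} {x : G} (hx : x ∈ Subgroup.normalizer (K : Set G))
    {χ χ' : IrrCharacter K} :
    IsConjCharOf K x (χ : K → ℂ) (χ' : K → ℂ) ↔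
      χ' = mapIrr (conjEquiv K K x (mem_normalizer_conj hx)).symm χ := by
  constructor
  · intro h
    refine Char.irr_ext fun k => ?_
    rw [mapIrr_apply]
    exact h _ k (by simp [mul_assoc])
  · rintro rfl k k' hk
    rw [mapIrr_apply]
    exact congrArg _ (Subtype.ext (by rw [conjEquiv_symm_apply, hk]; simp [mul_assoc]))

theorem stabilizesBlock_iff [Finite G] {K : Subgroup G} {e : Set (IrrCharacter K)} {x : G} :
    StabilizesBlock K e x ↔ ∃ hx : x ∈ Subgroup.normalizer (K : Set G), conjSelf hx e = e := by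
  constructor
  · rintro ⟨hx, h⟩
    refine ⟨hx, Set.Finite.eq_of_subset_of_card_le (Set.toFinite e) ?_ ?_ ⟩
    · rintro _ ⟨χ, hχ, rfl⟩
      obtain ⟨χ', hχ', hc⟩ := h χ hχ
      rwa [(isConjCharOf_iff hx).1 hc] at hχ'
    · rw [conjSelf, mapBlock, Nat.card_image_of_injective (mapIrr_injective _)]
  · rintro ⟨hx, h⟩
    refine ⟨hx, fun χ hχ => ⟨_, ?_, (isConjCharOf_iff hx).2 rfl⟩⟩
    rw [← h]
    exact ⟨χ, hχ, rfl⟩

theorem blockCoeff_conjSelf {K : Subgroup G} {x : G} (hx : x ∈ Subgroup.normalizer (K : Set G))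
    (e : Set (IrrCharacter K)) (k k' : K) (hk : (k' : G) = x * k * x⁻¹) :
    blockCoeff (conjSelf hx e) k' = blockCoeff e k := by
  rw [conjSelf, blockCoeff_mapBlock]
  exact congrArg _ (Subtype.ext (by rw [conjEquiv_symm_apply, hk]; simp [mul_assoc]))

theorem isPBlock_conjSelf {M : Ideal AlgInt} {K : Subgroup G} {x : G}
    (hx : x ∈ Subgroup.normalizer (K : Set G)) {e : Set (IrrCharacter K)} (he : IsPBlock M e) :
    IsPBlock M (conjSelf hx e) := isPBlock_mapBlock _ he

end CfsgLib.Pairs
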