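import Mathlib

/-!
Fixed points of a `2`-group on a module in characteristic two on which an abelian normal subgroup of odd
order has none, in the presence of an element of odd prime order acting freely on the characters.
-/

set_option autoImplicit false
set_option linter.style.haveILetI false

namespace CfsgLib.Pairs.TwoFixed

open scoped TensorProduct

/-- the field of the characters -/
abbrev kbar : Type := AlgebraicClosure (ZMod 2)

theorem exists_fixed {T V : Type*} [Group T] [Finite T] (hT : IsPGroup 2 T) [AddCommGroup V] [Module (ZMod 2) V]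
    (r : T →* Module.End (ZMod 2) V) (M : Submodule (ZMod 2) V) (hM : ∀ t, ∀ v ∈ M, r t v ∈ M)
    {v : V} (hv : v ∈ M) (hv0 : v ≠ 0) : ∃ w ∈ M, w ≠ 0 ∧ ∀ t, r t w = w := by
  haveI : Fact (Nat.Prime 2) := ⟨Nat.prime_two⟩
  let U : Submodule (ZMod 2) V := Submodule.span (ZMod 2) (Set.range fun t => r t v)
  haveI : Module.Finite (ZMod 2) U := Module.Finite.span_of_finite _ (Set.finite_range _)
  haveI : Finite U := Module.finite_of_finite (ZMod 2)
  have hU : ∀ t, ∀ u ∈ U, r t u ∈ U := by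
    intro t u hu
    induction hu using Submodule.span_induction with
    | mem x hx =>
      obtain ⟨s, rfl⟩ := hx
      exact Submodule.subset_span ⟨t * s, by simp only [map_mul, Module.End.mul_apply]⟩
    | zero => simp
    | add x y _ _ hx hy => rw [map_add]; exact add_mem hx hy
    | smul c x _ hx => rw [map_smul]; exact U.smul_mem c hx
  letI : MulAction T U :=
    { smul := fun t u => ⟨r t u, hU t u u.2⟩
      one_smul := fun u => Subtype.ext (show r 1 u = u by rw [map_one]; rfl)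
      mul_smul := fun s t u => Subtype.ext (show r (s * t) u = r s (r t u) by rw [map_mul]; rfl) }
  have hne : (⟨v, Submodule.subset_span ⟨1, by simp⟩⟩ : U) ≠ 0 := fun h => hv0 (congrArg Subtype.val h)
  haveI : Nontrivial U := nontrivial_of_ne _ _ hne
  have h2 : 2 ∣ Nat.card U := by
    rw [Module.natCard_eq_pow_finrank (K := ZMod 2), Nat.card_zmod]
    exact dvd_pow_self 2 (Module.finrank_pos (R := ZMod 2) (M := U)).ne'
  have h0 : (0 : U) ∈ MulAction.fixedPoints T U := fun t => Subtype.ext (map_zero (r t))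
  obtain ⟨w, hw, hw0⟩ := hT.exists_fixed_point_of_prime_dvd_card_of_fixed_point U h2 h0
  have hle : U ≤ M := Submodule.span_le.2 (by rintro _ ⟨t, rfl⟩; exact hM t v hv)
  exact ⟨w, hle w.2, fun h => hw0 (Subtype.ext h.symm), fun t => congrArg Subtype.val (hw t)⟩

/-- a permutation of odd prime order without fixed points -/
theorem prime_dvd_card_of_free {β : Type*} [DecidableEq β] {q : ℕ} [Fact q.Prime] (O : Finset β) (f : β → β)
    (hmaps : ∀ b ∈ O, f b ∈ O) (hq : ∀ b ∈ O, f^[q] b = b) (hfree : ∀ b ∈ O, f b ≠ b) : q ∣ O.card := by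
  let σ₀ : O → O := fun b => ⟨f b, hmaps b b.2⟩
  have hit : ∀ (n : ℕ) (b : O), ((σ₀^[n]) b : β) = f^[n] b := by
    intro n
    induction n with
    | zero => intro b; rfl
    | succ n ih => intro b; rw [Function.iterate_succ_apply', Function.iterate_succ_apply', ← ih b]
  have hid : ∀ b, σ₀^[q] b = b := fun b => Subtype.ext ((hit q b).trans (hq b b.2))
  have hbij : Function.Bijective σ₀ := by
    have h1 : q = (q - 1) + 1 := (Nat.sub_add_cancel (Fact.out : q.Prime).one_le).symm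
    refine ⟨Function.LeftInverse.injective (g := σ₀^[q - 1]) fun b => ?_,
      Function.RightInverse.surjective (g := σ₀^[q - 1]) fun b => ?_⟩
    · rw [← Function.iterate_succ_apply, Nat.succ_eq_add_one, ← h1]; exact hid b
    · rw [← Function.iterate_succ_apply' σ₀, Nat.succ_eq_add_one, ← h1]; exact hid b
  by_contra h
  obtain ⟨b, hb⟩ := Equiv.Perm.exists_fixed_point_of_prime (p := q) (n := 1) (σ := Equiv.ofBijective σ₀ hbij)
    (by rwa [Fintype.card_coe]) (Equiv.ext fun b => by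
      rw [pow_one, Equiv.Perm.coe_pow]; exact hid b)
  exact hfree b b.2 (congrArg Subtype.val hb)

section Eigen

variable {S : Type*} [Group S] {E : Type*} [AddCommGroup E] [Module (ZMod 2) E]
variable (ρ : Representation (ZMod 2) S E) (A : Subgroup S) [A.Normal] [Fintype A]

/-- the extended action -/
noncomputable def ext (g : S) : Module.End kbar (kbar ⊗[ZMod 2] E) := (ρ g).baseChange kbar

theorem ext_mul (g h : S) : ext ρ (g * h) = ext ρ g * ext ρ h := by
  rw [ext, map_mul]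
  exact LinearMap.baseChange_mul _ _

theorem ext_mul_apply (g h : S) (v : kbar ⊗[ZMod 2] E) : ext ρ g (ext ρ h v) = ext ρ (g * h) v := by
  rw [ext_mul]; rfl

theorem ext_one : ext ρ 1 = 1 := by
  rw [ext, map_one]
  exact LinearMap.baseChange_one (ZMod 2) E

/-- conjugated character -/
noncomputable def twist (g : S) (χ : A →* kbarˣ) : A →* kbarˣ := χ.comp (MulAut.conjNormal g⁻¹).toMonoidHom

theorem twist_apply (g : S) (χ : A →* kbarˣ) (s : A) : twist A g χ s = χ (MulAut.conjNormal g⁻¹ s) := rfl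

theorem twist_mul (g h : S) (χ : A →* kbarˣ) : twist A (g * h) χ = twist A g (twist A h χ) := by
  refine MonoidHom.ext fun s => ?_
  rw [twist_apply, twist_apply, twist_apply, mul_inv_rev, map_mul, MulAut.mul_apply]

theorem twist_one (χ : A →* kbarˣ) : twist A (1 : S) χ = χ := by
  refine MonoidHom.ext fun s => ?_
  rw [twist_apply, inv_one, map_one, MulAut.one_apply]

/-- the projection onto a character -/
noncomputable def proj (χ : A →* kbarˣ) : Module.End kbar (kbar ⊗[ZMod 2] E) :=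
  ∑ s : A, ((χ s⁻¹ : kbarˣ) : kbar) • ext ρ (s : S)

theorem proj_apply (χ : A →* kbarˣ) (v : kbar ⊗[ZMod 2] E) :
    proj ρ A χ v = ∑ s : A, ((χ s⁻¹ : kbarˣ) : kbar) • ext ρ (s : S) v := by
  simp [proj, LinearMap.sum_apply]

theorem ext_proj (g : S) (χ : A →* kbarˣ) (v : kbar ⊗[ZMod 2] E) :
    ext ρ g (proj ρ A χ v) = proj ρ A (twist A g χ) (ext ρ g v) := by
  rw [proj_apply, proj_apply, map_sum]
  refine Fintype.sum_equiv (MulAut.conjNormal g).toEquiv _ _ fun s => ?_
  rw [map_smul, ext_mul_apply, ext_mul_apply, MulEquiv.toEquiv_eq_coe, MulEquiv.coe_toEquiv, MulAut.conjNormal_apply,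
    inv_mul_cancel_right]
  congr 2
  rw [twist_apply, ← map_inv (MulAut.conjNormal g) s, ← MulAut.mul_apply, ← map_mul, inv_mul_cancel, map_one,
    MulAut.one_apply]

theorem ext_mem (a : A) (χ : A →* kbarˣ) (v : kbar ⊗[ZMod 2] E) :
    ext ρ (a : S) (proj ρ A χ v) = ((χ a : kbarˣ) : kbar) • proj ρ A χ v := by
  rw [proj_apply, map_sum, Finset.smul_sum]
  refine Fintype.sum_equiv (Equiv.mulLeft a) _ _ fun s => ?_
  rw [map_smul, ext_mul_apply, smul_smul, Equiv.coe_mulLeft, Subgroup.coe_mul]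
  congr 1
  rw [← Units.val_mul, ← map_mul, mul_inv_rev]
  congr 1
  rw [show a * (s⁻¹ * a⁻¹) = (a * s⁻¹) * a⁻¹ from (mul_assoc _ _ _).symm, map_mul, map_mul, map_inv, map_inv,
    mul_comm (χ a), mul_inv_cancel_right]

theorem proj_proj [DecidableEq (A →* kbarˣ)] (hodd : Odd (Nat.card A)) (χ ψ : A →* kbarˣ) (v : kbar ⊗[ZMod 2] E) :
    proj ρ A χ (proj ρ A ψ v) = if χ = ψ then proj ρ A ψ v else 0 := by
  rw [proj_apply ρ A χ]
  simp only [ext_mem ρ A, smul_smul]
  rw [← Finset.sum_smul]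
  have h : ∀ s : A, ((χ s⁻¹ : kbarˣ) : kbar) * ((ψ s : kbarˣ) : kbar) = (((χ⁻¹ * ψ) s : kbarˣ) : kbar) := fun s => by
    rw [← Units.val_mul, map_inv, MonoidHom.mul_apply, MonoidHom.inv_apply]
  classical
  rw [Finset.sum_congr rfl fun s _ => h s]
  have hcard : (Fintype.card A : kbar) = 1 := by
    rw [← Nat.card_eq_fintype_card]
    obtain ⟨m, hm⟩ := hodd
    rw [hm, Nat.cast_add, Nat.cast_mul, show ((2 : ℕ) : kbar) = 0 from CharP.cast_eq_zero kbar 2, zero_mul, zero_add,
      Nat.cast_one]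
  by_cases hχ : χ = ψ
  · have h1 : χ⁻¹ * ψ = 1 := by rw [hχ]; exact inv_mul_cancel ψ
    simp [hχ, hcard]
  · have h1 : χ⁻¹ * ψ ≠ 1 := fun e => hχ (eq_of_inv_mul_eq_one e)
    have h2 : (Units.coeHom kbar).comp (χ⁻¹ * ψ) ≠ 1 := fun e => h1 (MonoidHom.ext fun s =>
      Units.ext (DFunLike.congr_fun e s))
    rw [if_neg hχ, show (∑ s : A, (((χ⁻¹ * ψ) s : kbarˣ) : kbar)) = 0 from sum_hom_units_eq_zero _ h2, zero_smul]

theorem sum_proj [Fintype (A →* kbarˣ)] (hc : ∀ a b : A, a * b = b * a) (hodd : Odd (Nat.card A))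
    (v : kbar ⊗[ZMod 2] E) : ∑ χ : A →* kbarˣ, proj ρ A χ v = v := by
  letI : CommGroup A := { (inferInstance : Group A) with mul_comm := hc }
  have hne : (Nat.card A : kbar) = 1 := by
    obtain ⟨m, hm⟩ := hodd
    rw [hm, Nat.cast_add, Nat.cast_mul, show ((2 : ℕ) : kbar) = 0 from CharP.cast_eq_zero kbar 2, zero_mul, zero_add,
      Nat.cast_one]
  haveI : NeZero (Monoid.exponent A : kbar) := ⟨fun h => by
    obtain ⟨c, hc'⟩ := Group.exponent_dvd_nat_card (G := A)
    rw [hc', Nat.cast_mul, h, zero_mul] at hne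
    exact zero_ne_one hne⟩
  simp only [proj_apply]
  rw [Finset.sum_comm, Fintype.sum_eq_single 1]
  · simp only [← Finset.sum_smul, inv_one, map_one, Units.val_one, Finset.sum_const, Finset.card_univ,
      nsmul_eq_mul, mul_one]
    rw [← Nat.card_eq_fintype_card, CommGroup.card_monoidHom_of_hasEnoughRootsOfUnity A kbar, hne, one_smul,
      OneMemClass.coe_one, ext_one]
    rfl
  · intro s hs
    rw [← Finset.sum_smul]
    obtain ⟨ψ, hψ⟩ := CommGroup.exists_apply_ne_one_of_hasEnoughRootsOfUnity A kbar (a := s⁻¹) (inv_ne_one.2 hs)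
    set σ := ∑ χ : A →* kbarˣ, ((χ s⁻¹ : kbarˣ) : kbar) with hσ
    have h1 : ((ψ s⁻¹ : kbarˣ) : kbar) * σ = σ := by
      rw [hσ, Finset.mul_sum]
      exact Fintype.sum_equiv (Equiv.mulLeft ψ) _ _ fun χ => by simp
    have h2 : σ = 0 := by
      by_contra h0
      exact hψ (Units.ext (mul_right_cancel₀ h0 (h1.trans (one_mul σ).symm)))
    rw [h2, zero_smul]

end Eigen

theorem main {S : Type*} [Group S] [Finite S] {q : ℕ} (hq : q.Prime) (hq2 : q ≠ 2)
    (T : Subgroup S) (hT : IsPGroup 2 T) (A : Subgroup S) [A.Normal] (hA : Odd (Nat.card A))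
    (hAc : ∀ a b : A, a * b = b * a) (Q : Subgroup S) (hQ : Nat.card Q = q) (hcomm : ⁅A, Q⁆ = A)
    {E : Type*} [AddCommGroup E] [Module (ZMod 2) E] [Finite E] [Nontrivial E] (ρ : Representation (ZMod 2) S E)
    (hfix : ∀ v : E, (∀ a ∈ A, ρ a v = v) → v = 0) :
    8 ≤ Nat.card {v : E // ∀ s ∈ T, ρ s v = v} ∨
      (Nat.card {v : E // ∀ s ∈ T, ρ s v = v} = 4 ∧
        ∃ x ∈ Q, ∃ v : E, (∀ s ∈ T, ρ s v = v) ∧ ¬ ∀ s ∈ T, ρ s (ρ x v) = ρ x v) := by
  classical
  haveI := Fact.mk hq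
  haveI : Fintype A := Fintype.ofFinite A
  haveI : Module.Finite (ZMod 2) E := Module.Finite.of_finite
  letI : CommGroup A := { (inferInstance : Group A) with mul_comm := hAc }
  haveI : NeZero (Monoid.exponent A : kbar) := ⟨fun h => by
    have h2 : (2 : ℕ) ∣ Nat.card A := ((CharP.cast_eq_zero_iff kbar 2 _).1 h).trans Group.exponent_dvd_nat_card
    exact (Nat.not_even_iff_odd.2 hA) (even_iff_two_dvd.2 h2)⟩
  haveI : Finite (A →* kbarˣ) := Finite.of_equiv _
    (CommGroup.monoidHom_mulEquiv_of_hasEnoughRootsOfUnity A kbar).some.symm.toEquiv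
  haveI : Fintype (A →* kbarˣ) := Fintype.ofFinite _
  let V := kbar ⊗[ZMod 2] E
  -- the fixed points and their extension
  let E₀ : Submodule (ZMod 2) E :=
    { carrier := {v | ∀ s ∈ T, ρ s v = v}
      add_mem' := fun {a b} ha hb s hs => by rw [map_add, ha s hs, hb s hs]
      zero_mem' := fun s _ => map_zero _
      smul_mem' := fun c {a} ha s hs => by rw [map_smul, ha s hs] }
  have hcard : Nat.card {v : E // ∀ s ∈ T, ρ s v = v} = 2 ^ Module.finrank (ZMod 2) E₀ := by
    rw [show Nat.card {v : E // ∀ s ∈ T, ρ s v = v} = Nat.card E₀ from rfl,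
      Module.natCard_eq_pow_finrank (K := ZMod 2), Nat.card_zmod]
  haveI : Fintype T := Fintype.ofFinite T
  let L : E →ₗ[ZMod 2] (T → E) := LinearMap.pi fun t : T => ρ (t : S) - 1
  have hL : L.ker = E₀ := by
    ext v
    simp only [LinearMap.mem_ker, funext_iff, L, LinearMap.pi_apply, LinearMap.sub_apply, Module.End.one_apply,
      Pi.zero_apply, sub_eq_zero, Subtype.forall]
    exact Iff.rfl
  obtain ⟨π', hπ'⟩ := LinearMap.exists_leftInverse_of_injective E₀.subtype (Submodule.ker_subtype _)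
  obtain ⟨R, hR⟩ : ∃ R : (T → E) →ₗ[ZMod 2] E, E₀.subtype.comp π' + R.comp L = LinearMap.id := by
    have hle : L.ker ≤ (LinearMap.id - E₀.subtype.comp π' : E →ₗ[ZMod 2] E).ker := by
      intro v hv
      rw [hL] at hv
      have := LinearMap.congr_fun hπ' ⟨v, hv⟩
      simp only [LinearMap.comp_apply, Submodule.subtype_apply, LinearMap.id_apply] at this
      simp [LinearMap.mem_ker, this]
    obtain ⟨R, hR⟩ := LinearMap.exists_extend
      (((L.ker).liftQ _ hle).comp L.quotKerEquivRange.symm.toLinearMap)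
    refine ⟨R, LinearMap.ext fun v => ?_⟩
    have := LinearMap.congr_fun hR ⟨L v, v, rfl⟩
    simp only [LinearMap.comp_apply, Submodule.subtype_apply, LinearEquiv.coe_coe,
      show (⟨L v, v, rfl⟩ : L.range) = L.quotKerEquivRange (Submodule.Quotient.mk v) from rfl,
      LinearEquiv.symm_apply_apply, Submodule.liftQ_apply] at this
    rw [LinearMap.add_apply, LinearMap.comp_apply, LinearMap.comp_apply, LinearMap.id_apply]
    rw [show R (L v) = (LinearMap.id - E₀.subtype.comp π' : E →ₗ[ZMod 2] E) v from this]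
    simp
  let F : Submodule kbar V := (E₀.subtype.baseChange kbar).range
  have hFdim : Module.finrank kbar F ≤ Module.finrank (ZMod 2) E₀ := by
    refine (LinearMap.finrank_range_le _).trans ?_
    rw [Module.finrank_baseChange]
  have hF : ∀ w : V, (∀ s ∈ T, ext ρ s w = w) → w ∈ F := by
    intro w hw
    have hsum : L = ∑ t : T, (LinearMap.single (ZMod 2) (fun _ : T => E) t).comp (ρ (t : S) - 1) := by
      refine LinearMap.ext fun v => funext fun t => ?_
      simp [L, LinearMap.sum_apply, Finset.sum_apply, Pi.single_apply]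
    have e := LinearMap.congr_fun (congrArg (LinearMap.baseChange kbar) hR) w
    rw [LinearMap.baseChange_add, LinearMap.baseChange_comp, LinearMap.baseChange_comp, LinearMap.add_apply,
      LinearMap.baseChange_id, LinearMap.id_apply] at e
    have hz : L.baseChange kbar w = 0 := by
      have : L.baseChange kbar = ∑ t : T, ((LinearMap.single (ZMod 2) (fun _ : T => E) t).baseChange kbar).comp
          (ext ρ (t : S) - 1) := by
        rw [hsum, ← LinearMap.baseChangeHom_apply, map_sum]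
        refine Finset.sum_congr rfl fun t _ => ?_
        rw [LinearMap.baseChangeHom_apply, LinearMap.baseChange_comp, LinearMap.baseChange_sub, LinearMap.baseChange_one]
        rfl
      rw [this, LinearMap.sum_apply]
      refine Finset.sum_eq_zero fun t _ => ?_
      rw [LinearMap.comp_apply, LinearMap.sub_apply, Module.End.one_apply, hw t t.2, sub_self, map_zero]
    rw [LinearMap.comp_apply, LinearMap.comp_apply, hz, map_zero, add_zero] at e
    exact ⟨_, e⟩
  -- the characters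
  let e : (A →* kbarˣ) → V → V := fun χ => proj ρ A χ
  have hee : ∀ χ ψ v, e χ (e ψ v) = if χ = ψ then e ψ v else 0 := proj_proj ρ A hA
  have hsum : ∀ v, ∑ χ, e χ v = v := sum_proj ρ A hAc hA
  have hext : ∀ g χ v, ext ρ g (e χ v) = e (twist A g χ) (ext ρ g v) := ext_proj ρ A
  have hinj : ∀ g (v : V), ext ρ g v = 0 → v = 0 := fun g v h => by
    have := ext_mul_apply ρ g⁻¹ g v
    rw [h, map_zero, inv_mul_cancel, ext_one] at this
    exact this.symm
  have hone : ∀ v, e 1 v = 0 := by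
    have hz : (∑ s : A, ρ (s : S) : E →ₗ[ZMod 2] E) = 0 := by
      refine LinearMap.ext fun v => hfix _ fun a ha => ?_
      simp only [LinearMap.sum_apply, map_sum]
      refine Fintype.sum_equiv (Equiv.mulLeft (⟨a, ha⟩ : A)) _ _ fun s => ?_
      rw [← Module.End.mul_apply, ← map_mul]
      rfl
    intro v
    show proj ρ A 1 v = 0
    have : proj ρ A 1 = LinearMap.baseChange kbar (∑ s : A, ρ (s : S) : E →ₗ[ZMod 2] E) := by
      rw [← LinearMap.baseChangeHom_apply, map_sum]
      simp only [proj, MonoidHom.one_apply, Units.val_one, one_smul]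
      rfl
    rw [this, hz, LinearMap.baseChange_zero, LinearMap.zero_apply]
  let X : Finset (A →* kbarˣ) := Finset.univ.filter fun χ => ∃ v, e χ v ≠ 0
  have hX : X.Nonempty := by
    obtain ⟨a, ha⟩ := exists_ne (0 : E)
    by_contra h
    have h0 : (1 : kbar) ⊗ₜ[ZMod 2] a = 0 := by
      rw [← hsum ((1 : kbar) ⊗ₜ[ZMod 2] a)]
      refine Finset.sum_eq_zero fun χ _ => ?_
      by_contra hne
      exact h ⟨χ, Finset.mem_filter.2 ⟨Finset.mem_univ _, _, hne⟩⟩
    obtain ⟨g, hg⟩ := Module.Projective.exists_dual_ne_zero (ZMod 2) ha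
    have h1 := congrArg (fun z => (TensorProduct.rid (ZMod 2) kbar) (g.lTensor kbar z)) h0
    simp [LinearMap.lTensor_tmul] at h1
    exact hg h1
  have hXinv : ∀ g, ∀ χ ∈ X, twist A g χ ∈ X := fun g χ hχ => by
    obtain ⟨v, hv⟩ := (Finset.mem_filter.1 hχ).2
    refine Finset.mem_filter.2 ⟨Finset.mem_univ _, ext ρ g v, ?_⟩
    rw [← hext]
    exact fun h => hv (hinj _ _ h)
  -- elements of `Q`
  have hfree : ∀ x ∈ Q, x ≠ 1 → ∀ χ ∈ X, twist A x χ ≠ χ := by
    intro x hx hx1 χ hχ he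
    have hgen : Subgroup.zpowers x = Q := by
      refine Subgroup.eq_of_le_of_card_ge (Subgroup.zpowers_le.2 hx) ?_
      rw [Nat.card_zpowers, hQ]
      refine Nat.le_of_dvd (orderOf_pos x) ?_
      rcases (Nat.dvd_prime hq).1 (hQ ▸ Subgroup.orderOf_dvd_natCard Q hx) with h | h
      · exact absurd (orderOf_eq_one_iff.1 h) hx1
      · rw [h]
    have hall : ∀ y ∈ Q, twist A y χ = χ := by
      let St : Subgroup S :=
        { carrier := {y | twist A y χ = χ}
          one_mem' := twist_one A χ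
          mul_mem' := fun {a b} ha hb => by
            show twist A (a * b) χ = χ
            rw [twist_mul, show twist A b χ = χ from hb]; exact ha
          inv_mem' := fun {a} ha => by
            show twist A a⁻¹ χ = χ
            conv_lhs => rw [← show twist A a χ = χ from ha]
            rw [← twist_mul, inv_mul_cancel, twist_one] }
      intro y hy
      exact (show Q ≤ St from hgen ▸ Subgroup.zpowers_le.2 he) hy
    have hle : A ≤ χ.ker.map A.subtype := by
      conv_lhs => rw [← hcomm]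
      rw [Subgroup.commutator_le]
      intro a ha y hy
      refine ⟨⟨a, ha⟩ * (MulAut.conjNormal y ⟨a, ha⟩)⁻¹, ?_, ?_⟩
      · rw [SetLike.mem_coe, MonoidHom.mem_ker, map_mul, map_inv]
        conv_lhs => arg 2; rw [← hall y hy, twist_apply, ← MulAut.mul_apply, ← map_mul, inv_mul_cancel, map_one,
          MulAut.one_apply]
        exact mul_inv_cancel _
      · simp [commutatorElement_def, mul_assoc]
    have h1 : χ = 1 := MonoidHom.ext fun a => by
      obtain ⟨b, hb, hba⟩ := hle a.2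
      rw [← Subtype.ext hba (a1 := b) (a2 := a)]
      exact hb
    obtain ⟨v, hv⟩ := (Finset.mem_filter.1 hχ).2
    exact hv (h1 ▸ hone v)
  -- orbits of `T`
  let orb : (A →* kbarˣ) → Finset (A →* kbarˣ) := fun χ => Finset.univ.image fun t : T => twist A (t : S) χ
  have horb_self : ∀ χ, χ ∈ orb χ := fun χ => Finset.mem_image.2 ⟨1, Finset.mem_univ _, twist_one A χ⟩
  have horb_inv : ∀ χ (t : T), ∀ ψ ∈ orb χ, twist A (t : S) ψ ∈ orb χ := by
    intro χ t ψ hψ
    obtain ⟨s, -, rfl⟩ := Finset.mem_image.1 hψ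
    exact Finset.mem_image.2 ⟨t * s, Finset.mem_univ _, twist_mul A _ _ _⟩
  have horb_eq : ∀ χ, ∀ ψ ∈ orb χ, orb ψ = orb χ := by
    intro χ ψ hψ
    obtain ⟨s, -, rfl⟩ := Finset.mem_image.1 hψ
    ext φ
    simp only [orb, Finset.mem_image, Finset.mem_univ, true_and]
    constructor
    · rintro ⟨t, rfl⟩; exact ⟨t * s, twist_mul A _ _ _⟩
    · rintro ⟨t, rfl⟩
      exact ⟨t * s⁻¹, by rw [← twist_mul]; congr 1; simp⟩
  have horb_card : ∀ χ, ¬ q ∣ (orb χ).card := by
    intro χ
    letI : MulAction T (A →* kbarˣ) :=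
      { smul := fun t φ => twist A (t : S) φ
        one_smul := fun φ => twist_one A φ
        mul_smul := fun s t φ => twist_mul A _ _ φ }
    have h1 : (orb χ).card = Nat.card (MulAction.orbit T χ) := by
      rw [← Set.ncard_coe_finset, Nat.card_coe_set_eq]
      refine congrArg Set.ncard ?_
      ext φ
      simp only [orb, Finset.coe_image, Finset.coe_univ, Set.image_univ]
      exact Iff.rfl
    obtain ⟨n, hn⟩ := IsPGroup.card_orbit hT χ
    rw [h1, hn]
    exact fun h => hq2 ((Nat.prime_dvd_prime_iff_eq hq Nat.prime_two).1 (hq.dvd_of_dvd_pow h))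
  have hfixO : ∀ χ ∈ X, ∃ w : V, (∀ s ∈ T, ext ρ s w = w) ∧ ∀ ψ, e ψ w ≠ 0 ↔ ψ ∈ orb χ := by
    intro χ hχ
    let eO : V →ₗ[kbar] V := ∑ ψ ∈ orb χ, proj ρ A ψ
    have heO : ∀ v, eO v = ∑ ψ ∈ orb χ, e ψ v := fun v => LinearMap.sum_apply _ _ _
    obtain ⟨v, hv⟩ := (Finset.mem_filter.1 hχ).2
    have hout : ∀ ψ v, e ψ (eO v) = if ψ ∈ orb χ then e ψ v else 0 := by
      intro ψ v
      rw [heO, show e ψ (∑ φ ∈ orb χ, e φ v) = ∑ φ ∈ orb χ, e ψ (e φ v) from map_sum (proj ρ A ψ) _ _]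
      simp [hee]
    have hcomm' : ∀ t : T, ∀ v, ext ρ (t : S) (eO v) = eO (ext ρ (t : S) v) := by
      intro t v
      rw [heO, heO, map_sum]
      simp only [hext]
      refine Finset.sum_bij (fun ψ _ => twist A (t : S) ψ) (fun ψ h => horb_inv χ t ψ h)
        (fun a _ b _ h => ?_) (fun b hb => ⟨twist A ((t⁻¹ : T) : S) b, horb_inv χ t⁻¹ b hb, ?_⟩) (fun _ _ => rfl)
      · have := congrArg (twist A ((t⁻¹ : T) : S)) h
        rwa [← twist_mul, ← twist_mul, ← Subgroup.coe_mul, inv_mul_cancel, OneMemClass.coe_one, twist_one,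
          twist_one] at this
      · rw [← twist_mul, ← Subgroup.coe_mul, mul_inv_cancel, OneMemClass.coe_one, twist_one]
    let r : T →* Module.End (ZMod 2) V :=
      { toFun := fun t => (ext ρ (t : S)).restrictScalars (ZMod 2)
        map_one' := by ext v; simp [ext_one]
        map_mul' := fun s t => by ext v; simp [ext_mul] }
    obtain ⟨w, hwM, hw0, hw⟩ := exists_fixed hT r (eO.range.restrictScalars (ZMod 2))
      (by rintro t _ ⟨u, rfl⟩; exact ⟨_, (hcomm' t u).symm⟩) (v := eO v) ⟨v, rfl⟩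
      (fun h => hv (by
        have := hout χ v
        rw [h, if_pos (horb_self χ)] at this
        exact this.symm.trans (map_zero (proj ρ A χ))))
    have hwf : ∀ s ∈ T, ext ρ s w = w := fun s hs => hw ⟨s, hs⟩
    obtain ⟨u, rfl⟩ := hwM
    refine ⟨eO u, hwf, fun ψ => ⟨fun h => ?_, fun hψ h => ?_⟩⟩
    · by_contra hn
      exact h (by rw [hout, if_neg hn])
    · refine hw0 ?_
      rw [← hsum (eO u)]
      refine Finset.sum_eq_zero fun φ _ => ?_
      by_cases hφ : φ ∈ orb χ
      · rw [← horb_eq χ ψ hψ] at hφ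
        obtain ⟨t, -, rfl⟩ := Finset.mem_image.1 hφ
        rw [← hwf t t.2, ← hext, h, map_zero]
      · rw [hout, if_neg hφ]
  obtain ⟨x, hxQ, hx1⟩ : ∃ x ∈ Q, x ≠ 1 := by
    haveI : Nontrivial Q := Finite.one_lt_card_iff_nontrivial.1 (by rw [hQ]; exact hq.one_lt)
    obtain ⟨x, hx⟩ := exists_ne (1 : Q)
    exact ⟨x, x.2, fun h => hx (Subtype.ext h)⟩
  -- an element of `Q` leaves no orbit invariant
  have hmove : ∀ y ∈ Q, y ≠ 1 → ∀ O : Finset (A →* kbarˣ), O ⊆ X → (∀ φ ∈ O, twist A y φ ∈ O) → q ∣ O.card := by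
    intro y hy hy1 O hO hmaps
    refine prime_dvd_card_of_free O (twist A y) hmaps (fun φ _ => ?_) fun φ hφ => hfree y hy hy1 φ (hO hφ)
    have hit : ∀ n : ℕ, (twist A y)^[n] φ = twist A (y ^ n) φ := by
      intro n
      induction n with
      | zero => rw [pow_zero, twist_one]; rfl
      | succ n ih => rw [Function.iterate_succ_apply', ih, pow_succ', twist_mul]
    rw [hit, show y ^ q = 1 from orderOf_dvd_iff_pow_eq_one.1 (hQ ▸ Subgroup.orderOf_dvd_natCard Q hy), twist_one]
  have horbX : ∀ χ ∈ X, orb χ ⊆ X := by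
    intro χ hχ φ hφ
    obtain ⟨t, -, rfl⟩ := Finset.mem_image.1 hφ
    exact hXinv _ _ hχ
  obtain ⟨χ₁, hχ₁⟩ := hX
  obtain ⟨χ₂, hχ₂, h21⟩ : ∃ χ₂ ∈ X, χ₂ ∉ orb χ₁ := by
    by_contra! h
    exact horb_card χ₁ (hmove x hxQ hx1 _ (horbX χ₁ hχ₁) fun φ hφ => h _ (hXinv x φ (horbX χ₁ hχ₁ hφ)))
  obtain ⟨w₁, hw₁, hs₁⟩ := hfixO χ₁ hχ₁
  obtain ⟨w₂, hw₂, hs₂⟩ := hfixO χ₂ hχ₂
  have h12 : ∀ φ, φ ∈ orb χ₁ → φ ∈ orb χ₂ → False := fun φ ha hb =>
    h21 (horb_eq _ _ ha ▸ (horb_eq _ _ hb).symm ▸ horb_self χ₂)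
  have hz : ∀ {w : V} {O : Finset (A →* kbarˣ)}, (∀ ψ, e ψ w ≠ 0 ↔ ψ ∈ O) → ∀ ψ, ψ ∉ O → e ψ w = 0 :=
    fun h ψ hψ => not_not.1 fun h' => hψ ((h ψ).1 h')
  by_cases h3 : ∃ χ₃ ∈ X, χ₃ ∉ orb χ₁ ∧ χ₃ ∉ orb χ₂
  · left
    obtain ⟨χ₃, hχ₃, h31, h32⟩ := h3
    obtain ⟨w₃, hw₃, hs₃⟩ := hfixO χ₃ hχ₃
    let u : Fin 3 → V := ![w₁, w₂, w₃]
    have hu : LinearIndependent kbar u := by
      rw [Fintype.linearIndependent_iff]
      intro c hc
      have hc' : c 0 • w₁ + c 1 • w₂ + c 2 • w₃ = 0 := by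
        simpa [u, Fin.sum_univ_three] using hc
      have happ : ∀ ψ, c 0 • e ψ w₁ + c 1 • e ψ w₂ + c 2 • e ψ w₃ = 0 := by
        intro ψ
        have := congrArg (proj ρ A ψ) hc'
        simpa only [map_add, map_smul, map_zero] using this
      have c13 : χ₁ ∉ orb χ₃ := fun h => h31 (horb_eq _ _ h ▸ horb_self χ₃)
      have c23 : χ₂ ∉ orb χ₃ := fun h => h32 (horb_eq _ _ h ▸ horb_self χ₃)
      have p1 := happ χ₁
      rw [hz hs₂ χ₁ (h12 χ₁ (horb_self χ₁)), hz hs₃ χ₁ c13, smul_zero, smul_zero, add_zero, add_zero,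
        smul_eq_zero] at p1
      have p2 := happ χ₂
      rw [hz hs₁ χ₂ h21, hz hs₃ χ₂ c23, smul_zero, smul_zero, zero_add, add_zero, smul_eq_zero] at p2
      have p3 := happ χ₃
      rw [hz hs₁ χ₃ h31, hz hs₂ χ₃ h32, smul_zero, smul_zero, zero_add, zero_add, smul_eq_zero] at p3
      intro i
      fin_cases i
      · exact p1.resolve_right ((hs₁ _).2 (horb_self _))
      · exact p2.resolve_right ((hs₂ _).2 (horb_self _))
      · exact p3.resolve_right ((hs₃ _).2 (horb_self _))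
    have h : 3 ≤ Module.finrank kbar F := by
      have h' := Submodule.finrank_mono (show Submodule.span kbar (Set.range u) ≤ F from Submodule.span_le.2 (by
        rintro _ ⟨i, rfl⟩
        fin_cases i
        exacts [hF _ hw₁, hF _ hw₂, hF _ hw₃]))
      rw [finrank_span_eq_card hu, Fintype.card_fin] at h'
      exact h'
    rw [hcard]
    exact le_trans (by norm_num) (Nat.pow_le_pow_right (show 0 < 2 by norm_num) (h.trans hFdim))
  push Not at h3
  let u : Fin 2 → V := ![w₁, w₂]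
  have hu : LinearIndependent kbar u := by
    rw [Fintype.linearIndependent_iff]
    intro c hc
    have hc' : c 0 • w₁ + c 1 • w₂ = 0 := by simpa [u, Fin.sum_univ_two] using hc
    have happ : ∀ ψ, c 0 • e ψ w₁ + c 1 • e ψ w₂ = 0 := by
      intro ψ
      have := congrArg (proj ρ A ψ) hc'
      simpa only [map_add, map_smul, map_zero] using this
    have p1 := happ χ₁
    rw [hz hs₂ χ₁ (h12 χ₁ (horb_self χ₁)), smul_zero, add_zero, smul_eq_zero] at p1
    have p2 := happ χ₂
    rw [hz hs₁ χ₂ h21, smul_zero, zero_add, smul_eq_zero] at p2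
    intro i
    fin_cases i
    · exact p1.resolve_right ((hs₁ _).2 (horb_self _))
    · exact p2.resolve_right ((hs₂ _).2 (horb_self _))
  let W : Submodule kbar V := Submodule.span kbar (Set.range u)
  have hWF : W ≤ F := Submodule.span_le.2 (by
    rintro _ ⟨i, rfl⟩
    fin_cases i
    exacts [hF _ hw₁, hF _ hw₂])
  have hW2 : Module.finrank kbar W = 2 := (finrank_span_eq_card hu).trans (by simp)
  have h2 : 2 ≤ Module.finrank (ZMod 2) E₀ := hW2.ge.trans ((Submodule.finrank_mono hWF).trans hFdim)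
  by_cases h8 : 3 ≤ Module.finrank (ZMod 2) E₀
  · left
    rw [hcard]
    exact le_trans (by norm_num) (Nat.pow_le_pow_right (show 0 < 2 by norm_num) h8)
  have hd : Module.finrank (ZMod 2) E₀ = 2 := by omega
  refine Or.inr ⟨by rw [hcard, hd]; norm_num, ?_⟩
  by_contra! hcon
  have hWeq : W = F := Submodule.eq_of_le_of_finrank_le hWF (by omega)
  have hmapF : ∀ w ∈ F, ext ρ x w ∈ F := by
    rintro _ ⟨u, rfl⟩
    let g : E₀ →ₗ[ZMod 2] E₀ := (ρ x).restrict fun v (hv : v ∈ E₀) => hcon x hxQ v hv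
    refine ⟨g.baseChange kbar u, ?_⟩
    rw [ext, ← LinearMap.comp_apply, ← LinearMap.comp_apply, ← LinearMap.baseChange_comp,
      ← LinearMap.baseChange_comp]
    rfl
  let im : Finset (A →* kbarˣ) → Finset (A →* kbarˣ) := fun O => O.image (twist A x)
  have hinjT : Function.Injective (twist A x) := fun a b h => by
    have := congrArg (twist A x⁻¹) h
    rwa [← twist_mul, ← twist_mul, inv_mul_cancel, twist_one, twist_one] at this
  have hcases : ∀ {w : V} {χ : A →* kbarˣ}, (∀ s ∈ T, ext ρ s w = w) → (∀ ψ, e ψ w ≠ 0 ↔ ψ ∈ orb χ) →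
      im (orb χ) = orb χ₁ ∨ im (orb χ) = orb χ₂ ∨ im (orb χ) = orb χ₁ ∪ orb χ₂ := by
    intro w χ hw hs
    have hsupp : ∀ ψ, e ψ (ext ρ x w) ≠ 0 ↔ ψ ∈ im (orb χ) := by
      intro ψ
      have hψ : ψ = twist A x (twist A x⁻¹ ψ) := by rw [← twist_mul, mul_inv_cancel, twist_one]
      conv_lhs => rw [hψ, ← hext]
      constructor
      · intro h
        refine Finset.mem_image.2 ⟨_, (hs _).1 fun h0 => h (by rw [h0, map_zero]), hψ.symm⟩
      · intro h h0
        obtain ⟨φ, hφ, hφψ⟩ := Finset.mem_image.1 h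
        refine (hs _).2 ?_ (hinj _ _ h0)
        rw [show twist A x⁻¹ ψ = φ from hinjT (hψ.symm.trans hφψ.symm)]
        exact hφ
    have hmem : ext ρ x w ∈ W := hWeq ▸ hmapF _ (hF _ hw)
    obtain ⟨c, hc⟩ := (Submodule.mem_span_range_iff_exists_fun kbar).1 hmem
    have hcx : ∀ ψ, e ψ (ext ρ x w) = c 0 • e ψ w₁ + c 1 • e ψ w₂ := by
      intro ψ
      rw [← hc]
      simp only [u, Fin.sum_univ_two, Matrix.cons_val_zero, Matrix.cons_val_one]
      show proj ρ A ψ _ = _
      rw [map_add, map_smul, map_smul]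
    have hchar : ∀ ψ, ψ ∈ im (orb χ) ↔ (c 0 ≠ 0 ∧ ψ ∈ orb χ₁) ∨ (c 1 ≠ 0 ∧ ψ ∈ orb χ₂) := by
      intro ψ
      rw [← hsupp, hcx]
      by_cases m1 : ψ ∈ orb χ₁
      · rw [hz hs₂ ψ (h12 ψ m1), smul_zero, add_zero]
        simp [m1, (hs₁ ψ).2 m1, show ψ ∉ orb χ₂ from h12 ψ m1]
      · rw [hz hs₁ ψ m1, smul_zero, zero_add]
        by_cases m2 : ψ ∈ orb χ₂
        · simp [m1, m2, (hs₂ ψ).2 m2]
        · simp [m1, m2, hz hs₂ ψ m2]
    by_cases a0 : c 0 = 0
    · refine Or.inr (Or.inl (Finset.ext fun ψ => (hchar ψ).trans ?_))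
      by_cases a1 : c 1 = 0
      · have hne : twist A x χ ∈ im (orb χ) := Finset.mem_image.2 ⟨χ, horb_self χ, rfl⟩
        rw [hchar] at hne
        simp [a0, a1] at hne
      · simp [a0, a1]
    · by_cases a1 : c 1 = 0
      · exact Or.inl (Finset.ext fun ψ => (hchar ψ).trans (by simp [a0, a1]))
      · exact Or.inr (Or.inr (Finset.ext fun ψ => (hchar ψ).trans (by simp [a0, a1])))
  have hcardim : ∀ O, (im O).card = O.card := fun O => Finset.card_image_of_injective O hinjT
  have hstab : ∀ χ ∈ X, im (orb χ) ≠ orb χ := fun χ hχ h =>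
    horb_card χ (hmove x hxQ hx1 _ (horbX χ hχ) fun φ hφ => h ▸ Finset.mem_image_of_mem _ hφ)
  have hdisj : Disjoint (orb χ₁) (orb χ₂) := Finset.disjoint_left.2 fun φ => h12 φ
  have hun : (orb χ₁ ∪ orb χ₂).card = (orb χ₁).card + (orb χ₂).card := Finset.card_union_of_disjoint hdisj
  have hpos₁ : 0 < (orb χ₁).card := Finset.card_pos.2 ⟨χ₁, horb_self χ₁⟩
  have hpos₂ : 0 < (orb χ₂).card := Finset.card_pos.2 ⟨χ₂, horb_self χ₂⟩
  have e1 : im (orb χ₁) = orb χ₂ := by
    rcases hcases hw₁ hs₁ with h | h | h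
    · exact absurd h (hstab χ₁ hχ₁)
    · exact h
    · have := (hcardim (orb χ₁)).symm.trans (congrArg Finset.card h); omega
  have e2 : im (orb χ₂) = orb χ₁ := by
    rcases hcases hw₂ hs₂ with h | h | h
    · exact h
    · exact absurd h (hstab χ₂ hχ₂)
    · have := (hcardim (orb χ₂)).symm.trans (congrArg Finset.card h); omega
  refine horb_card χ₁ (hmove (x * x) (mul_mem hxQ hxQ) (fun hxx => ?_) _ (horbX χ₁ hχ₁) fun φ hφ => ?_)
  · have hd2 : orderOf x ∣ 2 := orderOf_dvd_of_pow_eq_one (by rw [pow_two, hxx])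
    have hdq : orderOf x ∣ q := hQ ▸ Subgroup.orderOf_dvd_natCard Q hxQ
    rcases (Nat.dvd_prime Nat.prime_two).1 hd2 with h | h
    · exact hx1 (orderOf_eq_one_iff.1 h)
    · exact hq2 ((Nat.prime_dvd_prime_iff_eq Nat.prime_two hq).1 (h ▸ hdq)).symm
  · rw [twist_mul, ← e2]
    exact Finset.mem_image_of_mem _ (e1 ▸ Finset.mem_image_of_mem _ hφ)

end CfsgLib.Pairs.TwoFixed
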