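import Cfsg.Agent.Lib.Pairs.Basic
import Cfsg.Agent.Lib.Blocks.RegCut
import Cfsg.Agent.Lib.Blocks.Covering
import Cfsg.Agent.Lib.Blocks.Quotient
import Cfsg.Agent.Lib.Char.Exceptional.NormalInd
import Cfsg.Agent.S0887

/-!
# Weights: characters trivial on a normal `p`-subgroup `Q` and of full defect modulo `Q`
-/

namespace CfsgLib.Pairs

open Cfsg CfsgLib.Blocks
open scoped ComplexConjugate

variable {T : Type*} [Group T] [Fintype T] {p : ℕ} [Fact p.Prime] {M : Ideal AlgInt} [M.IsPrime]

/-- If a character trivial on `Q` has full defect modulo `Q`, then `Q` is the largest normal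
`p`-subgroup. -/
theorem le_of_weight (hM : IsPModular p M) {Q : Subgroup T} [Q.Normal] {χ : IrrCharacter T}
    (hχQ : ∀ q ∈ Q, (χ : T → ℂ) q = (χ : T → ℂ) 1)
    (hdeg : (charDegree (χ : T → ℂ)).factorization p + (Nat.card Q).factorization p =
      (Nat.card T).factorization p)
    {R : Subgroup T} (hR : R.Normal) (hRp : IsPGroup p R) : R ≤ Q := by
  have := Fintype.ofFinite (T ⧸ Q)
  obtain ⟨η, hη⟩ := exists_inflate_eq Q χ hχQ
  have hd : charDegree (η : T ⧸ Q → ℂ) = charDegree (χ : T → ℂ) := by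
    rw [← hη, charDegree, charDegree, inflate_apply, QuotientGroup.mk_one]
  have hi : (⊥ : Subgroup (T ⧸ Q)).index.factorization p + (Nat.card Q).factorization p =
      (Nat.card T).factorization p := by
    rw [Subgroup.index_bot, ← Subgroup.index_eq_card,
      ← Finsupp.add_apply, ← Nat.factorization_mul Subgroup.index_ne_zero_of_finite
        Nat.card_pos.ne', Subgroup.index_mul_card]
  have hD := isDefectGroup_of_central_defect (M := M) (χ := η) (D := ⊥) IsPGroup.of_bot bot_le
    (by rw [hd]; omega) hM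
  have hn : (R.map (QuotientGroup.mk' Q)).Normal :=
    hR.map _ (QuotientGroup.mk'_surjective Q)
  have h1 := IsDefectGroup.normal_le hM (isPBlock_blockOf η) hD
    (P := R.map (QuotientGroup.mk' Q)) (hRp.map _)
  intro r hr
  exact (QuotientGroup.eq_one_iff r).1 (Subgroup.mem_bot.1 (h1 ⟨r, hr, rfl⟩))

variable {C A : Type*} [Group C] [Fintype C] [Group A] [Fintype A]

/-- A weight restricted along `C × A → T`, where the image is normal and `A` acts trivially,
has a constituent on `C` of full defect modulo the kernel part `Z`. -/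
theorem exists_constituent_of_weight (φ : C × A →* T) [φ.range.Normal] {χ : IrrCharacter T}
    (hA : ∀ a : A, (χ : T → ℂ) (φ (1, a)) = (χ : T → ℂ) 1) :
    ∃ ψ : IrrCharacter C, classInner (fun c : C => (χ : T → ℂ) (φ (c, 1))) (ψ : C → ℂ) ≠ 0 ∧
      (∀ c : C, (∃ a : A, φ (c, 1) = φ (1, a)) → (ψ : C → ℂ) c = (ψ : C → ℂ) 1) ∧
      charDegree (χ : T → ℂ) ∣ charDegree (ψ : C → ℂ) * φ.range.index := by
  classical
  have := Fintype.ofFinite (IrrCharacter φ.range)
  have := Fintype.ofFinite φ.range
  obtain ⟨θ, hθ⟩ := exists_constituent φ.range χ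
  have hchar := Char.IsChar.restrict φ.range (Char.IsIrr.isCharacter χ.2)
  obtain ⟨m, hm⟩ := Char.IsChar.exists_sum hchar
  have hm' : ∀ x : φ.range, (χ : T → ℂ) x =
      (∑ η, (m η : ℂ) • (η : φ.range → ℂ)) x := fun x => congrFun hm x
  have hmθ : m θ ≠ 0 := by
    intro h0
    apply hθ
    rw [show (fun n : φ.range => (χ : T → ℂ) n) = ∑ η, (m η : ℂ) • (η : φ.range → ℂ) from
      funext hm', Char.classInner_sum_irr, h0, Nat.cast_zero]
  have hkerA : ∀ η, m η ≠ 0 → ∀ a : A,
      (η : φ.range → ℂ) (φ.rangeRestrict (1, a)) = (η : φ.range → ℂ) 1 := fun η hη a => by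
    refine CfsgLib.Char.Exceptional.ker_of_constituent ?_ hη
    rw [← hm', ← hm', MonoidHom.coe_rangeRestrict, OneMemClass.coe_one, hA]
  -- every constituent factors through the first projection
  have hfac : ∀ η, m η ≠ 0 → ∀ (c : C) (a : A),
      (η : φ.range → ℂ) (φ.rangeRestrict (c, a)) = (η : φ.range → ℂ) (φ.rangeRestrict (c, 1)) := by
    intro η hη c a
    obtain ⟨d, ρ, -, hρ⟩ := η.2
    have h1 : ρ (φ.rangeRestrict (1, a)) = 1 := by
      have := hkerA η hη a
      rw [← hρ, ρ.char_one, CharIntegral.character_eq_finrank_iff] at this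
      exact this
    rw [show ((c, a) : C × A) = (c, 1) * (1, a) by simp, map_mul φ.rangeRestrict, ← hρ]
    simp only [Representation.character, map_mul ρ, h1, mul_one]
  let θ' : IrrCharacter (C × A) := ⟨(θ : φ.range → ℂ) ∘ φ.rangeRestrict,
    Char.IsIrr.comp_surjective φ.rangeRestrict φ.rangeRestrict_surjective θ.2⟩
  have hθ'a : ∀ (c : C) (a : A), (θ' : C × A → ℂ) (c, a) = (θ' : C × A → ℂ) (c, 1) :=
    fun c a => hfac θ hmθ c a
  let ψf : C → ℂ := fun c => (θ' : C × A → ℂ) (c, 1)
  have hψ : IsIrrCharacter C ψf := by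
    refine Char.isIrr_iff_classInner_eq_one.2
      ⟨Char.IsChar.comp (MonoidHom.inl C A) (Char.IsIrr.isCharacter θ'.2), ?_⟩
    have h := Char.classInner_irr_self θ'
    rw [classInner, Fintype.sum_prod_type] at h
    simp only [hθ'a, Finset.sum_const, Finset.card_univ, nsmul_eq_mul, Nat.card_prod,
      Nat.cast_mul, ← Finset.mul_sum, ← Nat.card_eq_fintype_card] at h
    rw [classInner]
    rw [mul_inv, mul_assoc, inv_mul_cancel_left₀ (Nat.cast_ne_zero.2 Nat.card_pos.ne')] at h
    exact h
  refine ⟨⟨ψf, hψ⟩, ?_, ?_, ?_⟩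
  · have hex : (fun c : C => (χ : T → ℂ) (φ (c, 1))) =
        ∑ η, (m η : ℂ) • fun c : C => (η : φ.range → ℂ) (φ.rangeRestrict (c, 1)) := by
      funext c
      rw [show φ (c, 1) = ((φ.rangeRestrict (c, 1) : φ.range) : T) from rfl, hm']
      simp
    rw [hex, Char.classInner_sum_left]
    simp only [Char.classInner_smul_left]
    have hval : ∀ η : IrrCharacter φ.range, (m η : ℂ) *
        classInner (fun c : C => (η : φ.range → ℂ) (φ.rangeRestrict (c, 1))) ψf =
          if η = θ then (m η : ℂ) else 0 := by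
      intro η
      by_cases hη : m η = 0
      · simp [hη]
      let η' : IrrCharacter (C × A) := ⟨(η : φ.range → ℂ) ∘ φ.rangeRestrict,
        Char.IsIrr.comp_surjective φ.rangeRestrict φ.rangeRestrict_surjective η.2⟩
      have hinj : η' = θ' ↔ η = θ := by
        refine ⟨fun h => Subtype.ext (funext fun x => ?_), fun h => by subst h; rfl⟩
        obtain ⟨y, rfl⟩ := φ.rangeRestrict_surjective x
        exact congrFun (congrArg Subtype.val h) y
      have h := Char.classInner_irr η' θ'
      rw [classInner, Fintype.sum_prod_type] at h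
      simp only [η', hθ'a, Function.comp_apply, hfac η hη, Finset.sum_const, Finset.card_univ,
        nsmul_eq_mul, Nat.card_prod, Nat.cast_mul, ← Finset.mul_sum,
        ← Nat.card_eq_fintype_card] at h
      rw [mul_inv, mul_assoc, inv_mul_cancel_left₀ (Nat.cast_ne_zero.2 Nat.card_pos.ne')] at h
      rw [show classInner (fun c : C => (η : φ.range → ℂ) (φ.rangeRestrict (c, 1))) ψf = _ from h]
      simp only [η'] at hinj
      simp only [hinj, mul_ite, mul_one, mul_zero]
    simp [Finset.sum_congr rfl fun η _ => hval η, hmθ]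
  · rintro c ⟨a, ha⟩
    show (θ : φ.range → ℂ) _ = (θ : φ.range → ℂ) _
    rw [show φ.rangeRestrict (c, 1) = φ.rangeRestrict (1, a) from Subtype.ext ha, hfac θ hmθ]
  · obtain ⟨h1, h2⟩ := Cfsg.Agent.S0887.result φ.range χ χ.2 θ θ.2 hθ
      (charDegree (χ : T → ℂ)) (charDegree (θ : φ.range → ℂ)) (apply_one_eq_charDegree χ)
      (apply_one_eq_charDegree θ)
    have hd : charDegree ψf = charDegree (θ : φ.range → ℂ) := by
      refine charDegree_eq (χ := ⟨ψf, hψ⟩) ?_
      show (θ : φ.range → ℂ) (φ.rangeRestrict (1, 1)) = _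
      rw [show ((1, 1) : C × A) = 1 from rfl, map_one, apply_one_eq_charDegree]
    rw [hd]
    calc charDegree (χ : T → ℂ)
        = charDegree (θ : φ.range → ℂ) *
          (charDegree (χ : T → ℂ) / charDegree (θ : φ.range → ℂ)) :=
          (Nat.mul_div_cancel' h1).symm
      _ ∣ _ := Nat.mul_dvd_mul_left _ h2

end CfsgLib.Pairs
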