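import Mathlib

/-!
A Sylow `2`-subgroup of the symmetric group on eight points, with named generators and the finitely many
elementary facts used about it.
-/

set_option autoImplicit false
set_option linter.style.haveILetI false
set_option linter.unusedSectionVars false

namespace CfsgLib.Pairs.Wreath

open Equiv

/-- named elements of a group -/
structure Gens (P : Type*) where
  a₁ : P
  b₁ : P
  a₂ : P
  b₂ : P
  c₁ : P
  c₂ : P
  t : P

variable {P Q : Type*} [Group P] [Group Q]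

/-- image of the named elements -/
def Gens.map (g : Gens P) (f : P → Q) : Gens Q :=
  ⟨f g.a₁, f g.b₁, f g.a₂, f g.b₂, f g.c₁, f g.c₂, f g.t⟩

/-- `c₁ ^ i * c₂ ^ j` -/
def Gens.zw (g : Gens P) (i j : Bool) : P := (if i then g.c₁ else 1) * (if j then g.c₂ else 1)

/-- the general element of `A` -/
def Gens.wa (g : Gens P) (i j k l : Bool) : P :=
  (if i then g.a₁ else 1) * (if j then g.a₂ else 1) * g.zw k l

/-- the general element of `B` -/
def Gens.wb (g : Gens P) (i j k l : Bool) : P :=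
  (if i then g.b₁ else 1) * (if j then g.b₂ else 1) * g.zw k l

/-- the general element of the base -/
def Gens.ww (g : Gens P) (i j i' j' k l : Bool) : P :=
  (if i then g.a₁ else 1) * (if j then g.a₂ else 1) * g.wb i' j' k l

/-- the general element -/
def Gens.word (g : Gens P) (w : Bool × Bool × Bool × Bool × Bool × Bool × Bool) : P :=
  g.ww w.1 w.2.1 w.2.2.1 w.2.2.2.1 w.2.2.2.2.1 w.2.2.2.2.2.1 * (if w.2.2.2.2.2.2 then g.t else 1)

/-- relations among the named elements -/
def Gens.Rel (g : Gens P) : Prop :=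
  g.a₁ * g.a₁ = 1 ∧ g.b₁ * g.b₁ = 1 ∧ g.a₂ * g.a₂ = 1 ∧ g.b₂ * g.b₂ = 1 ∧ g.t * g.t = 1 ∧
  g.c₁ * g.c₁ = 1 ∧ g.c₂ * g.c₂ = 1 ∧
  g.a₁ * g.a₂ = g.a₂ * g.a₁ ∧ g.a₁ * g.b₂ = g.b₂ * g.a₁ ∧ g.b₁ * g.a₂ = g.a₂ * g.b₁ ∧
  g.b₁ * g.b₂ = g.b₂ * g.b₁ ∧ g.a₁ * g.b₁ = g.c₁ * (g.b₁ * g.a₁) ∧ g.a₂ * g.b₂ = g.c₂ * (g.b₂ * g.a₂) ∧
  g.c₁ * g.a₁ = g.a₁ * g.c₁ ∧ g.c₁ * g.b₁ = g.b₁ * g.c₁ ∧ g.c₁ * g.a₂ = g.a₂ * g.c₁ ∧
  g.c₁ * g.b₂ = g.b₂ * g.c₁ ∧ g.c₂ * g.a₁ = g.a₁ * g.c₂ ∧ g.c₂ * g.b₁ = g.b₁ * g.c₂ ∧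
  g.c₂ * g.a₂ = g.a₂ * g.c₂ ∧ g.c₂ * g.b₂ = g.b₂ * g.c₂ ∧ g.c₁ * g.c₂ = g.c₂ * g.c₁ ∧
  g.t * g.a₁ = g.a₂ * g.t ∧ g.t * g.b₁ = g.b₂ * g.t ∧ g.t * g.c₁ = g.c₂ * g.t

/-- membership facts that are decided on the model -/
structure Frame (g : Gens P) : Prop where
  rel : g.Rel
  bij : Function.Bijective g.word
  center : ∀ x, x * g.a₁ = g.a₁ * x → x * g.b₁ = g.b₁ * x → x * g.t = g.t * x → x = 1 ∨ x = g.c₁ * g.c₂
  memW : ∀ x, x * g.c₁ = g.c₁ * x → ∃ i j i' j' k l, x = g.ww i j i' j' k l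
  memA : ∀ x, x * g.a₁ = g.a₁ * x → x * g.a₂ = g.a₂ * x → x * g.c₁ = g.c₁ * x → ∃ i j k l, x = g.wa i j k l
  memB : ∀ x, x * g.b₁ = g.b₁ * x → x * g.b₂ = g.b₂ * x → x * g.c₁ = g.c₁ * x → ∃ i j k l, x = g.wb i j k l
  normal_abelian : ∀ x, x * x = 1 → (∀ y, x * (y * x * y⁻¹) = y * x * y⁻¹ * x) →
    (∃ i j k l, x = g.wa i j k l) ∨ (∃ i j k l, x = g.wb i j k l)
  outer : ∀ x, x * g.c₁ ≠ g.c₁ * x → x * x = 1 → ∃ i i' k, x = g.word (i, i, i', i', k, xor k (i && i'), true)

/-- the concrete named elements -/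
def model : Gens (Perm (Fin 8)) where
  a₁ := swap 0 1
  b₁ := swap 0 2 * swap 1 3
  a₂ := swap 4 5
  b₂ := swap 4 6 * swap 5 7
  c₁ := swap 0 1 * swap 2 3
  c₂ := swap 4 5 * swap 6 7
  t := swap 0 4 * swap 1 5 * swap 2 6 * swap 3 7

/-- preservation of the pairs and of the two halves -/
def Pres (σ : Perm (Fin 8)) : Prop :=
  ∀ i j : Fin 8, (i.val / 2 = j.val / 2 → (σ i).val / 2 = (σ j).val / 2) ∧
    (i.val / 4 = j.val / 4 → (σ i).val / 4 = (σ j).val / 4)

instance (σ : Perm (Fin 8)) : Decidable (Pres σ) := by unfold Pres; infer_instance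

theorem pres_mul {σ τ : Perm (Fin 8)} (hσ : Pres σ) (hτ : Pres τ) : Pres (σ * τ) := fun i j =>
  ⟨fun h => (hσ _ _).1 ((hτ i j).1 h), fun h => (hσ _ _).2 ((hτ i j).2 h)⟩

theorem pres_pow {σ : Perm (Fin 8)} (hσ : Pres σ) : ∀ n : ℕ, Pres (σ ^ n)
  | 0 => fun _ _ => ⟨id, id⟩
  | n + 1 => by rw [pow_succ]; exact pres_mul (pres_pow hσ n) hσ

/-- the model group -/
def T₀ : Subgroup (Perm (Fin 8)) where
  carrier := {σ | Pres σ}
  one_mem' := fun _ _ => ⟨id, id⟩
  mul_mem' := fun hσ hτ => pres_mul hσ hτ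
  inv_mem' := fun {σ} hσ => by
    have h : σ⁻¹ = σ ^ (orderOf σ - 1) := by
      refine inv_eq_of_mul_eq_one_right ?_
      rw [← pow_succ', Nat.sub_add_cancel (orderOf_pos σ), pow_orderOf_eq_one]
    show Pres σ⁻¹
    rw [h]
    exact pres_pow hσ _

theorem pow_eight {σ : Perm (Fin 8)} (hσ : Pres σ) : σ ^ 8 = 1 := by
  -- halves, then pairs, then points
  have h2 : ∀ {τ : Perm (Fin 8)}, Pres τ → ∀ i, ((τ * τ) i).val / 4 = i.val / 4 := by
    intro τ hτ i
    have key : ∀ a b c : Fin 8, (b.val / 4 = a.val / 4 → c.val / 4 = b.val / 4) →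
        (b.val / 4 ≠ a.val / 4 → c.val / 4 ≠ b.val / 4) → c.val / 4 = a.val / 4 := by
      intro a b c h1 h2'
      by_cases h : b.val / 4 = a.val / 4
      · exact (h1 h).trans h
      · have := h2' h
        omega
    refine key i (τ i) (τ (τ i)) (fun h => (hτ _ _).2 h) fun h e => h ?_
    have e' := (pres_pow hτ (orderOf τ - 1) _ _).2 e
    have hinv : ∀ x, (τ ^ (orderOf τ - 1)) (τ x) = x := fun x => by
      rw [← Perm.mul_apply, ← pow_succ, Nat.sub_add_cancel (orderOf_pos τ), pow_orderOf_eq_one, Perm.one_apply]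
    rwa [hinv, hinv] at e'
  have h4 : ∀ {τ : Perm (Fin 8)}, Pres τ → (∀ i, (τ i).val / 4 = i.val / 4) → ∀ i, ((τ * τ) i).val / 2 = i.val / 2 := by
    intro τ hτ hq i
    have key : ∀ a b c : Fin 8, b.val / 4 = a.val / 4 → c.val / 4 = b.val / 4 →
        (b.val / 2 = a.val / 2 → c.val / 2 = b.val / 2) →
        (b.val / 2 ≠ a.val / 2 → c.val / 2 ≠ b.val / 2) → c.val / 2 = a.val / 2 := by
      intro a b c q1 q2 h1 h2'
      by_cases h : b.val / 2 = a.val / 2
      · exact (h1 h).trans h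
      · have := h2' h
        omega
    refine key i (τ i) (τ (τ i)) (hq i) (hq _) (fun h => (hτ _ _).1 h) fun h e => h ?_
    have e' := (pres_pow hτ (orderOf τ - 1) _ _).1 e
    have hinv : ∀ x, (τ ^ (orderOf τ - 1)) (τ x) = x := fun x => by
      rw [← Perm.mul_apply, ← pow_succ, Nat.sub_add_cancel (orderOf_pos τ), pow_orderOf_eq_one, Perm.one_apply]
    rwa [hinv, hinv] at e'
  have h8 : ∀ {τ : Perm (Fin 8)}, (∀ i, (τ i).val / 2 = i.val / 2) → τ * τ = 1 := by
    intro τ hp
    refine Equiv.ext fun i => Fin.ext ?_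
    show (τ (τ i)).val = i.val
    have h1 := hp i
    have h1' := hp (τ i)
    by_cases e : τ i = i
    · rw [e, e]
    · have hne : (τ i).val ≠ i.val := fun h => e (Fin.ext h)
      have hne' : (τ (τ i)).val ≠ (τ i).val := fun h => e (τ.injective (Fin.ext h))
      omega
  have hs : Pres (σ * σ) := pres_mul hσ hσ
  have := h8 (τ := (σ * σ) * (σ * σ)) (h4 hs (h2 hσ))
  simp only [pow_succ, pow_zero, one_mul]
  simpa [mul_assoc] using this

theorem model_mem : Pres model.a₁ ∧ Pres model.b₁ ∧ Pres model.a₂ ∧ Pres model.b₂ ∧ Pres model.c₁ ∧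
    Pres model.c₂ ∧ Pres model.t := by decide +kernel

theorem model_rel : model.Rel := by unfold Gens.Rel; decide +kernel

/-- recovering the exponents -/
def decode (σ : Perm (Fin 8)) : Bool × Bool × Bool × Bool × Bool × Bool × Bool :=
  let o : Bool := decide (4 ≤ (σ 0).val)
  let p0 := if o then σ 4 else σ 0
  let p2 := if o then σ 6 else σ 2
  let q0 := if o then σ 0 else σ 4
  let q2 := if o then σ 2 else σ 6
  let i' : Bool := decide (2 ≤ p0.val)
  let j' : Bool := decide (6 ≤ q0.val)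
  (decide ((p0.val + p2.val) % 2 = 1), decide ((q0.val + q2.val) % 2 = 1), i', j',
    decide ((if i' then p0.val else p2.val) % 2 = 1), decide ((if j' then q0.val else q2.val) % 2 = 1), o)

set_option synthInstance.maxSize 512 in
theorem decode_word : ∀ w, decode (model.word w) = w := by decide +kernel

theorem word_injective : Function.Injective model.word := fun v w h => by
  rw [← decode_word v, h, decode_word]

theorem model_center : ∀ w, model.word w * model.a₁ = model.a₁ * model.word w →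
    model.word w * model.b₁ = model.b₁ * model.word w → model.word w * model.t = model.t * model.word w →
    model.word w = 1 ∨ model.word w = model.c₁ * model.c₂ := by decide +kernel

theorem model_memW : ∀ w, model.word w * model.c₁ = model.c₁ * model.word w → w.2.2.2.2.2.2 = false := by
  decide +kernel

theorem model_memA : ∀ w, model.word w * model.a₁ = model.a₁ * model.word w →
    model.word w * model.a₂ = model.a₂ * model.word w → model.word w * model.c₁ = model.c₁ * model.word w →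
    w.2.2.1 = false ∧ w.2.2.2.1 = false ∧ w.2.2.2.2.2.2 = false := by decide +kernel

theorem model_memB : ∀ w, model.word w * model.b₁ = model.b₁ * model.word w →
    model.word w * model.b₂ = model.b₂ * model.word w → model.word w * model.c₁ = model.c₁ * model.word w →
    w.1 = false ∧ w.2.1 = false ∧ w.2.2.2.2.2.2 = false := by decide +kernel

set_option synthInstance.maxSize 512 in
theorem model_outer : ∀ w, model.word w * model.c₁ ≠ model.c₁ * model.word w → model.word w * model.word w = 1 →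
    w = (w.1, w.1, w.2.2.1, w.2.2.1, w.2.2.2.2.1, xor w.2.2.2.2.1 (w.1 && w.2.2.1), true) := by decide +kernel

set_option synthInstance.maxSize 512 in
theorem model_normal_abelian_aux : ∀ w, model.word w * model.word w = 1 →
    model.word w * (model.t * model.word w * model.t) = model.t * model.word w * model.t * model.word w →
    model.word w * (model.a₁ * model.b₁ * model.word w * (model.b₁ * model.a₁)) =
      model.a₁ * model.b₁ * model.word w * (model.b₁ * model.a₁) * model.word w →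
    (w.2.2.1 = false ∧ w.2.2.2.1 = false ∧ w.2.2.2.2.2.2 = false) ∨
      (w.1 = false ∧ w.2.1 = false ∧ w.2.2.2.2.2.2 = false) := by decide +kernel

theorem word_map (g : Gens P) (f : P →* Q) (w : Bool × Bool × Bool × Bool × Bool × Bool × Bool) :
    (g.map f).word w = f (g.word w) := by
  simp only [Gens.word, Gens.ww, Gens.wb, Gens.zw, Gens.map, map_mul, apply_ite f, map_one]

theorem wa_map (g : Gens P) (f : P →* Q) (i j k l : Bool) : (g.map f).wa i j k l = f (g.wa i j k l) := by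
  simp only [Gens.wa, Gens.zw, Gens.map, map_mul, apply_ite f, map_one]

theorem wb_map (g : Gens P) (f : P →* Q) (i j k l : Bool) : (g.map f).wb i j k l = f (g.wb i j k l) := by
  simp only [Gens.wb, Gens.zw, Gens.map, map_mul, apply_ite f, map_one]

theorem ww_map (g : Gens P) (f : P →* Q) (i j i' j' k l : Bool) :
    (g.map f).ww i j i' j' k l = f (g.ww i j i' j' k l) := by
  simp only [Gens.ww, Gens.wb, Gens.zw, Gens.map, map_mul, apply_ite f, map_one]

theorem rel_map {g : Gens P} (h : g.Rel) (f : P →* Q) : (g.map f).Rel := by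
  simp only [Gens.Rel, Gens.map] at h ⊢
  obtain ⟨h1, h2, h3, h4, h5, h6, h7, h8, h9, h10, h11, h12, h13, h14, h15, h16, h17, h18, h19, h20, h21, h22, h23,
    h24, h25⟩ := h
  simp only [← map_mul, h1, h2, h3, h4, h5, h6, h7, h8, h9, h10, h11, h12, h13, h14, h15, h16, h17, h18, h19, h20,
    h21, h22, h23, h24, h25, map_one, and_self]

theorem rel_of_map {g : Gens P} {f : P →* Q} (hf : Function.Injective f) (h : (g.map f).Rel) : g.Rel := by
  simp only [Gens.Rel, Gens.map, ← map_mul, map_eq_one_iff f hf, hf.eq_iff] at h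
  exact h

theorem frame_map {g : Gens P} (h : Frame g) (e : P ≃* Q) : Frame (g.map e.toMonoidHom) := by
  have hcomm : ∀ {y : Q} {c : P}, y * e c = e c * y → e.symm y * c = c * e.symm y := fun {y c} hy => by
    have := congrArg e.symm hy
    rwa [map_mul, map_mul, e.symm_apply_apply] at this
  have hpull : ∀ {y : Q}, y = e.toMonoidHom (e.symm y) := fun {y} => (e.apply_symm_apply y).symm
  refine ⟨rel_map h.rel _, ?_, fun x h1 h2 h3 => ?_, fun x h1 => ?_, fun x h1 h2 h3 => ?_, fun x h1 h2 h3 => ?_,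
    fun x h1 h2 => ?_, fun x h1 h2 => ?_⟩
  · rw [show (g.map e.toMonoidHom).word = e ∘ g.word from funext fun w => word_map g e.toMonoidHom w]
    exact e.bijective.comp h.bij
  · refine (h.center _ (hcomm h1) (hcomm h2) (hcomm h3)).imp (fun hx => ?_) fun hx => ?_
    · rw [hpull (y := x), hx, map_one]
    · rw [hpull (y := x), hx, map_mul]; rfl
  · obtain ⟨i, j, i', j', k, l, hx⟩ := h.memW _ (hcomm h1)
    exact ⟨i, j, i', j', k, l, by rw [ww_map, ← hx]; exact hpull⟩
  · obtain ⟨i, j, k, l, hx⟩ := h.memA _ (hcomm h1) (hcomm h2) (hcomm h3)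
    exact ⟨i, j, k, l, by rw [wa_map, ← hx]; exact hpull⟩
  · obtain ⟨i, j, k, l, hx⟩ := h.memB _ (hcomm h1) (hcomm h2) (hcomm h3)
    exact ⟨i, j, k, l, by rw [wb_map, ← hx]; exact hpull⟩
  · have h1' : e.symm x * e.symm x = 1 := by rw [← map_mul, h1, map_one]
    have h2' : ∀ y, e.symm x * (y * e.symm x * y⁻¹) = y * e.symm x * y⁻¹ * e.symm x := fun y => by
      have := congrArg e.symm (h2 (e y))
      simpa only [map_mul, map_inv, e.symm_apply_apply] using this
    refine (h.normal_abelian _ h1' h2').imp (fun ⟨i, j, k, l, hx⟩ => ⟨i, j, k, l, ?_⟩)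
      fun ⟨i, j, k, l, hx⟩ => ⟨i, j, k, l, ?_⟩
    · rw [wa_map, ← hx]; exact hpull
    · rw [wb_map, ← hx]; exact hpull
  · have h1' : e.symm x * g.c₁ ≠ g.c₁ * e.symm x := fun hy => h1 (by
      have := congrArg e hy
      rwa [map_mul, map_mul, e.apply_symm_apply] at this)
    have h2' : e.symm x * e.symm x = 1 := by rw [← map_mul, h2, map_one]
    obtain ⟨i, i', k, hx⟩ := h.outer _ h1' h2'
    exact ⟨i, i', k, by rw [word_map, ← hx]; exact hpull⟩

/-- the named elements inside the model group -/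
def gens₀ : Gens T₀ :=
  ⟨⟨model.a₁, model_mem.1⟩, ⟨model.b₁, model_mem.2.1⟩, ⟨model.a₂, model_mem.2.2.1⟩, ⟨model.b₂, model_mem.2.2.2.1⟩,
    ⟨model.c₁, model_mem.2.2.2.2.1⟩, ⟨model.c₂, model_mem.2.2.2.2.2.1⟩, ⟨model.t, model_mem.2.2.2.2.2.2⟩⟩

theorem gens₀_map : gens₀.map T₀.subtype = model := rfl

theorem isPGroup_T₀ : IsPGroup 2 T₀ := fun σ => ⟨3, Subtype.ext (pow_eight σ.2)⟩

theorem coe_word₀ (w : Bool × Bool × Bool × Bool × Bool × Bool × Bool) :
    ((gens₀.word w : T₀) : Perm (Fin 8)) = model.word w := by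
  rw [← gens₀_map, word_map]; rfl

theorem card_T₀ : Nat.card T₀ = 2 ^ 7 := by
  obtain ⟨k, hk⟩ := IsPGroup.iff_card.1 isPGroup_T₀
  have h1 : Function.Injective gens₀.word := fun v w e =>
    word_injective (by rw [← coe_word₀, e, coe_word₀])
  have h2 := Nat.card_le_card_of_injective _ h1
  simp only [Nat.card_prod, Nat.card_eq_fintype_card, Fintype.card_bool] at h2
  have h3 : 2 ^ k ∣ 40320 := by
    rw [← hk, show (40320 : ℕ) = Nat.card (Perm (Fin 8)) by rw [Nat.card_perm, Nat.card_fin]; rfl]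
    exact T₀.card_subgroup_dvd_card
  rw [← Nat.card_eq_fintype_card, hk] at h2
  have h4 : k ≤ 7 := by
    by_contra hc
    have := (pow_dvd_pow 2 (show 8 ≤ k by omega)).trans h3
    norm_num at this
  have h5 : 7 ≤ k := (Nat.pow_le_pow_iff_right (show 1 < 2 by norm_num)).1 (by norm_num at h2 ⊢; exact h2)
  rw [hk, show k = 7 by omega]

theorem frame₀ : Frame gens₀ := by
  have hbij : Function.Bijective gens₀.word := by
    refine Function.Injective.bijective_of_nat_card_le
      (fun v w e => word_injective (by rw [← coe_word₀, e, coe_word₀])) ?_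
    rw [card_T₀]
    simp [Nat.card_prod]
  have hc : ∀ {x y : T₀}, x * y = y * x → ((x : Perm (Fin 8)) * y) = (y : Perm (Fin 8)) * x := fun h =>
    congrArg Subtype.val h
  refine ⟨rel_of_map T₀.subtype_injective (gens₀_map ▸ model_rel), hbij, fun x h1 h2 h3 => ?_, fun x h1 => ?_,
    fun x h1 h2 h3 => ?_, fun x h1 h2 h3 => ?_, fun x h1 h2 => ?_, fun x h1 h2 => ?_⟩ <;> obtain ⟨w, rfl⟩ := hbij.2 x
  · refine (model_center w (by rw [← coe_word₀]; exact hc h1) (by rw [← coe_word₀]; exact hc h2)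
      (by rw [← coe_word₀]; exact hc h3)).imp (fun e => Subtype.ext ?_) fun e => Subtype.ext ?_
    · rw [coe_word₀, e]; rfl
    · rw [coe_word₀, e]; rfl
  · have hw := model_memW w (by rw [← coe_word₀]; exact hc h1)
    obtain ⟨i, j, i', j', k, l, o⟩ := w
    simp only at hw
    subst hw
    exact ⟨i, j, i', j', k, l, by simp [Gens.word]⟩
  · have hw := model_memA w (by rw [← coe_word₀]; exact hc h1) (by rw [← coe_word₀]; exact hc h2)
      (by rw [← coe_word₀]; exact hc h3)
    obtain ⟨i, j, i', j', k, l, o⟩ := w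
    simp only at hw
    obtain ⟨rfl, rfl, rfl⟩ := hw
    exact ⟨i, j, k, l, by simp [Gens.word, Gens.ww, Gens.wb, Gens.wa, mul_assoc]⟩
  · have hw := model_memB w (by rw [← coe_word₀]; exact hc h1) (by rw [← coe_word₀]; exact hc h2)
      (by rw [← coe_word₀]; exact hc h3)
    obtain ⟨i, j, i', j', k, l, o⟩ := w
    simp only at hw
    obtain ⟨rfl, rfl, rfl⟩ := hw
    exact ⟨i', j', k, l, by simp [Gens.word, Gens.ww]⟩
  · have hi : ∀ y : T₀, (y : Perm (Fin 8))⁻¹ = ((y⁻¹ : T₀) : Perm (Fin 8)) := fun _ => rfl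
    have ht : (model.t)⁻¹ = model.t := inv_eq_of_mul_eq_one_right (by decide +kernel)
    have hab : (model.a₁ * model.b₁)⁻¹ = model.b₁ * model.a₁ := by
      refine inv_eq_of_mul_eq_one_right ?_
      decide +kernel
    have hwA := model_normal_abelian_aux w (by rw [← coe_word₀]; exact congrArg Subtype.val h1)
      (by
        have := congrArg Subtype.val (h2 gens₀.t)
        simp only [Subgroup.coe_mul, Subgroup.coe_inv, coe_word₀] at this
        rw [show ((gens₀.t : T₀) : Perm (Fin 8)) = model.t from rfl, ht] at this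
        exact this)
      (by
        have := congrArg Subtype.val (h2 (gens₀.a₁ * gens₀.b₁))
        simp only [Subgroup.coe_mul, Subgroup.coe_inv, coe_word₀] at this
        rw [show ((gens₀.a₁ : T₀) : Perm (Fin 8)) = model.a₁ from rfl,
          show ((gens₀.b₁ : T₀) : Perm (Fin 8)) = model.b₁ from rfl, hab] at this
        exact this)
    obtain ⟨i, j, i', j', k, l, o⟩ := w
    simp only at hwA
    rcases hwA with ⟨rfl, rfl, rfl⟩ | ⟨rfl, rfl, rfl⟩
    · exact Or.inl ⟨i, j, k, l, by simp [Gens.word, Gens.ww, Gens.wb, Gens.wa, mul_assoc]⟩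
    · exact Or.inr ⟨i', j', k, l, by simp [Gens.word, Gens.ww]⟩
  · have hw := model_outer w
      (by
        intro hy
        refine h1 (Subtype.ext ?_)
        rw [Subgroup.coe_mul, Subgroup.coe_mul, coe_word₀]
        exact hy)
      (by rw [← coe_word₀]; exact congrArg Subtype.val h2)
    exact ⟨_, _, _, congrArg gens₀.word hw⟩

/-- a group isomorphic to a Sylow `2`-subgroup on eight points has such named elements -/
theorem exists_frame_of_sylow {R : Type*} [Group R] (T : Sylow 2 (Perm (Fin 8))) (e : R ≃* (T : Subgroup (Perm (Fin 8)))) :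
    ∃ g : Gens R, Frame g := by
  haveI : Fact (Nat.Prime 2) := ⟨Nat.prime_two⟩
  let S₀ : Sylow 2 (Perm (Fin 8)) := Sylow.ofCard T₀ (by
    rw [card_T₀, Nat.card_perm, Nat.card_fin, show Nat.factorial 8 = 2 ^ 7 * 315 from rfl,
      Nat.factorization_mul (by norm_num) (by norm_num), Finsupp.add_apply, Nat.factorization_pow_self Nat.prime_two,
      Nat.factorization_eq_zero_of_not_dvd (show ¬ 2 ∣ 315 by norm_num), add_zero])
  let e₀ : T₀ ≃* (T : Subgroup (Perm (Fin 8))) := S₀.equiv T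
  exact ⟨_, frame_map frame₀ (e₀.trans e.symm)⟩

end CfsgLib.Pairs.Wreath
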