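import Mathlib
import Cfsg.Prelude.Def_CaseTheorems
import Cfsg.Agent.Lib.Pairs.WreathModel

/-!
A proper subgroup of a two-group of sectional rank at most four isomorphic to a Sylow two-subgroup on eight
points: centre, normalizer and normal elementary abelian subgroups of order sixteen.
-/

set_option autoImplicit false
set_option linter.style.haveILetI false
set_option linter.unusedSectionVars false

namespace CfsgLib.Pairs.Wreath

open Subgroup

variable {S : Type*} [Group S]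

/-! ### Elementary identities -/

/-- `x` and `y` commute up to the element `c` -/
def CB (c x y : S) : Prop := x * y = y * x ∨ x * y = c * (y * x)

theorem CB.symm {c x y : S} (hc : c * c = 1) (h : CB c x y) : CB c y x := by
  rcases h with h | h
  · exact Or.inl h.symm
  · exact Or.inr (by rw [h, ← mul_assoc, hc, one_mul])

/-- elements commuting up to `c` with `b` -/
def cbSub (c b : S) (hc : c * c = 1) (hb : b * c = c * b) : Subgroup S where
  carrier := {v | v * c = c * v ∧ CB c v b}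
  one_mem' := ⟨by simp, Or.inl (by simp)⟩
  mul_mem' := by
    rintro u v ⟨hu, hu'⟩ ⟨hv, hv'⟩
    refine ⟨by rw [mul_assoc, hv, ← mul_assoc, hu, mul_assoc], ?_⟩
    rcases hu' with hu' | hu' <;> rcases hv' with hv' | hv'
    · exact Or.inl (by rw [mul_assoc, hv', ← mul_assoc, hu', mul_assoc])
    · refine Or.inr ?_
      calc u * v * b = u * (v * b) := mul_assoc _ _ _
        _ = u * c * (b * v) := by rw [hv', mul_assoc]
        _ = c * (u * b) * v := by rw [hu]; group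
        _ = c * (b * (u * v)) := by rw [hu']; group
    · refine Or.inr ?_
      calc u * v * b = u * (v * b) := mul_assoc _ _ _
        _ = (u * b) * v := by rw [hv', mul_assoc]
        _ = c * (b * (u * v)) := by rw [hu']; group
    · refine Or.inl ?_
      calc u * v * b = u * (v * b) := mul_assoc _ _ _
        _ = u * c * (b * v) := by rw [hv', mul_assoc]
        _ = c * (u * b) * v := by rw [hu]; group
        _ = (c * c) * (b * (u * v)) := by rw [hu']; group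
        _ = b * (u * v) := by rw [hc, one_mul]
  inv_mem' := by
    rintro v ⟨hv, hv'⟩
    have hvi : v⁻¹ * c = c * v⁻¹ := (Commute.inv_left (hv : Commute v c)).eq
    refine ⟨hvi, ?_⟩
    rcases hv' with hv' | hv'
    · exact Or.inl (Commute.inv_left (hv' : Commute v b)).eq
    · refine Or.inr ?_
      have h1 : b * v⁻¹ = c * (v⁻¹ * b) := by
        calc b * v⁻¹ = v⁻¹ * (v * b) * v⁻¹ := by group
          _ = v⁻¹ * c * b := by rw [hv']; group
          _ = c * (v⁻¹ * b) := by rw [hvi, mul_assoc]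
      rw [h1, ← mul_assoc c c, hc, one_mul]

/-- the image of `x` commutes with `y` -/
theorem image_commute {m x y c d : S} {A' B : Subgroup S} (hA : m * x * m⁻¹ ∈ A') (hB : m⁻¹ * y * m ∈ B)
    (hmc : m * c = c * m) (hcd : c ≠ d) (hxB : ∀ b ∈ B, CB c x b) (hA'y : ∀ v ∈ A', CB d v y) :
    (m * x * m⁻¹) * y = y * (m * x * m⁻¹) := by
  have hy : y = m * (m⁻¹ * y * m) * m⁻¹ := by group
  rcases hxB _ hB with h | h
  · calc m * x * m⁻¹ * y = m * (x * (m⁻¹ * y * m)) * m⁻¹ := by group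
      _ = y * (m * x * m⁻¹) := by rw [h]; group
  · have h1 : m * x * m⁻¹ * y = c * (y * (m * x * m⁻¹)) := by
      calc m * x * m⁻¹ * y = m * (x * (m⁻¹ * y * m)) * m⁻¹ := by group
        _ = m * c * (m⁻¹ * (y * (m * x * m⁻¹))) := by rw [h]; group
        _ = c * (y * (m * x * m⁻¹)) := by rw [hmc]; group
    rcases hA'y _ hA with h2 | h2
    · exact h2
    · exact absurd (mul_right_cancel (h1.symm.trans h2)) hcd

/-- two elements of `A` with the same commutators differ by an element of `Z` -/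
theorem pick {v x w y c : S} {A : Subgroup S} {Z : Subgroup S} (hv : v ∈ A) (hx : x ∈ A) (hc : c * c = 1)
    (hxy : x * y = y * x) (hvy : v * y = y * v) (hxw : x * w = c * (w * x)) (hvw : CB c v w) (hxc : x * c = c * x)
    (crit : ∀ u ∈ A, u * w = w * u → u * y = y * u → u ∈ Z) (hvZ : v ∉ Z) : x * v ∈ Z := by
  refine crit _ (A.mul_mem hx hv) ?_ (by rw [mul_assoc, hvy, ← mul_assoc, hxy, mul_assoc])
  rcases hvw with h | h
  · exact absurd (crit v hv h hvy) hvZ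
  · calc x * v * w = x * (v * w) := mul_assoc _ _ _
      _ = x * c * (w * v) := by rw [h, mul_assoc]
      _ = c * (x * w) * v := by rw [hxc]; group
      _ = (c * c) * (w * (x * v)) := by rw [hxw]; group
      _ = w * (x * v) := by rw [hc, one_mul]

/-- in a finite group it is enough to map a subgroup into itself -/
theorem mem_normalizer_of_le [Finite S] {U : Subgroup S} {m : S} (h : ∀ x ∈ U, m * x * m⁻¹ ∈ U) :
    m ∈ normalizer (U : Set S) := by
  rw [mem_normalizer_iff_map_conj_eq]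
  refine eq_of_le_of_card_ge ?_ ?_
  · rintro y ⟨x, hx, rfl⟩
    exact h x hx
  · rw [card_map_of_injective (MulEquiv.injective _)]

/-- a proper subgroup of a finite two-group is properly normalized inside any larger subgroup -/
theorem exists_normalizing [Finite S] (h2 : IsPGroup 2 S) {P K : Subgroup S} (hle : P ≤ K) (hne : P ≠ K) :
    ∃ m ∈ K, m ∉ P ∧ m ∈ normalizer (P : Set S) := by
  haveI : Fact (Nat.Prime 2) := ⟨Nat.prime_two⟩
  haveI : Group.IsNilpotent K := (h2.to_subgroup K).isNilpotent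
  have hlt : P.subgroupOf K < ⊤ := lt_top_iff_ne_top.2 fun h => hne (le_antisymm hle (subgroupOf_eq_top.1 h))
  obtain ⟨x, hx, hx'⟩ := SetLike.exists_of_lt ((Group.normalizerCondition_of_isNilpotent (G := K)) _ hlt)
  refine ⟨x, x.2, fun h => hx' h, mem_normalizer_of_le fun y hy => ?_⟩
  have hq := (mem_normalizer_iff.1 hx ⟨y, hle hy⟩).1 hy
  exact hq

/-! ### The setup -/

/-- the named elements seen in an overgroup -/
structure Setup (P : Subgroup S) (g : Gens S) : Prop where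
  rel : g.Rel
  inj : Function.Injective g.word
  mem : ∀ w, g.word w ∈ P
  exists_word : ∀ x ∈ P, ∃ w, x = g.word w
  center : ∀ x ∈ P, x * g.a₁ = g.a₁ * x → x * g.b₁ = g.b₁ * x → x * g.t = g.t * x → x = 1 ∨ x = g.c₁ * g.c₂
  memW : ∀ x ∈ P, x * g.c₁ = g.c₁ * x → ∃ i j i' j' k l, x = g.ww i j i' j' k l
  memA : ∀ x ∈ P, x * g.a₁ = g.a₁ * x → x * g.a₂ = g.a₂ * x → x * g.c₁ = g.c₁ * x → ∃ i j k l, x = g.wa i j k l
  memB : ∀ x ∈ P, x * g.b₁ = g.b₁ * x → x * g.b₂ = g.b₂ * x → x * g.c₁ = g.c₁ * x → ∃ i j k l, x = g.wb i j k l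
  normal_abelian : ∀ x ∈ P, x * x = 1 → (∀ y ∈ P, x * (y * x * y⁻¹) = y * x * y⁻¹ * x) →
    (∃ i j k l, x = g.wa i j k l) ∨ (∃ i j k l, x = g.wb i j k l)
  outer : ∀ x ∈ P, x * g.c₁ ≠ g.c₁ * x → x * x = 1 →
    ∃ i i' k, x = g.word (i, i, i', i', k, xor k (i && i'), true)

theorem exists_setup {P : Subgroup S} {T : Sylow 2 (Equiv.Perm (Fin 8))}
    (e : P ≃* (T : Subgroup (Equiv.Perm (Fin 8)))) : ∃ g, Setup P g := by
  obtain ⟨g, hg⟩ := exists_frame_of_sylow T e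
  refine ⟨g.map P.subtype, rel_map hg.rel _, ?_, fun w => ?_, fun x hx => ?_, fun x hx h1 h2 h3 => ?_,
    fun x hx h1 => ?_, fun x hx h1 h2 h3 => ?_, fun x hx h1 h2 h3 => ?_, fun x hx h1 h2 => ?_,
    fun x hx h1 h2 => ?_⟩
  · rw [show (g.map P.subtype).word = P.subtype ∘ g.word from funext fun w => word_map g P.subtype w]
    exact P.subtype_injective.comp hg.bij.1
  · rw [word_map]
    exact SetLike.coe_mem _
  · obtain ⟨w, hw⟩ := hg.bij.2 ⟨x, hx⟩
    exact ⟨w, by rw [word_map, hw]; rfl⟩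
  · exact (hg.center ⟨x, hx⟩ (Subtype.ext h1) (Subtype.ext h2) (Subtype.ext h3)).imp
      (fun h => congrArg Subtype.val h) fun h => congrArg Subtype.val h
  · obtain ⟨i, j, i', j', k, l, h⟩ := hg.memW ⟨x, hx⟩ (Subtype.ext h1)
    exact ⟨i, j, i', j', k, l, by rw [ww_map, ← h]; rfl⟩
  · obtain ⟨i, j, k, l, h⟩ := hg.memA ⟨x, hx⟩ (Subtype.ext h1) (Subtype.ext h2) (Subtype.ext h3)
    exact ⟨i, j, k, l, by rw [wa_map, ← h]; rfl⟩
  · obtain ⟨i, j, k, l, h⟩ := hg.memB ⟨x, hx⟩ (Subtype.ext h1) (Subtype.ext h2) (Subtype.ext h3)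
    exact ⟨i, j, k, l, by rw [wb_map, ← h]; rfl⟩
  · rcases hg.normal_abelian ⟨x, hx⟩ (Subtype.ext h1) (fun y => Subtype.ext (h2 y y.2)) with
      ⟨i, j, k, l, h⟩ | ⟨i, j, k, l, h⟩
    · exact Or.inl ⟨i, j, k, l, by rw [wa_map, ← h]; rfl⟩
    · exact Or.inr ⟨i, j, k, l, by rw [wb_map, ← h]; rfl⟩
  · obtain ⟨i, i', k, h⟩ := hg.outer ⟨x, hx⟩ (fun h => h1 (congrArg Subtype.val h)) (Subtype.ext h2)
    exact ⟨i, i', k, by rw [word_map, ← h]; rfl⟩

/-- the first elementary abelian subgroup of order sixteen -/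
def gA (P : Subgroup S) (g : Gens S) : Subgroup S := P ⊓ centralizer {g.a₁, g.a₂, g.c₁}

/-- the second elementary abelian subgroup of order sixteen -/
def gB (P : Subgroup S) (g : Gens S) : Subgroup S := P ⊓ centralizer {g.b₁, g.b₂, g.c₁}

/-- the base -/
def gW (P : Subgroup S) (g : Gens S) : Subgroup S := P ⊓ centralizer {g.c₁}

variable {P : Subgroup S} {g : Gens S}

theorem mem_gA {x : S} :
    x ∈ gA P g ↔ x ∈ P ∧ x * g.a₁ = g.a₁ * x ∧ x * g.a₂ = g.a₂ * x ∧ x * g.c₁ = g.c₁ * x := by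
  simp only [gA, mem_inf, mem_centralizer_iff, Set.mem_insert_iff, Set.mem_singleton_iff, forall_eq_or_imp,
    forall_eq]
  exact and_congr Iff.rfl (and_congr eq_comm (and_congr eq_comm eq_comm))

theorem mem_gB {x : S} :
    x ∈ gB P g ↔ x ∈ P ∧ x * g.b₁ = g.b₁ * x ∧ x * g.b₂ = g.b₂ * x ∧ x * g.c₁ = g.c₁ * x := by
  simp only [gB, mem_inf, mem_centralizer_iff, Set.mem_insert_iff, Set.mem_singleton_iff, forall_eq_or_imp,
    forall_eq]
  exact and_congr Iff.rfl (and_congr eq_comm (and_congr eq_comm eq_comm))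

theorem mem_gW {x : S} : x ∈ gW P g ↔ x ∈ P ∧ x * g.c₁ = g.c₁ * x := by
  simp only [gW, mem_inf, mem_centralizer_iff, Set.mem_singleton_iff, forall_eq]
  exact and_congr Iff.rfl eq_comm

namespace Setup

variable (h : Setup P g)
include h

theorem a₁_mem : g.a₁ ∈ P := by
  simpa [Gens.word, Gens.ww, Gens.wb, Gens.zw] using h.mem (true, false, false, false, false, false, false)

theorem a₂_mem : g.a₂ ∈ P := by
  simpa [Gens.word, Gens.ww, Gens.wb, Gens.zw] using h.mem (false, true, false, false, false, false, false)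

theorem b₁_mem : g.b₁ ∈ P := by
  simpa [Gens.word, Gens.ww, Gens.wb, Gens.zw] using h.mem (false, false, true, false, false, false, false)

theorem b₂_mem : g.b₂ ∈ P := by
  simpa [Gens.word, Gens.ww, Gens.wb, Gens.zw] using h.mem (false, false, false, true, false, false, false)

theorem c₁_mem : g.c₁ ∈ P := by
  simpa [Gens.word, Gens.ww, Gens.wb, Gens.zw] using h.mem (false, false, false, false, true, false, false)

theorem c₂_mem : g.c₂ ∈ P := by
  simpa [Gens.word, Gens.ww, Gens.wb, Gens.zw] using h.mem (false, false, false, false, false, true, false)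

theorem t_mem : g.t ∈ P := by
  simpa [Gens.word, Gens.ww, Gens.wb, Gens.zw] using h.mem (false, false, false, false, false, false, true)

theorem le_of_gens {H : Subgroup S} (ha₁ : g.a₁ ∈ H) (ha₂ : g.a₂ ∈ H) (hb₁ : g.b₁ ∈ H) (hb₂ : g.b₂ ∈ H)
    (hc₁ : g.c₁ ∈ H) (hc₂ : g.c₂ ∈ H) (ht : g.t ∈ H) : P ≤ H := fun x hx => by
  obtain ⟨w, rfl⟩ := h.exists_word x hx
  simp only [Gens.word, Gens.ww, Gens.wb, Gens.zw]
  repeat' first
    | apply mul_mem
    | (split_ifs <;> first | assumption | exact one_mem H)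

theorem gW_le {H : Subgroup S} (ha₁ : g.a₁ ∈ H) (ha₂ : g.a₂ ∈ H) (hb₁ : g.b₁ ∈ H) (hb₂ : g.b₂ ∈ H)
    (hc₁ : g.c₁ ∈ H) (hc₂ : g.c₂ ∈ H) : gW P g ≤ H := fun x hx => by
  obtain ⟨i, j, i', j', k, l, rfl⟩ := h.memW x (mem_gW.1 hx).1 (mem_gW.1 hx).2
  simp only [Gens.ww, Gens.wb, Gens.zw]
  repeat' first
    | apply mul_mem
    | (split_ifs <;> first | assumption | exact one_mem H)

theorem gA_le {H : Subgroup S} (ha₁ : g.a₁ ∈ H) (ha₂ : g.a₂ ∈ H)
    (hc₁ : g.c₁ ∈ H) (hc₂ : g.c₂ ∈ H) : gA P g ≤ H := fun x hx => by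
  obtain ⟨h0, h1, h2, h3⟩ := mem_gA.1 hx
  obtain ⟨i, j, k, l, rfl⟩ := h.memA x h0 h1 h2 h3
  simp only [Gens.wa, Gens.zw]
  repeat' first
    | apply mul_mem
    | (split_ifs <;> first | assumption | exact one_mem H)

theorem gB_le {H : Subgroup S} (hb₁ : g.b₁ ∈ H) (hb₂ : g.b₂ ∈ H)
    (hc₁ : g.c₁ ∈ H) (hc₂ : g.c₂ ∈ H) : gB P g ≤ H := fun x hx => by
  obtain ⟨h0, h1, h2, h3⟩ := mem_gB.1 hx
  obtain ⟨i, j, k, l, rfl⟩ := h.memB x h0 h1 h2 h3
  simp only [Gens.wb, Gens.zw]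
  repeat' first
    | apply mul_mem
    | (split_ifs <;> first | assumption | exact one_mem H)

theorem mem_A : g.a₁ ∈ gA P g ∧ g.a₂ ∈ gA P g ∧ g.c₁ ∈ gA P g ∧ g.c₂ ∈ gA P g := by
  obtain ⟨_, _, _, _, _, _, _, h8, _, _, _, _, _, h14, _, h16, _, h18, _, h20, _, h22, _⟩ := h.rel
  exact ⟨mem_gA.2 ⟨h.a₁_mem, rfl, h8, h14.symm⟩, mem_gA.2 ⟨h.a₂_mem, h8.symm, rfl, h16.symm⟩,
    mem_gA.2 ⟨h.c₁_mem, h14, h16, rfl⟩, mem_gA.2 ⟨h.c₂_mem, h18, h20, h22.symm⟩⟩

theorem mem_B : g.b₁ ∈ gB P g ∧ g.b₂ ∈ gB P g ∧ g.c₁ ∈ gB P g ∧ g.c₂ ∈ gB P g := by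
  obtain ⟨_, _, _, _, _, _, _, _, _, _, h11, _, _, _, h15, _, h17, _, h19, _, h21, h22, _⟩ := h.rel
  exact ⟨mem_gB.2 ⟨h.b₁_mem, rfl, h11, h15.symm⟩, mem_gB.2 ⟨h.b₂_mem, h11.symm, rfl, h17.symm⟩,
    mem_gB.2 ⟨h.c₁_mem, h15, h17, rfl⟩, mem_gB.2 ⟨h.c₂_mem, h19, h21, h22.symm⟩⟩

theorem gA_le_gW : gA P g ≤ gW P g := fun _ hx => mem_gW.2 ⟨(mem_gA.1 hx).1, (mem_gA.1 hx).2.2.2⟩

theorem gB_le_gW : gB P g ≤ gW P g := fun _ hx => mem_gW.2 ⟨(mem_gB.1 hx).1, (mem_gB.1 hx).2.2.2⟩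

theorem gA_comm {x y : S} (hx : x ∈ gA P g) (hy : y ∈ gA P g) : x * y = y * x := by
  obtain ⟨_, _, _, _, _, _, _, _, _, _, _, _, _, _, _, _, _, h18, _, h20, _, h22, _⟩ := h.rel
  have hx2 : x * g.c₂ = g.c₂ * x := by
    have := h.gA_le (H := centralizer {g.c₂}) (mem_centralizer_singleton_iff.2 h18.symm)
      (mem_centralizer_singleton_iff.2 h20.symm) (mem_centralizer_singleton_iff.2 h22)
      (mem_centralizer_singleton_iff.2 rfl) hx
    exact mem_centralizer_singleton_iff.1 this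
  obtain ⟨_, h1, h2, h3⟩ := mem_gA.1 hx
  exact (mem_centralizer_singleton_iff.1 (h.gA_le (H := centralizer {x}) (mem_centralizer_singleton_iff.2 h1.symm)
    (mem_centralizer_singleton_iff.2 h2.symm) (mem_centralizer_singleton_iff.2 h3.symm)
    (mem_centralizer_singleton_iff.2 hx2.symm) hy)).symm

theorem gB_comm {x y : S} (hx : x ∈ gB P g) (hy : y ∈ gB P g) : x * y = y * x := by
  obtain ⟨_, _, _, _, _, _, _, _, _, _, _, _, _, _, _, _, _, _, h19, _, h21, h22, _⟩ := h.rel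
  have hx2 : x * g.c₂ = g.c₂ * x := by
    have := h.gB_le (H := centralizer {g.c₂}) (mem_centralizer_singleton_iff.2 h19.symm)
      (mem_centralizer_singleton_iff.2 h21.symm) (mem_centralizer_singleton_iff.2 h22)
      (mem_centralizer_singleton_iff.2 rfl) hx
    exact mem_centralizer_singleton_iff.1 this
  obtain ⟨_, h1, h2, h3⟩ := mem_gB.1 hx
  exact (mem_centralizer_singleton_iff.1 (h.gB_le (H := centralizer {x}) (mem_centralizer_singleton_iff.2 h1.symm)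
    (mem_centralizer_singleton_iff.2 h2.symm) (mem_centralizer_singleton_iff.2 h3.symm)
    (mem_centralizer_singleton_iff.2 hx2.symm) hy)).symm

theorem gA_sq {x : S} (hx : x ∈ gA P g) : x * x = 1 := by
  obtain ⟨h1, _, h3, _, _, h6, h7, _⟩ := h.rel
  let H : Subgroup S :=
    { carrier := {u | u ∈ gA P g ∧ u * u = 1}
      one_mem' := ⟨one_mem _, mul_one _⟩
      mul_mem' := fun {u v} hu hv => ⟨mul_mem hu.1 hv.1, by
        rw [Commute.mul_mul_mul_comm (h.gA_comm hv.1 hu.1), hu.2, hv.2, one_mul]⟩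
      inv_mem' := fun {u} hu => ⟨inv_mem hu.1, by rw [← mul_inv_rev, hu.2, inv_one]⟩ }
  obtain ⟨p1, p2, p3, p4⟩ := h.mem_A
  exact (h.gA_le (H := H) ⟨p1, h1⟩ ⟨p2, h3⟩ ⟨p3, h6⟩ ⟨p4, h7⟩ hx).2

theorem gB_sq {x : S} (hx : x ∈ gB P g) : x * x = 1 := by
  obtain ⟨_, h2, _, h4, _, h6, h7, _⟩ := h.rel
  let H : Subgroup S :=
    { carrier := {u | u ∈ gB P g ∧ u * u = 1}
      one_mem' := ⟨one_mem _, mul_one _⟩
      mul_mem' := fun {u v} hu hv => ⟨mul_mem hu.1 hv.1, by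
        rw [Commute.mul_mul_mul_comm (h.gB_comm hv.1 hu.1), hu.2, hv.2, one_mul]⟩
      inv_mem' := fun {u} hu => ⟨inv_mem hu.1, by rw [← mul_inv_rev, hu.2, inv_one]⟩ }
  obtain ⟨p1, p2, p3, p4⟩ := h.mem_B
  exact (h.gB_le (H := H) ⟨p1, h2⟩ ⟨p2, h4⟩ ⟨p3, h6⟩ ⟨p4, h7⟩ hx).2

theorem c_facts : g.c₁ ≠ 1 ∧ g.c₂ ≠ 1 ∧ g.c₁ ≠ g.c₂ ∧ g.c₁ * g.c₂ ≠ 1 := by
  refine ⟨fun e => ?_, fun e => ?_, fun e => ?_, fun e => ?_⟩
  · have := @h.inj (false, false, false, false, true, false, false) (false, false, false, false, false, false, false)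
      (by simp [Gens.word, Gens.ww, Gens.wb, Gens.zw, e])
    simp at this
  · have := @h.inj (false, false, false, false, false, true, false) (false, false, false, false, false, false, false)
      (by simp [Gens.word, Gens.ww, Gens.wb, Gens.zw, e])
    simp at this
  · have := @h.inj (false, false, false, false, true, false, false) (false, false, false, false, false, true, false)
      (by simp [Gens.word, Gens.ww, Gens.wb, Gens.zw, e])
    simp at this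
  · have := @h.inj (false, false, false, false, true, true, false) (false, false, false, false, false, false, false)
      (by simp [Gens.word, Gens.ww, Gens.wb, Gens.zw, e])
    simp at this

theorem ab_rel : g.a₁ * g.b₁ = g.c₁ * (g.b₁ * g.a₁) ∧ g.a₂ * g.b₂ = g.c₂ * (g.b₂ * g.a₂) ∧
    g.b₁ * g.a₁ = g.c₁ * (g.a₁ * g.b₁) ∧ g.b₂ * g.a₂ = g.c₂ * (g.a₂ * g.b₂) := by
  obtain ⟨_, _, _, _, _, h6, h7, _, _, _, _, h12, h13, _⟩ := h.rel
  exact ⟨h12, h13, by rw [h12, ← mul_assoc g.c₁ g.c₁, h6, one_mul],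
    by rw [h13, ← mul_assoc g.c₂ g.c₂, h7, one_mul]⟩

theorem a₁_notMem_B : g.a₁ ∉ gB P g := fun hm => h.c_facts.1
  (mul_eq_right.1 (h.ab_rel.1.symm.trans (mem_gB.1 hm).2.1))

theorem t_conj : g.t * g.a₁ * g.t⁻¹ = g.a₂ ∧ g.t * g.a₂ * g.t⁻¹ = g.a₁ ∧ g.t * g.b₁ * g.t⁻¹ = g.b₂ ∧
    g.t * g.b₂ * g.t⁻¹ = g.b₁ ∧ g.t * g.c₁ * g.t⁻¹ = g.c₂ ∧ g.t * g.c₂ * g.t⁻¹ = g.c₁ := by
  obtain ⟨_, _, _, _, h5, _, _, _, _, _, _, _, _, _, _, _, _, _, _, _, _, _, h23, h24, h25⟩ := h.rel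
  have ht : g.t⁻¹ = g.t := inv_eq_of_mul_eq_one_right h5
  have back : ∀ {u v : S}, g.t * u = v * g.t → g.t * v * g.t⁻¹ = u := fun {u v} e => by
    calc g.t * v * g.t⁻¹ = g.t * v * g.t := by rw [ht]
      _ = g.t * (g.t * u) := by rw [e, mul_assoc]
      _ = u := by rw [← mul_assoc, h5, one_mul]
  exact ⟨mul_inv_eq_iff_eq_mul.2 h23, back h23, mul_inv_eq_iff_eq_mul.2 h24, back h24,
    mul_inv_eq_iff_eq_mul.2 h25, back h25⟩

theorem z_central {x : S} (hx : x ∈ P) : x * (g.c₁ * g.c₂) = g.c₁ * g.c₂ * x := by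
  obtain ⟨_, _, _, _, _, _, _, _, _, _, _, _, _, h14, h15, h16, h17, h18, h19, h20, h21, h22, _⟩ := h.rel
  obtain ⟨_, _, _, _, t5, t6⟩ := h.t_conj
  have key : ∀ {u : S}, g.c₁ * u = u * g.c₁ → g.c₂ * u = u * g.c₂ → u * (g.c₁ * g.c₂) = g.c₁ * g.c₂ * u := by
    intro u e1 e2
    rw [← mul_assoc, ← e1, mul_assoc, ← e2, ← mul_assoc]
  refine mem_centralizer_singleton_iff.1 (h.le_of_gens (H := centralizer {g.c₁ * g.c₂})
    (mem_centralizer_singleton_iff.2 (key h14 h18)) (mem_centralizer_singleton_iff.2 (key h16 h20))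
    (mem_centralizer_singleton_iff.2 (key h15 h19)) (mem_centralizer_singleton_iff.2 (key h17 h21))
    (mem_centralizer_singleton_iff.2 (key rfl h22.symm)) (mem_centralizer_singleton_iff.2 (key h22 rfl))
    (mem_centralizer_singleton_iff.2 ?_) hx)
  have : g.t * (g.c₁ * g.c₂) * g.t⁻¹ = g.c₁ * g.c₂ :=
    calc g.t * (g.c₁ * g.c₂) * g.t⁻¹ = g.t * g.c₁ * g.t⁻¹ * (g.t * g.c₂ * g.t⁻¹) := by group
      _ = g.c₁ * g.c₂ := by rw [t5, t6, h22]
  exact mul_inv_eq_iff_eq_mul.1 this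

theorem central_eq {x : S} (hx : x ∈ P) (hc : ∀ y ∈ P, x * y = y * x) : x = 1 ∨ x = g.c₁ * g.c₂ :=
  h.center x hx (hc _ h.a₁_mem) (hc _ h.b₁_mem) (hc _ h.t_mem)

theorem gW_crit {x : S} (hx : x ∈ P) (h2 : x * g.c₂ = g.c₂ * x) : x * g.c₁ = g.c₁ * x := by
  obtain ⟨_, _, _, _, _, _, h7, _⟩ := h.rel
  have : g.c₁ = g.c₁ * g.c₂ * g.c₂ := by rw [mul_assoc, h7, mul_one]
  rw [this, ← mul_assoc x, h.z_central hx, mul_assoc _ x, h2, ← mul_assoc]

theorem gW_c₂ {x : S} (hx : x ∈ gW P g) : x * g.c₂ = g.c₂ * x := by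
  obtain ⟨_, _, _, _, _, h6, _⟩ := h.rel
  obtain ⟨h0, h1⟩ := mem_gW.1 hx
  have : g.c₂ = g.c₁ * (g.c₁ * g.c₂) := by rw [← mul_assoc, h6, one_mul]
  rw [this, ← mul_assoc x, h1, mul_assoc g.c₁ x, h.z_central h0, ← mul_assoc]

theorem gW_cb {v : S} (hv : v ∈ gW P g) :
    CB g.c₁ v g.a₁ ∧ CB g.c₁ v g.b₁ ∧ CB g.c₂ v g.a₂ ∧ CB g.c₂ v g.b₂ := by
  obtain ⟨_, _, _, _, _, h6, h7, h8, h9, h10, h11, _, _, h14, h15, h16, h17, h18, h19, h20, h21, h22, _⟩ := h.rel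
  obtain ⟨r1, r2, r3, r4⟩ := h.ab_rel
  refine ⟨(h.gW_le (H := cbSub g.c₁ g.a₁ h6 h14.symm) ?_ ?_ ?_ ?_ ?_ ?_ hv).2,
    (h.gW_le (H := cbSub g.c₁ g.b₁ h6 h15.symm) ?_ ?_ ?_ ?_ ?_ ?_ hv).2,
    (h.gW_le (H := cbSub g.c₂ g.a₂ h7 h20.symm) ?_ ?_ ?_ ?_ ?_ ?_ hv).2,
    (h.gW_le (H := cbSub g.c₂ g.b₂ h7 h21.symm) ?_ ?_ ?_ ?_ ?_ ?_ hv).2⟩
  exacts [⟨h14.symm, Or.inl rfl⟩, ⟨h16.symm, Or.inl h8.symm⟩, ⟨h15.symm, Or.inr r3⟩, ⟨h17.symm, Or.inl h9.symm⟩,
    ⟨rfl, Or.inl h14⟩, ⟨h22.symm, Or.inl h18⟩,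
    ⟨h14.symm, Or.inr r1⟩, ⟨h16.symm, Or.inl h10.symm⟩, ⟨h15.symm, Or.inl rfl⟩, ⟨h17.symm, Or.inl h11.symm⟩,
    ⟨rfl, Or.inl h15⟩, ⟨h22.symm, Or.inl h19⟩,
    ⟨h18.symm, Or.inl h8⟩, ⟨h20.symm, Or.inl rfl⟩, ⟨h19.symm, Or.inl h10⟩, ⟨h21.symm, Or.inr r4⟩,
    ⟨h22, Or.inl h16⟩, ⟨rfl, Or.inl h20⟩,
    ⟨h18.symm, Or.inl h9⟩, ⟨h20.symm, Or.inr r2⟩, ⟨h19.symm, Or.inl h11⟩, ⟨h21.symm, Or.inl rfl⟩,
    ⟨h22, Or.inl h17⟩, ⟨rfl, Or.inl h21⟩]

/-- the intersection of the two subgroups -/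
theorem mem_inf_iff {x : S} (hx : x ∈ gA P g ⊓ gB P g) : x = 1 ∨ x = g.c₁ ∨ x = g.c₂ ∨ x = g.c₁ * g.c₂ := by
  obtain ⟨hA, hB⟩ := mem_inf.1 hx
  obtain ⟨a0, a1, a2, a3⟩ := mem_gA.1 hA
  obtain ⟨b0, b1, b2, b3⟩ := mem_gB.1 hB
  obtain ⟨i, j, k, l, ea⟩ := h.memA x a0 a1 a2 a3
  obtain ⟨i', j', k', l', eb⟩ := h.memB x b0 b1 b2 b3
  have := @h.inj (i, j, false, false, k, l, false) (false, false, i', j', k', l', false) (by
    simp only [Gens.word, Gens.ww, Gens.wb, Bool.false_eq_true, if_false, mul_one, one_mul]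
    exact ea.symm.trans eb)
  simp only [Prod.mk.injEq] at this
  obtain ⟨rfl, rfl, -⟩ := this
  simp only [Gens.wa, Gens.zw, Bool.false_eq_true, if_false, one_mul] at ea
  cases k <;> cases l <;> simp at ea <;> simp [ea]

theorem c_mem_inf : g.c₁ ∈ gA P g ⊓ gB P g ∧ g.c₂ ∈ gA P g ⊓ gB P g :=
  ⟨⟨h.mem_A.2.2.1, h.mem_B.2.2.1⟩, ⟨h.mem_A.2.2.2, h.mem_B.2.2.2⟩⟩

theorem card_gA : Nat.card (gA P g) = 16 := by
  obtain ⟨p1, p2, p3, p4⟩ := h.mem_A
  have hm : ∀ w : Bool × Bool × Bool × Bool, g.wa w.1 w.2.1 w.2.2.1 w.2.2.2 ∈ gA P g := fun w => by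
    simp only [Gens.wa, Gens.zw]
    repeat' first
      | apply mul_mem
      | (split_ifs <;> first | assumption | exact one_mem _)
  rw [← Nat.card_eq_of_bijective (fun w => (⟨_, hm w⟩ : gA P g)) ⟨fun v w e => ?_, fun x => ?_⟩]
  · simp [Nat.card_prod]
  · have e' := congrArg Subtype.val e
    obtain ⟨i, j, k, l⟩ := v
    obtain ⟨i', j', k', l'⟩ := w
    have := @h.inj (i, j, false, false, k, l, false) (i', j', false, false, k', l', false) (by
      simpa [Gens.word, Gens.ww, Gens.wb, Gens.wa] using e')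
    simpa using this
  · obtain ⟨h0, h1, h2, h3⟩ := mem_gA.1 x.2
    obtain ⟨i, j, k, l, e⟩ := h.memA x h0 h1 h2 h3
    exact ⟨(i, j, k, l), Subtype.ext e.symm⟩

theorem card_gB : Nat.card (gB P g) = 16 := by
  obtain ⟨p1, p2, p3, p4⟩ := h.mem_B
  have hm : ∀ w : Bool × Bool × Bool × Bool, g.wb w.1 w.2.1 w.2.2.1 w.2.2.2 ∈ gB P g := fun w => by
    simp only [Gens.wb, Gens.zw]
    repeat' first
      | apply mul_mem
      | (split_ifs <;> first | assumption | exact one_mem _)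
  rw [← Nat.card_eq_of_bijective (fun w => (⟨_, hm w⟩ : gB P g)) ⟨fun v w e => ?_, fun x => ?_⟩]
  · simp [Nat.card_prod]
  · have e' := congrArg Subtype.val e
    obtain ⟨i, j, k, l⟩ := v
    obtain ⟨i', j', k', l'⟩ := w
    have := @h.inj (false, false, i, j, k, l, false) (false, false, i', j', k', l', false) (by
      simpa [Gens.word, Gens.ww] using e')
    simpa using this
  · obtain ⟨h0, h1, h2, h3⟩ := mem_gB.1 x.2
    obtain ⟨i, j, k, l, e⟩ := h.memB x h0 h1 h2 h3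
    exact ⟨(i, j, k, l), Subtype.ext e.symm⟩

theorem card_gW : Nat.card (gW P g) = 64 := by
  obtain ⟨p1, p2, p3, p4⟩ := h.mem_A
  obtain ⟨q1, q2, _, _⟩ := h.mem_B
  replace p1 := h.gA_le_gW p1
  replace p2 := h.gA_le_gW p2
  replace p3 := h.gA_le_gW p3
  replace p4 := h.gA_le_gW p4
  replace q1 := h.gB_le_gW q1
  replace q2 := h.gB_le_gW q2
  have hm : ∀ w : Bool × Bool × Bool × Bool × Bool × Bool,
      g.ww w.1 w.2.1 w.2.2.1 w.2.2.2.1 w.2.2.2.2.1 w.2.2.2.2.2 ∈ gW P g := fun w => by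
    simp only [Gens.ww, Gens.wb, Gens.zw]
    repeat' first
      | apply mul_mem
      | (split_ifs <;> first | assumption | exact one_mem _)
  rw [← Nat.card_eq_of_bijective (fun w => (⟨_, hm w⟩ : gW P g)) ⟨fun v w e => ?_, fun x => ?_⟩]
  · simp [Nat.card_prod]
  · have e' := congrArg Subtype.val e
    obtain ⟨i, j, i₂, j₂, k, l⟩ := v
    obtain ⟨i', j', i₂', j₂', k', l'⟩ := w
    have := @h.inj (i, j, i₂, j₂, k, l, false) (i', j', i₂', j₂', k', l', false) (by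
      simpa [Gens.word] using e')
    simpa using this
  · obtain ⟨h0, h1⟩ := mem_gW.1 x.2
    obtain ⟨i, j, i', j', k, l, e⟩ := h.memW x h0 h1
    exact ⟨(i, j, i', j', k, l), Subtype.ext e.symm⟩

theorem card_P : Nat.card P = 128 := by
  rw [← Nat.card_eq_of_bijective (fun w => (⟨_, h.mem w⟩ : P))
    ⟨fun v w e => h.inj (congrArg Subtype.val e), fun x => ?_⟩]
  · simp [Nat.card_prod]
  · obtain ⟨w, e⟩ := h.exists_word x x.2
    exact ⟨w, Subtype.ext e.symm⟩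

theorem gA_normal : ∀ x ∈ P, ∀ u ∈ gA P g, x * u * x⁻¹ ∈ gA P g := by
  cases isEmpty_or_nonempty S with
  | inl hh => exact fun x => (hh.false x).elim
  | inr hh =>
  obtain ⟨_, _, _, _, _, h6, h7, _, h9, h10, _, _, _, h14, h15, h16, h17, h18, h19, h20, h21, h22, _⟩ := h.rel
  obtain ⟨p1, p2, p3, p4⟩ := h.mem_A
  obtain ⟨_, _, r3, r4⟩ := h.ab_rel
  obtain ⟨t1, t2, _, _, t5, t6⟩ := h.t_conj
  have one : ∀ {x}, x * g.a₁ * x⁻¹ ∈ gA P g → x * g.a₂ * x⁻¹ ∈ gA P g → x * g.c₁ * x⁻¹ ∈ gA P g →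
      x * g.c₂ * x⁻¹ ∈ gA P g → ∀ u ∈ gA P g, x * u * x⁻¹ ∈ gA P g := fun {x} e1 e2 e3 e4 u hu =>
    h.gA_le (H := (gA P g).comap (MulAut.conj x).toMonoidHom) e1 e2 e3 e4 hu
  have inA : ∀ {x}, x ∈ gA P g → ∀ u ∈ gA P g, x * u * x⁻¹ ∈ gA P g := fun hx u hu =>
    mul_mem (mul_mem hx hu) (inv_mem hx)
  let H : Subgroup S :=
    { carrier := {x | x ∈ P ∧ ∀ u ∈ gA P g, (x * u * x⁻¹ ∈ gA P g ∧ x⁻¹ * u * x ∈ gA P g)}
      one_mem' := ⟨one_mem _, fun u hu => by simpa using hu⟩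
      mul_mem' := fun {x y} hx hy => ⟨mul_mem hx.1 hy.1, fun u hu => by
        constructor
        · have := (hx.2 _ (hy.2 u hu).1).1
          simpa [mul_assoc] using this
        · have := (hy.2 _ (hx.2 u hu).2).2
          simpa [mul_assoc] using this⟩
      inv_mem' := fun {x} hx => ⟨inv_mem hx.1, fun u hu => by
        simpa [and_comm] using hx.2 u hu⟩ }
  have inH : ∀ {x}, x ∈ P → x * x = 1 → (∀ u ∈ gA P g, x * u * x⁻¹ ∈ gA P g) → x ∈ H := fun {x} hx hxx e =>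
    ⟨hx, fun u hu => ⟨e u hu, by
      have hi : x⁻¹ = x := inv_eq_of_mul_eq_one_right hxx
      have := e u hu
      rw [hi] at this ⊢
      exact this⟩⟩
  obtain ⟨s1, s2, s3, s4, s5, s6, s7, _⟩ := h.rel
  have cj : ∀ {x y : S}, x * y = y * x → x * y * x⁻¹ = y := fun {x y} e => by rw [e, mul_inv_cancel_right]
  have hb₁ : g.b₁ * g.a₁ * g.b₁⁻¹ = g.c₁ * g.a₁ := by rw [r3, mul_assoc, mul_inv_cancel_right]
  have hb₂ : g.b₂ * g.a₂ * g.b₂⁻¹ = g.c₂ * g.a₂ := by rw [r4, mul_assoc, mul_inv_cancel_right]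
  have hP := h.le_of_gens (H := H) (inH h.a₁_mem s1 (inA p1)) (inH h.a₂_mem s3 (inA p2))
    (inH h.b₁_mem s2 (one (hb₁ ▸ mul_mem p3 p1) ((cj h10).symm ▸ p2) ((cj h15.symm).symm ▸ p3)
      ((cj h19.symm).symm ▸ p4)))
    (inH h.b₂_mem s4 (one ((cj h9.symm).symm ▸ p1) (hb₂ ▸ mul_mem p4 p2) ((cj h17.symm).symm ▸ p3)
      ((cj h21.symm).symm ▸ p4)))
    (inH h.c₁_mem h6 (inA p3)) (inH h.c₂_mem h7 (inA p4))
    (inH h.t_mem s5 (one (t1.symm ▸ p2) (t2.symm ▸ p1) (t5.symm ▸ p4) (t6.symm ▸ p3)))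
  exact fun x hx u hu => ((hP hx).2 u hu).1

theorem gB_normal : ∀ x ∈ P, ∀ u ∈ gB P g, x * u * x⁻¹ ∈ gB P g := by
  obtain ⟨_, _, _, _, _, h6, h7, _, h9, h10, _, _, _, h14, h15, h16, h17, h18, h19, h20, h21, h22, _⟩ := h.rel
  obtain ⟨p1, p2, p3, p4⟩ := h.mem_B
  obtain ⟨r1, r2, _, _⟩ := h.ab_rel
  obtain ⟨_, _, t3, t4, t5, t6⟩ := h.t_conj
  have one : ∀ {x}, x * g.b₁ * x⁻¹ ∈ gB P g → x * g.b₂ * x⁻¹ ∈ gB P g → x * g.c₁ * x⁻¹ ∈ gB P g →
      x * g.c₂ * x⁻¹ ∈ gB P g → ∀ u ∈ gB P g, x * u * x⁻¹ ∈ gB P g := fun {x} e1 e2 e3 e4 u hu =>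
    h.gB_le (H := (gB P g).comap (MulAut.conj x).toMonoidHom) e1 e2 e3 e4 hu
  have inA : ∀ {x}, x ∈ gB P g → ∀ u ∈ gB P g, x * u * x⁻¹ ∈ gB P g := fun hx u hu =>
    mul_mem (mul_mem hx hu) (inv_mem hx)
  let H : Subgroup S :=
    { carrier := {x | x ∈ P ∧ ∀ u ∈ gB P g, (x * u * x⁻¹ ∈ gB P g ∧ x⁻¹ * u * x ∈ gB P g)}
      one_mem' := ⟨one_mem _, fun u hu => by simpa using hu⟩
      mul_mem' := fun {x y} hx hy => ⟨mul_mem hx.1 hy.1, fun u hu => by
        constructor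
        · have := (hx.2 _ (hy.2 u hu).1).1
          simpa [mul_assoc] using this
        · have := (hy.2 _ (hx.2 u hu).2).2
          simpa [mul_assoc] using this⟩
      inv_mem' := fun {x} hx => ⟨inv_mem hx.1, fun u hu => by
        simpa [and_comm] using hx.2 u hu⟩ }
  have inH : ∀ {x}, x ∈ P → x * x = 1 → (∀ u ∈ gB P g, x * u * x⁻¹ ∈ gB P g) → x ∈ H := fun {x} hx hxx e =>
    ⟨hx, fun u hu => ⟨e u hu, by
      have hi : x⁻¹ = x := inv_eq_of_mul_eq_one_right hxx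
      have := e u hu
      rw [hi] at this ⊢
      exact this⟩⟩
  obtain ⟨s1, s2, s3, s4, s5, s6, s7, _⟩ := h.rel
  have cj : ∀ {x y : S}, x * y = y * x → x * y * x⁻¹ = y := fun {x y} e => by rw [e, mul_inv_cancel_right]
  have ha₁ : g.a₁ * g.b₁ * g.a₁⁻¹ = g.c₁ * g.b₁ := by rw [r1, mul_assoc, mul_inv_cancel_right]
  have ha₂ : g.a₂ * g.b₂ * g.a₂⁻¹ = g.c₂ * g.b₂ := by rw [r2, mul_assoc, mul_inv_cancel_right]
  have hP := h.le_of_gens (H := H)
    (inH h.a₁_mem s1 (one (ha₁ ▸ mul_mem p3 p1) ((cj h9).symm ▸ p2) ((cj h14.symm).symm ▸ p3)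
      ((cj h18.symm).symm ▸ p4)))
    (inH h.a₂_mem s3 (one ((cj h10.symm).symm ▸ p1) (ha₂ ▸ mul_mem p4 p2) ((cj h16.symm).symm ▸ p3)
      ((cj h20.symm).symm ▸ p4)))
    (inH h.b₁_mem s2 (inA p1)) (inH h.b₂_mem s4 (inA p2)) (inH h.c₁_mem h6 (inA p3)) (inH h.c₂_mem h7 (inA p4))
    (inH h.t_mem s5 (one (t3.symm ▸ p2) (t4.symm ▸ p1) (t5.symm ▸ p4) (t6.symm ▸ p3)))
  exact fun x hx u hu => ((hP hx).2 u hu).1

theorem gA_le_P : gA P g ≤ P := inf_le_left

theorem gB_le_P : gB P g ≤ P := inf_le_left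

theorem gA_ne_gB : gA P g ≠ gB P g := fun e => h.a₁_notMem_B (e ▸ h.mem_A.1)

theorem classify [Finite S] {U : Subgroup S} (hU : U ≤ P) (hn : ∀ x ∈ P, ∀ u ∈ U, x * u * x⁻¹ ∈ U)
    (hc : ∀ u ∈ U, ∀ v ∈ U, u * v = v * u) (hs : ∀ u ∈ U, u * u = 1) (hcard : Nat.card U = 16) :
    U = gA P g ∨ U = gB P g := by
  have hsub : ∀ u ∈ U, u ∈ gA P g ∨ u ∈ gB P g := fun u hu => by
    obtain ⟨p1, p2, p3, p4⟩ := h.mem_A
    obtain ⟨q1, q2, q3, q4⟩ := h.mem_B
    rcases h.normal_abelian u (hU hu) (hs u hu) (fun y hy => hc u hu _ (hn y hy u hu)) with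
      ⟨i, j, k, l, rfl⟩ | ⟨i, j, k, l, rfl⟩
    · left
      simp only [Gens.wa, Gens.zw]
      repeat' first
        | apply mul_mem
        | (split_ifs <;> first | assumption | exact one_mem _)
    · right
      simp only [Gens.wb, Gens.zw]
      repeat' first
        | apply mul_mem
        | (split_ifs <;> first | assumption | exact one_mem _)
  by_cases hA : U ≤ gA P g
  · exact Or.inl (eq_of_le_of_card_ge hA (by rw [hcard, h.card_gA]))
  · obtain ⟨u, hu, hu'⟩ := SetLike.not_le_iff_exists.1 hA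
    refine Or.inr (eq_of_le_of_card_ge (fun v hv => ?_) (by rw [hcard, h.card_gB]))
    rcases hsub v hv with hv' | hv'
    · rcases hsub _ (mul_mem hu hv) with huv | huv
      · exact absurd (((gA P g).mul_mem_cancel_right hv').1 huv) hu'
      · exact ((gB P g).mul_mem_cancel_left ((hsub u hu).resolve_left hu')).1 huv
    · exact hv'

/-- the normalizer of `P` permutes the two subgroups -/
theorem conj_AB [Finite S] {m : S} (hm : m ∈ normalizer (P : Set S)) :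
    ((gA P g).map (MulAut.conj m).toMonoidHom = gA P g ∧ (gB P g).map (MulAut.conj m).toMonoidHom = gB P g) ∨
    ((gA P g).map (MulAut.conj m).toMonoidHom = gB P g ∧ (gB P g).map (MulAut.conj m).toMonoidHom = gA P g) := by
  have key : ∀ U : Subgroup S, U ≤ P → (∀ x ∈ P, ∀ u ∈ U, x * u * x⁻¹ ∈ U) →
      (∀ u ∈ U, ∀ v ∈ U, u * v = v * u) → (∀ u ∈ U, u * u = 1) → Nat.card U = 16 →
      U.map (MulAut.conj m).toMonoidHom = gA P g ∨ U.map (MulAut.conj m).toMonoidHom = gB P g := by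
    intro U hU hn hc hs hcard
    refine h.classify ?_ ?_ ?_ ?_ (by rw [card_map_of_injective (MulEquiv.injective _), hcard])
    · rintro y ⟨u, hu, rfl⟩
      exact (mem_normalizer_iff.1 hm u).1 (hU hu)
    · rintro x hx y ⟨u, hu, rfl⟩
      refine ⟨m⁻¹ * x * m * u * (m⁻¹ * x * m)⁻¹, hn _ ?_ u hu, ?_⟩
      · exact (mem_normalizer_iff''.1 hm x).1 hx
      · simp only [MulEquiv.coe_toMonoidHom, MulAut.conj_apply]
        group
    · rintro y ⟨u, hu, rfl⟩ y' ⟨u', hu', rfl⟩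
      rw [← map_mul, hc u hu u' hu', map_mul]
    · rintro y ⟨u, hu, rfl⟩
      rw [← map_mul, hs u hu, map_one]
  have hne : (gA P g).map (MulAut.conj m).toMonoidHom ≠ (gB P g).map (MulAut.conj m).toMonoidHom := fun e =>
    h.gA_ne_gB (map_injective (MulEquiv.injective _) e)
  rcases key _ h.gA_le_P h.gA_normal (fun _ hu _ hv => h.gA_comm hu hv) (fun _ hu => h.gA_sq hu) h.card_gA with
    e1 | e1 <;>
  rcases key _ h.gB_le_P h.gB_normal (fun _ hu _ hv => h.gB_comm hu hv) (fun _ hu => h.gB_sq hu) h.card_gB with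
    e2 | e2
  · exact absurd (e1.trans e2.symm) hne
  · exact Or.inl ⟨e1, e2⟩
  · exact Or.inr ⟨e1, e2⟩
  · exact absurd (e1.trans e2.symm) hne

/-- the normalizer of `P` fixes the central involution -/
theorem conj_z {m : S} (hm : m ∈ normalizer (P : Set S)) : m * (g.c₁ * g.c₂) * m⁻¹ = g.c₁ * g.c₂ := by
  have hz := mul_mem h.c₁_mem h.c₂_mem
  refine (h.central_eq ((mem_normalizer_iff.1 hm _).1 hz) fun y hy => ?_).resolve_left fun e =>
    h.c_facts.2.2.2 (conj_eq_one_iff.1 e)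
  have := h.z_central ((mem_normalizer_iff''.1 hm y).1 hy)
  calc m * (g.c₁ * g.c₂) * m⁻¹ * y = m * (g.c₁ * g.c₂ * (m⁻¹ * y * m)) * m⁻¹ := by group
    _ = y * (m * (g.c₁ * g.c₂) * m⁻¹) := by rw [← this]; group

/-- the normalizer of `P` permutes `c₁` and `c₂` -/
theorem conj_c [Finite S] {m : S} (hm : m ∈ normalizer (P : Set S)) :
    (m * g.c₁ * m⁻¹ = g.c₁ ∧ m * g.c₂ * m⁻¹ = g.c₂) ∨ (m * g.c₁ * m⁻¹ = g.c₂ ∧ m * g.c₂ * m⁻¹ = g.c₁) := by
  have hmem : ∀ {u}, u ∈ gA P g ⊓ gB P g → m * u * m⁻¹ ∈ gA P g ⊓ gB P g := fun {u} hu => by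
    have hu1 := mem_map_of_mem (MulAut.conj m).toMonoidHom (mem_inf.1 hu).1
    have hu2 := mem_map_of_mem (MulAut.conj m).toMonoidHom (mem_inf.1 hu).2
    rcases h.conj_AB hm with ⟨e1, e2⟩ | ⟨e1, e2⟩ <;> rw [e1] at hu1 <;> rw [e2] at hu2
    · exact ⟨hu1, hu2⟩
    · exact ⟨hu2, hu1⟩
  obtain ⟨c1, c2, c12, cz⟩ := h.c_facts
  have hz := h.conj_z hm
  obtain ⟨_, _, _, _, _, h6, h7, _, _, _, _, _, _, _, _, _, _, _, _, _, _, h22, _⟩ := h.rel
  have e2 : m * g.c₂ * m⁻¹ = (m * g.c₁ * m⁻¹)⁻¹ * (g.c₁ * g.c₂) :=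
    calc m * g.c₂ * m⁻¹ = (m * g.c₁ * m⁻¹)⁻¹ * (m * (g.c₁ * g.c₂) * m⁻¹) := by group
      _ = _ := by rw [hz]
  have hi1 : g.c₁⁻¹ = g.c₁ := inv_eq_of_mul_eq_one_right h6
  have hi2 : g.c₂⁻¹ = g.c₂ := inv_eq_of_mul_eq_one_right h7
  rcases h.mem_inf_iff (hmem h.c_mem_inf.1) with e | e | e | e
  · exact absurd (conj_eq_one_iff.1 e) c1
  · exact Or.inl ⟨e, by rw [e2, e, hi1, ← mul_assoc, h6, one_mul]⟩
  · exact Or.inr ⟨e, by rw [e2, e, hi2, h22, ← mul_assoc, h7, one_mul]⟩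
  · rw [e, inv_mul_cancel] at e2
    exact absurd (conj_eq_one_iff.1 e2) c2

/-- the rank hypothesis forbids a further element acting trivially modulo `gA ⊓ gB` -/
theorem no_five [Finite S] (hr : Cfsg.SectionalPRankLE 2 4 S) {m : S} (hmW : m ∉ gW P g)
    (h1 : m * g.c₁ = g.c₁ * m) (h2 : m * g.c₂ = g.c₂ * m) (hsq : m * m ∈ gA P g ⊓ gB P g)
    (hm : ∀ s ∈ ({g.a₁, g.a₂, g.b₁, g.b₂} : Set S), ∃ u ∈ gA P g ⊓ gB P g, m * s = u * (s * m)) : False := by
  obtain ⟨r1, r2, r3, r4, _, r6, r7, r8, r9, r10, r11, _, _, r14, r15, r16, r17, r18, r19, r20, r21, r22, _⟩ := h.rel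
  obtain ⟨ab1, ab2, ba1, ba2⟩ := h.ab_rel
  let gens : Set S := {g.a₁, g.a₂, g.b₁, g.b₂, g.c₁, g.c₂, m}
  let H := closure gens
  let Z := gA P g ⊓ gB P g
  have hmem : ∀ {s}, s ∈ gens → s ∈ H := fun hs => subset_closure hs
  have hWH : gW P g ≤ H := h.gW_le (hmem (by simp [gens])) (hmem (by simp [gens])) (hmem (by simp [gens]))
    (hmem (by simp [gens])) (hmem (by simp [gens])) (hmem (by simp [gens]))
  have hmH : m ∈ H := hmem (by simp [gens])
  have hZH : Z ≤ H := (inf_le_left.trans h.gA_le_gW).trans hWH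
  have hcent : ∀ u ∈ Z, ∀ x ∈ H, x * u = u * x := by
    intro u hu x hx
    have : H ≤ centralizer {u} := by
      refine (closure_le _).2 fun s hs => ?_
      simp only [gens, Set.mem_insert_iff, Set.mem_singleton_iff] at hs
      refine mem_centralizer_singleton_iff.2 ?_
      obtain ⟨huA, huB⟩ := mem_inf.1 hu
      obtain ⟨p1, p2, p3, p4⟩ := h.mem_A
      obtain ⟨q1, q2, q3, q4⟩ := h.mem_B
      rcases hs with rfl | rfl | rfl | rfl | rfl | rfl | rfl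
      · exact h.gA_comm p1 huA
      · exact h.gA_comm p2 huA
      · exact h.gB_comm q1 huB
      · exact h.gB_comm q2 huB
      · exact h.gA_comm p3 huA
      · exact h.gA_comm p4 huA
      · rcases h.mem_inf_iff hu with rfl | rfl | rfl | rfl
        · simp
        · exact h1
        · exact h2
        · rw [← mul_assoc, h1, mul_assoc, h2, ← mul_assoc]
    exact mem_centralizer_singleton_iff.1 (this hx)
  haveI : (Z.subgroupOf H).Normal := ⟨fun u hu x => by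
    have hu' : (u : S) ∈ Z := hu
    have : x * u * x⁻¹ = u := by
      have : x * u = u * x := Subtype.ext (hcent _ hu' _ x.2)
      rw [this, mul_inv_cancel_right]
    rwa [this]⟩
  let π := QuotientGroup.mk' (Z.subgroupOf H)
  have hπ : ∀ {x y : H}, ∀ u ∈ Z, (x : S) = u * y → π x = π y := fun {x y} u hu e => by
    refine QuotientGroup.eq.2 ?_
    show ((x⁻¹ * y : H) : S) ∈ Z
    rw [Subgroup.coe_mul, Subgroup.coe_inv, e, mul_inv_rev, mul_assoc]
    have hc := hcent _ (inv_mem hu) _ y.2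
    rw [← hc, ← mul_assoc, inv_mul_cancel, one_mul]
    exact inv_mem hu
  -- the generators commute and square to one modulo `Z`
  have hgen : ∀ s ∈ gens, (s * s ∈ Z) ∧ ∀ s' ∈ gens, ∃ u ∈ Z, s * s' = u * (s' * s) := by
    have hc : ∀ c ∈ Z, c ∈ gens → ∀ s' ∈ gens, ∃ u ∈ Z, c * s' = u * (s' * c) := fun c hc _ s' hs' =>
      ⟨1, one_mem _, by rw [one_mul, hcent c hc s' (hmem hs')]⟩
    have one : (1 : S) ∈ Z := one_mem _
    obtain ⟨z1, z2⟩ := h.c_mem_inf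
    have triv : ∀ {s s' : S}, s * s' = s' * s → ∃ u ∈ Z, s * s' = u * (s' * s) := fun e =>
      ⟨1, one, e.trans (one_mul _).symm⟩
    have sym : ∀ {s s' u : S}, u ∈ Z → s * s' = u * (s' * s) →
        ∃ v ∈ Z, s' * s = v * (s * s') := fun {s s' u} hu e =>
      ⟨u⁻¹, inv_mem hu, by rw [e, inv_mul_cancel_left]⟩
    obtain ⟨u1, hu1, e1⟩ := hm g.a₁ (by simp)
    obtain ⟨u2, hu2, e2⟩ := hm g.a₂ (by simp)
    obtain ⟨u3, hu3, e3⟩ := hm g.b₁ (by simp)
    obtain ⟨u4, hu4, e4⟩ := hm g.b₂ (by simp)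
    intro s hs
    have hsZ : s = g.c₁ ∨ s = g.c₂ → (s * s ∈ Z) ∧ ∀ s' ∈ gens, ∃ u ∈ Z, s * s' = u * (s' * s) := by
      rintro (rfl | rfl)
      · exact ⟨mul_mem z1 z1, hc _ z1 hs⟩
      · exact ⟨mul_mem z2 z2, hc _ z2 hs⟩
    simp only [gens, Set.mem_insert_iff, Set.mem_singleton_iff] at hs
    rcases hs with rfl | rfl | rfl | rfl | rfl | rfl | rfl
    pick_goal 5; · exact hsZ (Or.inl rfl)
    pick_goal 5; · exact hsZ (Or.inr rfl)
    all_goals refine ⟨?_, fun s' hs' => ?_⟩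
    all_goals first
      | exact hsq
      | (rw [r1]; exact one)
      | (rw [r2]; exact one)
      | (rw [r3]; exact one)
      | (rw [r4]; exact one)
      | skip
    all_goals
      simp only [gens, Set.mem_insert_iff, Set.mem_singleton_iff] at hs'
      rcases hs' with rfl | rfl | rfl | rfl | rfl | rfl | rfl
    all_goals first
      | exact triv rfl
      | exact triv r8 | exact triv r9 | exact triv r10 | exact triv r11
      | exact triv r8.symm | exact triv r9.symm | exact triv r10.symm | exact triv r11.symm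
      | exact triv r14.symm | exact triv r15.symm | exact triv r16.symm | exact triv r17.symm
      | exact triv r18.symm | exact triv r19.symm | exact triv r20.symm | exact triv r21.symm
      | exact triv h1 | exact triv h2
      | exact ⟨_, z1, ab1⟩ | exact ⟨_, z1, ba1⟩ | exact ⟨_, z2, ab2⟩ | exact ⟨_, z2, ba2⟩
      | exact ⟨_, hu1, e1⟩ | exact ⟨_, hu2, e2⟩ | exact ⟨_, hu3, e3⟩ | exact ⟨_, hu4, e4⟩
      | exact sym hu1 e1 | exact sym hu2 e2 | exact sym hu3 e3 | exact sym hu4 e4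
  -- hence the quotient is elementary abelian
  let T : Subgroup H :=
    { carrier := {x | (∀ q, π x * q = q * π x) ∧ π x * π x = 1}
      one_mem' := ⟨fun q => by simp, by simp⟩
      mul_mem' := fun {x y} hx hy => ⟨fun q => by
        rw [map_mul, mul_assoc, hy.1, ← mul_assoc, hx.1, mul_assoc], by
        rw [map_mul, Commute.mul_mul_mul_comm (hy.1 (π x)), hx.2, hy.2, one_mul]⟩
      inv_mem' := fun {x} hx => ⟨fun q => by
        rw [map_inv]; exact (Commute.inv_left (hx.1 q : Commute (π x) q)).eq, by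
        rw [map_inv, ← mul_inv_rev, hx.2, inv_one]⟩ }
  have hT : ∀ x : H, x ∈ T := by
    have gensT : ∀ (s : S) (hs : s ∈ gens), (⟨s, hmem hs⟩ : H) ∈ T := fun s hs => by
      refine ⟨fun q => ?_, ?_⟩
      · obtain ⟨⟨x, hx⟩, rfl⟩ := QuotientGroup.mk'_surjective (Z.subgroupOf H) q
        induction hx using closure_induction with
        | mem s' hs' =>
          obtain ⟨u, hu, e⟩ := (hgen s hs).2 s' hs'
          rw [← map_mul, ← map_mul]
          exact hπ u hu e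
        | one => rw [show (⟨1, _⟩ : H) = 1 from rfl, map_one, mul_one, one_mul]
        | mul x y hx hy ihx ihy =>
          rw [show (⟨x * y, _⟩ : H) = ⟨x, hx⟩ * ⟨y, hy⟩ from rfl, map_mul, ← mul_assoc, ihx, mul_assoc, ihy,
            mul_assoc]
        | inv x hx ihx =>
          rw [show (⟨x⁻¹, _⟩ : H) = ⟨x, hx⟩⁻¹ from rfl, map_inv]
          exact (Commute.inv_right (ihx : Commute _ _)).eq
      · rw [← map_mul, ← map_one π]
        exact hπ (s * s) (hgen s hs).1 (by simp)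
    rintro ⟨x, hx⟩
    induction hx using closure_induction with
    | mem s hs => exact gensT s hs
    | one => exact T.one_mem
    | mul x y hx hy ihx ihy => exact T.mul_mem ihx ihy
    | inv x hx ihx => exact T.inv_mem ihx
  have hq : Nat.card (H ⧸ Z.subgroupOf H) ≤ 16 := by
    have h' := hr H (Z.subgroupOf H) ⊤ ⟨⟨fun a b => Subtype.ext ?_⟩⟩ fun a _ => ?_
    · rwa [card_top] at h'
    · obtain ⟨x, hx⟩ := QuotientGroup.mk'_surjective (Z.subgroupOf H) (a : H ⧸ Z.subgroupOf H)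
      show (a : H ⧸ Z.subgroupOf H) * b = b * a
      rw [← hx]
      exact (hT x).1 _
    · obtain ⟨x, rfl⟩ := QuotientGroup.mk'_surjective (Z.subgroupOf H) a
      rw [pow_two]
      exact (hT x).2
  have hZ : Nat.card Z ≤ 4 := by
    let f : Fin 4 → S := ![1, g.c₁, g.c₂, g.c₁ * g.c₂]
    have hsub : (Z : Set S) ⊆ Set.range f := fun u hu => by
      rcases h.mem_inf_iff hu with rfl | rfl | rfl | rfl
      · exact ⟨0, rfl⟩
      · exact ⟨1, rfl⟩
      · exact ⟨2, rfl⟩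
      · exact ⟨3, rfl⟩
    calc Nat.card Z ≤ Nat.card (Set.range f) := Nat.card_mono (Set.finite_range f) hsub
      _ ≤ Nat.card (Fin 4) := Finite.card_range_le f
      _ = 4 := by simp
  have hH : 128 ≤ Nat.card H := by
    obtain ⟨d, hd⟩ := card_dvd_of_le hWH
    rw [h.card_gW] at hd
    have hne : Nat.card H ≠ 64 := fun e =>
      hmW ((eq_of_le_of_card_ge hWH (by rw [e, h.card_gW])).symm ▸ hmH)
    have : 0 < Nat.card H := Nat.card_pos
    omega
  have hprod := card_eq_card_quotient_mul_card_subgroup (Z.subgroupOf H)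
  rw [Nat.card_congr (subgroupOfEquivOfLe hZH).toEquiv] at hprod
  have := Nat.mul_le_mul hq hZ
  omega

/-- elements normalizing both subgroups and centralizing their intersection lie in the base -/
theorem mem_gW_of_fix [Finite S] (h2S : IsPGroup 2 S) (hr : Cfsg.SectionalPRankLE 2 4 S) {x : S}
    (hA : x ∈ normalizer (gA P g : Set S)) (hB : x ∈ normalizer (gB P g : Set S))
    (h1 : x * g.c₁ = g.c₁ * x) (h2 : x * g.c₂ = g.c₂ * x) : x ∈ gW P g := by
  classical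
  by_contra hx
  let K := normalizer (gA P g : Set S) ⊓ normalizer (gB P g : Set S) ⊓ centralizer {g.c₁, g.c₂}
  have hxK : x ∈ K := ⟨⟨hA, hB⟩, fun s hs => by
    rcases hs with rfl | rfl
    · exact h1.symm
    · exact h2.symm⟩
  have hex : ∃ n, x ^ 2 ^ n ∈ gW P g := by
    obtain ⟨k, hk⟩ := h2S x
    exact ⟨k, by rw [hk]; exact one_mem _⟩
  obtain ⟨n, hn⟩ : ∃ n, Nat.find hex = n + 1 := by
    refine Nat.exists_eq_add_one.2 (Nat.pos_of_ne_zero fun e => hx ?_)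
    have := Nat.find_spec hex
    rwa [e, pow_zero, pow_one] at this
  let m := x ^ 2 ^ n
  have hmW : m ∉ gW P g := Nat.find_min hex (by omega)
  have hmsq : m * m ∈ gW P g := by
    rw [show m * m = x ^ 2 ^ Nat.find hex by rw [hn, pow_succ, pow_mul, pow_two]]
    exact Nat.find_spec hex
  obtain ⟨⟨mA, mB⟩, mC⟩ := (pow_mem hxK (2 ^ n) : m ∈ K)
  have mc1 : m * g.c₁ = g.c₁ * m := (mC g.c₁ (Or.inl rfl)).symm
  have mc2 : m * g.c₂ = g.c₂ * m := (mC g.c₂ (Or.inr rfl)).symm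
  have iA : ∀ {u}, u ∈ gA P g → m * u * m⁻¹ ∈ gA P g := fun hu => (mem_normalizer_iff.1 mA _).1 hu
  have iA' : ∀ {u}, u ∈ gA P g → m⁻¹ * u * m ∈ gA P g := fun hu => (mem_normalizer_iff''.1 mA _).1 hu
  have iB : ∀ {u}, u ∈ gB P g → m * u * m⁻¹ ∈ gB P g := fun hu => (mem_normalizer_iff.1 mB _).1 hu
  have iB' : ∀ {u}, u ∈ gB P g → m⁻¹ * u * m ∈ gB P g := fun hu => (mem_normalizer_iff''.1 mB _).1 hu
  have fixZ : ∀ {u}, u ∈ gA P g ⊓ gB P g → m * u = u * m := fun {u} hu => by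
    rcases h.mem_inf_iff hu with rfl | rfl | rfl | rfl
    · simp
    · exact mc1
    · exact mc2
    · rw [← mul_assoc, mc1, mul_assoc, mc2, ← mul_assoc]
  obtain ⟨p1, p2, p3, p4⟩ := h.mem_A
  obtain ⟨q1, q2, q3, q4⟩ := h.mem_B
  obtain ⟨r1, r2, r3, r4, _, r6, r7, r8, r9, r10, r11, _, _, r14, r15, r16, r17, r18, r19, r20, r21, r22, _⟩ := h.rel
  obtain ⟨ab1, ab2, ba1, ba2⟩ := h.ab_rel
  obtain ⟨_, _, c12, _⟩ := h.c_facts
  have critA : ∀ {w y : S}, (w = g.b₁ ∧ y = g.b₂) ∨ (w = g.b₂ ∧ y = g.b₁) → ∀ u ∈ gA P g,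
      u * w = w * u → u * y = y * u → u ∈ gA P g ⊓ gB P g := fun {w y} hwy u hu e1 e2 => by
    obtain ⟨h0, _, _, h3⟩ := mem_gA.1 hu
    rcases hwy with ⟨rfl, rfl⟩ | ⟨rfl, rfl⟩
    · exact ⟨hu, mem_gB.2 ⟨h0, e1, e2, h3⟩⟩
    · exact ⟨hu, mem_gB.2 ⟨h0, e2, e1, h3⟩⟩
  have critB : ∀ {w y : S}, (w = g.a₁ ∧ y = g.a₂) ∨ (w = g.a₂ ∧ y = g.a₁) → ∀ u ∈ gB P g,
      u * w = w * u → u * y = y * u → u ∈ gA P g ⊓ gB P g := fun {w y} hwy u hu e1 e2 => by
    obtain ⟨h0, _, _, h3⟩ := mem_gB.1 hu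
    rcases hwy with ⟨rfl, rfl⟩ | ⟨rfl, rfl⟩
    · exact ⟨mem_gA.2 ⟨h0, e1, e2, h3⟩, hu⟩
    · exact ⟨mem_gA.2 ⟨h0, e2, e1, h3⟩, hu⟩
  have notZ : ∀ {s w c : S}, c ≠ 1 → s * w = c * (w * s) →
      (∀ u ∈ gA P g ⊓ gB P g, u * w = w * u) → m * s * m⁻¹ ∉ gA P g ⊓ gB P g := by
    intro s w c hc hsw hw hmem
    have e : m * s * m⁻¹ = s := by
      have := fixZ hmem
      calc m * s * m⁻¹ = m⁻¹ * (m * (m * s * m⁻¹)) := by group
        _ = s := by rw [this]; group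
    rw [e] at hmem
    exact hc (mul_eq_right.1 (hsw.symm.trans (hw s hmem)))
  have zb1 : ∀ u ∈ gA P g ⊓ gB P g, u * g.b₁ = g.b₁ * u := fun u hu => h.gB_comm hu.2 q1
  have zb2 : ∀ u ∈ gA P g ⊓ gB P g, u * g.b₂ = g.b₂ * u := fun u hu => h.gB_comm hu.2 q2
  have za1 : ∀ u ∈ gA P g ⊓ gB P g, u * g.a₁ = g.a₁ * u := fun u hu => h.gA_comm hu.1 p1
  have za2 : ∀ u ∈ gA P g ⊓ gB P g, u * g.a₂ = g.a₂ * u := fun u hu => h.gA_comm hu.1 p2
  obtain ⟨c1, c2, -, -⟩ := h.c_facts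
  have i1 : g.a₁ * (m * g.a₁ * m⁻¹) ∈ gA P g ⊓ gB P g :=
    pick (iA p1) p1 r6 r9 (image_commute (iA p1) (iB' q2) mc1 c12
      (fun b hb => ((h.gW_cb (h.gB_le_gW hb)).1).symm r6) (fun v hv => (h.gW_cb (h.gA_le_gW hv)).2.2.2))
      ab1 (h.gW_cb (h.gA_le_gW (iA p1))).2.1 r14.symm (critA (Or.inl ⟨rfl, rfl⟩)) (notZ c1 ab1 zb1)
  have i2 : g.a₂ * (m * g.a₂ * m⁻¹) ∈ gA P g ⊓ gB P g :=
    pick (iA p2) p2 r7 r10.symm (image_commute (iA p2) (iB' q1) mc2 c12.symm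
      (fun b hb => ((h.gW_cb (h.gB_le_gW hb)).2.2.1).symm r7) (fun v hv => (h.gW_cb (h.gA_le_gW hv)).2.1))
      ab2 (h.gW_cb (h.gA_le_gW (iA p2))).2.2.2 r20.symm (critA (Or.inr ⟨rfl, rfl⟩)) (notZ c2 ab2 zb2)
  have i3 : g.b₁ * (m * g.b₁ * m⁻¹) ∈ gA P g ⊓ gB P g :=
    pick (iB q1) q1 r6 r10 (image_commute (iB q1) (iA' p2) mc1 c12
      (fun b hb => ((h.gW_cb (h.gA_le_gW hb)).2.1).symm r6) (fun v hv => (h.gW_cb (h.gB_le_gW hv)).2.2.1))
      ba1 (h.gW_cb (h.gB_le_gW (iB q1))).1 r15.symm (critB (Or.inl ⟨rfl, rfl⟩)) (notZ c1 ba1 za1)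
  have i4 : g.b₂ * (m * g.b₂ * m⁻¹) ∈ gA P g ⊓ gB P g :=
    pick (iB q2) q2 r7 r9.symm (image_commute (iB q2) (iA' p1) mc2 c12.symm
      (fun b hb => ((h.gW_cb (h.gA_le_gW hb)).2.2.2).symm r7) (fun v hv => (h.gW_cb (h.gB_le_gW hv)).1))
      ba2 (h.gW_cb (h.gB_le_gW (iB q2))).2.2.1 r21.symm (critB (Or.inr ⟨rfl, rfl⟩)) (notZ c2 ba2 za2)
  have act : ∀ {s}, s * s = 1 → (∀ u ∈ gA P g ⊓ gB P g, u * s = s * u) →
      s * (m * s * m⁻¹) ∈ gA P g ⊓ gB P g →
      (∃ u ∈ gA P g ⊓ gB P g, m * s = u * (s * m)) ∧ (m * m) * s = s * (m * m) := by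
    intro s hs hzs hi
    obtain ⟨u, hueq⟩ : ∃ u, s * (m * s * m⁻¹) = u := ⟨_, rfl⟩
    rw [hueq] at hi
    have hu : u * u = 1 := h.gA_sq hi.1
    have e1 : m * s = u * (s * m) := by
      calc m * s = (s * s) * (m * s * m⁻¹) * m := by rw [hs]; group
        _ = s * u * m := by rw [← hueq]; group
        _ = u * s * m := by rw [hzs u hi]
        _ = u * (s * m) := mul_assoc _ _ _
    refine ⟨⟨u, hi, e1⟩, ?_⟩
    calc m * m * s = m * (m * s) := mul_assoc _ _ _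
      _ = (m * u) * (s * m) := by rw [e1, ← mul_assoc m u]
      _ = u * (m * s) * m := by rw [fixZ hi]; group
      _ = (u * u) * (s * (m * m)) := by rw [e1]; group
      _ = s * (m * m) := by rw [hu, one_mul]
  obtain ⟨u1, v1⟩ := act r1 za1 i1
  obtain ⟨u2, v2⟩ := act r3 za2 i2
  obtain ⟨u3, v3⟩ := act r2 zb1 i3
  obtain ⟨u4, v4⟩ := act r4 zb2 i4
  have hZsq : m * m ∈ gA P g ⊓ gB P g :=
    ⟨mem_gA.2 ⟨(mem_gW.1 hmsq).1, v1, v2, (mem_gW.1 hmsq).2⟩,
      mem_gB.2 ⟨(mem_gW.1 hmsq).1, v3, v4, (mem_gW.1 hmsq).2⟩⟩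
  refine h.no_five hr hmW mc1 mc2 hZsq fun s hs => ?_
  rcases hs with rfl | rfl | rfl | rfl
  exacts [u1, u2, u3, u4]

variable [Finite S] (h2S : IsPGroup 2 S) (hr : Cfsg.SectionalPRankLE 2 4 S)
include h2S hr

/-- an element normalizing `P` that does not lie in it interchanges the two subgroups -/
theorem swaps {m : S} (hm : m ∈ normalizer (P : Set S)) (hmP : m ∉ P) :
    (gA P g).map (MulAut.conj m).toMonoidHom = gB P g ∧ (gB P g).map (MulAut.conj m).toMonoidHom = gA P g := by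
  refine (h.conj_AB hm).resolve_left fun ⟨e1, e2⟩ => hmP ?_
  have key : ∀ {n}, n ∈ normalizer (gA P g : Set S) → n ∈ normalizer (gB P g : Set S) →
      n * g.c₁ * n⁻¹ = g.c₁ → n * g.c₂ * n⁻¹ = g.c₂ → n ∈ P := fun {n} hA hB h1 h2 =>
    (mem_gW.1 (h.mem_gW_of_fix h2S hr hA hB (mul_inv_eq_iff_eq_mul.1 h1) (mul_inv_eq_iff_eq_mul.1 h2))).1
  have mA := mem_normalizer_iff_map_conj_eq.2 e1
  have mB := mem_normalizer_iff_map_conj_eq.2 e2
  rcases h.conj_c hm with ⟨h1, h2⟩ | ⟨h1, h2⟩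
  · exact key mA mB h1 h2
  · obtain ⟨_, _, _, _, t5, t6⟩ := h.t_conj
    refine (P.mul_mem_cancel_left h.t_mem).1 (key
      (mul_mem (mem_normalizer_of_le fun u hu => h.gA_normal _ h.t_mem u hu) mA)
      (mul_mem (mem_normalizer_of_le fun u hu => h.gB_normal _ h.t_mem u hu) mB) ?_ ?_)
    · calc g.t * m * g.c₁ * (g.t * m)⁻¹ = g.t * (m * g.c₁ * m⁻¹) * g.t⁻¹ := by group
        _ = g.c₁ := by rw [h1, t6]
    · calc g.t * m * g.c₂ * (g.t * m)⁻¹ = g.t * (m * g.c₂ * m⁻¹) * g.t⁻¹ := by group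
        _ = g.c₂ := by rw [h2, t5]

theorem normalizer_gA : normalizer (gA P g : Set S) = P := by
  refine (eq_or_ne P _).elim Eq.symm fun hne => ?_
  obtain ⟨m, hmK, hmP, hm⟩ := exists_normalizing h2S
    (show P ≤ normalizer (gA P g : Set S) from fun x hx => mem_normalizer_of_le (h.gA_normal x hx)) hne
  exact absurd ((mem_normalizer_iff_map_conj_eq.1 hmK).symm.trans (h.swaps h2S hr hm hmP).1) h.gA_ne_gB

theorem normalizer_gB : normalizer (gB P g : Set S) = P := by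
  refine (eq_or_ne P _).elim Eq.symm fun hne => ?_
  obtain ⟨m, hmK, hmP, hm⟩ := exists_normalizing h2S
    (show P ≤ normalizer (gB P g : Set S) from fun x hx => mem_normalizer_of_le (h.gB_normal x hx)) hne
  exact absurd ((h.swaps h2S hr hm hmP).2.symm.trans (mem_normalizer_iff_map_conj_eq.1 hmK)) h.gA_ne_gB

theorem normalizer_eq_of_normal {V : Subgroup S} (hV : V ≤ P) (hn : ∀ x ∈ P, ∀ v ∈ V, x * v * x⁻¹ ∈ V)
    (hc : ∀ u ∈ V, ∀ v ∈ V, u * v = v * u) (hs : ∀ u ∈ V, u * u = 1) (hcard : Nat.card V = 16) :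
    normalizer (V : Set S) = P := by
  rcases h.classify hV hn hc hs hcard with rfl | rfl
  · exact h.normalizer_gA h2S hr
  · exact h.normalizer_gB h2S hr

theorem mem_center_iff' {x : S} : x ∈ Subgroup.center S ↔ x = 1 ∨ x = g.c₁ * g.c₂ := by
  have hsub : ∀ {x}, x ∈ Subgroup.center S → x = 1 ∨ x = g.c₁ * g.c₂ := fun {x} hx => by
    have hxP : x ∈ P := by
      rw [← h.normalizer_gA h2S hr]
      refine mem_normalizer_of_le fun u hu => ?_
      rw [← (Subgroup.mem_center_iff.1 hx u), mul_inv_cancel_right]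
      exact hu
    exact h.central_eq hxP fun y _ => (Subgroup.mem_center_iff.1 hx y).symm
  refine ⟨hsub, ?_⟩
  rintro (rfl | rfl)
  · exact one_mem _
  · haveI : Fact (Nat.Prime 2) := ⟨Nat.prime_two⟩
    haveI : Nontrivial S := ⟨⟨g.c₁, 1, h.c_facts.1⟩⟩
    haveI := h2S.center_nontrivial
    obtain ⟨y, hy⟩ := exists_ne (1 : Subgroup.center S)
    rcases hsub y.2 with e | e
    · exact absurd (Subtype.ext e) hy
    · exact e ▸ y.2

theorem relIndex_eq (hPlt : P ≠ ⊤) : P.relIndex (normalizer (P : Set S)) = 2 := by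
  obtain ⟨m, -, hmP, hm⟩ := exists_normalizing h2S (K := ⊤) le_top hPlt
  refine relIndex_eq_two_iff.2 ⟨m, hm, fun b hb => ?_⟩
  by_cases hbP : b ∈ P
  · exact Or.inr ⟨hbP, fun e => hmP ((P.mul_mem_cancel_left hbP).1 e)⟩
  · refine Or.inl ⟨?_, hbP⟩
    rw [← h.normalizer_gA h2S hr, mem_normalizer_iff_map_conj_eq]
    have hmul : (MulAut.conj (b * m)).toMonoidHom = (MulAut.conj b).toMonoidHom.comp (MulAut.conj m).toMonoidHom := by
      ext x
      simp [mul_assoc]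
    show (gA P g).map (MulAut.conj (b * m)).toMonoidHom = gA P g
    rw [hmul, ← map_map, (h.swaps h2S hr hm hmP).1, (h.swaps h2S hr hb hbP).2]

/-- the normalizer modulo the centre is a Sylow two-subgroup on eight points -/
theorem normalizer_quotient (hPlt : P ≠ ⊤) :
    ∃ (_ : ((Subgroup.center S).subgroupOf (normalizer (P : Set S))).Normal) (T : Sylow 2 (Equiv.Perm (Fin 8))),
      Nonempty (↥(normalizer (P : Set S)) ⧸ (Subgroup.center S).subgroupOf (normalizer (P : Set S)) ≃*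
        ↥(T : Subgroup (Equiv.Perm (Fin 8)))) := by
  haveI hnorm : ((Subgroup.center S).subgroupOf (normalizer (P : Set S))).Normal := inferInstance
  refine ⟨hnorm, ?_⟩
  -- the points
  let X := {y : S // y ∈ P ∧ y * y = 1 ∧ y * g.c₁ ≠ g.c₁ * y}
  have hstab : ∀ n ∈ normalizer (P : Set S), ∀ y : X,
      n * y * n⁻¹ ∈ P ∧ (n * y * n⁻¹) * (n * y * n⁻¹) = 1 ∧ (n * y * n⁻¹) * g.c₁ ≠ g.c₁ * (n * y * n⁻¹) := by
    rintro n hn ⟨y, hy, hyy, hyc⟩
    refine ⟨(mem_normalizer_iff.1 hn y).1 hy, ?_, fun e => hyc ?_⟩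
    · calc n * y * n⁻¹ * (n * y * n⁻¹) = n * (y * y) * n⁻¹ := by group
        _ = 1 := by rw [hyy]; group
    · have e' : y * (n⁻¹ * g.c₁ * n) = n⁻¹ * g.c₁ * n * y :=
        calc y * (n⁻¹ * g.c₁ * n) = n⁻¹ * (n * y * n⁻¹ * g.c₁) * n := by group
          _ = n⁻¹ * g.c₁ * n * y := by rw [e]; group
      rcases h.conj_c (inv_mem hn) with ⟨h1, -⟩ | ⟨h1, -⟩ <;> rw [inv_inv] at h1 <;> rw [h1] at e'
      · exact e'
      · exact h.gW_crit hy e'
  letI act : MulAction ↥(normalizer (P : Set S)) X :=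
    { smul := fun n y => ⟨(n : S) * y * (n : S)⁻¹, hstab n n.2 y⟩
      one_smul := fun y => Subtype.ext (show ((1 : S) * y * (1 : S)⁻¹) = y by simp)
      mul_smul := fun n n' y => Subtype.ext
        (show ((n : S) * n') * y * ((n : S) * n')⁻¹ = n * (n' * y * (n' : S)⁻¹) * (n : S)⁻¹ by group) }
  -- at most eight of them
  let f : Bool × Bool × Bool → S := fun w => g.word (w.1, w.1, w.2.1, w.2.1, w.2.2, xor w.2.2 (w.1 && w.2.1), true)
  have hX : Nat.card X ≤ Nat.card (Fin 8) := by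
    have hsub : {y : S | y ∈ P ∧ y * y = 1 ∧ y * g.c₁ ≠ g.c₁ * y} ⊆ Set.range f := fun y hy => by
      obtain ⟨i, i', k, e⟩ := h.outer y hy.1 hy.2.2 hy.2.1
      exact ⟨(i, i', k), e.symm⟩
    calc Nat.card X ≤ Nat.card (Set.range f) := Nat.card_mono (Set.finite_range f) hsub
      _ ≤ Nat.card (Bool × Bool × Bool) := Finite.card_range_le f
      _ = Nat.card (Fin 8) := by simp [Nat.card_prod]
  obtain ⟨ι⟩ : Nonempty (X ↪ Fin 8) := by
    classical
    haveI := Fintype.ofFinite X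
    exact Function.Embedding.nonempty_of_card_le (by simpa [← Nat.card_eq_fintype_card] using hX)
  let φ := (Equiv.Perm.viaEmbeddingHom ι).comp (MulAction.toPermHom ↥(normalizer (P : Set S)) X)
  obtain ⟨_, _, _, _, r5, r6, _, _, _, _, _, _, _, r14, r15, r16, r17, r18, r19, r20, r21, r22, r23, r24, _⟩ := h.rel
  obtain ⟨c1, c2, c12, cz⟩ := h.c_facts
  obtain ⟨t1, t2, t3, t4, t5, t6⟩ := h.t_conj
  -- `t` and its conjugates are among the points
  have htX : ∀ x ∈ P, x * g.t * x⁻¹ ∈ P ∧ (x * g.t * x⁻¹) * (x * g.t * x⁻¹) = 1 ∧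
      (x * g.t * x⁻¹) * g.c₁ ≠ g.c₁ * (x * g.t * x⁻¹) := fun x hx =>
    hstab x (le_normalizer hx) ⟨g.t, h.t_mem, r5, fun e => c12 (by
      rw [e, mul_inv_cancel_right] at t5; exact t5)⟩
  have hker : φ.ker = (Subgroup.center S).subgroupOf (normalizer (P : Set S)) := by
    ext n
    constructor
    · intro hn
      have hn' : MulAction.toPermHom ↥(normalizer (P : Set S)) X n = 1 := by
        rw [MonoidHom.mem_ker, MonoidHom.comp_apply] at hn
        exact Equiv.Perm.viaEmbeddingHom_injective ι (hn.trans (map_one _).symm)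
      have hfix : ∀ x ∈ P, (n : S) * (x * g.t * x⁻¹) = x * g.t * x⁻¹ * n := fun x hx => by
        have := congrArg Subtype.val (DFunLike.congr_fun hn' ⟨_, htX x hx⟩)
        exact mul_inv_eq_iff_eq_mul.1 this
      refine mem_subgroupOf.2 ((h.mem_center_iff' h2S hr).2 ?_)
      obtain ⟨w, hw, hwP⟩ : ∃ w, (n : S) = w ∧ w ∈ normalizer (P : Set S) := ⟨n, rfl, n.2⟩
      rw [hw] at hfix ⊢
      have ht : w * g.t = g.t * w := by simpa using hfix 1 (one_mem P)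
      have hti : g.t⁻¹ = g.t := inv_eq_of_mul_eq_one_right r5
      -- `w` commutes with `x * (t * x⁻¹ * t⁻¹)`
      have hd : ∀ x ∈ P, w * (x * (g.t * x⁻¹ * g.t⁻¹)) = x * (g.t * x⁻¹ * g.t⁻¹) * w := fun x hx => by
        have e : x * (g.t * x⁻¹ * g.t⁻¹) = x * g.t * x⁻¹ * g.t⁻¹ := by group
        rw [e, ← mul_assoc, hfix x hx, mul_assoc _ w, (Commute.inv_right (ht : Commute w g.t)).eq, ← mul_assoc]
      have tinv : ∀ x : S, g.t * x⁻¹ * g.t⁻¹ = (g.t * x * g.t⁻¹)⁻¹ := fun x => by group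
      obtain ⟨s1, s2, s3, s4, -, -, s7, -, -, s10, -, -, s13, -⟩ := h.rel
      have hA12 : w * (g.a₁ * g.a₂) = g.a₁ * g.a₂ * w := by
        have := hd _ h.a₁_mem
        rwa [tinv, t1, inv_eq_of_mul_eq_one_right s3] at this
      have hB12 : w * (g.b₁ * g.b₂) = g.b₁ * g.b₂ * w := by
        have := hd _ h.b₁_mem
        rwa [tinv, t3, inv_eq_of_mul_eq_one_right s4] at this
      have hwc2 : w * g.c₂ = g.c₂ * w := by
        have e1 := hd _ (mul_mem h.a₁_mem h.b₁_mem)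
        have e2 : g.a₁ * g.b₁ * (g.t * (g.a₁ * g.b₁)⁻¹ * g.t⁻¹) = g.a₁ * g.a₂ * (g.b₁ * g.b₂) * g.c₂ := by
          rw [tinv, show g.t * (g.a₁ * g.b₁) * g.t⁻¹ = (g.t * g.a₁ * g.t⁻¹) * (g.t * g.b₁ * g.t⁻¹) by group,
            t1, t3, mul_inv_rev, inv_eq_of_mul_eq_one_right s3, inv_eq_of_mul_eq_one_right s4, h.ab_rel.2.2.2]
          calc g.a₁ * g.b₁ * (g.c₂ * (g.a₂ * g.b₂)) = g.a₁ * (g.b₁ * g.c₂ * g.a₂) * g.b₂ := by group
            _ = g.a₁ * (g.c₂ * (g.b₁ * g.a₂)) * g.b₂ := by rw [r19.symm]; group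
            _ = g.a₁ * g.c₂ * g.a₂ * g.b₁ * g.b₂ := by rw [s10]; group
            _ = g.a₁ * g.a₂ * (g.c₂ * (g.b₁ * g.b₂)) := by rw [mul_assoc g.a₁ g.c₂, r20]; group
            _ = g.a₁ * g.a₂ * (g.b₁ * g.b₂ * g.c₂) := by
              rw [← mul_assoc g.c₂, r19, mul_assoc g.b₁ g.c₂, r21, ← mul_assoc g.b₁ g.b₂]
            _ = g.a₁ * g.a₂ * (g.b₁ * g.b₂) * g.c₂ := by group
        rw [e2] at e1
        have hC : Commute w (g.a₁ * g.a₂ * (g.b₁ * g.b₂)) := Commute.mul_right hA12 hB12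
        have := (Commute.mul_right hC.inv_right (e1 : Commute w _)).eq
        rwa [inv_mul_cancel_left] at this
      have hwz : w * (g.c₁ * g.c₂) = g.c₁ * g.c₂ * w := mul_inv_eq_iff_eq_mul.1 (h.conj_z hwP)
      have hwc1 : w * g.c₁ = g.c₁ * w := by
        have : g.c₁ = g.c₁ * g.c₂ * g.c₂ := by rw [mul_assoc, s7, mul_one]
        rw [this, ← mul_assoc w, hwz, mul_assoc _ w, hwc2, ← mul_assoc]
      have hwPP : w ∈ P := by
        by_contra hwn
        have hmem : g.a₁ * g.a₂ ∈ gB P g := by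
          rw [← (h.swaps h2S hr hwP hwn).1]
          exact ⟨_, mul_mem h.mem_A.1 h.mem_A.2.1, mul_inv_eq_iff_eq_mul.2 hA12⟩
        have e := (mem_gB.1 hmem).2.1
        rw [mul_assoc, ← s10, ← mul_assoc, h.ab_rel.1, mul_assoc g.c₁, mul_assoc g.b₁] at e
        exact c1 (mul_eq_right.1 e)
      obtain ⟨k1, k2, k3, k4⟩ := h.gW_cb (mem_gW.2 ⟨hwPP, hwc1⟩)
      have split : ∀ {u v : S}, CB g.c₁ w u → CB g.c₂ w v → w * (u * v) = u * v * w →
          g.c₁ * u = u * g.c₁ → g.c₂ * u = u * g.c₂ → g.c₁ * v = v * g.c₁ → w * u = u * w := by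
        intro u v ku kv huv e1 e2 e3
        rcases ku with ku | ku
        · exact ku
        exfalso
        rcases kv with kv | kv
        · apply c1
          have : w * (u * v) = g.c₁ * (u * v * w) := by
            rw [← mul_assoc, ku, mul_assoc, mul_assoc u, kv, ← mul_assoc u]
          exact mul_eq_right.1 (this.symm.trans huv)
        · apply cz
          have : w * (u * v) = g.c₁ * g.c₂ * (u * v * w) := by
            rw [← mul_assoc, ku, mul_assoc, mul_assoc u, kv, ← mul_assoc u, ← e2]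
            group
          exact mul_eq_right.1 (this.symm.trans huv)
      exact h.center w hwPP (split k1 k3 hA12 r14 r18 r16) (split k2 k4 hB12 r15 r19 r17) ht
    · intro hn
      rw [MonoidHom.mem_ker]
      have : MulAction.toPermHom ↥(normalizer (P : Set S)) X n = 1 := by
        refine Equiv.ext fun y => Subtype.ext ?_
        show (n : S) * y * (n : S)⁻¹ = y
        rw [← Subgroup.mem_center_iff.1 (mem_subgroupOf.1 hn) (y : S), mul_inv_cancel_right]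
      rw [MonoidHom.comp_apply, this, map_one]
  have hN : Nat.card ↥(normalizer (P : Set S)) = 256 := by
    have := card_mul_index (P.subgroupOf (normalizer (P : Set S)))
    rw [Nat.card_congr (subgroupOfEquivOfLe le_normalizer).toEquiv, h.card_P] at this
    rw [← this, show (P.subgroupOf (normalizer (P : Set S))).index = P.relIndex (normalizer (P : Set S)) from rfl,
      h.relIndex_eq h2S hr hPlt]
  have hC : Nat.card ((Subgroup.center S).subgroupOf (normalizer (P : Set S))) = 2 := by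
    rw [Nat.card_congr (subgroupOfEquivOfLe (fun y hy => ?_)).toEquiv]
    · have : (Subgroup.center S : Set S) = {1, g.c₁ * g.c₂} := by
        ext y
        simp [SetLike.mem_coe, h.mem_center_iff' h2S hr]
      show Nat.card (Subgroup.center S : Set S) = 2
      rw [this, Nat.card_coe_set_eq, Set.ncard_pair (Ne.symm cz)]
    · exact mem_normalizer_iff.2 fun u => by
        rw [← Subgroup.mem_center_iff.1 hy u, mul_inv_cancel_right]
  have hrange : Nat.card φ.range = 128 := by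
    have h1 := card_eq_card_quotient_mul_card_subgroup φ.ker
    rw [Nat.card_congr (QuotientGroup.quotientKerEquivRange φ).toEquiv, hN, hker, hC] at h1
    omega
  haveI : Fact (Nat.Prime 2) := ⟨Nat.prime_two⟩
  refine ⟨Sylow.ofCard φ.range ?_, ⟨((QuotientGroup.quotientMulEquivOfEq hker).symm.trans
    (QuotientGroup.quotientKerEquivRange φ))⟩⟩
  rw [hrange, Nat.card_perm, Nat.card_fin, show Nat.factorial 8 = 2 ^ 7 * 315 from rfl,
    Nat.factorization_mul (by norm_num) (by norm_num), Finsupp.add_apply, Nat.factorization_pow_self Nat.prime_two,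
    Nat.factorization_eq_zero_of_not_dvd (show ¬ 2 ∣ 315 by norm_num), add_zero]
  norm_num

end Setup

end CfsgLib.Pairs.Wreath
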